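import Groth.Prelude.Def_ParaF

/-!
# Parafactorial pairs are monotone in the closed subset
-/

set_option autoImplicit false
universe u
open CategoryTheory CategoryTheory.Limits AlgebraicGeometry TopologicalSpace

namespace Groth.Agent.H67.ParaMono

open Scheme.Modules

/-- restriction of an invertible module along an open immersion is invertible -/
theorem isInvertible_restrict {U V : Scheme.{u}} (j : U ⟶ V) [IsOpenImmersion j]
    (L : V.Modules) (hL : PicF.IsInvertible L) : PicF.IsInvertible (L.restrict j) := by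
  intro y
  obtain ⟨W0, hy, ⟨e0⟩⟩ := hL (j y)
  refine ⟨j ⁻¹ᵁ W0, hy, ⟨?_⟩⟩
  have hc : (j ⁻¹ᵁ W0).ι ≫ j = (j ∣_ W0) ≫ W0.ι := (morphismRestrict_ι j W0).symm
  exact ((restrictFunctorComp (j ⁻¹ᵁ W0).ι j).app L).symm ≪≫
    (restrictFunctorCongr hc).app L ≪≫
    (restrictFunctorComp (j ∣_ W0) W0.ι).app L ≪≫
    (restrictFunctor (j ∣_ W0)).mapIso e0 ≪≫ restrictUnitIso (j ∣_ W0)

/-- a functor-like map which is bijective on the relevant hom-sets reflects isomorphisms -/
theorem iso_of_restrict_iso {W U : Scheme.{u}} (l : W ⟶ U) [IsOpenImmersion l]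
    (A B : U.Modules)
    (hAB : Function.Bijective (fun φ : A ⟶ B => (restrictFunctor l).map φ))
    (hBA : Function.Bijective (fun φ : B ⟶ A => (restrictFunctor l).map φ))
    (hAA : Function.Injective (fun φ : A ⟶ A => (restrictFunctor l).map φ))
    (hBB : Function.Injective (fun φ : B ⟶ B => (restrictFunctor l).map φ))
    (b : A.restrict l ≅ B.restrict l) : Nonempty (A ≅ B) := by
  obtain ⟨φ, hφ⟩ := hAB.2 b.hom
  obtain ⟨ψ, hψ⟩ := hBA.2 b.inv
  simp only at hφ hψ
  refine ⟨⟨φ, ψ, ?_, ?_⟩⟩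
  · apply hAA
    show (restrictFunctor l).map (φ ≫ ψ) = (restrictFunctor l).map (𝟙 A)
    rw [Functor.map_comp, hφ, hψ, Iso.hom_inv_id, CategoryTheory.Functor.map_id]
  · apply hBB
    show (restrictFunctor l).map (ψ ≫ φ) = (restrictFunctor l).map (𝟙 B)
    rw [Functor.map_comp, hφ, hψ, Iso.inv_hom_id, CategoryTheory.Functor.map_id]

theorem invRestrictEquiv_congr {U V : Scheme.{u}} {j j' : U ⟶ V} [IsOpenImmersion j]
    [IsOpenImmersion j'] (h : j = j') (H : ParaF.InvRestrictEquiv j) :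
    ParaF.InvRestrictEquiv j' := by
  subst h
  exact H

/-- two-out-of-three for `InvRestrictEquiv` -/
theorem invRestrictEquiv_of_comp {W U V : Scheme.{u}} (l : W ⟶ U) (j : U ⟶ V)
    [IsOpenImmersion l] [IsOpenImmersion j]
    (H1 : ParaF.InvRestrictEquiv (l ≫ j)) (H2 : ParaF.InvRestrictEquiv l) :
    ParaF.InvRestrictEquiv j := by
  have key : ∀ (L L' : V.Modules) (φ : L ⟶ L'),
      (restrictFunctor (l ≫ j)).map φ = (restrictFunctorComp l j).hom.app L ≫
        (restrictFunctor l).map ((restrictFunctor j).map φ) ≫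
          (restrictFunctorComp l j).inv.app L' := by
    intro L L' φ
    have := (restrictFunctorComp l j).hom.naturality φ
    rw [← Category.assoc, ← Functor.comp_map, ← this, Category.assoc, Iso.hom_inv_id_app,
      Category.comp_id]
  refine ⟨fun L L' hL hL' => ⟨?_, ?_⟩, ?_⟩
  · intro φ φ' hφ
    simp only at hφ
    apply (H1.1 L L' hL hL').1
    simp only
    rw [key, key, hφ]
  · intro ψ
    have hb := H2.1 (L.restrict j) (L'.restrict j) (isInvertible_restrict j L hL)
      (isInvertible_restrict j L' hL')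
    obtain ⟨φ, hφ⟩ := (H1.1 L L' hL hL').2 ((restrictFunctorComp l j).hom.app L ≫
        (restrictFunctor l).map ψ ≫ (restrictFunctorComp l j).inv.app L')
    refine ⟨φ, ?_⟩
    simp only at hφ ⊢
    apply hb.1
    simp only
    rw [key] at hφ
    have h3 := congrArg (fun t => (restrictFunctorComp l j).inv.app L ≫ t ≫
      (restrictFunctorComp l j).hom.app L') hφ
    simpa using h3
  · intro L₀ hL₀
    obtain ⟨L, hL, ⟨a⟩⟩ := H1.2 (L₀.restrict l) (isInvertible_restrict l L₀ hL₀)
    refine ⟨L, hL, ?_⟩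
    have hLj := isInvertible_restrict j L hL
    exact iso_of_restrict_iso l (L.restrict j) L₀ (H2.1 _ _ hLj hL₀) (H2.1 _ _ hL₀ hLj)
      (H2.1 _ _ hLj hLj).1 (H2.1 _ _ hL₀ hL₀).1
      (((restrictFunctorComp l j).app L).symm ≪≫ a)

/-- monotonicity of parafactorial pairs in the closed subset -/
theorem isParafactorialPair_mono (X : Scheme.{u}) (Y Y' : Closeds ↥X) (hle : Y' ≤ Y)
    (h : ParaF.IsParafactorialPair X Y) : ParaF.IsParafactorialPair X Y' := by
  intro V
  have hC : (V ⊓ Y'.compl) ⊓ Y.compl = V ⊓ Y.compl := by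
    ext x
    simp only [Opens.coe_inf, Closeds.coe_compl, Set.mem_inter_iff, Set.mem_compl_iff,
      SetLike.mem_coe]
    constructor
    · rintro ⟨⟨h1, _⟩, h3⟩
      exact ⟨h1, h3⟩
    · rintro ⟨h1, h3⟩
      exact ⟨⟨h1, fun h2 => h3 (hle h2)⟩, h3⟩
  have hgen : ∀ (C : X.Opens) (hCB : C = V ⊓ Y.compl) (hCV : C ≤ V),
      ParaF.InvRestrictEquiv (X.homOfLE hCV) := by
    intro C hCB hCV
    subst hCB
    exact h V
  have H1 := hgen _ hC (inf_le_left.trans inf_le_left)
  have H2 := h (V ⊓ Y'.compl)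
  have hcomp : X.homOfLE (inf_le_left : (V ⊓ Y'.compl) ⊓ Y.compl ≤ V ⊓ Y'.compl) ≫
      X.homOfLE (inf_le_left : V ⊓ Y'.compl ≤ V) =
      X.homOfLE (inf_le_left.trans inf_le_left) := X.homOfLE_homOfLE _ _
  exact invRestrictEquiv_of_comp _ _ (invRestrictEquiv_congr hcomp.symm H1) H2

end Groth.Agent.H67.ParaMono
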