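import Groth.Agent.H18.STL.Cocycle

/-!
# Modules with the same transition cocycle are isomorphic
-/

set_option autoImplicit false
set_option linter.style.haveILetI false
universe u
open CategoryTheory AlgebraicGeometry TopologicalSpace Opposite

namespace Groth.Agent.H67.CocycleIso

open Groth.Agent.H18 Groth.Agent.H18.PUP Groth.Agent.H18.STL

variable {X : Scheme.{u}} {𝔘 : Cover X}

/-- the compatibility needed to define a morphism on local generators -/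
theorem compat {c : 𝔘.Cocycle} {M M' : X.Modules} {β : ∀ i, Γ(M, 𝔘.W i)}
    {β' : ∀ i, Γ(M', 𝔘.W i)} (h : HasCocycle 𝔘 c M β) (h' : HasCocycle 𝔘 c M' β') :
    ∀ i j (c' : Γ(X, 𝔘.W i ⊓ 𝔘.W j)),
      mres M inf_le_right (β j) = c' • mres M inf_le_left (β i) →
        mres M' inf_le_right (β' j) = c' • mres M' inf_le_left (β' i) := by
  intro i j c' hc'
  have h1 := (h.trans i j).symm.trans hc'
  have h2 : c i j = c' := ((h.basis i) _ inf_le_left).1 h1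
  rw [← h2]
  exact h'.trans i j

/-- the morphism matching the local generators -/
noncomputable def hom {c : 𝔘.Cocycle} {M M' : X.Modules} {β : ∀ i, Γ(M, 𝔘.W i)}
    {β' : ∀ i, Γ(M', 𝔘.W i)} (h : HasCocycle 𝔘 c M β) (h' : HasCocycle 𝔘 c M' β') : M ⟶ M' :=
  homOfLocalBasis 𝔘.W 𝔘.cov β h.basis β' (compat h h')

theorem hom_app {c : 𝔘.Cocycle} {M M' : X.Modules} {β : ∀ i, Γ(M, 𝔘.W i)}
    {β' : ∀ i, Γ(M', 𝔘.W i)} (h : HasCocycle 𝔘 c M β) (h' : HasCocycle 𝔘 c M' β') (i : 𝔘.ι) :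
    (hom h h').app (𝔘.W i) (β i) = β' i :=
  homOfLocalBasis_app 𝔘.W 𝔘.cov β h.basis β' (compat h h') i

theorem hom_comp_hom {c : 𝔘.Cocycle} {M M' : X.Modules} {β : ∀ i, Γ(M, 𝔘.W i)}
    {β' : ∀ i, Γ(M', 𝔘.W i)} (h : HasCocycle 𝔘 c M β) (h' : HasCocycle 𝔘 c M' β') :
    hom h h' ≫ hom h' h = 𝟙 M := by
  refine hom_ext_of_localBasis 𝔘.W 𝔘.cov β h.basis _ _ (fun i => ?_)
  have h1 : (hom h h' ≫ hom h' h).app (𝔘.W i) (β i) =
      (hom h' h).app (𝔘.W i) ((hom h h').app (𝔘.W i) (β i)) := rfl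
  rw [h1, hom_app, hom_app]
  rfl

/-- modules with bases over a common cover and the same transition cocycle are isomorphic -/
noncomputable def iso {c : 𝔘.Cocycle} {M M' : X.Modules} {β : ∀ i, Γ(M, 𝔘.W i)}
    {β' : ∀ i, Γ(M', 𝔘.W i)} (h : HasCocycle 𝔘 c M β) (h' : HasCocycle 𝔘 c M' β') : M ≅ M' where
  hom := hom h h'
  inv := hom h' h
  hom_inv_id := hom_comp_hom h h'
  inv_hom_id := hom_comp_hom h' h

theorem nonempty_iso {c : 𝔘.Cocycle} {M M' : X.Modules} {β : ∀ i, Γ(M, 𝔘.W i)}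
    {β' : ∀ i, Γ(M', 𝔘.W i)} (h : HasCocycle 𝔘 c M β) (h' : HasCocycle 𝔘 c M' β') :
    Nonempty (M ≅ M') := ⟨iso h h'⟩

end Groth.Agent.H67.CocycleIso
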