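import Groth.Prelude.Def_ParaF

/-!
# Morphisms out of the structure module and global sections
-/

set_option autoImplicit false
universe u
open CategoryTheory CategoryTheory.Limits AlgebraicGeometry TopologicalSpace Opposite

namespace Groth.Agent.H67.UnitHom
open Scheme.Modules

variable {Z : Scheme.{u}}

/-- evaluation at the global section 1 -/
noncomputable def evalTop (M : Z.Modules) (φ : Coh.structureModule Z ⟶ M) :
    Γ(M, (⊤ : Z.Opens)) :=
  φ.app ⊤ (1 : Γ(Z, ⊤))

/-- value at `⊤` of a compatible family of sections -/
def valTop (M : Z.Modules) (s : SheafOfModules.sections M) : Γ(M, (⊤ : Z.Opens)) := s.val (op ⊤)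

lemma valTop_bijective (M : Z.Modules) : Function.Bijective (valTop M) := by
  constructor
  · intro s t hst
    apply PresheafOfModules.sections_ext
    intro W
    have h1 := PresheafOfModules.sections_property s (homOfLE (le_top : W.unop ≤ ⊤)).op
    have h2 := PresheafOfModules.sections_property t (homOfLE (le_top : W.unop ≤ ⊤)).op
    rw [← h1, ← h2]
    exact congrArg _ hst
  · intro σ
    refine ⟨PresheafOfModules.sectionsMk
      (fun W => M.val.map (homOfLE (le_top : W.unop ≤ ⊤)).op σ) ?_, ?_⟩
    · intro W W' g
      rw [← PresheafOfModules.map_comp_apply]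
      rfl
    · change M.val.map (homOfLE (le_top : (⊤ : Z.Opens) ≤ ⊤)).op σ = σ
      have : (homOfLE (le_top : (⊤ : Z.Opens) ≤ ⊤)).op = 𝟙 _ := rfl
      rw [this, PresheafOfModules.map_id]
      rfl

lemma evalTop_eq (M : Z.Modules) :
    evalTop M = valTop M ∘ (SheafOfModules.unitHomEquiv (R := Z.ringCatSheaf) M) := rfl

lemma evalTop_bijective (M : Z.Modules) : Function.Bijective (evalTop M) := by
  rw [evalTop_eq]
  exact (valTop_bijective M).comp (Equiv.bijective _)

lemma evalTop_comp {M N : Z.Modules} (φ : Coh.structureModule Z ⟶ M) (p : M ⟶ N) :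
    evalTop N (φ ≫ p) = p.app ⊤ (evalTop M φ) := rfl

/-- post-composition with `p` is bijective on `Hom(O, -)` iff `p` is bijective on global sections -/
lemma comp_bijective_iff {M N : Z.Modules} (p : M ⟶ N) :
    Function.Bijective (fun φ : Coh.structureModule Z ⟶ M => φ ≫ p) ↔
      Function.Bijective (p.app ⊤) := by
  have h : (evalTop N) ∘ (fun φ : Coh.structureModule Z ⟶ M => φ ≫ p) =
      (p.app ⊤) ∘ (evalTop M) := by
    funext φ
    exact evalTop_comp φ p
  constructor
  · intro hb
    have h1 : Function.Bijective ((p.app ⊤) ∘ (evalTop M)) := by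
      rw [← h]
      exact (evalTop_bijective N).comp hb
    exact (Function.Bijective.of_comp_iff _ (evalTop_bijective M)).1 h1
  · intro hb
    have h1 : Function.Bijective ((evalTop N) ∘ (fun φ : Coh.structureModule Z ⟶ M => φ ≫ p)) := by
      rw [h]
      exact hb.comp (evalTop_bijective M)
    exact (Function.Bijective.of_comp_iff' (evalTop_bijective N) _).1 h1

end Groth.Agent.H67.UnitHom
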