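import Groth.Agent.H67.ParaExt
import Groth.Agent.H67.UnitHom

/-!
# Parafactorial pairs via direct images
-/

set_option autoImplicit false
universe u
open CategoryTheory CategoryTheory.Limits AlgebraicGeometry TopologicalSpace Opposite

namespace Groth.Agent.H67.ParaExt
open Scheme.Modules

variable {X : Scheme.{u}}

theorem isInvertible_of_iso {L L' : X.Modules} (e : L ≅ L') (hL : PicF.IsInvertible L) :
    PicF.IsInvertible L' := by
  intro y
  obtain ⟨W, hy, ⟨a⟩⟩ := hL y
  exact ⟨W, hy, ⟨(restrictFunctor W.ι).mapIso e.symm ≪≫ a⟩⟩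

theorem isInvertible_structureModule : PicF.IsInvertible (Coh.structureModule X) := by
  intro y
  exact ⟨⊤, trivial, ⟨restrictUnitIso (⊤ : X.Opens).ι⟩⟩

/-- the unit `L ⟶ j_* j^* L` is an isomorphism for invertible `L` (general open immersion) -/
theorem isIso_unit_of {U : Scheme.{u}} (j : U ⟶ X) [IsOpenImmersion j]
    (h : ∀ V : X.Opens, Function.Bijective
      (X.presheaf.map (homOfLE (inf_le_left : V ⊓ j.opensRange ≤ V)).op))
    (L : X.Modules) (hL : PicF.IsInvertible L) :
    IsIso ((restrictAdjunction j).unit.app L) := by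
  rw [Hom.isIso_iff_isIso_app]
  intro V
  rw [ConcreteCategory.isIso_iff_bijective]
  have hV : j ''ᵁ (j ⁻¹ᵁ V) = V ⊓ j.opensRange := by
    rw [Scheme.Hom.image_preimage_eq_opensRange_inf, inf_comm]
  exact (bijective_map_congr L.presheaf rfl hV (j.image_preimage_le V) inf_le_left).2
    (bijective_of_invertible j.opensRange h L hL V)

/-- restriction along `j` as a composite of post-composition with the unit and the adjunction -/
theorem restrict_map_eq {U : Scheme.{u}} (j : U ⟶ X) [IsOpenImmersion j] (L L' : X.Modules) :
    (fun φ : L ⟶ L' => (restrictFunctor j).map φ) =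
      ((restrictAdjunction j).homEquiv L _).symm ∘
        (fun φ => φ ≫ (restrictAdjunction j).unit.app L') := by
  funext φ
  simp only [Function.comp]
  rw [Equiv.eq_symm_apply, Adjunction.homEquiv_unit]
  exact ((restrictAdjunction j).unit.naturality φ).symm

theorem restrict_bijective_of {U : Scheme.{u}} (j : U ⟶ X) [IsOpenImmersion j]
    (h : ∀ V : X.Opens, Function.Bijective
      (X.presheaf.map (homOfLE (inf_le_left : V ⊓ j.opensRange ≤ V)).op))
    (L L' : X.Modules) (hL' : PicF.IsInvertible L') :
    Function.Bijective (fun φ : L ⟶ L' => (restrictFunctor j).map φ) := by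
  have hiso := isIso_unit_of j h L' hL'
  rw [restrict_map_eq]
  refine (Equiv.bijective _).comp ⟨fun a b hab => (cancel_mono _).1 hab,
    fun ψ => ⟨ψ ≫ inv ((restrictAdjunction j).unit.app L'), ?_⟩⟩
  simp

/-- if restriction along `j` is bijective on endomorphisms of the structure module, then global
functions restrict bijectively to the image of `j` -/
theorem bijective_top_of_restrict {U : Scheme.{u}} (j : U ⟶ X) [IsOpenImmersion j]
    (hff : Function.Bijective (fun φ : Coh.structureModule X ⟶ Coh.structureModule X =>
      (restrictFunctor j).map φ)) :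
    Function.Bijective (X.presheaf.map (homOfLE (le_top : j.opensRange ≤ ⊤)).op) := by
  rw [restrict_map_eq] at hff
  have h1 : Function.Bijective (fun φ : Coh.structureModule X ⟶ Coh.structureModule X =>
      φ ≫ (restrictAdjunction j).unit.app (Coh.structureModule X)) :=
    (Function.Bijective.of_comp_iff' (Equiv.bijective _) _).1 hff
  rw [UnitHom.comp_bijective_iff] at h1
  have hV : j ''ᵁ (j ⁻¹ᵁ ⊤) = j.opensRange := by
    rw [Scheme.Hom.image_preimage_eq_opensRange_inf, inf_top_eq]
  exact (bijective_map_congr (Coh.structureModule X).presheaf rfl hV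
    (j.image_preimage_le ⊤) le_top).1 h1

end Groth.Agent.H67.ParaExt
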