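import Groth.Agent.H67.ParaExt
import Groth.Agent.H44.AffineFree
import Groth.Prelude.Def_CohB1
import Mathlib.AlgebraicGeometry.Morphisms.Affine

/-!
# The locus where a section generates an invertible module is affine over the scheme
-/

set_option autoImplicit false
universe u
open CategoryTheory CategoryTheory.Limits AlgebraicGeometry TopologicalSpace Opposite

namespace Groth.Agent.H67.GenLocusAffine

open Scheme.Modules Groth.Agent.H67.ParaExt

variable {X : Scheme.{u}}

lemma bijective_app_congr {M N : X.Modules} (φ : M ⟶ N) {A B : X.Opens} (h : A = B) :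
    Function.Bijective (φ.app A) ↔ Function.Bijective (φ.app B) := by
  subst h; rfl

/-- `φ` restricted to `U` is an isomorphism iff it is bijective on sections over all opens
inside `U`. -/
lemma isIso_restrict_iff {M N : X.Modules} (φ : M ⟶ N) (U : X.Opens) :
    IsIso ((restrictFunctor U.ι).map φ) ↔
      ∀ W : X.Opens, W ≤ U → Function.Bijective (φ.app W) := by
  rw [Hom.isIso_iff_isIso_app]
  constructor
  · intro h W hW
    have h1 := h (U.ι ⁻¹ᵁ W)
    rw [ConcreteCategory.isIso_iff_bijective] at h1
    exact (bijective_app_congr φ (image_preimage_of_le U W hW)).1 h1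
  · intro h W
    rw [ConcreteCategory.isIso_iff_bijective]
    exact h (U.ι ''ᵁ W) (by
      have := U.ι.image_le_opensRange W
      rwa [Scheme.Opens.opensRange_ι] at this)

section EndoStructure

variable {Y : Scheme.{u}}

/-- sections of the structure module are functions -/
abbrev toFun {W : Y.Opens} (a : Γ(Y, W)) : Γ(Coh.structureModule Y, W) := a

/-- the function `g = t(1)` associated to an endomorphism of the structure module -/
noncomputable def endoFun (t : Coh.structureModule Y ⟶ Coh.structureModule Y) : Γ(Y, ⊤) :=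
  t.app ⊤ (toFun (1 : Γ(Y, ⊤)))

lemma endo_app_one (t : Coh.structureModule Y ⟶ Coh.structureModule Y) (W : Y.Opens) :
    t.app W (toFun (1 : Γ(Y, W))) = Y.presheaf.map (homOfLE (le_top : W ≤ ⊤)).op (endoFun t) := by
  have hnat := t.mapPresheaf.naturality (homOfLE (le_top : W ≤ ⊤)).op
  have h := ConcreteCategory.congr_hom hnat (toFun (1 : Γ(Y, ⊤)))
  have h1 : (Coh.structureModule Y).presheaf.map (homOfLE (le_top : W ≤ ⊤)).op
      (toFun (1 : Γ(Y, ⊤))) = toFun (1 : Γ(Y, W)) :=
    map_one (Y.presheaf.map (homOfLE (le_top : W ≤ ⊤)).op).hom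
  simp only [ConcreteCategory.comp_apply, mapPresheaf_app] at h
  rw [← h1]
  exact h

lemma endo_app_apply (t : Coh.structureModule Y ⟶ Coh.structureModule Y) (W : Y.Opens)
    (a : Γ(Y, W)) :
    t.app W (toFun a) = a * Y.presheaf.map (homOfLE (le_top : W ≤ ⊤)).op (endoFun t) := by
  have h2 : t.app W (a • toFun (1 : Γ(Y, W))) = a • t.app W (toFun (1 : Γ(Y, W))) :=
    Hom.app_smul t a _
  have h3 : a • toFun (1 : Γ(Y, W)) = toFun a := mul_one a
  rw [h3, endo_app_one] at h2
  exact h2

/-- an endomorphism of the structure module is bijective on sections over `W` iff `W` lies in the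
basic open of the associated function -/
lemma endo_bijective_iff (t : Coh.structureModule Y ⟶ Coh.structureModule Y) (W : Y.Opens) :
    Function.Bijective (t.app W) ↔ W ≤ Y.basicOpen (endoFun t) := by
  set g := Y.presheaf.map (homOfLE (le_top : W ≤ ⊤)).op (endoFun t) with hg
  have hfun : ∀ a : Γ(Y, W), t.app W (toFun a) = a * g := endo_app_apply t W
  have hunit : Function.Bijective (t.app W) ↔ IsUnit g := by
    constructor
    · intro hb
      obtain ⟨a, ha⟩ := hb.2 (toFun (1 : Γ(Y, W)))
      have : (show Γ(Y, W) from a) * g = 1 := (hfun a).symm.trans ha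
      exact IsUnit.of_mul_eq_one _ (by rw [mul_comm]; exact this)
    · intro hu
      obtain ⟨u, hu⟩ := hu
      constructor
      · intro a b hab
        have h1 : (show Γ(Y, W) from a) * g = (show Γ(Y, W) from b) * g := by
          rw [← hfun a, ← hfun b]; exact hab
        rw [← hu] at h1
        exact u.isUnit.mul_left_injective h1
      · intro b
        refine ⟨toFun ((show Γ(Y, W) from b) * ↑u⁻¹), ?_⟩
        rw [hfun, ← hu, mul_assoc, Units.inv_mul, mul_one]
  rw [hunit]
  constructor
  · intro hu
    have h1 := Y.basicOpen_of_isUnit hu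
    rw [hg, Scheme.basicOpen_res] at h1
    exact inf_eq_left.1 h1
  · intro hle
    have h1 := RingedSpace.isUnit_res_basicOpen Y.toRingedSpace (endoFun t)
    have h2 : g = Y.presheaf.map (homOfLE hle).op
        (Y.presheaf.map (homOfLE (Y.basicOpen_le (endoFun t))).op (endoFun t)) := by
      rw [hg, ← ConcreteCategory.comp_apply, ← Functor.map_comp]
      rfl
    rw [h2]
    exact h1.map _

end EndoStructure

section Main

variable (L : X.Modules) (s : Coh.structureModule X ⟶ L) (W₀ : X.Opens)
  (e : L.restrict W₀.ι ≅ Coh.structureModule (W₀ : Scheme.{u}))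

/-- the endomorphism of the structure module of `W₀` induced by `s` and a trivialization -/
noncomputable def trivEndo :
    Coh.structureModule (W₀ : Scheme.{u}) ⟶ Coh.structureModule (W₀ : Scheme.{u}) :=
  (restrictUnitIso W₀.ι).inv ≫ (restrictFunctor W₀.ι).map s ≫ e.hom

lemma trivEndo_bijective_iff (W' : (W₀ : Scheme.{u}).Opens) :
    Function.Bijective ((trivEndo L s W₀ e).app W') ↔
      Function.Bijective (s.app (W₀.ι ''ᵁ W')) := by
  have h1 : Function.Bijective ((restrictUnitIso W₀.ι).inv.app W') :=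
    ConcreteCategory.bijective_of_isIso _
  have h2 : Function.Bijective (e.hom.app W') := ConcreteCategory.bijective_of_isIso _
  have h3 : ⇑((trivEndo L s W₀ e).app W') =
      (e.hom.app W') ∘ (s.app (W₀.ι ''ᵁ W')) ∘ ((restrictUnitIso W₀.ι).inv.app W') := by
    funext a
    rfl
  rw [h3]
  constructor
  · intro h
    have h4 := (Function.Bijective.of_comp_iff' h2 _).1 h
    exact (Function.Bijective.of_comp_iff _ h1).1 h4
  · intro h
    exact h2.comp (h.comp h1)

/-- for `W ≤ W₀`, bijectivity of `s` on sections over `W` is controlled by the basic open of the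
function associated to `s` via the trivialization -/
lemma bijective_iff_le_basicOpen (W : X.Opens) (hW : W ≤ W₀) :
    Function.Bijective (s.app W) ↔
      W ≤ W₀.ι ''ᵁ ((W₀ : Scheme.{u}).basicOpen (endoFun (trivEndo L s W₀ e))) := by
  rw [← bijective_app_congr s (image_preimage_of_le W₀ W hW), ← trivEndo_bijective_iff L s W₀ e,
    endo_bijective_iff]
  constructor
  · intro h
    rw [← image_preimage_of_le W₀ W hW]
    exact W₀.ι.image_mono h
  · intro h
    have := W₀.ι.preimage_mono h
    rwa [W₀.ι.preimage_image_eq] at this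

theorem genLocus_inf_eq :
    CohB1.genLocus L s ⊓ W₀ =
      W₀.ι ''ᵁ ((W₀ : Scheme.{u}).basicOpen (endoFun (trivEndo L s W₀ e))) := by
  set B := W₀.ι ''ᵁ ((W₀ : Scheme.{u}).basicOpen (endoFun (trivEndo L s W₀ e))) with hB
  have hBW : B ≤ W₀ := by
    have := W₀.ι.image_le_opensRange ((W₀ : Scheme.{u}).basicOpen (endoFun (trivEndo L s W₀ e)))
    rwa [Scheme.Opens.opensRange_ι] at this
  apply le_antisymm
  · rintro x ⟨hxG, hxW⟩
    have hxG' : x ∈ sSup {U : X.Opens | IsIso ((restrictFunctor U.ι).map s)} := hxG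
    rw [Opens.mem_sSup] at hxG'
    obtain ⟨U, hU, hxU⟩ := hxG'
    have hU' := (isIso_restrict_iff s U).1 hU (U ⊓ W₀) inf_le_left
    exact (bijective_iff_le_basicOpen L s W₀ e (U ⊓ W₀) inf_le_right).1 hU' ⟨hxU, hxW⟩
  · refine le_inf (le_sSup ?_) hBW
    show IsIso ((restrictFunctor B.ι).map s)
    rw [isIso_restrict_iff]
    intro W hW
    exact (bijective_iff_le_basicOpen L s W₀ e W (hW.trans hBW)).2 hW

include e in
theorem isAffineOpen_genLocus_inf (V : X.Opens) (hV : IsAffineOpen V) (hVW : V ≤ W₀) :
    IsAffineOpen (CohB1.genLocus L s ⊓ V) := by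
  have h1 : CohB1.genLocus L s ⊓ V = V ⊓ (CohB1.genLocus L s ⊓ W₀) := by
    rw [inf_comm V, inf_assoc, inf_eq_right.2 hVW]
  rw [h1, genLocus_inf_eq L s W₀ e, Scheme.image_basicOpen]
  have hle : V ≤ W₀.ι ''ᵁ ⊤ := by
    rw [Scheme.Opens.ι_image_top]; exact hVW
  rw [← Scheme.basicOpen_res _ _ (homOfLE hle).op]
  exact hV.basicOpen _

end Main

theorem isAffineHom_genLocus (L : X.Modules) (hL : PicF.IsInvertible L)
    (s : Coh.structureModule X ⟶ L) : IsAffineHom (CohB1.genLocus L s).ι := by
  apply isAffineHom_of_forall_exists_isAffineOpen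
  intro x
  obtain ⟨W₀, hx, ⟨e⟩⟩ := hL x
  obtain ⟨V, hVaff, hxV, hVW⟩ := Opens.isBasis_iff_nbhd.1 X.isBasis_affineOpens hx
  refine ⟨V, hxV, hVaff, ?_⟩
  rw [← Scheme.Hom.isAffineOpen_iff_of_isOpenImmersion (CohB1.genLocus L s).ι,
    Scheme.Hom.image_preimage_eq_opensRange_inf, Scheme.Opens.opensRange_ι]
  exact isAffineOpen_genLocus_inf L s W₀ e V hVaff hVW

end Groth.Agent.H67.GenLocusAffine
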