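import Mathlib.RingTheory.Localization.Module
import Mathlib.Algebra.Module.FinitePresentation

/-!
# If a linear map is bijective away from `g`, it is bijective after localizing at any
submonoid containing `g`
-/

set_option autoImplicit false

namespace Groth.Agent.H67.LocBij

variable {A : Type*} [CommRing A] {M N M' N' : Type*} [AddCommGroup M] [AddCommGroup N]
  [AddCommGroup M'] [AddCommGroup N'] [Module A M] [Module A N] [Module A M'] [Module A N']

lemma exists_pow_smul_eq_zero (g : A) (f : M →ₗ[A] N)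
    (h : Function.Injective (LocalizedModule.map (Submonoid.powers g) f)) (a : M) (ha : f a = 0) :
    ∃ k : ℕ, g ^ k • a = 0 := by
  have h0 : LocalizedModule.map (Submonoid.powers g) f (LocalizedModule.mk a 1) = 0 := by
    rw [LocalizedModule.map_mk, ha, LocalizedModule.zero_mk]
  have h1 : (LocalizedModule.mk a 1 : LocalizedModule (Submonoid.powers g) M) = 0 :=
    h (h0.trans (map_zero _).symm)
  have h2 : LocalizedModule.mkLinearMap (Submonoid.powers g) M a = 0 := h1
  rw [IsLocalizedModule.eq_zero_iff (Submonoid.powers g)] at h2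
  obtain ⟨⟨_, k, rfl⟩, hs⟩ := h2
  exact ⟨k, hs⟩

lemma exists_pow_smul_eq (g : A) (f : M →ₗ[A] N)
    (h : Function.Surjective (LocalizedModule.map (Submonoid.powers g) f)) (n : N) :
    ∃ (k : ℕ) (a : M), g ^ k • n = f a := by
  obtain ⟨x, hx⟩ := h (LocalizedModule.mk n 1)
  induction x using LocalizedModule.induction_on with
  | h a s =>
    rw [LocalizedModule.map_mk, LocalizedModule.mk_eq] at hx
    obtain ⟨⟨_, j, rfl⟩, hu⟩ := hx
    obtain ⟨_, k, rfl⟩ := s
    refine ⟨j + k, g ^ j • a, ?_⟩
    simp only [Submonoid.smul_def, one_smul] at hu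
    rw [map_smul, hu, pow_add, mul_smul]

theorem bijective_map_of_bijective_away (S : Submonoid A) (g : A) (hg : g ∈ S)
    (fM : M →ₗ[A] M') (fN : N →ₗ[A] N') [IsLocalizedModule S fM] [IsLocalizedModule S fN]
    (f : M →ₗ[A] N)
    (h : Function.Bijective (LocalizedModule.map (Submonoid.powers g) f)) :
    Function.Bijective (IsLocalizedModule.map S fM fN f) := by
  constructor
  · rw [injective_iff_map_eq_zero]
    intro x hx
    obtain ⟨⟨a, s⟩, rfl⟩ := IsLocalizedModule.mk'_surjective S fM x
    simp only [Function.uncurry_apply_pair] at hx ⊢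
    rw [IsLocalizedModule.map_mk', IsLocalizedModule.mk'_eq_zero'] at hx
    obtain ⟨t, ht⟩ := hx
    have ht' : f ((t : A) • a) = 0 := by
      rw [map_smul]; exact ht
    obtain ⟨k, hk⟩ := exists_pow_smul_eq_zero g f h.1 _ ht'
    rw [IsLocalizedModule.mk'_eq_zero']
    refine ⟨⟨g ^ k, pow_mem hg k⟩ * t, ?_⟩
    rw [mul_smul]
    exact hk
  · intro y
    obtain ⟨⟨n, s⟩, rfl⟩ := IsLocalizedModule.mk'_surjective S fN y
    obtain ⟨k, a, hk⟩ := exists_pow_smul_eq g f h.2 n
    refine ⟨IsLocalizedModule.mk' fM a (⟨g ^ k, pow_mem hg k⟩ * s), ?_⟩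
    simp only [Function.uncurry_apply_pair]
    rw [IsLocalizedModule.map_mk', ← hk]
    exact IsLocalizedModule.mk'_cancel_left fN n ⟨g ^ k, pow_mem hg k⟩ s

end Groth.Agent.H67.LocBij
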