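import Groth.Agent.H8.QCohStalk
import Groth.Agent.H44.FiniteSections
import Groth.Agent.H67.LocBij
import Groth.Prelude.Def_RefPow

/-!
# Stalk maps of morphisms of quasi-coherent modules as localizations; openness of the iso locus
-/

set_option autoImplicit false
set_option linter.style.haveILetI false
universe u
open CategoryTheory CategoryTheory.Limits AlgebraicGeometry TopologicalSpace Opposite

namespace Groth.Agent.H67.StalkLoc

open Groth.Agent.H8

variable {X : Scheme.{u}}

/-- The map on sections over `V` as a `Γ(X, V)`-linear map. -/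
noncomputable def appₗ {F G : X.Modules} (φ : F ⟶ G) (V : X.Opens) : Γ(F, V) →ₗ[Γ(X, V)] Γ(G, V) where
  toFun := φ.app V
  map_add' := map_add _
  map_smul' r x := φ.app_smul r x

lemma appₗ_apply {F G : X.Modules} (φ : F ⟶ G) (V : X.Opens) (m : Γ(F, V)) :
    appₗ φ V m = φ.app V m := rfl

/-- The stalk map as a `Γ(X, V)`-linear map. -/
noncomputable def stalkMapA {F G : X.Modules} (φ : F ⟶ G) {V : X.Opens} {x : X} (hx : x ∈ V) :
    letI := stalkModule F hx
    letI := stalkModule G hx
    F.presheaf.stalk x →ₗ[Γ(X, V)] G.presheaf.stalk x :=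
  letI := stalkModule F hx
  letI := stalkModule G hx
  { toFun := RefHull.stalkMapₗ φ x
    map_add' := map_add _
    map_smul' := fun r m => (RefHull.stalkMapₗ φ x).map_smul (X.presheaf.germ V x hx r) m }

lemma stalkMapA_apply {F G : X.Modules} (φ : F ⟶ G) {V : X.Opens} {x : X} (hx : x ∈ V)
    (m : F.presheaf.stalk x) : stalkMapA φ hx m = RefHull.stalkMapₗ φ x m := rfl

lemma stalkMapA_eq_map {F G : X.Modules} [F.IsQuasicoherent] [G.IsQuasicoherent] (φ : F ⟶ G)
    {V : X.Opens} (hV : IsAffineOpen V) {x : X} (hx : x ∈ V) :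
    letI := stalkModule F hx
    letI := stalkModule G hx
    haveI := isLocalizedModule_germₗ F hV hx
    haveI := isLocalizedModule_germₗ G hV hx
    stalkMapA φ hx = IsLocalizedModule.map (hV.primeIdealOf ⟨x, hx⟩).asIdeal.primeCompl
      (germₗ F hx) (germₗ G hx) (appₗ φ V) := by
  letI := stalkModule F hx
  letI := stalkModule G hx
  haveI := isLocalizedModule_germₗ F hV hx
  haveI := isLocalizedModule_germₗ G hV hx
  apply IsLocalizedModule.linearMap_ext (hV.primeIdealOf ⟨x, hx⟩).asIdeal.primeCompl
    (germₗ F hx) (germₗ G hx)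
  ext m
  rw [LinearMap.comp_apply, LinearMap.comp_apply, IsLocalizedModule.map_apply]
  exact RefHull.stalkMapₗ_germ φ x hx m

instance isQuasicoherent_structureModule (X : Scheme.{u}) :
    (Coh.structureModule X).IsQuasicoherent := by
  have e : SheafOfModules.free (R := X.ringCatSheaf) PUnit.{u + 1} ≅
      SheafOfModules.unit X.ringCatSheaf := coproductUniqueIso _
  exact (SheafOfModules.isQuasicoherent X.ringCatSheaf).prop_of_iso e inferInstance

instance finite_structureModule (V : X.Opens) :
    Module.Finite Γ(X, V) Γ(Coh.structureModule X, V) :=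
  inferInstanceAs (Module.Finite Γ(X, V) Γ(X, V))

/-- If `φ : F ⟶ G` is a morphism of quasi-coherent modules with `F` having finite and `G` finitely
presented sections over the affine open `V`, the locus in `V` where the stalk map is bijective
is open. -/
theorem exists_basicOpen_bijective {F G : X.Modules} [F.IsQuasicoherent] [G.IsQuasicoherent]
    (φ : F ⟶ G) {V : X.Opens} (hV : IsAffineOpen V) [Module.Finite Γ(X, V) Γ(F, V)]
    [Module.FinitePresentation Γ(X, V) Γ(G, V)] {x : X} (hx : x ∈ V)
    (h : Function.Bijective (RefHull.stalkMapₗ φ x)) :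
    ∃ g : Γ(X, V), x ∈ X.basicOpen g ∧ ∀ y ∈ X.basicOpen g,
      Function.Bijective (RefHull.stalkMapₗ φ y) := by
  letI := stalkModule F hx
  letI := stalkModule G hx
  haveI := isLocalizedModule_germₗ F hV hx
  haveI := isLocalizedModule_germₗ G hV hx
  have hbij : Function.Bijective (IsLocalizedModule.map
      (hV.primeIdealOf ⟨x, hx⟩).asIdeal.primeCompl (germₗ F hx) (germₗ G hx) (appₗ φ V)) := by
    rw [← stalkMapA_eq_map φ hV hx]
    exact h
  obtain ⟨g, hg, hgb⟩ := Module.FinitePresentation.exists_notMem_bijective (appₗ φ V)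
    (hV.primeIdealOf ⟨x, hx⟩).asIdeal (germₗ F hx) (germₗ G hx) hbij
  refine ⟨g, (notMem_primeIdealOf_iff hV hx g).1 hg, ?_⟩
  intro y hy
  have hyV : y ∈ V := X.basicOpen_le g hy
  letI := stalkModule F hyV
  letI := stalkModule G hyV
  haveI := isLocalizedModule_germₗ F hV hyV
  haveI := isLocalizedModule_germₗ G hV hyV
  have h2 := LocBij.bijective_map_of_bijective_away
    (hV.primeIdealOf ⟨y, hyV⟩).asIdeal.primeCompl g ((notMem_primeIdealOf_iff hV hyV g).2 hy)
    (germₗ F hyV) (germₗ G hyV) (appₗ φ V) hgb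
  rw [← stalkMapA_eq_map φ hV hyV] at h2
  exact h2

theorem isOpen_isoLocus [IsLocallyNoetherian X] (F : X.Modules) (hF : Coh.IsCoh F)
    (s : Coh.structureModule X ⟶ F) : IsOpen (RefPow.isoLocus s) := by
  rw [isOpen_iff_forall_mem_open]
  intro x hx
  haveI : F.IsQuasicoherent := hF.1
  haveI : SheafOfModules.IsFiniteType (R := X.ringCatSheaf) F := hF.2
  obtain ⟨_, ⟨V, hV : IsAffineOpen V, rfl⟩, hxV, -⟩ :=
    X.isBasis_affineOpens.exists_subset_of_mem_open (Set.mem_univ x) isOpen_univ
  haveI : IsNoetherianRing Γ(X, V) := IsLocallyNoetherian.component_noetherian ⟨V, hV⟩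
  haveI : Module.Finite Γ(X, V) Γ(F, V) := Groth.Agent.H44.finite_sections_of_isFiniteType F hV
  haveI : Module.FinitePresentation Γ(X, V) Γ(F, V) := Module.finitePresentation_of_finite _ _
  obtain ⟨g, hxg, hg⟩ := exists_basicOpen_bijective s hV hxV hx
  exact ⟨X.basicOpen g, fun y hy => hg y hy, (X.basicOpen g).isOpen, hxg⟩

end Groth.Agent.H67.StalkLoc
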