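import Groth.Agent.H67.BasisLocal
import Groth.Prelude.Def_Curv2

/-!
# An invertible module generated at every point by a global section is globally generated
-/

set_option autoImplicit false
set_option linter.style.haveILetI false
universe u
open CategoryTheory CategoryTheory.Limits AlgebraicGeometry TopologicalSpace Opposite

namespace Groth.Agent.H67.GlobGenPointwise

open Groth.Agent.H18 Groth.Agent.H18.PUP Groth.Agent.H18.STL

variable {X : Scheme.{u}}

theorem val_eq_app_one {M : X.Modules} (a : Coh.structureModule X ⟶ M) (W : X.Opens) :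
    SecTwist.val a W = a.app W (1 : Γ(X, W)) := by
  rw [app_eq_smul_val, one_smul]

/-- an invertible module generated at every point by a global section is a quotient of a free
module -/
theorem isGloballyGenerated_of_pointwise {M : X.Modules} (hM : PicF.IsInvertible M)
    (h : ∀ x : X, ∃ s : Coh.structureModule X ⟶ M, x ∈ CohB1.genLocus M s) :
    Curv2.IsGloballyGenerated M := by
  choose s hs using h
  let p : (SheafOfModules.free (↥X) : X.Modules) ⟶ M :=
    Sigma.desc (f := fun _ : ↥X => Coh.structureModule X) s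
  have hp : ∀ x : X, SheafOfModules.ιFree x ≫ p = s x := fun x =>
    Sigma.ι_desc (f := fun _ : ↥X => Coh.structureModule X) s x
  refine ⟨↥X, p, ⟨?_⟩⟩
  intro (G : X.Modules) (ψ : M ⟶ G) (ψ' : M ⟶ G) hψ
  have h1 : ∀ x, s x ≫ ψ = s x ≫ ψ' := fun x => by
    have e1 : SheafOfModules.ιFree x ≫ (p ≫ ψ) = s x ≫ ψ :=
      (Category.assoc _ _ _).symm.trans (congrArg (fun q => q ≫ ψ) (hp x))
    have e2 : SheafOfModules.ιFree x ≫ (p ≫ ψ') = s x ≫ ψ' :=
      (Category.assoc _ _ _).symm.trans (congrArg (fun q => q ≫ ψ') (hp x))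
    exact e1.symm.trans ((congrArg (fun q => SheafOfModules.ιFree x ≫ q) hψ).trans e2)
  refine hom_ext_of_localBasis (fun x : X => CohB1.genLocus M (s x)) (fun x => ⟨x, hs x⟩)
    (fun x => SecTwist.val (s x) (CohB1.genLocus M (s x)))
    (fun x => Groth.Agent.H67.BasisLocal.isBasisOn_genLocus hM (s x)) ψ ψ' (fun x => ?_)
  rw [val_eq_app_one]
  have e1 : ψ.app (CohB1.genLocus M (s x)) ((s x).app (CohB1.genLocus M (s x))
      (1 : Γ(X, CohB1.genLocus M (s x)))) =
      (s x ≫ ψ).app (CohB1.genLocus M (s x)) (1 : Γ(X, CohB1.genLocus M (s x))) := rfl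
  have e2 : ψ'.app (CohB1.genLocus M (s x)) ((s x).app (CohB1.genLocus M (s x))
      (1 : Γ(X, CohB1.genLocus M (s x)))) =
      (s x ≫ ψ').app (CohB1.genLocus M (s x)) (1 : Γ(X, CohB1.genLocus M (s x))) := rfl
  rw [e1, e2, h1 x]

end Groth.Agent.H67.GlobGenPointwise
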