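import Groth.Agent.H67.TwistPoints
import Groth.Agent.H67.CocycleIso
import Groth.Agent.H67.GlobGenPointwise
import Groth.Agent.H18.STL.Inverse

/-!
# `E ⊗ L^{⊗N}` is generated at every point by a global section for all large `N`

`L` ample, `E` invertible.  Consequences: `L^{⊗n} ⊗ L'` is ample and globally generated for `n ≫ 0`.
-/

set_option autoImplicit false
set_option linter.style.haveILetI false
universe u
open CategoryTheory AlgebraicGeometry TopologicalSpace Opposite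

namespace Groth.Agent.H67.TwistAllLarge

open Groth.Agent.H18 Groth.Agent.H18.PUP Groth.Agent.H18.STL

variable {X : Scheme.{u}}

/-- given a section `b` of `L^{⊗(k+1)}` and a basis of `E` over `X_b`, there are sections of
`E ⊗ L^{⊗N}` with locus of generation `X_b`, for `N` in an arithmetic progression -/
theorem exists_section_of_basis [CompactSpace X] [QuasiSeparatedSpace X] {L E : X.Modules}
    (hL : PicF.IsInvertible L) (hE : PicF.IsInvertible E) (k : ℕ)
    (b : Coh.structureModule X ⟶ CohB1.tensorPow L (k + 1))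
    (e : Γ(E, CohB1.genLocus _ b)) (he : IsBasisOn E (CohB1.genLocus _ b) e) :
    ∃ n : ℕ, ∀ N m : ℕ, n ≤ m → N = (k + 1) * (m + 1) →
      ∃ t : Coh.structureModule X ⟶ CohB1.tensorMod E (CohB1.tensorPow L N),
        CohB1.genLocus _ t = CohB1.genLocus _ b := by
  have hL' : PicF.IsInvertible (CohB1.tensorPow L (k + 1)) := isInvertible_tensorPow hL _
  haveI := isQuasicoherent_of_isInvertible hE
  obtain ⟨n₁, hn₁, t', ht'⟩ := exists_extension hL' b E e
  have hval : SecTwist.val (sectionHom _ t') (CohB1.genLocus _ b) =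
      SecTwist.twist b n₁ E (CohB1.genLocus _ b)
        ((1 : Γ(X, CohB1.genLocus _ b)) • e) := by
    rw [val_sectionHom, one_smul]
    exact ht'
  have h1 := genLocus_inf_of_twist' hL' b n₁ E e he 1 (sectionHom _ t') hval
  have h1' : CohB1.genLocus _ b ≤ CohB1.genLocus _ (sectionHom
      (CohB1.tensorMod E (CohB1.tensorPow (CohB1.tensorPow L (k + 1)) n₁)) t') := by
    have h3 : X.basicOpen (1 : Γ(X, CohB1.genLocus _ b)) = CohB1.genLocus _ b :=
      X.basicOpen_of_isUnit isUnit_one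
    rw [h3] at h1
    exact inf_eq_right.1 h1
  have hM₁ : PicF.IsInvertible (CohB1.tensorMod E
      (CohB1.tensorPow (CohB1.tensorPow L (k + 1)) n₁)) :=
    isInvertible_tensorMod hE (isInvertible_tensorPow hL' n₁)
  obtain ⟨𝔘, ε, ε', hε, hε'⟩ := exists_common_cover hE hL
  have hcE := hasCocycle_cocycleOf 𝔘 hε
  have hc := hasCocycle_cocycleOf 𝔘 hε'
  set cE := cocycleOf 𝔘 hε with hcE_def
  set c := cocycleOf 𝔘 hε' with hc_def
  refine ⟨n₁, fun N m hm hN => ?_⟩
  obtain ⟨j, hj⟩ : ∃ j, m + 1 = n₁ + (j + 1) := ⟨m - n₁, by omega⟩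
  have g2 := genLocus_powHom hL' b (Nat.succ_pos j)
  have g3 : CohB1.genLocus _ (SecTwist.tmulHom (sectionHom _ t') (SecTwist.powHom b (j + 1))) =
      CohB1.genLocus _ b := by
    rw [Groth.Agent.S15745.result X _ _ hM₁ (isInvertible_tensorPow hL' _), g2]
    exact inf_eq_right.2 h1'
  have w₁ := (hcE.tmul ((hc.lpow (k + 1)).lpow n₁)).tmul ((hc.lpow (k + 1)).lpow (j + 1))
  have w₂ := hcE.tmul (hc.lpow N)
  have hcoc : cE * (c ^ (k + 1)) ^ n₁ * (c ^ (k + 1)) ^ (j + 1) = cE * c ^ N := by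
    rw [mul_assoc, ← pow_add, ← pow_mul, hN, hj]
  rw [hcoc] at w₁
  obtain ⟨t, -, ht⟩ := w₁.exists_transfer w₂ _
  exact ⟨t, ht.trans g3⟩

/-- near any point there are sections of `E ⊗ L^{⊗N}` generating on a fixed neighbourhood, for
all large `N` -/
theorem exists_sections_all_large [QuasiSeparatedSpace X] {L E : X.Modules}
    (hA : CohB1.IsAmple L) (hE : PicF.IsInvertible E) (z : X) :
    ∃ (V : X.Opens) (N₀ : ℕ), z ∈ V ∧ ∀ N : ℕ, N₀ ≤ N →
      ∃ t : Coh.structureModule X ⟶ CohB1.tensorMod E (CohB1.tensorPow L N),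
        V ≤ CohB1.genLocus _ t := by
  classical
  have hL : PicF.IsInvertible L := hA.1
  haveI : CompactSpace X := hA.2.1
  obtain ⟨U₀, e₀, hzU₀, he₀⟩ := exists_basis_of_isInvertible hE z
  obtain ⟨U₁, ℓ₀, hzU₁, hℓ₀⟩ := exists_basis_of_isInvertible hL z
  obtain ⟨k, b, hzb, hbW, -⟩ := exists_genLocus_nhd_of_isAmple hA (U₀ ⊓ U₁) z ⟨hzU₀, hzU₁⟩
  have hbU₀ : CohB1.genLocus _ b ≤ U₀ := hbW.trans inf_le_left
  have hbU₁ : CohB1.genLocus _ b ≤ U₁ := hbW.trans inf_le_right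
  have he : IsBasisOn E (CohB1.genLocus _ b) (mres E hbU₀ e₀) := he₀.mono hbU₀
  have hℓ : IsBasisOn L (CohB1.genLocus _ b) (mres L hbU₁ ℓ₀) := hℓ₀.mono hbU₁
  -- the residues
  have hres : ∀ r : Fin (k + 1), ∃ n : ℕ, ∀ N m : ℕ, n ≤ m → N = (k + 1) * (m + 1) →
      ∃ t : Coh.structureModule X ⟶
          CohB1.tensorMod (CohB1.tensorMod E (CohB1.tensorPow L r)) (CohB1.tensorPow L N),
        CohB1.genLocus _ t = CohB1.genLocus _ b := fun r =>
    exists_section_of_basis hL (isInvertible_tensorMod hE (isInvertible_tensorPow hL r)) k b _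
      (isBasisOn_tmul he (isBasisOn_lpow hℓ r))
  choose ν hν using hres
  obtain ⟨𝔘, ε, ε', hε, hε'⟩ := exists_common_cover hE hL
  have hcE := hasCocycle_cocycleOf 𝔘 hε
  have hc := hasCocycle_cocycleOf 𝔘 hε'
  set cE := cocycleOf 𝔘 hε with hcE_def
  set c := cocycleOf 𝔘 hε' with hc_def
  refine ⟨CohB1.genLocus _ b, (k + 1) * (Finset.univ.sup ν + 2), hzb, fun N hN => ?_⟩
  -- division with remainder
  have hk : 0 < k + 1 := Nat.succ_pos k
  obtain ⟨r, hr⟩ : ∃ r : Fin (k + 1), (r : ℕ) = N % (k + 1) :=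
    ⟨⟨N % (k + 1), Nat.mod_lt _ hk⟩, rfl⟩
  have hq : Finset.univ.sup ν + 2 ≤ N / (k + 1) := by
    rw [Nat.le_div_iff_mul_le hk, mul_comm]
    exact hN
  obtain ⟨m, hm⟩ : ∃ m, N / (k + 1) = m + 1 := ⟨N / (k + 1) - 1, by omega⟩
  have hνr : ν r ≤ Finset.univ.sup ν := Finset.le_sup (Finset.mem_univ r)
  have hνm : ν r ≤ m := by omega
  obtain ⟨t, ht⟩ := hν r ((k + 1) * (m + 1)) m hνm rfl
  have hNeq : N = (r : ℕ) + (k + 1) * (m + 1) := by
    rw [hr, ← hm, add_comm]
    exact (Nat.div_add_mod N (k + 1)).symm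
  have w₁ := (hcE.tmul (hc.lpow r)).tmul (hc.lpow ((k + 1) * (m + 1)))
  have w₂ := hcE.tmul (hc.lpow N)
  have hcoc : cE * c ^ (r : ℕ) * c ^ ((k + 1) * (m + 1)) = cE * c ^ N := by
    rw [mul_assoc, ← pow_add, ← hNeq]
  rw [hcoc] at w₁
  obtain ⟨t', -, ht'⟩ := w₁.exists_transfer w₂ t
  exact ⟨t', (ht'.trans ht).ge⟩

/-- `L` ample, `E` invertible: for all large `N`, `E ⊗ L^{⊗N}` is generated at every point by a
global section -/
theorem exists_forall_large_pointwise [QuasiSeparatedSpace X] {L E : X.Modules}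
    (hA : CohB1.IsAmple L) (hE : PicF.IsInvertible E) :
    ∃ N₀ : ℕ, ∀ N : ℕ, N₀ ≤ N → ∀ x : X,
      ∃ t : Coh.structureModule X ⟶ CohB1.tensorMod E (CohB1.tensorPow L N),
        x ∈ CohB1.genLocus _ t := by
  classical
  haveI : CompactSpace X := hA.2.1
  choose V ν hzV hV using fun z : X => exists_sections_all_large hA hE z
  obtain ⟨T, hT⟩ := CompactSpace.elim_nhds_subcover (fun z : X => ((V z : X.Opens) : Set X))
    (fun z => (V z).isOpen.mem_nhds (hzV z))
  refine ⟨T.sup ν, fun N hN x => ?_⟩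
  have hx : x ∈ ⋃ z ∈ T, ((V z : X.Opens) : Set X) := by rw [hT]; trivial
  obtain ⟨z, hzT, hxz⟩ := Set.mem_iUnion₂.1 hx
  obtain ⟨t, ht⟩ := hV z N ((Finset.le_sup hzT).trans hN)
  exact ⟨t, ht hxz⟩

/-- EGA II 4.5.8-type statement: `L` ample, `L'` invertible: `L^{⊗n} ⊗ L'` is ample and globally
generated for all large `n` -/
theorem exists_forall_isAmple_and_isGloballyGenerated [QuasiSeparatedSpace X] {L L' : X.Modules}
    (hA : CohB1.IsAmple L) (hL' : PicF.IsInvertible L') :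
    ∃ n₀ : ℕ, 0 < n₀ ∧ ∀ n, n₀ ≤ n →
      CohB1.IsAmple (CohB1.tensorMod (CohB1.tensorPow L n) L') ∧
        Curv2.IsGloballyGenerated (CohB1.tensorMod (CohB1.tensorPow L n) L') := by
  have hL : PicF.IsInvertible L := hA.1
  obtain ⟨N₀, hN₀⟩ := exists_forall_large_pointwise hA hL'
  obtain ⟨𝔘, ε, ε', hε, hε'⟩ := exists_common_cover hL hL'
  have hc := hasCocycle_cocycleOf 𝔘 hε
  have hc' := hasCocycle_cocycleOf 𝔘 hε'
  set c := cocycleOf 𝔘 hε with hc_def
  set c' := cocycleOf 𝔘 hε' with hc'_def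
  refine ⟨N₀ + 1, Nat.succ_pos _, fun n hn => ⟨?_, ?_⟩⟩
  · -- ampleness
    obtain ⟨n', rfl⟩ : ∃ n', n = n' + 1 := ⟨n - 1, by omega⟩
    have hn' : N₀ ≤ n' := by omega
    have hL'' : PicF.IsInvertible (CohB1.tensorMod L' (CohB1.tensorPow L n')) :=
      isInvertible_tensorMod hL' (isInvertible_tensorPow hL n')
    have hgen : ∀ x : X, ∃ (m : ℕ) (s' : Coh.structureModule X ⟶
        CohB1.tensorPow (CohB1.tensorMod L' (CohB1.tensorPow L n')) (m + 1)),
        x ∈ CohB1.genLocus _ s' := by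
      intro x
      obtain ⟨t, hxt⟩ := hN₀ n' hn' x
      obtain ⟨𝔄⟩ := nonempty_atlas hL''
      obtain ⟨b, -, hb⟩ := (hasWeight_self 𝔄).exists_transfer (hasWeight_tensorPow 𝔄 (0 + 1)) t
      exact ⟨0, b, hb ▸ hxt⟩
    have hamp := isAmple_tensorMod_of_generated hA hL'' hgen
    have w₁ := hc.tmul (hc'.tmul (hc.lpow n'))
    have w₂ := (hc.lpow (n' + 1)).tmul hc'
    have hcoc : c * (c' * c ^ n') = c ^ (n' + 1) * c' := by
      rw [pow_succ]; ring
    rw [hcoc] at w₁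
    exact isAmple_of_iso (Groth.Agent.H67.CocycleIso.iso w₁ w₂) hamp
  · -- global generation
    have hM : PicF.IsInvertible (CohB1.tensorMod (CohB1.tensorPow L n) L') :=
      isInvertible_tensorMod (isInvertible_tensorPow hL n) hL'
    refine Groth.Agent.H67.GlobGenPointwise.isGloballyGenerated_of_pointwise hM (fun x => ?_)
    obtain ⟨t, hxt⟩ := hN₀ n (by omega) x
    have w₁ := hc'.tmul (hc.lpow n)
    have w₂ := (hc.lpow n).tmul hc'
    have hcoc : c' * c ^ n = c ^ n * c' := mul_comm _ _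
    rw [hcoc] at w₁
    obtain ⟨t', -, ht'⟩ := w₁.exists_transfer w₂ t
    exact ⟨t', ht' ▸ hxt⟩

end Groth.Agent.H67.TwistAllLarge
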