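import Groth.Agent.H18.STL.AmpleBasis

/-!
# Local bases: locality, unit multiples, and the basis given by a section on its locus of generation
-/

set_option autoImplicit false
set_option linter.style.haveILetI false
universe u
open CategoryTheory CategoryTheory.Limits AlgebraicGeometry TopologicalSpace Opposite

namespace Groth.Agent.H67.BasisLocal

open Groth.Agent.H18 Groth.Agent.H18.PUP Groth.Agent.H18.STL

variable {X : Scheme.{u}}

/-- being a basis is local on the open -/
theorem isBasisOn_of_locally {M : X.Modules} {W : X.Opens} (t : Γ(M, W))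
    (h : ∀ x ∈ W, ∃ (D : X.Opens) (hD : D ≤ W), x ∈ D ∧ IsBasisOn M D (mres M hD t)) :
    IsBasisOn M W t := by
  choose D hD hxD hbas using h
  -- injectivity on every open below `W`
  have hinj : ∀ (V : X.Opens) (hV : V ≤ W),
      Function.Injective (fun r : Γ(X, V) => r • mres M hV t) := by
    intro V hV r r' hrr'
    refine fun_eq_of_locally_eq r r' (fun p hp => ?_)
    have hpW : p ∈ W := hV hp
    refine ⟨V ⊓ D p hpW, inf_le_left, ⟨hp, hxD p hpW⟩, ?_⟩
    have h1 := congrArg (mres M (inf_le_left : V ⊓ D p hpW ≤ V)) hrr'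
    simp only at h1
    rw [mres_smul, mres_smul, mres_mres] at h1
    have hb := (hbas p hpW (V ⊓ D p hpW) inf_le_right).1
    apply hb
    simp only
    rw [mres_mres]
    exact h1
  intro V hV
  refine ⟨hinj V hV, fun y => ?_⟩
  have hloc : ∀ p : V, ∃ r : Γ(X, V ⊓ D p.1 (hV p.2)),
      r • mres M ((inf_le_left : V ⊓ D p.1 (hV p.2) ≤ V).trans hV) t =
        mres M (inf_le_left : V ⊓ D p.1 (hV p.2) ≤ V) y := by
    intro p
    obtain ⟨r, hr⟩ := (hbas p.1 (hV p.2) (V ⊓ D p.1 (hV p.2)) inf_le_right).2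
      (mres M (inf_le_left : V ⊓ D p.1 (hV p.2) ≤ V) y)
    refine ⟨r, ?_⟩
    simp only at hr
    rw [mres_mres] at hr
    exact hr
  choose r hr using hloc
  have hcompat : ∀ p q : V,
      rres X (inf_le_left : (V ⊓ D p.1 (hV p.2)) ⊓ (V ⊓ D q.1 (hV q.2)) ≤ V ⊓ D p.1 (hV p.2))
        (r p) =
      rres X (inf_le_right : (V ⊓ D p.1 (hV p.2)) ⊓ (V ⊓ D q.1 (hV q.2)) ≤ V ⊓ D q.1 (hV q.2))
        (r q) := by
    intro p q
    apply hinj _ ((inf_le_left.trans inf_le_left).trans hV)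
    have h1 := congrArg (mres M (inf_le_left :
      (V ⊓ D p.1 (hV p.2)) ⊓ (V ⊓ D q.1 (hV q.2)) ≤ V ⊓ D p.1 (hV p.2))) (hr p)
    have h2 := congrArg (mres M (inf_le_right :
      (V ⊓ D p.1 (hV p.2)) ⊓ (V ⊓ D q.1 (hV q.2)) ≤ V ⊓ D q.1 (hV q.2))) (hr q)
    rw [mres_smul, mres_mres, mres_mres] at h1 h2
    exact h1.trans h2.symm
  obtain ⟨a, ha⟩ := exists_glue_fun (fun p : V => V ⊓ D p.1 (hV p.2)) V (fun _ => inf_le_left)
    (fun x hx => ⟨⟨x, hx⟩, ⟨hx, hxD x (hV hx)⟩⟩) r hcompat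
  refine ⟨a, ?_⟩
  refine modules_eq_of_locally_eq _ _ _ (fun x hx => ?_)
  refine ⟨V ⊓ D x (hV hx), inf_le_left, ⟨hx, hxD x (hV hx)⟩, ?_⟩
  change mres _ _ (a • mres M hV t) = _
  rw [mres_smul, mres_mres]
  have := ha ⟨x, hx⟩
  simp only [rres] at this
  rw [this]
  exact hr ⟨x, hx⟩

/-- a unit multiple of a basis is a basis -/
theorem isBasisOn_smul_of_isUnit {M : X.Modules} {W : X.Opens} {e : Γ(M, W)}
    (he : IsBasisOn M W e) (f : Γ(X, W)) (hf : IsUnit f) : IsBasisOn M W (f • e) := by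
  intro V hV
  have hfu : IsUnit (rres X hV f) := hf.map _
  have h1 := he V hV
  have h2 : (fun r : Γ(X, V) => r • mres M hV (f • e)) =
      (fun r : Γ(X, V) => r • mres M hV e) ∘ (fun r : Γ(X, V) => r * rres X hV f) := by
    funext r
    simp only [Function.comp_apply]
    rw [mres_smul, mul_smul]
  rw [h2]
  refine h1.comp ?_
  obtain ⟨u, hu⟩ := hfu
  rw [← hu]
  exact ⟨u.isUnit.mul_left_injective, fun y => ⟨y * ↑u⁻¹, by simp [mul_assoc]⟩⟩

/-- a global section of an invertible module is a basis over its locus of generation -/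
theorem isBasisOn_genLocus {M : X.Modules} (hM : PicF.IsInvertible M)
    (a : Coh.structureModule X ⟶ M) :
    IsBasisOn M (CohB1.genLocus M a) (SecTwist.val a (CohB1.genLocus M a)) := by
  refine isBasisOn_of_locally _ (fun x hx => ?_)
  obtain ⟨U₀, e₀, hxU₀, he₀⟩ := exists_basis_of_isInvertible hM x
  set f := he₀.coord le_rfl (SecTwist.val a U₀) with hf_def
  have hf : SecTwist.val a U₀ = f • e₀ := by
    have := he₀.coord_smul le_rfl (SecTwist.val a U₀)
    rw [mres_self] at this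
    exact this.symm
  have hD := genLocus_inf_eq_basicOpen a he₀ f hf
  have hDle : X.basicOpen f ≤ CohB1.genLocus M a := by rw [← hD]; exact inf_le_left
  have hDU : X.basicOpen f ≤ U₀ := X.basicOpen_le f
  refine ⟨X.basicOpen f, hDle, by rw [← hD]; exact ⟨hx, hxU₀⟩, ?_⟩
  have h1 : mres M hDle (SecTwist.val a (CohB1.genLocus M a)) =
      rres X hDU f • mres M hDU e₀ := by
    rw [mres_val, ← mres_val a hDU, hf, mres_smul]
  rw [h1]
  refine isBasisOn_smul_of_isUnit (he₀.mono hDU) _ ?_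
  exact (isUnit_res_iff_le_basicOpen hDU f).2 le_rfl

end Groth.Agent.H67.BasisLocal
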