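import Groth.Agent.S0505
import Mathlib.RingTheory.Henselian
import Mathlib.RingTheory.Finiteness.Basic
import Mathlib.Algebra.Algebra.Equiv
import Mathlib.RingTheory.LocalRing.RingHom.Basic

/-!
# A finite local algebra over a henselian local ring is henselian (universe polymorphic)
-/

set_option autoImplicit false

namespace Groth.Agent.H67.HenselFinite

open Polynomial IsLocalRing

universe u v w

/-- `HenselianLocalRing` transfers along ring isomorphisms. -/
theorem henselian_of_ringEquiv {S : Type u} {S' : Type v} [CommRing S] [CommRing S']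
    (φ : S ≃+* S') [HenselianLocalRing S] : HenselianLocalRing S' := by
  haveI : IsLocalRing S' := φ.isLocalRing
  have hmem : ∀ x : S', x ∈ maximalIdeal S' → φ.symm x ∈ maximalIdeal S := by
    intro x hx
    rw [mem_maximalIdeal, mem_nonunits_iff] at hx ⊢
    intro h
    apply hx
    have := h.map φ
    simpa using this
  have hmem' : ∀ x : S, x ∈ maximalIdeal S → φ x ∈ maximalIdeal S' := by
    intro x hx
    rw [mem_maximalIdeal, mem_nonunits_iff] at hx ⊢
    intro h
    apply hx
    have := h.map φ.symm
    simpa using this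
  refine { is_henselian := ?_ }
  intro f hf a₀ h0 hu
  let ψ : S' →+* S := φ.symm.toRingHom
  have h1 : (f.map ψ).eval (ψ a₀) ∈ maximalIdeal S := by
    rw [eval_map_apply]
    exact hmem _ h0
  have h2 : IsUnit ((f.map ψ).derivative.eval (ψ a₀)) := by
    rw [derivative_map, eval_map_apply]
    exact hu.map ψ
  obtain ⟨b, hb, hb'⟩ := HenselianLocalRing.is_henselian (f.map ψ) (hf.map ψ) (ψ a₀) h1 h2
  refine ⟨φ b, ?_, ?_⟩
  · have h3 : f = (f.map ψ).map φ.toRingHom := by
      rw [Polynomial.map_map]
      have : φ.toRingHom.comp ψ = RingHom.id S' := by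
        ext x
        simp [ψ]
      rw [this, Polynomial.map_id]
    rw [IsRoot.def, h3]
    change ((f.map ψ).map φ.toRingHom).eval (φ.toRingHom b) = 0
    rw [eval_map_apply, hb.eq_zero, map_zero]
  · have : φ b - a₀ = φ (b - ψ a₀) := by
      rw [map_sub]
      simp [ψ]
    rw [this]
    exact hmem' _ hb'

/-- A local ring which is finite over a henselian local ring is henselian
(universe-polymorphic version of `Groth.Agent.S0505.result`). -/
theorem henselian_of_finite (R : Type u) [CommRing R] [HenselianLocalRing R]
    (S : Type v) [CommRing S] [IsLocalRing S] [Algebra R S] [Module.Finite R S] :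
    HenselianLocalRing S := by
  let eR : ULift.{v} R ≃+* R := ULift.ringEquiv
  let eS : ULift.{u} S ≃+* S := ULift.ringEquiv
  haveI : HenselianLocalRing (ULift.{v} R) := henselian_of_ringEquiv eR.symm
  haveI : IsLocalRing (ULift.{u} S) := eS.symm.isLocalRing
  let alg : Algebra (ULift.{v} R) (ULift.{u} S) :=
    (eS.symm.toRingHom.comp ((algebraMap R S).comp eR.toRingHom)).toAlgebra
  have fin : @Module.Finite (ULift.{v} R) (ULift.{u} S) _ _ alg.toModule := by
    refine @Module.Finite.of_equiv_equiv R S (ULift.{v} R) (ULift.{u} S) _ _ _ _ _ alg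
      eR.symm eS.symm ?_ _
    ext x
    rfl
  haveI : HenselianLocalRing (ULift.{u} S) :=
    @Groth.Agent.S0505.result (ULift.{v} R) _ _ (ULift.{u} S) _ _ alg fin
  exact henselian_of_ringEquiv eS

end Groth.Agent.H67.HenselFinite
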