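import Groth.Agent.H67.GenLocusAffine
import Groth.Agent.H92.LocFreeRank
import Groth.Prelude.Def_ClSub2
import Mathlib.Algebra.Category.ModuleCat.Sheaf.PullbackFree
import Mathlib.CategoryTheory.Limits.Final
import Mathlib.CategoryTheory.Filtered.Final

/-!
# The unit `N ⟶ f_* f^* N` is an isomorphism for finite locally free `N` when `O_S ≅ f_* O_X`
-/

set_option autoImplicit false
set_option linter.style.haveILetI false
universe u
open CategoryTheory CategoryTheory.Limits AlgebraicGeometry TopologicalSpace Opposite

namespace Groth.Agent.H67.UnitIso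

open Scheme.Modules

variable {X S : Scheme.{u}} (f : X ⟶ S)

instance final_opensMap : (Opens.map f.base).Final := by
  apply Functor.final_of_exists_of_isFiltered
  · intro V
    exact ⟨⊤, ⟨homOfLE le_top⟩⟩
  · intro V U s s'
    exact ⟨U, 𝟙 U, Subsingleton.elim _ _⟩

instance isRightAdjoint_pushforward :
    (SheafOfModules.pushforward.{u} f.toRingCatSheafHom).IsRightAdjoint :=
  inferInstanceAs ((Scheme.Modules.pushforward f).IsRightAdjoint)

/-- the canonical map `f^* O_S ⟶ O_X` -/
noncomputable def pullbackUnitHom :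
    (Scheme.Modules.pullback f).obj (Coh.structureModule S) ⟶ Coh.structureModule X :=
  SheafOfModules.pullbackObjUnitToUnit f.toRingCatSheafHom

instance : IsIso (pullbackUnitHom f) :=
  SheafOfModules.instIsIsoPullbackObjUnitToUnitOfFinal f.toRingCatSheafHom

/-- the canonical map `O_S ⟶ f_* O_X` (Mathlib's version) -/
noncomputable def unitToPush' :
    Coh.structureModule S ⟶ (Scheme.Modules.pushforward f).obj (Coh.structureModule X) :=
  SheafOfModules.unitToPushforwardObjUnit f.toRingCatSheafHom

lemma unitToPush'_app_apply (U : S.Opens) (a : Γ(S, U)) :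
    (unitToPush' f).app U a = f.app U a := rfl

lemma unit_comp_pushforward_pullbackUnitHom :
    (Scheme.Modules.pullbackPushforwardAdjunction f).unit.app (Coh.structureModule S) ≫
      (Scheme.Modules.pushforward f).map (pullbackUnitHom f) = unitToPush' f := by
  have h := SheafOfModules.pullbackPushforwardAdjunction_homEquiv_pullbackObjUnitToUnit
    f.toRingCatSheafHom
  rw [Adjunction.homEquiv_unit] at h
  exact h


section Free

variable (hf : ∀ U : S.Opens, Function.Bijective (f.app U))

include hf in
theorem isIso_unitToPush' : IsIso (unitToPush' f) := by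
  rw [Hom.isIso_iff_isIso_app]
  intro U
  rw [ConcreteCategory.isIso_iff_bijective]
  exact hf U

include hf in
/-- the unit at the structure module is an isomorphism when `O_S ≅ f_* O_X` -/
theorem isIso_unit_structure :
    IsIso ((Scheme.Modules.pullbackPushforwardAdjunction f).unit.app (Coh.structureModule S)) := by
  haveI := isIso_unitToPush' f hf
  have h := unit_comp_pushforward_pullbackUnitHom f
  haveI : IsIso ((Scheme.Modules.pullbackPushforwardAdjunction f).unit.app (Coh.structureModule S) ≫
      (Scheme.Modules.pushforward f).map (pullbackUnitHom f)) := by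
    rw [h]
    infer_instance
  exact IsIso.of_isIso_comp_right _ ((Scheme.Modules.pushforward f).map (pullbackUnitHom f))

/-- the unit of an adjunction at a coproduct preserved by the monad is an isomorphism as soon as it
is at each summand -/
theorem isIso_unit_sigma {C D : Type*} [Category C] [Category D] {L : C ⥤ D} {R : D ⥤ C}
    (adj : L ⊣ R) {ι : Type} (N : ι → C) [HasCoproductsOfShape ι C]
    [PreservesColimit (Discrete.functor N) (L ⋙ R)] (h : ∀ i, IsIso (adj.unit.app (N i))) :
    IsIso (adj.unit.app (∐ N)) := by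
  let η : ∀ i, N i ⟶ (L ⋙ R).obj (N i) := fun i => adj.unit.app (N i)
  haveI : ∀ i, IsIso (η i) := h
  let e : ∐ N ≅ ∐ fun i => (L ⋙ R).obj (N i) := Limits.Sigma.mapIso (fun i => asIso (η i))
  have key : adj.unit.app (∐ N) = e.hom ≫ sigmaComparison (L ⋙ R) N := by
    refine Limits.Sigma.hom_ext _ _ (fun i => ?_)
    have h1 : Sigma.ι N i ≫ e.hom = η i ≫ Sigma.ι (fun i => (L ⋙ R).obj (N i)) i := by
      simp [e]
    have h2 : Sigma.ι (fun i => (L ⋙ R).obj (N i)) i ≫ sigmaComparison (L ⋙ R) N =
        (L ⋙ R).map (Sigma.ι N i) := ι_comp_sigmaComparison (L ⋙ R) N i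
    calc Sigma.ι N i ≫ adj.unit.app (∐ N) = η i ≫ (L ⋙ R).map (Sigma.ι N i) :=
          adj.unit.naturality (Sigma.ι N i)
      _ = η i ≫ Sigma.ι (fun i => (L ⋙ R).obj (N i)) i ≫ sigmaComparison (L ⋙ R) N := by
          rw [h2]
      _ = Sigma.ι N i ≫ e.hom ≫ sigmaComparison (L ⋙ R) N := by
          rw [← Category.assoc, ← h1, Category.assoc]
  rw [key]
  infer_instance

include hf in
theorem isIso_unit_freeMod (n : ℕ) :
    IsIso ((Scheme.Modules.pullbackPushforwardAdjunction f).unit.app (FlatMod.freeMod S n)) :=
  isIso_unit_sigma (Scheme.Modules.pullbackPushforwardAdjunction f)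
    (fun _ : Fin n => Coh.structureModule S) (fun _ => isIso_unit_structure f hf)

end Free


section Local

/-- pullback commutes with restriction to opens -/
noncomputable def pullbackRestrictIso (V : S.Opens) :
    Scheme.Modules.pullback f ⋙ restrictFunctor (f ⁻¹ᵁ V).ι ≅
      restrictFunctor V.ι ⋙ Scheme.Modules.pullback (f ∣_ V) :=
  Functor.isoWhiskerLeft (Scheme.Modules.pullback f) (restrictFunctorIsoPullback (f ⁻¹ᵁ V).ι) ≪≫
    pullbackComp (f ⁻¹ᵁ V).ι f ≪≫
    pullbackCongr (morphismRestrict_ι f V).symm ≪≫
    (pullbackComp (f ∣_ V) V.ι).symm ≪≫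
    Functor.isoWhiskerRight (restrictFunctorIsoPullback V.ι).symm (Scheme.Modules.pullback (f ∣_ V))

/-- a morphism which is an isomorphism over `V` pulls back to a morphism which is an isomorphism
over `f⁻¹ V` -/
theorem isIso_restrict_pullback_map {P Q : S.Modules} (ψ : P ⟶ Q) (V : S.Opens)
    [h : IsIso ((restrictFunctor V.ι).map ψ)] :
    IsIso ((restrictFunctor (f ⁻¹ᵁ V).ι).map ((Scheme.Modules.pullback f).map ψ)) := by
  have h1 := NatIso.isIso_map_iff (pullbackRestrictIso f V) ψ
  have h2 : IsIso ((restrictFunctor V.ι ⋙ Scheme.Modules.pullback (f ∣_ V)).map ψ) := by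
    rw [Functor.comp_map]
    infer_instance
  exact h1.2 h2

/-- the monad `f_* f^*` preserves morphisms which are isomorphisms over `V` -/
theorem isIso_restrict_monad_map {P Q : S.Modules} (ψ : P ⟶ Q) (V : S.Opens)
    [h : IsIso ((restrictFunctor V.ι).map ψ)] :
    IsIso ((restrictFunctor V.ι).map
      ((Scheme.Modules.pushforward f).map ((Scheme.Modules.pullback f).map ψ))) := by
  have h1 := isIso_restrict_pullback_map f ψ V
  rw [GenLocusAffine.isIso_restrict_iff] at h1 ⊢
  intro W hW
  exact h1 (f ⁻¹ᵁ W) (fun x hx => hW hx)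

/-- the property "the unit is an isomorphism over `V`" transfers along morphisms which are
isomorphisms over `V` -/
theorem isIso_restrict_unit_iff {P Q : S.Modules} (ψ : P ⟶ Q) (V : S.Opens)
    [h : IsIso ((restrictFunctor V.ι).map ψ)] :
    IsIso ((restrictFunctor V.ι).map
        ((Scheme.Modules.pullbackPushforwardAdjunction f).unit.app P)) ↔
      IsIso ((restrictFunctor V.ι).map
        ((Scheme.Modules.pullbackPushforwardAdjunction f).unit.app Q)) := by
  have nat := (Scheme.Modules.pullbackPushforwardAdjunction f).unit.naturality ψ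
  simp only [Functor.id_map, Functor.comp_map] at nat
  have nat' := congrArg (fun g => (restrictFunctor V.ι).map g) nat
  simp only [Functor.map_comp] at nat'
  haveI := isIso_restrict_monad_map f ψ V
  constructor
  · intro hP
    haveI : IsIso ((restrictFunctor V.ι).map ψ ≫ (restrictFunctor V.ι).map
        ((Scheme.Modules.pullbackPushforwardAdjunction f).unit.app Q)) := by
      rw [nat']
      infer_instance
    exact IsIso.of_isIso_comp_left ((restrictFunctor V.ι).map ψ) _
  · intro hQ
    haveI : IsIso ((restrictFunctor V.ι).map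
        ((Scheme.Modules.pullbackPushforwardAdjunction f).unit.app P) ≫ (restrictFunctor V.ι).map
        ((Scheme.Modules.pushforward f).map ((Scheme.Modules.pullback f).map ψ))) := by
      rw [← nat']
      infer_instance
    exact IsIso.of_isIso_comp_right _ ((restrictFunctor V.ι).map
        ((Scheme.Modules.pushforward f).map ((Scheme.Modules.pullback f).map ψ)))

/-- the restriction to `V` of the unit `N ⟶ j_* j^* N` is an isomorphism -/
instance isIso_restrict_restrictUnit (N : S.Modules) (V : S.Opens) :
    IsIso ((restrictFunctor V.ι).map ((restrictAdjunction V.ι).unit.app N)) := by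
  have h := (restrictAdjunction V.ι).left_triangle_components N
  haveI : IsIso ((restrictFunctor V.ι).map ((restrictAdjunction V.ι).unit.app N) ≫
      (restrictAdjunction V.ι).counit.app ((restrictFunctor V.ι).obj N)) := by
    rw [h]
    infer_instance
  exact IsIso.of_isIso_comp_right _
    ((restrictAdjunction V.ι).counit.app ((restrictFunctor V.ι).obj N))

end Local


section Main

/-- being an isomorphism is local -/
theorem isIso_of_isIso_restrict {M N : S.Modules} (φ : M ⟶ N)
    (h : ∀ x : S, ∃ V : S.Opens, x ∈ V ∧ IsIso ((restrictFunctor V.ι).map φ)) : IsIso φ := by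
  rw [Hom.isIso_iff_isIso_app]
  intro U
  rw [ConcreteCategory.isIso_iff_bijective]
  let F : TopCat.Sheaf Ab S := ⟨M.presheaf, M.isSheaf⟩
  let G : TopCat.Sheaf Ab S := ⟨N.presheaf, N.isSheaf⟩
  let g : F ⟶ G := ⟨φ.mapPresheaf⟩
  refine TopCat.Presheaf.app_bijective_of_stalkFunctor_map_bijective g U (fun x _ => ?_)
  obtain ⟨V, hxV, hV⟩ := h x
  have h1 := NatIso.isIso_map_iff (restrictStalkNatIso V.ι ⟨x, hxV⟩) φ
  have h2 : IsIso ((restrictFunctor V.ι ⋙ toPresheaf _ ⋙
      TopCat.Presheaf.stalkFunctor _ (⟨x, hxV⟩ : V)).map φ) := by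
    rw [Functor.comp_map]
    infer_instance
  have h3 := h1.1 h2
  exact (ConcreteCategory.isIso_iff_bijective _).1 h3

variable (hf : ∀ U : S.Opens, Function.Bijective (f.app U))

include hf in
theorem isIso_restrict_unit_of_free (N : S.Modules) (V : S.Opens) (n : ℕ)
    (e : N.restrict V.ι ≅ FlatMod.freeMod (V : Scheme.{u}) n) :
    IsIso ((restrictFunctor V.ι).map
      ((Scheme.Modules.pullbackPushforwardAdjunction f).unit.app N)) := by
  let F := FlatMod.freeMod S n
  let e' : (restrictFunctor V.ι).obj N ≅ (restrictFunctor V.ι).obj F :=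
    e ≪≫ (Groth.Agent.H92.LocFreeRank.restrictFreeIso V.ι n).symm
  let M := (Scheme.Modules.pushforward V.ι).obj ((restrictFunctor V.ι).obj N)
  let ψ₁ : N ⟶ M := (restrictAdjunction V.ι).unit.app N
  let ψ₂ : F ⟶ M := (restrictAdjunction V.ι).unit.app F ≫
    (Scheme.Modules.pushforward V.ι).map e'.inv
  haveI : IsIso ((restrictFunctor V.ι).map ψ₂) := by
    rw [Functor.map_comp]
    infer_instance
  haveI : IsIso ((restrictFunctor V.ι).map ψ₁) := isIso_restrict_restrictUnit N V
  have hF : IsIso ((restrictFunctor V.ι).map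
      ((Scheme.Modules.pullbackPushforwardAdjunction f).unit.app F)) := by
    haveI := isIso_unit_freeMod f hf n
    infer_instance
  have hM := (isIso_restrict_unit_iff f ψ₂ V).1 hF
  exact (isIso_restrict_unit_iff f ψ₁ V).2 hM

include hf in
/-- **The unit `N ⟶ f_* f^* N` is an isomorphism for finite locally free `N` when
`O_S ≅ f_* O_X`.** -/
theorem isIso_unit_of_isFinLocFree (N : S.Modules) (hN : FlatMod.IsFinLocFree N) :
    IsIso ((Scheme.Modules.pullbackPushforwardAdjunction f).unit.app N) := by
  refine isIso_of_isIso_restrict _ (fun x => ?_)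
  obtain ⟨V, n, hxV, ⟨e⟩⟩ := hN x
  exact ⟨V, hxV, isIso_restrict_unit_of_free f hf N V n e⟩

include hf in
/-- pullback along `f` is fully faithful on morphisms into a finite locally free module -/
theorem pullback_map_bijective (N N' : S.Modules) (hN' : FlatMod.IsFinLocFree N') :
    Function.Bijective (fun φ : N ⟶ N' => (Scheme.Modules.pullback f).map φ) := by
  have hiso := isIso_unit_of_isFinLocFree f hf N' hN'
  have key : (fun φ : N ⟶ N' => (Scheme.Modules.pullback f).map φ) =
      ((Scheme.Modules.pullbackPushforwardAdjunction f).homEquiv N _).symm ∘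
        (fun φ => φ ≫ (Scheme.Modules.pullbackPushforwardAdjunction f).unit.app N') := by
    funext φ
    simp only [Function.comp]
    rw [Equiv.eq_symm_apply, Adjunction.homEquiv_unit]
    exact ((Scheme.Modules.pullbackPushforwardAdjunction f).unit.naturality φ).symm
  rw [key]
  refine (Equiv.bijective _).comp ⟨fun a b hab => (cancel_mono _).1 hab,
    fun ψ => ⟨ψ ≫ inv ((Scheme.Modules.pullbackPushforwardAdjunction f).unit.app N'), ?_⟩⟩
  simp

end Main

end Groth.Agent.H67.UnitIso
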