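import Groth.Agent.H67.PullGenLocus
import Groth.Agent.H5.PullbackTensor
import Groth.Prelude.Def_PicGrp
import Groth.Prelude.Def_LCI2
import Groth.Agent.H18.STL.Inverse

/-!
# Pullback of an ample invertible module along a quasi-compact topological embedding
-/

set_option autoImplicit false
set_option linter.style.haveILetI false
universe u
open CategoryTheory AlgebraicGeometry TopologicalSpace Opposite

namespace Groth.Agent.H67.AmplePullback

open Groth.Agent.H18 Groth.Agent.H18.PUP Groth.Agent.H18.STL Groth.Agent.H44 Scheme.Modules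
open Groth.Agent.H67.PullBasis Groth.Agent.H67.PullGenLocus

variable {Z S : Scheme.{u}} (u : Z ⟶ S)

/-- the pullback of an invertible module is invertible -/
theorem isInvertible_pullback {L : S.Modules} (hL : PicF.IsInvertible L) :
    PicF.IsInvertible ((pullback u).obj L) := by
  refine isInvertible_of_local_bases _ (fun z => ?_)
  obtain ⟨W, e₀, hxW, he₀⟩ := exists_basis_of_isInvertible hL (u z)
  exact ⟨u ⁻¹ᵁ W, OmegaSh.pullSect u L W e₀, hxW, isBasisOn_pullSect u L W e₀ he₀⟩

/-- pullback commutes with tensor powers -/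
theorem nonempty_pullback_tensorPow_iso (L : S.Modules) (n : ℕ) :
    Nonempty ((pullback u).obj (CohB1.tensorPow L n) ≅ CohB1.tensorPow ((pullback u).obj L) n) := by
  induction n with
  | zero => exact ⟨(asIso (Groth.Agent.H54.PB.unitMap u)).symm⟩
  | succ n ih =>
    obtain ⟨φ⟩ := ih
    exact ⟨Groth.Agent.H5.PullbackTensor.pullbackTensorIso u (CohB1.tensorPow L n) L ≪≫
      PicGrp.tensorModIso φ (Iso.refl _)⟩

/-- sections of tensor powers pull back, with the preimage locus of generation -/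
theorem exists_pullback_section {L : S.Modules} (hL : PicF.IsInvertible L) (n : ℕ)
    (b : Coh.structureModule S ⟶ CohB1.tensorPow L n) :
    ∃ s' : Coh.structureModule Z ⟶ CohB1.tensorPow ((pullback u).obj L) n,
      CohB1.genLocus _ s' = u ⁻¹ᵁ CohB1.genLocus _ b := by
  obtain ⟨φ⟩ := nonempty_pullback_tensorPow_iso u L n
  refine ⟨(Groth.Agent.H54.PB.unitMap u ≫ (pullback u).map b) ≫ φ.hom, ?_⟩
  rw [genLocus_comp_iso]
  exact genLocus_pullback u _ (isInvertible_tensorPow hL n) b
    (asIso (Groth.Agent.H54.PB.unitMap u))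

/-- Stacks 0892 (4): the pullback of an ample module along a morphism from a quasi-compact scheme
which is a homeomorphism onto its image is ample -/
theorem isAmple_pullback_of_isEmbedding [CompactSpace Z] (hi : Topology.IsEmbedding u)
    (L : S.Modules) (hL : CohB1.IsAmple L) : CohB1.IsAmple ((pullback u).obj L) := by
  have hinv := isInvertible_pullback u hL.1
  refine ⟨hinv, inferInstance, fun z => ?_⟩
  obtain ⟨A', hA', hzA'⟩ : ∃ A' : Z.Opens, IsAffineOpen A' ∧ z ∈ A' := by
    have hz : z ∈ (⊤ : Z.Opens) := trivial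
    obtain ⟨A', hA', hz', -⟩ := (Opens.isBasis_iff_nbhd.1 Z.isBasis_affineOpens) hz
    exact ⟨A', hA', hz'⟩
  obtain ⟨B, hB, hBA⟩ := hi.isOpen_iff.1 A'.2
  have hzB : u z ∈ (⟨B, hB⟩ : S.Opens) := by
    have : z ∈ (u : Z → S) ⁻¹' B := by rw [hBA]; exact hzA'
    exact this
  obtain ⟨k, b, hxb, hbB, -⟩ := exists_genLocus_nhd_of_isAmple hL ⟨B, hB⟩ (u z) hzB
  obtain ⟨s', hs'⟩ := exists_pullback_section u hL.1 (k + 1) b
  have hle : CohB1.genLocus _ s' ≤ A' := by
    rw [hs']
    intro w hw
    have h1 : u w ∈ B := hbB hw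
    have : w ∈ (u : Z → S) ⁻¹' B := h1
    rw [hBA] at this
    exact this
  refine ⟨k, s', ?_, ?_⟩
  · rw [hs']; exact hxb
  · exact isAffineOpen_genLocus_of_le (isInvertible_tensorPow hinv _) s' hA' hle

/-- EGA II 4.6.13 (i bis): relative ampleness is preserved by pullback along a quasi-compact
topological embedding -/
theorem isRelAmple_pullback_of_isEmbedding {X X' Y : Scheme.{u}} (f : X ⟶ Y) [QuasiCompact f]
    (j : X' ⟶ X) [QuasiCompact j] (hj : Topology.IsEmbedding j) (L : X.Modules)
    (hL : RelAmple.IsRelAmple f L) :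
    RelAmple.IsRelAmple (j ≫ f) ((pullback j).obj L) := by
  refine ⟨inferInstance, fun V => ?_⟩
  have h1 : CohB1.IsAmple (L.restrict (f ⁻¹ᵁ V.1).ι) := hL.2 V
  -- the restriction of `j`
  have hemb : Topology.IsEmbedding (j ∣_ (f ⁻¹ᵁ V.1)) := by
    rw [morphismRestrict_base]
    exact hj.restrictPreimage _
  haveI : CompactSpace ((j ⁻¹ᵁ (f ⁻¹ᵁ V.1) : X'.Opens) : Scheme.{u}) := by
    have : IsCompact ((j ≫ f) ⁻¹ᵁ V.1 : Set X') := (j ≫ f).isCompact_preimage V.2.isCompact
    exact isCompact_iff_compactSpace.mp this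
  have h2 := isAmple_pullback_of_isEmbedding (j ∣_ (f ⁻¹ᵁ V.1)) hemb _ h1
  exact isAmple_of_iso (pbRestrictIso j (f ⁻¹ᵁ V.1) L).symm h2

end Groth.Agent.H67.AmplePullback
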