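import Groth.Agent.H67.SumSections

/-!
# Ample invertible modules: a finite set of points in an open lies in an affine `X_s` inside it
-/

set_option autoImplicit false
set_option linter.style.haveILetI false
universe u
open CategoryTheory CategoryTheory.Limits AlgebraicGeometry TopologicalSpace Opposite

namespace Groth.Agent.H67.AmpleFinite

open Groth.Agent.H18 Groth.Agent.H18.PUP Groth.Agent.H18.STL Groth.Agent.H67.BasisLocal
open Groth.Agent.H67.SumSections

variable {X : Scheme.{u}}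

theorem exists_mem_genLocus_of_mem_sum {M : X.Modules} (hM : PicF.IsInvertible M) {ι : Type*}
    (F : Finset ι) (a : ι → (Coh.structureModule X ⟶ M)) (x : X)
    (hx : x ∈ CohB1.genLocus M (∑ i ∈ F, a i)) : ∃ i ∈ F, x ∈ CohB1.genLocus M (a i) := by
  classical
  induction F using Finset.induction_on with
  | empty =>
    rw [Finset.sum_empty, genLocus_zero hM] at hx
    exact absurd hx (by simp)
  | insert j F hj ih =>
    rw [Finset.sum_insert hj] at hx
    rcases genLocus_add_le hM _ _ hx with h | h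
    · exact ⟨j, Finset.mem_insert_self _ _, h⟩
    · obtain ⟨i, hi, hxi⟩ := ih h
      exact ⟨i, Finset.mem_insert_of_mem hi, hxi⟩

theorem isAffineOpen_genLocus_sum {M : X.Modules} (hM : PicF.IsInvertible M) {ι : Type*}
    (F : Finset ι) (a : ι → (Coh.structureModule X ⟶ M))
    (h : ∀ i ∈ F, IsAffineOpen (CohB1.genLocus M (a i))) :
    IsAffineOpen (CohB1.genLocus M (∑ i ∈ F, a i)) := by
  classical
  induction F using Finset.induction_on with
  | empty =>
    rw [Finset.sum_empty, genLocus_zero hM]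
    exact isAffineOpen_bot X
  | insert j F hj ih =>
    rw [Finset.sum_insert hj]
    exact isAffineOpen_genLocus_add hM _ _ (h j (Finset.mem_insert_self _ _))
      (ih (fun i hi => h i (Finset.mem_insert_of_mem hi)))

theorem mem_genLocus_sum {M : X.Modules} (hM : PicF.IsInvertible M) {ι : Type*}
    (F : Finset ι) (a : ι → (Coh.structureModule X ⟶ M)) (x : X) (i₀ : ι) (hi₀ : i₀ ∈ F)
    (h₀ : x ∈ CohB1.genLocus M (a i₀))
    (h : ∀ i ∈ F, i ≠ i₀ → x ∉ CohB1.genLocus M (a i)) :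
    x ∈ CohB1.genLocus M (∑ i ∈ F, a i) := by
  classical
  rw [← Finset.add_sum_erase F a hi₀]
  refine mem_genLocus_add hM _ _ x h₀ (fun hcon => ?_)
  obtain ⟨i, hi, hxi⟩ := exists_mem_genLocus_of_mem_sum hM _ a x hcon
  exact h i (Finset.mem_of_mem_erase hi) (Finset.ne_of_mem_erase hi) hxi

/-- reduction of a finite set of points to its most special points -/
theorem exists_antichain (Z : Set X) (hZ : Z.Finite) :
    ∃ Z₀ : Set X, Z₀ ⊆ Z ∧ (∀ z ∈ Z, ∃ z₀ ∈ Z₀, z ⤳ z₀) ∧
      (∀ z ∈ Z₀, ∀ z' ∈ Z₀, z ⤳ z' → z = z') := by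
  letI := specializationPreorder X
  refine ⟨{z | Minimal (· ∈ Z) z}, fun z hz => hz.1, fun z hz => ?_, fun z hz z' hz' h => ?_⟩
  · obtain ⟨b, hb, hmin⟩ := hZ.exists_le_minimal hz
    exact ⟨b, hmin, hb⟩
  · have h1 : z' ≤ z := h
    have h2 : z ≤ z' := hz.2 hz'.1 h1
    exact (Specializes.antisymm h h2).eq

/-- transfer of a section of `L^{⊗(k+1)}` to a section of a multiple power, with the same locus -/
theorem exists_power_transfer {L : X.Modules} (hL : PicF.IsInvertible L) (k m' N : ℕ)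
    (hN : N = (k + 1) * (m' + 1)) (s : Coh.structureModule X ⟶ CohB1.tensorPow L (k + 1)) :
    ∃ a : Coh.structureModule X ⟶ CohB1.tensorPow L N,
      CohB1.genLocus _ a = CohB1.genLocus _ s := by
  subst hN
  obtain ⟨𝔄⟩ := nonempty_atlas hL
  have w₀ := hasWeight_tensorPow 𝔄 ((k + 1) * (m' + 1))
  have w₁ := (hasWeight_tensorPow 𝔄 (k + 1)).lpow (m' + 1)
  obtain ⟨a, -, ha⟩ := w₁.exists_transfer w₀ (SecTwist.powHom s (m' + 1))
  exact ⟨a, ha.trans (Groth.Agent.H67.SepCover.genLocus_powHom (isInvertible_tensorPow hL _) s m')⟩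

/-- EGA II 4.5.4: for an ample `L`, a finite set of points contained in an open `U` is contained
in an affine open `X_s ⊆ U` -/
theorem exists_affine_genLocus_of_finite {L : X.Modules} (hA : CohB1.IsAmple L)
    (Z : Set X) (hZ : Z.Finite) (U : X.Opens) (hZU : Z ⊆ U) :
    ∃ (n : ℕ) (s : Coh.structureModule X ⟶ CohB1.tensorPow L (n + 1)),
      Z ⊆ CohB1.genLocus _ s ∧ (CohB1.genLocus _ s : Set X) ⊆ U ∧
        IsAffineOpen (CohB1.genLocus _ s) := by
  classical
  have hL : PicF.IsInvertible L := hA.1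
  obtain ⟨Z₀, hZ₀Z, hspec, hanti⟩ := exists_antichain Z hZ
  have hZ₀fin : Z₀.Finite := hZ.subset hZ₀Z
  haveI : Fintype Z₀ := hZ₀fin.fintype
  -- the sections attached to the points of `Z₀`
  have hpt : ∀ z : Z₀, ∃ (k : ℕ) (t : Coh.structureModule X ⟶ CohB1.tensorPow L (k + 1)),
      z.1 ∈ CohB1.genLocus _ t ∧ (CohB1.genLocus _ t : Set X) ⊆ U ∧
        IsAffineOpen (CohB1.genLocus _ t) ∧
        ∀ z' : Z₀, z' ≠ z → z'.1 ∉ CohB1.genLocus _ t := by
    intro z
    -- the open `U` minus the closures of the other points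
    let C : Set X := ⋃ z' ∈ (Finset.univ.erase z : Finset Z₀), closure ({z'.1} : Set X)
    have hC : IsClosed C :=
      Set.Finite.isClosed_biUnion (Finset.finite_toSet _) (fun _ _ => isClosed_closure)
    let U' : X.Opens := U ⊓ ⟨Cᶜ, hC.isOpen_compl⟩
    have hzU' : z.1 ∈ U' := by
      refine ⟨hZU (hZ₀Z z.2), ?_⟩
      show z.1 ∉ C
      intro hzC
      simp only [C, Set.mem_iUnion] at hzC
      obtain ⟨z', hz', hzz'⟩ := hzC
      have : z'.1 ⤳ z.1 := specializes_iff_mem_closure.2 hzz'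
      have heq := hanti z'.1 z'.2 z.1 z.2 this
      exact (Finset.ne_of_mem_erase hz') (Subtype.ext heq)
    obtain ⟨k, t, hzt, htU', haff⟩ := exists_genLocus_nhd_of_isAmple hA U' z.1 hzU'
    refine ⟨k, t, hzt, fun x hx => (htU' hx).1, haff, fun z' hz' hcon => ?_⟩
    have h2 : z'.1 ∈ Cᶜ := (htU' hcon).2
    apply h2
    simp only [C, Set.mem_iUnion]
    exact ⟨z', Finset.mem_erase.2 ⟨hz', Finset.mem_univ _⟩, subset_closure rfl⟩
  choose k t hzt htU haff hother using hpt
  -- the common power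
  obtain ⟨n, hn⟩ : ∃ n, ∏ z : Z₀, (k z + 1) = n + 1 :=
    Nat.exists_eq_succ_of_ne_zero (Finset.prod_ne_zero_iff.2 (fun z _ => Nat.succ_ne_zero _))
  have hfac : ∀ z : Z₀, ∃ m' : ℕ, n + 1 = (k z + 1) * (m' + 1) := by
    intro z
    obtain ⟨m', hm'⟩ : ∃ m', ∏ z' ∈ Finset.univ.erase z, (k z' + 1) = m' + 1 :=
      Nat.exists_eq_succ_of_ne_zero (Finset.prod_ne_zero_iff.2 (fun z _ => Nat.succ_ne_zero _))
    refine ⟨m', ?_⟩
    rw [← hn, ← hm', Finset.mul_prod_erase Finset.univ (fun z => k z + 1) (Finset.mem_univ z)]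
  choose m' hm' using hfac
  have htr : ∀ z : Z₀, ∃ a : Coh.structureModule X ⟶ CohB1.tensorPow L (n + 1),
      CohB1.genLocus _ a = CohB1.genLocus _ (t z) :=
    fun z => exists_power_transfer hL (k z) (m' z) (n + 1) (hm' z) (t z)
  choose a ha using htr
  have hM : PicF.IsInvertible (CohB1.tensorPow L (n + 1)) := isInvertible_tensorPow hL _
  refine ⟨n, ∑ z : Z₀, a z, ?_, ?_, ?_⟩
  · -- contains `Z`
    intro z hz
    obtain ⟨z₀, hz₀, hzz₀⟩ := hspec z hz
    have hmem : z₀ ∈ CohB1.genLocus _ (∑ z : Z₀, a z) := by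
      refine mem_genLocus_sum hM Finset.univ a z₀ ⟨z₀, hz₀⟩ (Finset.mem_univ _) ?_ ?_
      · rw [ha]; exact hzt ⟨z₀, hz₀⟩
      · intro i _ hi
        rw [ha]
        exact hother i ⟨z₀, hz₀⟩ hi.symm
    exact hzz₀.mem_open (CohB1.genLocus _ (∑ z : Z₀, a z)).2 hmem
  · -- contained in `U`
    intro x hx
    obtain ⟨i, -, hxi⟩ := exists_mem_genLocus_of_mem_sum hM Finset.univ a x hx
    rw [ha] at hxi
    exact htU i hxi
  · exact isAffineOpen_genLocus_sum hM Finset.univ a (fun i _ => by rw [ha]; exact haff i)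

end Groth.Agent.H67.AmpleFinite
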