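import Groth.Agent.H67.FreeNearFibre
import Groth.Prelude.Def_Pic

/-!
# An invertible module upstairs of a finite morphism is trivial over the preimage of a
neighbourhood of any point downstairs
-/

set_option autoImplicit false
universe u
open CategoryTheory CategoryTheory.Limits AlgebraicGeometry TopologicalSpace Opposite

namespace Groth.Agent.H67.InvertibleNearFibre

open Scheme.Modules

/-- the free module of rank one is the structure module -/
noncomputable def freeModOneIso (X : Scheme.{u}) :
    FlatMod.freeMod X 1 ≅ Coh.structureModule X where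
  hom := Sigma.desc (fun _ => 𝟙 _)
  inv := Sigma.ι (fun _ : Fin 1 => Coh.structureModule X) 0
  hom_inv_id := by
    apply Sigma.hom_ext
    intro i
    have hi : i = 0 := Subsingleton.elim _ _
    subst hi
    simp
  inv_hom_id := by simp

theorem isFinLocFreeOfRank_one {X : Scheme.{u}} (L : X.Modules) (hL : PicF.IsInvertible L) :
    FlatMod.IsFinLocFreeOfRank 1 L := by
  intro x
  obtain ⟨U, hx, ⟨e⟩⟩ := hL x
  exact ⟨U, hx, ⟨e ≪≫ (freeModOneIso _).symm⟩⟩

theorem exists_trivial_preimage {X Y : Scheme.{u}} (π : X ⟶ Y) [IsFinite π]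
    (L : X.Modules) (hL : PicF.IsInvertible L) (y : Y) :
    ∃ V : Y.Opens, y ∈ V ∧
      Nonempty (L.restrict (π ⁻¹ᵁ V).ι ≅ Coh.structureModule (↑(π ⁻¹ᵁ V))) := by
  obtain ⟨V, hy, ⟨e⟩⟩ := FreeNearFibre.exists_free_preimage π 1 L (isFinLocFreeOfRank_one L hL) y
  exact ⟨V, hy, ⟨e ≪≫ freeModOneIso _⟩⟩

end Groth.Agent.H67.InvertibleNearFibre
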