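import Groth.Agent.H67.TorsionFreeLocFree
import Groth.Agent.H92.LocFreeRank
import Groth.Prelude.Def_Pi1

/-!
# The locus where a coherent module is locally free; torsion-free modules on normal schemes
-/

set_option autoImplicit false
set_option linter.style.haveILetI false
universe u
open CategoryTheory CategoryTheory.Limits AlgebraicGeometry TopologicalSpace Opposite

namespace Groth.Agent.H67.FreeLocus

open Scheme.Modules Groth.Agent.H44

section Algebra

open IsLocalRing

/-- a Noetherian integrally closed local domain of dimension at most one is a principal ideal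
domain -/
theorem isPrincipalIdealRing_of_normal (R : Type*) [CommRing R] [IsDomain R] [IsLocalRing R]
    [IsNoetherianRing R] [IsIntegrallyClosed R] (hdim : ringKrullDim R ≤ 1) :
    IsPrincipalIdealRing R := by
  have h1 : Ring.KrullDimLE 1 R := Ring.krullDimLE_iff.2 hdim
  haveI : (⊥ : Ideal R).IsPrime := Ideal.isPrime_bot
  have htfae := (tfae_of_isNoetherianRing_of_isLocalRing_of_isDomain R).out 0 3
  rw [htfae]
  refine ⟨inferInstance, fun P hP0 hPprime => ?_⟩
  exact IsLocalRing.eq_maximalIdeal (Ring.krullDimLE_one_iff_of_isPrime_bot.1 h1 P hP0 hPprime)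

end Algebra

variable {X : Scheme.{u}}

/-- the restriction to an open `U` of a module which is free near every point of `U` is finite
locally free -/
theorem isFinLocFree_restrict (M : X.Modules) (U : X.Opens)
    (h : ∀ x ∈ U, ∃ (W : X.Opens) (n : ℕ), x ∈ W ∧
      Nonempty (M.restrict W.ι ≅ FlatMod.freeMod (W : Scheme.{u}) n)) :
    FlatMod.IsFinLocFree (M.restrict U.ι) := by
  intro y
  obtain ⟨W0, n, hy, ⟨e0⟩⟩ := h y.1 y.2
  refine ⟨U.ι ⁻¹ᵁ W0, n, hy, ⟨?_⟩⟩
  have hc : (U.ι ⁻¹ᵁ W0).ι ≫ U.ι = (U.ι ∣_ W0) ≫ W0.ι := (morphismRestrict_ι U.ι W0).symm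
  exact ((restrictFunctorComp (U.ι ⁻¹ᵁ W0).ι U.ι).app M).symm ≪≫
    (restrictFunctorCongr hc).app M ≪≫
    (restrictFunctorComp (U.ι ∣_ W0) W0.ι).app M ≪≫
    (restrictFunctor (U.ι ∣_ W0)).mapIso e0 ≪≫
    Groth.Agent.H92.LocFreeRank.restrictFreeIso (U.ι ∣_ W0) n

/-- a quasi-coherent module with finitely presented sections over an affine open `V` whose stalk at
`x ∈ V` is free is free in a neighbourhood of `x` -/
theorem exists_free_nhds_of_free_stalk (F : X.Modules) [F.IsQuasicoherent] {V : X.Opens}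
    (hV : IsAffineOpen V) [Module.FinitePresentation Γ(X, V) Γ(F, V)] {x : X} (hx : x ∈ V)
    (hfree : Module.Free (X.presheaf.stalk x) (F.presheaf.stalk x)) :
    ∃ (U : X.Opens) (n : ℕ), x ∈ U ∧ Nonempty (F.restrict U.ι ≅ FlatMod.freeMod U.toScheme n) := by
  set p := (hV.primeIdealOf ⟨x, hx⟩).asIdeal with hp
  haveI : Module.Free (Localization.AtPrime p) (LocalizedModule p.primeCompl Γ(F, V)) :=
    Groth.Agent.H71.QCoh.free_localizedModule_of_free_stalk F hV hx hfree
  let I := Module.Free.ChooseBasisIndex (Localization.AtPrime p)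
    (LocalizedModule p.primeCompl Γ(F, V))
  let b : Module.Basis I (Localization.AtPrime p) (LocalizedModule p.primeCompl Γ(F, V)) :=
    Module.Free.chooseBasis _ _
  obtain ⟨r, hr, b', -⟩ := Module.FinitePresentation.exists_basis_localizedModule_powers
    p.primeCompl (LocalizedModule.mkLinearMap p.primeCompl Γ(F, V)) (Localization.AtPrime p) b
  letI := basicOpenModule F r
  haveI := isScalarTower_basicOpen F r
  haveI := isLocalizedModule_resBasicOpen F r hV
  haveI : IsLocalization (.powers r) Γ(X, X.basicOpen r) := hV.isLocalization_basicOpen r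
  let b'' : Module.Basis I Γ(X, X.basicOpen r) Γ(F, X.basicOpen r) :=
    basisOfLocalizedModule (.powers r) Γ(X, X.basicOpen r) (resBasicOpen F r) b'
  obtain ⟨iso⟩ := nonempty_iso_freeMod_of_basis F (hV.basicOpen r)
    (b''.reindex (Fintype.equivFin I))
  exact ⟨X.basicOpen r, Fintype.card I,
    (Groth.Agent.H8.notMem_primeIdealOf_iff hV hx r).mp hr, ⟨iso⟩⟩

/-- stalks of a quasi-coherent module with finite sections over an affine open are finite -/
theorem finite_stalk' (F : X.Modules) [F.IsQuasicoherent] {V : X.Opens} (hV : IsAffineOpen V)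
    [Module.Finite Γ(X, V) Γ(F, V)] {x : X} (hxV : x ∈ V) :
    Module.Finite (X.presheaf.stalk x) (F.presheaf.stalk x) := by
  letI := Groth.Agent.H8.stalkModule F hxV
  letI : Algebra Γ(X, V) (X.presheaf.stalk x) :=
    TopCat.Presheaf.algebra_section_stalk X.presheaf ⟨x, hxV⟩
  haveI : IsScalarTower Γ(X, V) (X.presheaf.stalk x) (F.presheaf.stalk x) :=
    IsScalarTower.of_algebraMap_smul (fun r m => rfl)
  haveI := hV.isLocalization_stalk ⟨x, hxV⟩
  haveI := Groth.Agent.H8.isLocalizedModule_germₗ F hV hxV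
  exact Module.Finite.of_isLocalizedModule (hV.primeIdealOf ⟨x, hxV⟩).asIdeal.primeCompl
    (Groth.Agent.H8.germₗ F hxV)

/-- A torsion-free coherent module on a normal locally Noetherian scheme is locally
free outside codimension two. -/
theorem exists_open_isFinLocFree [IsLocallyNoetherian X]
    (hX : Pi1.IsNormalScheme X) (M : X.Modules) (hM : Coh.IsCoh M)
    (htf : ∀ x : X, Module.IsTorsionFree (X.presheaf.stalk x) (M.presheaf.stalk x)) :
    ∃ U : X.Opens, (∀ x : X, x ∉ U → (2 : WithBot ℕ∞) ≤ ringKrullDim (X.presheaf.stalk x)) ∧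
      FlatMod.IsFinLocFree (M.restrict U.ι) := by
  haveI : M.IsQuasicoherent := hM.1
  haveI : SheafOfModules.IsFiniteType (R := X.ringCatSheaf) M := hM.2
  let U : X.Opens := sSup {W : X.Opens | ∃ n : ℕ,
    Nonempty (M.restrict W.ι ≅ FlatMod.freeMod (W : Scheme.{u}) n)}
  have hU : ∀ x ∈ U, ∃ (W : X.Opens) (n : ℕ), x ∈ W ∧
      Nonempty (M.restrict W.ι ≅ FlatMod.freeMod (W : Scheme.{u}) n) := by
    intro x hx
    obtain ⟨W, ⟨n, hn⟩, hxW⟩ := Opens.mem_sSup.1 hx
    exact ⟨W, n, hxW, hn⟩
  refine ⟨U, ?_, isFinLocFree_restrict M U hU⟩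
  intro x hxU
  by_contra hdim
  apply hxU
  have hdim1 : ringKrullDim (X.presheaf.stalk x) ≤ 1 := by
    have h2 : ringKrullDim (X.presheaf.stalk x) < 2 := not_le.1 hdim
    generalize ringKrullDim (X.presheaf.stalk x) = d at h2 ⊢
    induction d using WithBot.recBotCoe with
    | bot => exact bot_le
    | coe n =>
      have h3 : n < 2 := by
        have h2' : ((n : ℕ∞) : WithBot ℕ∞) < ((2 : ℕ∞) : WithBot ℕ∞) := h2
        exact WithBot.coe_lt_coe.1 h2'
      have h4 : n ≤ 1 := by
        have : n < 1 + 1 := by rwa [one_add_one_eq_two]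
        exact Order.le_of_lt_add_one this
      have h5 : ((n : ℕ∞) : WithBot ℕ∞) ≤ ((1 : ℕ∞) : WithBot ℕ∞) := WithBot.coe_le_coe.2 h4
      exact h5
  obtain ⟨_, ⟨V, hV, rfl⟩, hxV, -⟩ :=
    X.isBasis_affineOpens.exists_subset_of_mem_open (Set.mem_univ x) isOpen_univ
  haveI : Module.Finite Γ(X, V) Γ(M, V) := Groth.Agent.H44.finite_sections_of_isFiniteType M hV
  haveI : IsNoetherianRing Γ(X, V) := IsLocallyNoetherian.component_noetherian ⟨V, hV⟩
  haveI : Module.FinitePresentation Γ(X, V) Γ(M, V) := Module.finitePresentation_of_finite _ _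
  haveI := finite_stalk' M hV hxV
  haveI := (hX x).1
  haveI := (hX x).2
  haveI : IsPrincipalIdealRing (X.presheaf.stalk x) :=
    isPrincipalIdealRing_of_normal _ hdim1
  haveI := htf x
  have hfree : Module.Free (X.presheaf.stalk x) (M.presheaf.stalk x) :=
    Module.free_of_finite_type_torsion_free'
  obtain ⟨W, n, hxW, hW⟩ := exists_free_nhds_of_free_stalk M hV hxV hfree
  exact Opens.mem_sSup.2 ⟨W, ⟨n, hW⟩, hxW⟩

end Groth.Agent.H67.FreeLocus
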