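import Mathlib

/-!
# Algebra for the norm of a finite free algebra (helper67)

* `free_of_free_localizedModule` : transport of freeness from `LocalizedModule.Away r M` over
  `Localization.Away r` to any model of the localization.
* `norm_away` : the norm commutes with localization at an element (a repackaging of
  `Algebra.norm_localization`), and the localized algebra is again finite free.
* `exists_mul_eq_algebraMap_norm` : `algebraMap (norm s)` is a multiple of `s`.
-/

set_option autoImplicit false

namespace Groth.Agent.H67.NormFreeAlg

open Module

/-- transport of freeness to an arbitrary model of the localization at an element -/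
theorem free_of_free_localizedModule {A : Type*} [CommRing A] (r : A) {M : Type*} [AddCommGroup M]
    [Module A M] {A' : Type*} [CommRing A'] [Algebra A A'] [IsLocalization.Away r A']
    {M' : Type*} [AddCommGroup M'] [Module A M'] [Module A' M'] [IsScalarTower A A' M']
    (f : M →ₗ[A] M') [IsLocalizedModule (Submonoid.powers r) f]
    [Module.Free (Localization.Away r) (LocalizedModule.Away r M)] : Module.Free A' M' := by
  let σ : Localization.Away r ≃ₐ[A] A' := IsLocalization.algEquiv (Submonoid.powers r) _ _
  letI : Module (Localization.Away r) M' := Module.compHom M' (σ : Localization.Away r →+* A')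
  have hsmul : ∀ (c : Localization.Away r) (m : M'), c • m = σ c • m := fun _ _ => rfl
  haveI : IsScalarTower A (Localization.Away r) M' := ⟨fun a c m => by
    rw [hsmul, hsmul, map_smul, smul_assoc]⟩
  let e : LocalizedModule.Away r M ≃ₗ[A] M' := IsLocalizedModule.iso (Submonoid.powers r) f
  let e' : LocalizedModule.Away r M ≃ₗ[Localization.Away r] M' :=
    e.extendScalarsOfIsLocalization (Submonoid.powers r) (Localization.Away r)
  haveI : Module.Free (Localization.Away r) M' := Module.Free.of_equiv e'
  letI : RingHomInvPair (σ : Localization.Away r →+* A') (σ.symm : A' →+* Localization.Away r) :=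
    ⟨by ext x; simp, by ext x; simp⟩
  letI : RingHomInvPair (σ.symm : A' →+* Localization.Away r) (σ : Localization.Away r →+* A') :=
    ⟨by ext x; simp, by ext x; simp⟩
  let τ : M' ≃ₛₗ[(σ : Localization.Away r →+* A')] M' :=
    { toFun := id
      invFun := id
      map_add' := fun _ _ => rfl
      map_smul' := fun c m => hsmul c m
      left_inv := fun _ => rfl
      right_inv := fun _ => rfl }
  exact Module.Free.of_equiv τ

section Away

variable {A B A' B' : Type*} [CommRing A] [CommRing B] [CommRing A'] [CommRing B']
  [Algebra A B] [Algebra A A'] [Algebra B B'] [Algebra A' B'] [Algebra A B']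
  [IsScalarTower A A' B'] [IsScalarTower A B B'] (g : A)
  [IsLocalization.Away g A'] [IsLocalization.Away (algebraMap A B g) B']

include g in
theorem isLocalization_algebraMapSubmonoid :
    IsLocalization (Algebra.algebraMapSubmonoid B (Submonoid.powers g)) B' := by
  rw [Algebra.algebraMapSubmonoid_powers]
  infer_instance

include g in
theorem free_away [Module.Free A B] [Module.Finite A B] : Module.Free A' B' := by
  haveI := isLocalization_algebraMapSubmonoid (A := A) (B := B) (B' := B') g
  exact Module.Free.of_basis
    ((Module.Free.chooseBasis A B).localizationLocalization A' (Submonoid.powers g) B')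

include g in
theorem finite_away [Module.Free A B] [Module.Finite A B] : Module.Finite A' B' := by
  haveI := isLocalization_algebraMapSubmonoid (A := A) (B := B) (B' := B') g
  exact Module.Finite.of_basis
    ((Module.Free.chooseBasis A B).localizationLocalization A' (Submonoid.powers g) B')

include g in
theorem norm_away [Module.Free A B] [Module.Finite A B] (s : B) :
    Algebra.norm A' (algebraMap B B' s) = algebraMap A A' (Algebra.norm A s) := by
  haveI := isLocalization_algebraMapSubmonoid (A := A) (B := B) (B' := B') g
  exact Algebra.norm_localization A (Submonoid.powers g) s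

end Away

/-- `algebraMap (norm s)` is a multiple of `s` -/
theorem exists_mul_eq_algebraMap_norm {A B : Type*} [CommRing A] [CommRing B] [Algebra A B]
    [Module.Free A B] [Module.Finite A B] (s : B) :
    ∃ y : B, s * y = algebraMap A B (Algebra.norm A s) := by
  classical
  let b := Module.Free.chooseBasis A B
  let M := Algebra.leftMulMatrix b s
  have hM : Matrix.toLin b b M = Algebra.lmul A B s := by
    show Matrix.toLin b b (LinearMap.toMatrix b b (Algebra.lmul A B s)) = _
    exact Matrix.toLin_toMatrix b b _
  refine ⟨Matrix.toLin b b M.adjugate 1, ?_⟩
  have h1 : s * Matrix.toLin b b M.adjugate 1 = Matrix.toLin b b M (Matrix.toLin b b M.adjugate 1) := by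
    rw [hM]; rfl
  rw [h1, ← LinearMap.comp_apply, ← Matrix.toLin_mul b b b, Matrix.mul_adjugate,
    ← Algebra.norm_eq_matrix_det b s]
  rw [map_smul, Matrix.toLin_one, LinearMap.smul_apply, LinearMap.id_apply, Algebra.smul_def, mul_one]

end Groth.Agent.H67.NormFreeAlg
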