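import Groth.Agent.H67.NormGlue
import Groth.Agent.S2264

/-!
# The norm of degree `p ^ e` for `X_red ⟶ X` in characteristic `p` (helper67)
-/

set_option autoImplicit false
universe u
open CategoryTheory AlgebraicGeometry TopologicalSpace Opposite

namespace Groth.Agent.H67.NormNil

open Groth.Agent.H67.NormGlue

theorem mem_maximalIdeal_germ_iff {X : Scheme.{u}} {U : X.Opens} (s : Γ(X, U)) (x : X)
    (hx : x ∈ U) :
    X.presheaf.germ U x hx s ∈ IsLocalRing.maximalIdeal (X.presheaf.stalk x) ↔
      x ∉ X.basicOpen s := by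
  rw [Scheme.mem_basicOpen X s x hx, IsLocalRing.mem_maximalIdeal, mem_nonunits_iff]

/-- in a commutative ring where the prime `p` vanishes, `(s + a)^(p^e) = s^(p^e)` whenever
`a^(p^e) = 0` -/
theorem add_pow_prime_pow_of_eq_zero {R : Type*} [CommRing R] {p : ℕ} (hp : p.Prime)
    (hpR : (p : R) = 0) (e : ℕ) (s a : R) (ha : a ^ p ^ e = 0) :
    (s + a) ^ p ^ e = s ^ p ^ e := by
  rw [(Commute.all s a).add_pow_prime_pow_eq hp e, ha, hpR]
  simp

section

variable (X : Scheme.{u}) (p : ℕ) (hp : p.Prime) (hpX : (p : Γ(X, ⊤)) = 0)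

include hpX in
theorem natCast_eq_zero (U : X.Opens) : (p : Γ(X, U)) = 0 := by
  have h := congrArg (X.presheaf.map (homOfLE (le_top : U ≤ ⊤)).op).hom hpX
  rwa [map_natCast, map_zero] at h

end

variable {X : Scheme.{u}} {p : ℕ}

/-- the data needed: a prime `p` vanishing on `X` and an exponent killing the nilradical -/
structure Setup (X : Scheme.{u}) (p : ℕ) (e : ℕ) : Prop where
  prime : p.Prime
  zero : (p : Γ(X, ⊤)) = 0
  kill : ∀ (U : X.affineOpens) (a : Γ(X, U.1)), a ∈ X.nilradical.ideal U → a ^ p ^ e = 0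
  pos : 0 < e

variable {e : ℕ} (S : Setup X p e)

/-- the local norm on an affine open: `φ s ↦ s ^ (p ^ e)` -/
noncomputable def locFun (U : X.affineOpens)
    (t : Γ(X.nilradical.subscheme, X.nilradical.subschemeι ⁻¹ᵁ U.1)) : Γ(X, U.1) :=
  (X.nilradical.subschemeι_app_surjective U t).choose ^ p ^ e

include S in
theorem locFun_app (U : X.affineOpens) (s : Γ(X, U.1)) :
    locFun (p := p) (e := e) U (X.nilradical.subschemeι.app U.1 s) = s ^ p ^ e := by
  obtain ⟨s', hs'⟩ : ∃ s', s' = (X.nilradical.subschemeι_app_surjective U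
      (X.nilradical.subschemeι.app U.1 s)).choose := ⟨_, rfl⟩
  have h1 : X.nilradical.subschemeι.app U.1 s' = X.nilradical.subschemeι.app U.1 s := by
    rw [hs']
    exact (X.nilradical.subschemeι_app_surjective U (X.nilradical.subschemeι.app U.1 s)).choose_spec
  have h2 : s' - s ∈ X.nilradical.ideal U := by
    rw [← X.nilradical.ker_subschemeι_app U, RingHom.mem_ker, map_sub, sub_eq_zero]
    exact h1
  have h3 := add_pow_prime_pow_of_eq_zero S.prime (natCast_eq_zero X p S.zero U.1) e s (s' - s)
    (S.kill U _ h2)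
  rw [add_sub_cancel] at h3
  show (X.nilradical.subschemeι_app_surjective U
      (X.nilradical.subschemeι.app U.1 s)).choose ^ p ^ e = _
  rw [← hs', h3]

/-- the local norms -/
noncomputable def localNorm : LocalNorm X.nilradical.subschemeι (p ^ e)
    (fun U : X.affineOpens => U.1) where
  norm U :=
    { toFun := locFun (p := p) (e := e) U
      map_one' := by
        have := locFun_app S U 1
        rwa [map_one, one_pow] at this
      map_mul' := by
        intro t t'
        obtain ⟨s, rfl⟩ := X.nilradical.subschemeι_app_surjective U t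
        obtain ⟨s', rfl⟩ := X.nilradical.subschemeι_app_surjective U t'
        rw [← map_mul, locFun_app S, locFun_app S, locFun_app S, mul_pow] }
  norm_res := by
    intro U V h t
    obtain ⟨s, rfl⟩ := X.nilradical.subschemeι_app_surjective U t
    show rY X h (locFun U _) = locFun V (rX _ h _)
    rw [← app_rY, locFun_app S, locFun_app S, map_pow]
  norm_app := by
    intro U g
    exact locFun_app S U g
  norm_mem := by
    intro U t z hz ht
    obtain ⟨s, rfl⟩ := X.nilradical.subschemeι_app_surjective U t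
    show X.presheaf.germ U.1 _ hz (locFun U _) ∈ _
    rw [locFun_app S]
    rw [mem_maximalIdeal_germ_iff] at ht ⊢
    rw [X.basicOpen_pow _ (Nat.pos_of_ne_zero (pow_ne_zero _ S.prime.ne_zero))]
    intro h
    apply ht
    rw [← Scheme.preimage_basicOpen]
    exact h

/-- `X_red ⟶ X` carries a norm of degree `p ^ e` for a Noetherian scheme `X` with `p = 0` -/
theorem hasNorm_nilradical (X : Scheme.{u}) [IsNoetherian X] (p : ℕ) (hp : p.Prime)
    (hpX : (p : Γ(X, ⊤)) = 0) :
    ∃ e : ℕ, 0 < e ∧ Nrm.HasNorm X.nilradical.subschemeι (p ^ e) := by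
  obtain ⟨n, hn⟩ := Groth.Agent.S2264.result X
  have S : Setup X p (n + 1) :=
    { prime := hp
      zero := hpX
      pos := Nat.succ_pos n
      kill := by
        intro U a ha
        have h1 : a ^ n ∈ (X.nilradical ^ n).ideal U := by
          rw [Scheme.IdealSheafData.ideal_pow]
          exact Ideal.pow_mem_pow ha n
        rw [hn] at h1
        have h2 : a ^ n = 0 := h1
        have h3 : n ≤ p ^ (n + 1) :=
          (Nat.lt_pow_self hp.one_lt).le.trans (Nat.pow_le_pow_right hp.pos (Nat.le_succ n))
        exact pow_eq_zero_of_le h3 h2 }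
  have hB : Opens.IsBasis (Set.range (fun U : X.affineOpens => U.1)) := by
    rw [Subtype.range_coe]
    exact X.isBasis_affineOpens
  exact ⟨n + 1, Nat.succ_pos n, ⟨normOfDegree hB (localNorm S) (Nat.one_le_pow _ _ hp.pos)⟩⟩

end Groth.Agent.H67.NormNil
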