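import Groth.Agent.H67.NormGlue
import Groth.Agent.H67.NormFreeAlg
import Groth.Agent.H67.NormNilradical
import Groth.Prelude.Def_Mor2

/-!
# The norm of a finite locally free morphism of constant degree (helper67)
-/

set_option autoImplicit false
set_option linter.style.haveILetI false
universe u
open CategoryTheory AlgebraicGeometry TopologicalSpace Opposite

namespace Groth.Agent.H67.NormFLF

open Groth.Agent.H67.NormGlue Groth.Agent.H67.NormFreeAlg Groth.Agent.H67.NormNil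

variable {X Y : Scheme.{u}} (π : X ⟶ Y)

/-- `Γ(X, π⁻¹ W)` as an algebra over `Γ(Y, W)` -/
@[reducible] noncomputable def algApp (W : Y.Opens) : Algebra Γ(Y, W) Γ(X, π ⁻¹ᵁ W) :=
  (π.app W).hom.toAlgebra

attribute [local instance] algApp

/-- an affine open of `Y` over which `π_* O_X` is finite free -/
def Good (W : Y.Opens) : Prop :=
  IsAffineOpen W ∧ Module.Free Γ(Y, W) Γ(X, π ⁻¹ᵁ W) ∧ Module.Finite Γ(Y, W) Γ(X, π ⁻¹ᵁ W)

theorem eq_of_locally {V : Y.Opens} (a b : Γ(Y, V))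
    (h : ∀ x ∈ V, ∃ (W : Y.Opens) (hW : W ≤ V), x ∈ W ∧ rY Y hW a = rY Y hW b) : a = b := by
  choose W hW hxW hab using h
  refine TopCat.Sheaf.eq_of_locally_eq' Y.sheaf (fun x : V => W x.1 x.2) V
    (fun x => homOfLE (hW x.1 x.2)) ?_ a b (fun x => hab x.1 x.2)
  intro x hx
  exact Opens.mem_iSup.mpr ⟨⟨x, hx⟩, hxW x hx⟩

variable {π}

theorem good_basicOpen [IsAffineHom π] {W W'' : Y.Opens} (hW : Good π W) (g : Γ(Y, W))
    (e : W'' = Y.basicOpen g) (h : W'' ≤ W) :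
    Good π W'' ∧ ∀ s : Γ(X, π ⁻¹ᵁ W),
      rY Y h (Algebra.norm Γ(Y, W) s) = Algebra.norm Γ(Y, W'') (rX π h s) := by
  obtain ⟨hWa, hfree, hfin⟩ := hW
  letI : Algebra Γ(Y, W) Γ(Y, W'') := (rY Y h).toAlgebra
  letI : Algebra Γ(X, π ⁻¹ᵁ W) Γ(X, π ⁻¹ᵁ W'') := (rX π h).toAlgebra
  letI : Algebra Γ(Y, W) Γ(X, π ⁻¹ᵁ W'') :=
    ((rX π h).comp (algebraMap Γ(Y, W) Γ(X, π ⁻¹ᵁ W))).toAlgebra
  haveI : IsScalarTower Γ(Y, W) Γ(X, π ⁻¹ᵁ W) Γ(X, π ⁻¹ᵁ W'') :=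
    IsScalarTower.of_algebraMap_eq (fun x => rfl)
  haveI : IsScalarTower Γ(Y, W) Γ(Y, W'') Γ(X, π ⁻¹ᵁ W'') :=
    IsScalarTower.of_algebraMap_eq (fun x => (app_rY π h x).symm)
  haveI : IsLocalization.Away g Γ(Y, W'') := hWa.isLocalization_of_eq_basicOpen g (homOfLE h) e
  have e' : π ⁻¹ᵁ W'' = X.basicOpen (π.app W g) := by rw [e, Scheme.preimage_basicOpen]
  haveI : IsLocalization.Away (algebraMap Γ(Y, W) Γ(X, π ⁻¹ᵁ W) g) Γ(X, π ⁻¹ᵁ W'') :=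
    (hWa.preimage π).isLocalization_of_eq_basicOpen (π.app W g)
      ((Opens.map π.base).map (homOfLE h)) e'
  refine ⟨⟨?_, free_away (A := Γ(Y, W)) (B := Γ(X, π ⁻¹ᵁ W)) (A' := Γ(Y, W''))
      (B' := Γ(X, π ⁻¹ᵁ W'')) g,
    finite_away (A := Γ(Y, W)) (B := Γ(X, π ⁻¹ᵁ W)) (A' := Γ(Y, W''))
      (B' := Γ(X, π ⁻¹ᵁ W'')) g⟩,
    fun s => (norm_away (A := Γ(Y, W)) (B := Γ(X, π ⁻¹ᵁ W)) (A' := Γ(Y, W''))
      (B' := Γ(X, π ⁻¹ᵁ W'')) g s).symm⟩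
  rw [e]
  exact hWa.basicOpen g

theorem norm_res_good [IsAffineHom π] {W W' : Y.Opens} (hW : Good π W) (hW' : Good π W')
    (h : W' ≤ W) (s : Γ(X, π ⁻¹ᵁ W)) :
    rY Y h (Algebra.norm Γ(Y, W) s) = Algebra.norm Γ(Y, W') (rX π h s) := by
  refine eq_of_locally _ _ (fun x hx => ?_)
  obtain ⟨f, g, hfg, hxf⟩ := exists_basicOpen_le_affine_inter hW.1 hW'.1 x ⟨h hx, hx⟩
  have h1 : Y.basicOpen f ≤ W := Y.basicOpen_le f
  have h2 : Y.basicOpen f ≤ W' := hfg ▸ Y.basicOpen_le g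
  obtain ⟨-, c1⟩ := good_basicOpen hW f rfl h1
  obtain ⟨-, c2⟩ := good_basicOpen hW' g hfg h2
  refine ⟨Y.basicOpen f, h2, hxf, ?_⟩
  rw [rY_rY, c1, c2, rX_rX]

theorem norm_mem_good {W : Y.Opens} (hW : Good π W) (s : Γ(X, π ⁻¹ᵁ W)) (x : X)
    (hx : π.base x ∈ W)
    (hs : X.presheaf.germ (π ⁻¹ᵁ W) x hx s ∈ IsLocalRing.maximalIdeal (X.presheaf.stalk x)) :
    Y.presheaf.germ W (π.base x) hx (Algebra.norm Γ(Y, W) s) ∈
      IsLocalRing.maximalIdeal (Y.presheaf.stalk (π.base x)) := by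
  obtain ⟨-, hfree, hfin⟩ := hW
  rw [mem_maximalIdeal_germ_iff] at hs ⊢
  obtain ⟨y, hy⟩ := exists_mul_eq_algebraMap_norm (A := Γ(Y, W)) s
  intro hcon
  apply hs
  have h1 : x ∈ π ⁻¹ᵁ Y.basicOpen (Algebra.norm Γ(Y, W) s) := hcon
  rw [Scheme.preimage_basicOpen] at h1
  have h2 : π.app W (Algebra.norm Γ(Y, W) s) = s * y := hy.symm
  rw [h2, Scheme.basicOpen_mul] at h1
  exact h1.1

theorem finrank_eq_of_good {d : ℕ} (hπ : Mor2.IsFinLocFreeOfDeg d π) {W : Y.Opens}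
    (hW : Good π W) [Nontrivial Γ(Y, W)] : Module.finrank Γ(Y, W) Γ(X, π ⁻¹ᵁ W) = d := by
  obtain ⟨⟨hfin, hflat, hfp⟩, hd⟩ := hπ
  haveI := hfin
  haveI := hflat
  obtain ⟨hWa, hfree, hfinite⟩ := hW
  obtain ⟨p⟩ : Nonempty (PrimeSpectrum Γ(Y, W)) := inferInstance
  have hpb : IsPullback ((hWa.preimage π).fromSpec) (Spec.map (π.app W)) π hWa.fromSpec := by
    refine (IsOpenImmersion.isPullback (Spec.map (π.app W)) (hWa.preimage π).fromSpec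
      hWa.fromSpec π ?_ ?_).flip
    · have := IsAffineOpen.SpecMap_appLE_fromSpec π hWa (hWa.preimage π) le_rfl
      rw [Scheme.Hom.appLE_eq_app] at this
      exact this.symm
    · rw [hWa.opensRange_fromSpec, (hWa.preimage π).opensRange_fromSpec]
  have h1 := Scheme.Hom.finrank_of_isPullback _ _ _ _ hpb p
  rw [hd] at h1
  have h2 : (π.app W).hom.Finite := hfinite
  have h3 : (π.app W).hom.Flat := (inferInstance : Module.Flat Γ(Y, W) Γ(X, π ⁻¹ᵁ W))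
  rw [Scheme.Hom.finrank_SpecMap_eq_finrank h2 h3] at h1
  have h4 : (π.app W).hom.finrank p = Module.rankAtStalk Γ(X, π ⁻¹ᵁ W) p := rfl
  rw [h4, Module.rankAtStalk_eq_finrank_of_free] at h1
  exact h1

theorem norm_app_good {d : ℕ} (hπ : Mor2.IsFinLocFreeOfDeg d π) {W : Y.Opens}
    (hW : Good π W) (g : Γ(Y, W)) : Algebra.norm Γ(Y, W) (π.app W g) = g ^ d := by
  rcases subsingleton_or_nontrivial Γ(Y, W) with hsub | hnt
  · exact Subsingleton.elim _ _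
  have hr := finrank_eq_of_good hπ hW
  obtain ⟨-, hfree, hfin⟩ := hW
  have h1 := Algebra.norm_algebraMap_of_basis (Module.Free.chooseBasis Γ(Y, W) Γ(X, π ⁻¹ᵁ W)) g
  rw [← Module.finrank_eq_card_chooseBasisIndex, hr] at h1
  exact h1

theorem good_basicOpen_of_free [IsFinite π] {W : Y.Opens} (hWa : IsAffineOpen W) (r : Γ(Y, W))
    (hfree : Module.Free (Localization.Away r) (LocalizedModule.Away r Γ(X, π ⁻¹ᵁ W))) :
    Good π (Y.basicOpen r) := by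
  have h : Y.basicOpen r ≤ W := Y.basicOpen_le r
  letI : Algebra Γ(Y, W) Γ(Y, Y.basicOpen r) := (rY Y h).toAlgebra
  letI : Algebra Γ(X, π ⁻¹ᵁ W) Γ(X, π ⁻¹ᵁ Y.basicOpen r) := (rX π h).toAlgebra
  letI : Algebra Γ(Y, W) Γ(X, π ⁻¹ᵁ Y.basicOpen r) :=
    ((rX π h).comp (algebraMap Γ(Y, W) Γ(X, π ⁻¹ᵁ W))).toAlgebra
  haveI : IsScalarTower Γ(Y, W) Γ(X, π ⁻¹ᵁ W) Γ(X, π ⁻¹ᵁ Y.basicOpen r) :=
    IsScalarTower.of_algebraMap_eq (fun x => rfl)
  haveI : IsScalarTower Γ(Y, W) Γ(Y, Y.basicOpen r) Γ(X, π ⁻¹ᵁ Y.basicOpen r) :=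
    IsScalarTower.of_algebraMap_eq (fun x => (app_rY π h x).symm)
  haveI : IsLocalization.Away r Γ(Y, Y.basicOpen r) :=
    hWa.isLocalization_of_eq_basicOpen r (homOfLE h) rfl
  have e' : π ⁻¹ᵁ Y.basicOpen r = X.basicOpen (π.app W r) := Scheme.preimage_basicOpen π r
  haveI : IsLocalization.Away (algebraMap Γ(Y, W) Γ(X, π ⁻¹ᵁ W) r)
      Γ(X, π ⁻¹ᵁ Y.basicOpen r) :=
    (hWa.preimage π).isLocalization_of_eq_basicOpen (π.app W r)
      ((Opens.map π.base).map (homOfLE h)) e'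
  haveI := isLocalization_algebraMapSubmonoid (A := Γ(Y, W)) (B := Γ(X, π ⁻¹ᵁ W))
    (B' := Γ(X, π ⁻¹ᵁ Y.basicOpen r)) r
  refine ⟨hWa.basicOpen r, ?_, π.finite_app _ (hWa.basicOpen r)⟩
  exact free_of_free_localizedModule r
    (IsScalarTower.toAlgHom Γ(Y, W) Γ(X, π ⁻¹ᵁ W) Γ(X, π ⁻¹ᵁ Y.basicOpen r)).toLinearMap

theorem isBasis_good (hπ : Mor2.IsFinLocFree π) :
    Opens.IsBasis (Set.range (fun W : {W : Y.Opens // Good π W} => W.1)) := by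
  obtain ⟨hfin, hflat, hfp⟩ := hπ
  haveI := hfin
  haveI := hflat
  haveI := hfp
  rw [Opens.isBasis_iff_nbhd]
  intro U y hy
  obtain ⟨_, ⟨W₀, hW₀, rfl⟩, hyW₀, hW₀U⟩ :=
    Y.isBasis_affineOpens.exists_subset_of_mem_open hy U.2
  haveI hF : Module.Finite Γ(Y, W₀) Γ(X, π ⁻¹ᵁ W₀) := π.finite_app W₀ hW₀
  haveI hFl : Module.Flat Γ(Y, W₀) Γ(X, π ⁻¹ᵁ W₀) := by
    have := π.flat_appLE hW₀ (hW₀.preimage π) le_rfl
    rw [Scheme.Hom.appLE_eq_app] at this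
    exact this
  haveI hFP : Algebra.FinitePresentation Γ(Y, W₀) Γ(X, π ⁻¹ᵁ W₀) := by
    have := π.finitePresentation_appLE hW₀ (hW₀.preimage π) le_rfl
    rw [Scheme.Hom.appLE_eq_app] at this
    exact this
  haveI : Module.FinitePresentation Γ(Y, W₀) Γ(X, π ⁻¹ᵁ W₀) :=
    Module.FinitePresentation.of_finite_of_finitePresentation _ _
  let p : Ideal Γ(Y, W₀) := Ideal.comap (Y.presheaf.germ W₀ y hyW₀).hom
    (IsLocalRing.maximalIdeal (Y.presheaf.stalk y))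
  haveI : p.IsPrime := Ideal.comap_isPrime _ _
  haveI : Module.Free (Localization.AtPrime p)
      (LocalizedModule p.primeCompl Γ(X, π ⁻¹ᵁ W₀)) := Module.free_of_flat_of_isLocalRing
  obtain ⟨r, hr, hfree, -⟩ := Module.FinitePresentation.exists_free_localizedModule_powers
    p.primeCompl (LocalizedModule.mkLinearMap p.primeCompl Γ(X, π ⁻¹ᵁ W₀))
    (Localization.AtPrime p)
  have hyr : y ∈ Y.basicOpen r := by
    rw [Scheme.mem_basicOpen Y r y hyW₀]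
    by_contra hnu
    exact hr ((IsLocalRing.mem_maximalIdeal _).mpr hnu)
  exact ⟨Y.basicOpen r, ⟨⟨Y.basicOpen r, good_basicOpen_of_free hW₀ r hfree⟩, rfl⟩, hyr,
    (Y.basicOpen_le r).trans hW₀U⟩

/-- the local norms of a finite locally free morphism of degree `d` -/
noncomputable def localNorm {d : ℕ} (hπ : Mor2.IsFinLocFreeOfDeg d π) :
    LocalNorm π d (fun W : {W : Y.Opens // Good π W} => W.1) :=
  haveI : IsFinite π := hπ.1.1
  { norm := fun W => Algebra.norm Γ(Y, W.1)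
    norm_res := fun {W W'} h s => norm_res_good W.2 W'.2 h s
    norm_app := fun W g => norm_app_good hπ W.2 g
    norm_mem := fun W s x hx hs => norm_mem_good W.2 s x hx hs }

/-- a finite locally free morphism of degree `d ≥ 1` carries a norm of degree `d` -/
theorem hasNorm_of_isFinLocFreeOfDeg {d : ℕ} (hd : 1 ≤ d) (hπ : Mor2.IsFinLocFreeOfDeg d π) :
    Nrm.HasNorm π d :=
  ⟨normOfDegree (isBasis_good hπ.1) (localNorm hπ) hd⟩

end Groth.Agent.H67.NormFLF
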