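import Groth.Agent.H67.SheafExtend
import Groth.Agent.H67.ParaMono

/-!
# Extension of sections of invertible modules
-/

set_option autoImplicit false
universe u
open CategoryTheory CategoryTheory.Limits AlgebraicGeometry TopologicalSpace Opposite

namespace Groth.Agent.H67.ParaExt
open Scheme.Modules

variable {X : Scheme.{u}}

lemma bijective_map_congr {C : Type*} [Category C] {FC : C → C → Type*} {CC : C → Type*}
    [∀ X Y, FunLike (FC X Y) (CC X) (CC Y)] [ConcreteCategory C FC]
    (F : TopCat.Presheaf C X) {A A' B B' : X.Opens} (hA : A = B)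
    (hA' : A' = B') (h1 : A' ≤ A) (h2 : B' ≤ B) :
    Function.Bijective (F.map (homOfLE h1).op) ↔ Function.Bijective (F.map (homOfLE h2).op) := by
  subst hA hA'
  rfl

lemma image_preimage_of_le (W₀ W : X.Opens) (hW : W ≤ W₀) : W₀.ι ''ᵁ (W₀.ι ⁻¹ᵁ W) = W := by
  rw [Scheme.Hom.image_preimage_eq_opensRange_inf, Scheme.Opens.opensRange_ι]
  exact inf_eq_right.2 hW

/-- restriction of sections of the structure module is restriction of functions -/
lemma bijective_structure (U : X.Opens)
    (h : ∀ V : X.Opens, Function.Bijective (X.presheaf.map (homOfLE (inf_le_left : V ⊓ U ≤ V)).op))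
    (V : X.Opens) : Function.Bijective
      ((Coh.structureModule X).presheaf.map (homOfLE (inf_le_left : V ⊓ U ≤ V)).op) :=
  h V

/-- on a trivializing open, sections of `L` extend uniquely across the complement of `U` -/
theorem bijective_of_trivial (U : X.Opens)
    (h : ∀ V : X.Opens, Function.Bijective (X.presheaf.map (homOfLE (inf_le_left : V ⊓ U ≤ V)).op))
    (L : X.Modules) (W₀ : X.Opens) (e : L.restrict W₀.ι ≅ Coh.structureModule (W₀ : Scheme.{u}))
    (W : X.Opens) (hW : W ≤ W₀) :
    Function.Bijective (L.presheaf.map (homOfLE (inf_le_left : W ⊓ U ≤ W)).op) := by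
  have hle : W₀.ι ⁻¹ᵁ (W ⊓ U) ≤ W₀.ι ⁻¹ᵁ W := fun x hx => hx.1
  have hnat := e.hom.mapPresheaf.naturality (homOfLE hle).op
  have hb1 : Function.Bijective (e.hom.app (W₀.ι ⁻¹ᵁ W)) :=
    ConcreteCategory.bijective_of_isIso _
  have hb2 : Function.Bijective (e.hom.app (W₀.ι ⁻¹ᵁ (W ⊓ U))) :=
    ConcreteCategory.bijective_of_isIso _
  have hO : Function.Bijective ((Coh.structureModule (W₀ : Scheme.{u})).presheaf.map
      (homOfLE hle).op) :=
    (bijective_map_congr X.presheaf (image_preimage_of_le W₀ W hW)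
      (image_preimage_of_le W₀ (W ⊓ U) (inf_le_left.trans hW))
      (W₀.ι.opensFunctor.map (homOfLE hle)).le inf_le_left).2 (h W)
  have hLr : Function.Bijective ((L.restrict W₀.ι).presheaf.map (homOfLE hle).op) := by
    have h1 : (e.hom.app (W₀.ι ⁻¹ᵁ (W ⊓ U))) ∘ ((L.restrict W₀.ι).presheaf.map (homOfLE hle).op) =
        ((Coh.structureModule (W₀ : Scheme.{u})).presheaf.map (homOfLE hle).op) ∘
          (e.hom.app (W₀.ι ⁻¹ᵁ W)) := by
      funext s
      exact ConcreteCategory.congr_hom hnat s
    have h2 : Function.Bijective ((e.hom.app (W₀.ι ⁻¹ᵁ (W ⊓ U))) ∘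
        ((L.restrict W₀.ι).presheaf.map (homOfLE hle).op)) := by
      rw [h1]
      exact hO.comp hb1
    exact (Function.Bijective.of_comp_iff' hb2 _).1 h2
  exact (bijective_map_congr L.presheaf (image_preimage_of_le W₀ W hW)
      (image_preimage_of_le W₀ (W ⊓ U) (inf_le_left.trans hW))
      (W₀.ι.opensFunctor.map (homOfLE hle)).le inf_le_left).1 hLr

/-- sections of an invertible module extend uniquely across the complement of `U`, provided
functions do -/
theorem bijective_of_invertible (U : X.Opens)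
    (h : ∀ V : X.Opens, Function.Bijective (X.presheaf.map (homOfLE (inf_le_left : V ⊓ U ≤ V)).op))
    (L : X.Modules) (hL : PicF.IsInvertible L) (W : X.Opens) :
    Function.Bijective (L.presheaf.map (homOfLE (inf_le_left : W ⊓ U ≤ W)).op) := by
  apply SheafExtend.bijective_of_local ⟨L.presheaf, L.isSheaf⟩ U
    {W | ∃ W₀ : X.Opens, W ≤ W₀ ∧ Nonempty (L.restrict W₀.ι ≅ Coh.structureModule (W₀ : Scheme.{u}))}
  · rintro W ⟨W₀, hW, he⟩ W' hW'
    exact ⟨W₀, hW'.trans hW, he⟩
  · intro x
    obtain ⟨W₀, hx, he⟩ := hL x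
    exact ⟨W₀, ⟨W₀, le_rfl, he⟩, hx⟩
  · rintro W ⟨W₀, hW, ⟨e⟩⟩
    exact bijective_of_trivial U h L W₀ e W hW

/-- the unit `L ⟶ j_* j^* L` is an isomorphism for invertible `L` -/
theorem isIso_unit (U : X.Opens)
    (h : ∀ V : X.Opens, Function.Bijective (X.presheaf.map (homOfLE (inf_le_left : V ⊓ U ≤ V)).op))
    (L : X.Modules) (hL : PicF.IsInvertible L) :
    IsIso ((restrictAdjunction U.ι).unit.app L) := by
  rw [Hom.isIso_iff_isIso_app]
  intro V
  rw [ConcreteCategory.isIso_iff_bijective]
  have hV : U.ι ''ᵁ (U.ι ⁻¹ᵁ V) = V ⊓ U := by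
    rw [Scheme.Hom.image_preimage_eq_opensRange_inf, Scheme.Opens.opensRange_ι, inf_comm]
  exact (bijective_map_congr L.presheaf rfl hV (U.ι.image_preimage_le V) inf_le_left).2
    (bijective_of_invertible U h L hL V)

/-- restriction to `U` is bijective on morphisms into an invertible module -/
theorem restrict_bijective (U : X.Opens)
    (h : ∀ V : X.Opens, Function.Bijective (X.presheaf.map (homOfLE (inf_le_left : V ⊓ U ≤ V)).op))
    (L L' : X.Modules) (hL' : PicF.IsInvertible L') :
    Function.Bijective (fun φ : L ⟶ L' => (restrictFunctor U.ι).map φ) := by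
  have hiso := isIso_unit U h L' hL'
  have key : (fun φ : L ⟶ L' => (restrictFunctor U.ι).map φ) =
      ((restrictAdjunction U.ι).homEquiv L _).symm ∘
        (fun φ => φ ≫ (restrictAdjunction U.ι).unit.app L') := by
    funext φ
    simp only [Function.comp]
    rw [Equiv.eq_symm_apply, Adjunction.homEquiv_unit]
    exact ((restrictAdjunction U.ι).unit.naturality φ).symm
  rw [key]
  refine (Equiv.bijective _).comp ⟨fun a b hab => (cancel_mono _).1 hab,
    fun ψ => ⟨ψ ≫ inv ((restrictAdjunction U.ι).unit.app L'), ?_⟩⟩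
  simp

end Groth.Agent.H67.ParaExt
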