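import Groth.Agent.H67.GenLocusAffine
import Mathlib.AlgebraicGeometry.Morphisms.Affine
import Mathlib.AlgebraicGeometry.Pullbacks

/-!
# Affine diagonal from a cover by affine opens with affine inclusions
-/

set_option autoImplicit false
set_option linter.style.haveILetI false
universe u
open CategoryTheory CategoryTheory.Limits AlgebraicGeometry TopologicalSpace Opposite

namespace Groth.Agent.H67.AffineDiag

/-- if `X` is covered by affine opens whose inclusions are affine morphisms, then the diagonal
of `X` is affine -/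
theorem isAffineHom_diagonal_of_cover (X : Scheme.{u})
    (h : ∀ x : X, ∃ U : X.Opens, x ∈ U ∧ IsAffineOpen U ∧ IsAffineHom U.ι) :
    IsAffineHom (pullback.diagonal (terminal.from X)) := by
  choose U hxU hUaff hUhom using h
  have hcov : IsOpenCover U := by
    apply IsOpenCover.mk
    exact top_le_iff.mp (fun x _ ↦ by simpa using ⟨x, hxU x⟩)
  let 𝒰X : X.OpenCover := X.openCoverOfIsOpenCover U hcov
  haveI : ∀ x, IsAffine (𝒰X.X x) := fun x => hUaff x
  let 𝒰 := Scheme.Pullback.openCoverOfLeftRight 𝒰X 𝒰X (terminal.from X) (terminal.from X)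
  haveI : ∀ i, IsAffine (𝒰.X i) := by
    rintro ⟨i, j⟩
    show IsAffine (pullback (𝒰X.f i ≫ terminal.from X) (𝒰X.f j ≫ terminal.from X))
    infer_instance
  rw [HasAffineProperty.iff_of_openCover (P := @IsAffineHom) 𝒰]
  rintro ⟨i, j⟩
  have e := pullbackDiagonalMapIdIso (U i).ι (U j).ι (terminal.from X)
  haveI : IsAffineHom (U j).ι := hUhom j
  haveI : IsAffine ((U i : X.Opens) : Scheme.{u}) := hUaff i
  haveI : IsAffine (pullback (U i).ι (U j).ι) := inferInstance
  exact IsAffine.of_isIso e.hom

end Groth.Agent.H67.AffineDiag
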