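import Groth.Agent.H67.BasisLocal
import Groth.Agent.H67.AffineDiag
import Groth.Agent.S15745
import Mathlib.AlgebraicGeometry.Morphisms.Separated

/-!
# A scheme covered by affine opens `X_s` (sections of powers of an invertible module) is separated
-/

set_option autoImplicit false
set_option linter.style.haveILetI false
universe u
open CategoryTheory CategoryTheory.Limits AlgebraicGeometry TopologicalSpace Opposite

namespace Groth.Agent.H67.SepCover

open Groth.Agent.H18 Groth.Agent.H18.PUP Groth.Agent.H18.STL Groth.Agent.H67.BasisLocal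

variable {X : Scheme.{u}}

/-- Two global sections `a`, `b` of an invertible module with `X_a` affine: every function on
`X_a ∩ X_b` is a product of a function on `X_a` and a power of a function on `X_b`. -/
theorem exists_eq_mul_pow {M : X.Modules} (hM : PicF.IsInvertible M)
    (a b : Coh.structureModule X ⟶ M) (hU : IsAffineOpen (CohB1.genLocus M a))
    (D : X.Opens) (hDU : D ≤ CohB1.genLocus M a) (hDV : D ≤ CohB1.genLocus M b)
    (hD : D = CohB1.genLocus M a ⊓ CohB1.genLocus M b) (y : Γ(X, D)) :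
    ∃ (c : Γ(X, CohB1.genLocus M a)) (h : Γ(X, CohB1.genLocus M b)) (k : ℕ),
      y = rres X hDU c * rres X hDV h ^ k := by
  have basU := isBasisOn_genLocus hM a
  have basV := isBasisOn_genLocus hM b
  obtain ⟨g, hg⟩ : ∃ g : Γ(X, CohB1.genLocus M a),
      SecTwist.val b (CohB1.genLocus M a) =
        g • (show Γ(M, CohB1.genLocus M a) from SecTwist.val a (CohB1.genLocus M a)) := by
    refine ⟨basU.coord le_rfl (SecTwist.val b _), ?_⟩
    have := basU.coord_smul le_rfl (SecTwist.val b (CohB1.genLocus M a))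
    rw [mres_self] at this
    exact this.symm
  obtain ⟨hh, hhh⟩ : ∃ hh : Γ(X, CohB1.genLocus M b),
      SecTwist.val a (CohB1.genLocus M b) =
        hh • (show Γ(M, CohB1.genLocus M b) from SecTwist.val b (CohB1.genLocus M b)) := by
    refine ⟨basV.coord le_rfl (SecTwist.val a _), ?_⟩
    have := basV.coord_smul le_rfl (SecTwist.val a (CohB1.genLocus M b))
    rw [mres_self] at this
    exact this.symm
  have hDg : CohB1.genLocus M b ⊓ CohB1.genLocus M a = X.basicOpen g :=
    genLocus_inf_eq_basicOpen b basU g hg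
  have hD' : D = X.basicOpen g := by rw [hD, inf_comm, hDg]
  subst hD'
  -- the unit relation
  have hunit : rres X hDU g * rres X hDV hh = 1 := by
    have h1 : SecTwist.val b (X.basicOpen g) =
        rres X hDU g • (show Γ(M, X.basicOpen g) from SecTwist.val a (X.basicOpen g)) := by
      rw [← mres_val b hDU, hg, mres_smul, mres_val]
    have h2 : SecTwist.val a (X.basicOpen g) =
        rres X hDV hh • (show Γ(M, X.basicOpen g) from SecTwist.val b (X.basicOpen g)) := by
      rw [← mres_val a hDV, hhh, mres_smul, mres_val]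
    have hinj := (basV (X.basicOpen g) hDV).1
    apply hinj
    simp only
    rw [mres_val, one_smul, mul_smul, ← h2, ← h1]
  -- localization
  haveI := hU.isLocalization_basicOpen g
  obtain ⟨k, c, hc⟩ := IsLocalization.Away.surj g y
  refine ⟨c, hh, k, ?_⟩
  have hc' : y * rres X hDU g ^ k = rres X hDU c := hc
  calc y = y * (rres X hDU g * rres X hDV hh) ^ k := by rw [hunit, one_pow, mul_one]
    _ = (y * rres X hDU g ^ k) * rres X hDV hh ^ k := by rw [mul_pow, mul_assoc]
    _ = rres X hDU c * rres X hDV hh ^ k := by rw [hc']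

theorem exists_eq_mul_pow' {M : X.Modules} (hM : PicF.IsInvertible M)
    (a b : Coh.structureModule X ⟶ M) (U V : X.Opens) (hUa : U = CohB1.genLocus M a)
    (hVb : V = CohB1.genLocus M b) (hU : IsAffineOpen U)
    (D : X.Opens) (hDU : D ≤ U) (hDV : D ≤ V) (hD : D = U ⊓ V) (y : Γ(X, D)) :
    ∃ (c : Γ(X, U)) (h : Γ(X, V)) (k : ℕ), y = rres X hDU c * rres X hDV h ^ k := by
  subst hUa hVb
  exact exists_eq_mul_pow hM a b hU D hDU hDV hD y

theorem genLocus_id : CohB1.genLocus (Coh.structureModule X) (𝟙 _) = ⊤ := by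
  apply top_le_iff.1
  apply le_sSup
  show IsIso ((Scheme.Modules.restrictFunctor (⊤ : X.Opens).ι).map (𝟙 (Coh.structureModule X)))
  rw [CategoryTheory.Functor.map_id]
  infer_instance

theorem genLocus_powHom {L : X.Modules} (hL : PicF.IsInvertible L)
    (s : Coh.structureModule X ⟶ L) (k : ℕ) :
    CohB1.genLocus _ (SecTwist.powHom s (k + 1)) = CohB1.genLocus L s := by
  induction k with
  | zero =>
    change CohB1.genLocus (CohB1.tensorMod (CohB1.tensorPow L 0) L)
      (SecTwist.tmulHom (SecTwist.powHom s 0) s) = _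
    rw [Groth.Agent.S15745.result X _ _ (isInvertible_tensorPow hL 0) hL]
    have : CohB1.genLocus (CohB1.tensorPow L 0) (SecTwist.powHom s 0) = ⊤ := genLocus_id
    rw [this, top_inf_eq]
  | succ k ih =>
    change CohB1.genLocus (CohB1.tensorMod (CohB1.tensorPow L (k + 1)) L)
      (SecTwist.tmulHom (SecTwist.powHom s (k + 1)) s) = _
    rw [Groth.Agent.S15745.result X _ _ (isInvertible_tensorPow hL (k + 1)) hL, ih, inf_idem]

/-- two sections of (possibly different) positive powers of `L` can be replaced by two sections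
of the same power of `L`, with the same loci of generation -/
theorem exists_common_power {L : X.Modules} (hL : PicF.IsInvertible L) {n m : ℕ}
    (s : Coh.structureModule X ⟶ CohB1.tensorPow L (n + 1))
    (t : Coh.structureModule X ⟶ CohB1.tensorPow L (m + 1)) :
    ∃ (a b : Coh.structureModule X ⟶ CohB1.tensorPow L ((n + 1) * (m + 1))),
      CohB1.genLocus _ a = CohB1.genLocus _ s ∧ CohB1.genLocus _ b = CohB1.genLocus _ t := by
  obtain ⟨𝔄⟩ := nonempty_atlas hL
  have w₀ := hasWeight_tensorPow 𝔄 ((n + 1) * (m + 1))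
  have w₁ := (hasWeight_tensorPow 𝔄 (n + 1)).lpow (m + 1)
  have w₂ := (hasWeight_tensorPow 𝔄 (m + 1)).lpow (n + 1)
  rw [Nat.mul_comm] at w₂
  obtain ⟨a, -, ha⟩ := w₁.exists_transfer w₀ (SecTwist.powHom s (m + 1))
  obtain ⟨b, -, hb⟩ := w₂.exists_transfer w₀ (SecTwist.powHom t (n + 1))
  exact ⟨a, b, ha.trans (genLocus_powHom (isInvertible_tensorPow hL _) s m),
    hb.trans (genLocus_powHom (isInvertible_tensorPow hL _) t n)⟩

theorem appLE_congr_hom {P : Scheme.{u}} (f g : P ⟶ X) (hfg : f = g) (W : X.Opens)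
    (W' : P.Opens) (e : W' ≤ f ⁻¹ᵁ W) :
    f.appLE W W' e = g.appLE W W' (hfg ▸ e) := by
  subst hfg; rfl

/-- the local form of the closed immersion property of the diagonal -/
theorem isClosedImmersion_aux (X : Scheme.{u}) (Ui Uj : X.Opens) (haffi : IsAffineOpen Ui)
    (haffj : IsAffineOpen Uj) (hinter : IsAffineOpen (Ui ⊓ Uj))
    (hgen : ∀ (D : X.Opens) (h1 : D ≤ Ui) (h2 : D ≤ Uj), D = Ui ⊓ Uj →
      ∀ z : Γ(X, D), ∃ (c : Γ(X, Ui)) (h : Γ(X, Uj)) (k : ℕ),
        z = rres X h1 c * rres X h2 h ^ k) :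
    IsClosedImmersion (pullback.snd (pullback.diagonal (terminal.from X))
      (pullback.map (Ui.ι ≫ terminal.from X) (Uj.ι ≫ terminal.from X) (terminal.from X)
        (terminal.from X) Ui.ι Uj.ι (𝟙 _) (Category.comp_id _) (Category.comp_id _))) := by
  let e := pullbackDiagonalMapIdIso Ui.ι Uj.ι (terminal.from X)
  refine (MorphismProperty.cancel_left_of_respectsIso @IsClosedImmersion e.inv _).1 ?_
  -- the open immersion of the intersection
  let p₁ : pullback Ui.ι Uj.ι ⟶ (Ui : Scheme.{u}) := pullback.fst _ _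
  let p₂ : pullback Ui.ι Uj.ι ⟶ (Uj : Scheme.{u}) := pullback.snd _ _
  let jj : pullback Ui.ι Uj.ι ⟶ X := p₁ ≫ Ui.ι
  have hjj : jj = p₂ ≫ Uj.ι := pullback.condition
  have hrange : jj.opensRange = Ui ⊓ Uj := by
    ext1
    have := IsOpenImmersion.range_pullback_to_base_of_left Ui.ι Uj.ι
    simp only [Scheme.Opens.range_ι] at this
    exact this
  haveI : IsAffine (pullback Ui.ι Uj.ι) := by
    have h1 : IsAffineOpen jj.opensRange := by rw [hrange]; exact hinter
    haveI : IsAffine (jj.opensRange : Scheme.{u}) := h1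
    exact IsAffine.of_isIso (jj.isoOpensRange).hom
  haveI : IsAffine ((Ui : X.Opens) : Scheme.{u}) := haffi
  haveI : IsAffine ((Uj : X.Opens) : Scheme.{u}) := haffj
  haveI : IsAffine (pullback (Ui.ι ≫ terminal.from X) (Uj.ι ≫ terminal.from X)) :=
    inferInstance
  obtain ⟨δ, hδ⟩ : ∃ δ : pullback Ui.ι Uj.ι ⟶
      pullback (Ui.ι ≫ terminal.from X) (Uj.ι ≫ terminal.from X),
      δ = e.inv ≫ pullback.snd (pullback.diagonal (terminal.from X))
        (pullback.map (Ui.ι ≫ terminal.from X) (Uj.ι ≫ terminal.from X) (terminal.from X)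
          (terminal.from X) Ui.ι Uj.ι (𝟙 _) (Category.comp_id _) (Category.comp_id _)) :=
    ⟨_, rfl⟩
  rw [← hδ]
  have hδ₁ : δ ≫ pullback.fst _ _ = p₁ := by
    rw [hδ, Category.assoc]
    exact pullbackDiagonalMapIdIso_inv_snd_fst _ _ _
  have hδ₂ : δ ≫ pullback.snd _ _ = p₂ := by
    rw [hδ, Category.assoc]
    exact pullbackDiagonalMapIdIso_inv_snd_snd _ _ _
  clear hδ
  apply IsClosedImmersion.of_surjective_of_isAffine
  intro y
  -- transport `y` to a function on `jj ''ᵁ ⊤`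
  obtain ⟨y', rfl⟩ : ∃ y', (jj.appIso ⊤).hom y' = y :=
    ⟨(jj.appIso ⊤).inv y, by rw [← ConcreteCategory.comp_apply, Iso.inv_hom_id]; rfl⟩
  have hD : jj ''ᵁ ⊤ = Ui ⊓ Uj := by rw [Scheme.Hom.image_top_eq_opensRange, hrange]
  have h1 : jj ''ᵁ ⊤ ≤ Ui := hD.le.trans inf_le_left
  have h2 : jj ''ᵁ ⊤ ≤ Uj := hD.le.trans inf_le_right
  obtain ⟨c, h, k, hz⟩ := hgen (jj ''ᵁ ⊤) h1 h2 hD y'
  have e₁ : (⊤ : (pullback Ui.ι Uj.ι).Opens) ≤ jj ⁻¹ᵁ Ui := by
    intro w _
    have : jj w ∈ jj ''ᵁ ⊤ := ⟨w, trivial, rfl⟩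
    exact h1 this
  have e₂ : (⊤ : (pullback Ui.ι Uj.ι).Opens) ≤ jj ⁻¹ᵁ Uj := by
    intro w _
    have : jj w ∈ jj ''ᵁ ⊤ := ⟨w, trivial, rfl⟩
    exact h2 this
  have hc : (jj.appIso ⊤).hom (rres X h1 c) = jj.appLE Ui ⊤ e₁ c := by
    rw [Scheme.Hom.appIso_hom', ← ConcreteCategory.comp_apply]
    congr 2
    exact Scheme.Hom.map_appLE jj _ (homOfLE h1).op
  have hh : (jj.appIso ⊤).hom (rres X h2 h) = jj.appLE Uj ⊤ e₂ h := by
    rw [Scheme.Hom.appIso_hom', ← ConcreteCategory.comp_apply]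
    congr 2
    exact Scheme.Hom.map_appLE jj _ (homOfLE h2).op
  -- the factorisations through `p₁`, `p₂`
  have hc' : jj.appLE Ui ⊤ e₁ c = p₁.appTop (Ui.ι.appLE Ui ⊤ (by simp) c) := by
    have := Scheme.Hom.appLE_comp_appLE p₁ Ui.ι Ui ⊤ ⊤ (by simp) le_rfl
    have hp : p₁.appLE ⊤ ⊤ le_rfl = p₁.appTop := Scheme.Hom.appLE_eq_app p₁
    rw [hp] at this
    exact (congr($this c)).symm
  have hh' : jj.appLE Uj ⊤ e₂ h = p₂.appTop (Uj.ι.appLE Uj ⊤ (by simp) h) := by
    have := Scheme.Hom.appLE_comp_appLE p₂ Uj.ι Uj ⊤ ⊤ (by simp) le_rfl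
    have hp : p₂.appLE ⊤ ⊤ le_rfl = p₂.appTop := Scheme.Hom.appLE_eq_app p₂
    rw [hp] at this
    rw [appLE_congr_hom jj (p₂ ≫ Uj.ι) hjj Uj ⊤ e₂]
    exact (congr($this h)).symm
  refine ⟨(pullback.fst (Ui.ι ≫ terminal.from X) (Uj.ι ≫ terminal.from X)).appTop
      (Ui.ι.appLE Ui ⊤ (by simp) c) *
    (pullback.snd (Ui.ι ≫ terminal.from X) (Uj.ι ≫ terminal.from X)).appTop
      (Uj.ι.appLE Uj ⊤ (by simp) h) ^ k, ?_⟩
  have k1 : δ.appTop ((pullback.fst (Ui.ι ≫ terminal.from X) (Uj.ι ≫ terminal.from X)).appTop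
      (Ui.ι.appLE Ui ⊤ (by simp) c)) = p₁.appTop (Ui.ι.appLE Ui ⊤ (by simp) c) := by
    rw [← hδ₁]; rfl
  have k2 : δ.appTop ((pullback.snd (Ui.ι ≫ terminal.from X) (Uj.ι ≫ terminal.from X)).appTop
      (Uj.ι.appLE Uj ⊤ (by simp) h)) = p₂.appTop (Uj.ι.appLE Uj ⊤ (by simp) h) := by
    rw [← hδ₂]; rfl
  rw [map_mul, map_pow, k1, k2, ← hc', ← hh', ← hc, ← hh, hz, map_mul, map_pow]

/-- separatedness from an affine open cover with affine pairwise intersections whose functions
are generated by the functions on the two members -/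
theorem isSeparated_of_cover (X : Scheme.{u}) (U : X → X.Opens) (hxU : ∀ x, x ∈ U x)
    (haff : ∀ x, IsAffineOpen (U x)) (hinter : ∀ x y, IsAffineOpen (U x ⊓ U y))
    (hgen : ∀ (x y : X) (D : X.Opens) (h1 : D ≤ U x) (h2 : D ≤ U y), D = U x ⊓ U y →
      ∀ z : Γ(X, D), ∃ (c : Γ(X, U x)) (h : Γ(X, U y)) (k : ℕ),
        z = rres X h1 c * rres X h2 h ^ k) :
    X.IsSeparated := by
  refine ⟨⟨?_⟩⟩
  have hcov : IsOpenCover U := by
    apply IsOpenCover.mk
    exact top_le_iff.mp (fun x _ ↦ by simpa using ⟨x, hxU x⟩)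
  let 𝒰X : X.OpenCover := X.openCoverOfIsOpenCover U hcov
  haveI : ∀ x, IsAffine (𝒰X.X x) := fun x => haff x
  let 𝒰 := Scheme.Pullback.openCoverOfLeftRight 𝒰X 𝒰X (terminal.from X) (terminal.from X)
  rw [IsZariskiLocalAtTarget.iff_of_openCover (P := @IsClosedImmersion) 𝒰]
  rintro ⟨i, j⟩
  exact isClosedImmersion_aux X (U i) (U j) (haff i) (haff j) (hinter i j) (hgen i j)

/-- a scheme covered by affine opens of the form `X_s`, `s` a section of a positive power of an
invertible module, is separated -/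
theorem isSeparated_of_affine_genLocus_cover (X : Scheme.{u}) (L : X.Modules)
    (hL : PicF.IsInvertible L)
    (h : ∀ x : X, ∃ (n : ℕ) (s : Coh.structureModule X ⟶ CohB1.tensorPow L (n + 1)),
      x ∈ CohB1.genLocus _ s ∧ IsAffineOpen (CohB1.genLocus _ s)) :
    X.IsSeparated := by
  choose n s hx haff using h
  refine isSeparated_of_cover X (fun x => CohB1.genLocus _ (s x)) hx haff ?_ ?_
  · intro x y
    exact isAffineOpen_genLocus_inf (isInvertible_tensorPow hL _) (s x) (haff y)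
  · intro x y D h1 h2 hD z
    obtain ⟨a, b, ha, hb⟩ := exists_common_power hL (s x) (s y)
    exact exists_eq_mul_pow' (isInvertible_tensorPow hL _) a b _ _ ha.symm hb.symm (haff x)
      D h1 h2 hD z

end Groth.Agent.H67.SepCover
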