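import Groth.Agent.H67.AmplePullback
import Groth.Agent.H18.STL.AmpleTensor
import Mathlib.AlgebraicGeometry.Morphisms.Affine
import Mathlib.AlgebraicGeometry.Morphisms.QuasiSeparated

/-!
# Ample modules on fibre products

`L` ample on `X`, `N` ample on `Y`, `S` quasi-separated: `p₁^*L ⊗ p₂^*N` is ample on `X ×_S Y`.
-/

set_option autoImplicit false
set_option linter.style.haveILetI false
universe u
open CategoryTheory CategoryTheory.Limits AlgebraicGeometry TopologicalSpace Opposite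

namespace Groth.Agent.H67.AmpleProduct

open Groth.Agent.H18 Groth.Agent.H18.PUP Groth.Agent.H18.STL

/-- the "box" `p₁⁻¹U ∩ p₂⁻¹V` of affine opens lying over a common affine open is affine -/
theorem isAffineOpen_pullback_inf {X Y Z : Scheme.{u}} {f : X ⟶ Z} {g : Y ⟶ Z}
    {U : X.Opens} (hU : IsAffineOpen U) {V : Y.Opens} (hV : IsAffineOpen V)
    {W : Z.Opens} (hW : IsAffineOpen W) (hUW : U ≤ f ⁻¹ᵁ W) (hVW : V ≤ g ⁻¹ᵁ W) :
    IsAffineOpen (pullback.fst f g ⁻¹ᵁ U ⊓ pullback.snd f g ⁻¹ᵁ V) := by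
  haveI : IsAffine U.toScheme := hU
  haveI : IsAffine V.toScheme := hV
  haveI : IsAffine W.toScheme := hW
  let f' : U.toScheme ⟶ W := f.resLE _ _ hUW
  let g' : V.toScheme ⟶ W := g.resLE _ _ hVW
  let p : pullback f' g' ⟶ pullback f g :=
    pullback.map _ _ _ _ U.ι V.ι W.ι (by simp [f']) (by simp [g'])
  have h := isAffineOpen_opensRange p
  convert h using 1
  apply Opens.ext
  simp [p, Scheme.Pullback.range_map]

/-- EGA II 4.6.13-type statement for absolute ampleness: the exterior tensor product of ample modules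
is ample on a fibre product over a quasi-separated base -/
theorem isAmple_tensorMod_pullback {X Y S : Scheme.{u}} [QuasiSeparatedSpace S]
    (f : X ⟶ S) (g : Y ⟶ S) (L : X.Modules) (N : Y.Modules) (hL : CohB1.IsAmple L)
    (hN : CohB1.IsAmple N) :
    CohB1.IsAmple (CohB1.tensorMod ((Scheme.Modules.pullback (pullback.fst f g)).obj L)
      ((Scheme.Modules.pullback (pullback.snd f g)).obj N)) := by
  have hL₁ := Groth.Agent.H67.AmplePullback.isInvertible_pullback (pullback.fst f g) hL.1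
  have hN₁ := Groth.Agent.H67.AmplePullback.isInvertible_pullback (pullback.snd f g) hN.1
  haveI : CompactSpace X := hL.2.1
  haveI : CompactSpace Y := hN.2.1
  haveI : CompactSpace ↥(pullback f g) :=
    QuasiCompact.compactSpace_of_compactSpace (pullback.fst f g)
  refine ⟨isInvertible_tensorMod hL₁ hN₁, inferInstance, fun z => ?_⟩
  -- an affine neighbourhood of the image in `S`
  obtain ⟨_, ⟨W, hW, rfl⟩, hzW, -⟩ := S.isBasis_affineOpens.exists_subset_of_mem_open
    (Set.mem_univ ((pullback.fst f g ≫ f) z)) isOpen_univ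
  have hxW : pullback.fst f g z ∈ f ⁻¹ᵁ W := by simpa using hzW
  have hyW : pullback.snd f g z ∈ g ⁻¹ᵁ W := by
    rw [pullback.condition] at hzW; simpa using hzW
  obtain ⟨k, a, hxa, haW, haaff⟩ := exists_genLocus_nhd_of_isAmple hL _ _ hxW
  obtain ⟨m, b, hyb, hbW, hbaff⟩ := exists_genLocus_nhd_of_isAmple hN _ _ hyW
  obtain ⟨s₁, hs₁⟩ := Groth.Agent.H67.AmplePullback.exists_pullback_section
    (pullback.fst f g) hL.1 (k + 1) a
  obtain ⟨s₂, hs₂⟩ := Groth.Agent.H67.AmplePullback.exists_pullback_section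
    (pullback.snd f g) hN.1 (m + 1) b
  obtain ⟨𝔘, e, e', he, he'⟩ := exists_common_cover hL₁ hN₁
  have hc := hasCocycle_cocycleOf 𝔘 he
  have hc' := hasCocycle_cocycleOf 𝔘 he'
  set c := cocycleOf 𝔘 he with hc_def
  set c' := cocycleOf 𝔘 he' with hc'_def
  have hLk := isInvertible_tensorPow hL₁ (k + 1)
  have hNm := isInvertible_tensorPow hN₁ (m + 1)
  have g1 := genLocus_powHom hLk s₁ (Nat.succ_pos m)
  have g2 := genLocus_powHom hNm s₂ (Nat.succ_pos k)
  have g3 : CohB1.genLocus _ (SecTwist.tmulHom (SecTwist.powHom s₁ (m + 1))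
      (SecTwist.powHom s₂ (k + 1))) =
      pullback.fst f g ⁻¹ᵁ CohB1.genLocus _ a ⊓ pullback.snd f g ⁻¹ᵁ CohB1.genLocus _ b := by
    rw [Groth.Agent.S15745.result _ _ _ (isInvertible_tensorPow hLk _)
      (isInvertible_tensorPow hNm _), g1, g2, hs₁, hs₂]
  have w₁ := ((hc.lpow (k + 1)).lpow (m + 1)).tmul ((hc'.lpow (m + 1)).lpow (k + 1))
  have w₂ := (hc.tmul hc').lpow ((k + 1) * m + k + 1)
  have hcoc : (c ^ (k + 1)) ^ (m + 1) * (c' ^ (m + 1)) ^ (k + 1) =
      (c * c') ^ ((k + 1) * m + k + 1) := by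
    rw [← pow_mul, ← pow_mul, mul_pow]
    congr 2 <;> ring
  rw [hcoc] at w₁
  obtain ⟨b', -, hb'⟩ := w₁.exists_transfer w₂ _
  refine ⟨(k + 1) * m + k, b', ?_, ?_⟩
  · rw [hb', g3]; exact ⟨hxa, hyb⟩
  · rw [hb', g3]; exact isAffineOpen_pullback_inf haaff hbaff hW haW hbW

end Groth.Agent.H67.AmpleProduct
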