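import Groth.Agent.H67.FreeNearFinite
import Groth.Agent.H67.InvertibleNearFibre

/-!
# Affine version of `FreeNearFinite.exists_free_nhds`, and the invertible case
-/

set_option autoImplicit false
set_option linter.style.haveILetI false
universe u
open CategoryTheory CategoryTheory.Limits AlgebraicGeometry TopologicalSpace Opposite

namespace Groth.Agent.H67.FreeNearFinite2

open Scheme.Modules Groth.Agent.H44 Groth.Agent.H67.FreeNearFinite

variable {X : Scheme.{u}}

/-- A locally free module of rank `r` is free of rank `r` on an affine open neighbourhood of any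
finite subset of an affine open. -/
theorem exists_free_affine_nhds (r : ℕ) (E : X.Modules) (hE : FlatMod.IsFinLocFreeOfRank r E)
    (Z : Set X) (hZ : Z.Finite) (V : X.Opens) (hV : IsAffineOpen V) (hZV : Z ⊆ V) :
    ∃ U : X.Opens, IsAffineOpen U ∧ Z ⊆ U ∧ U ≤ V ∧
      Nonempty (E.restrict U.ι ≅ FlatMod.freeMod (U : Scheme.{u}) r) := by
  have hE' := isFinLocFree_of_rank hE
  haveI : E.IsQuasicoherent := isQuasicoherent_of_isFinLocFree E hE'
  obtain ⟨hfin, hproj⟩ := finite_projective_of_isFinLocFree E hE' hV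
  haveI : Finite Z := hZ.to_subtype
  let p : Z → Ideal Γ(X, V) := fun z => (hV.primeIdealOf ⟨z.1, hZV z.2⟩).asIdeal
  haveI : ∀ z, (p z).IsPrime := fun z => (hV.primeIdealOf ⟨z.1, hZV z.2⟩).isPrime
  obtain ⟨f, hf, ⟨b'⟩⟩ := SemilocalFree.exists_basis_away p Γ(E, V) r
    (fun z => rankAtStalk_sections E hE hV (hZV z.2))
  letI := basicOpenModule E f
  haveI := isScalarTower_basicOpen E f
  haveI := isLocalizedModule_resBasicOpen E f hV
  haveI : IsLocalization (.powers f) Γ(X, X.basicOpen f) := hV.isLocalization_basicOpen f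
  let b'' : Module.Basis (Fin r) Γ(X, X.basicOpen f) Γ(E, X.basicOpen f) :=
    basisOfLocalizedModule (.powers f) Γ(X, X.basicOpen f) (resBasicOpen E f) b'
  obtain ⟨iso⟩ := nonempty_iso_freeMod_of_basis E (hV.basicOpen f) b''
  refine ⟨X.basicOpen f, hV.basicOpen f, ?_, X.basicOpen_le f, ⟨iso⟩⟩
  intro z hz
  exact (Groth.Agent.H8.notMem_primeIdealOf_iff hV (hZV hz) f).1 (hf ⟨z, hz⟩)

/-- An invertible module is trivial on an affine open neighbourhood of any finite subset of an
affine open. -/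
theorem exists_trivial_affine_nhds (L : X.Modules) (hL : PicF.IsInvertible L)
    (Z : Set X) (hZ : Z.Finite) (V : X.Opens) (hV : IsAffineOpen V) (hZV : Z ⊆ V) :
    ∃ U : X.Opens, IsAffineOpen U ∧ Z ⊆ U ∧ U ≤ V ∧
      Nonempty (L.restrict U.ι ≅ Coh.structureModule (U : Scheme.{u})) := by
  obtain ⟨U, hU, hZU, hUV, ⟨e⟩⟩ := exists_free_affine_nhds 1 L
    (InvertibleNearFibre.isFinLocFreeOfRank_one L hL) Z hZ V hV hZV
  exact ⟨U, hU, hZU, hUV, ⟨e ≪≫ InvertibleNearFibre.freeModOneIso _⟩⟩

end Groth.Agent.H67.FreeNearFinite2
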