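import Groth.Agent.H67.SepCover

/-!
# Loci of generation of sums of sections of an invertible module
-/

set_option autoImplicit false
set_option linter.style.haveILetI false
universe u
open CategoryTheory CategoryTheory.Limits AlgebraicGeometry TopologicalSpace Opposite

namespace Groth.Agent.H67.SumSections

open Groth.Agent.H18 Groth.Agent.H18.PUP Groth.Agent.H18.STL Groth.Agent.H67.BasisLocal

variable {X : Scheme.{u}}

theorem val_add {M : X.Modules} (a b : Coh.structureModule X ⟶ M) (V : X.Opens) :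
    (SecTwist.val (a + b) V : Γ(M, V)) = SecTwist.val a V + SecTwist.val b V := rfl

theorem val_zero {M : X.Modules} (V : X.Opens) :
    (SecTwist.val (0 : Coh.structureModule X ⟶ M) V : Γ(M, V)) = 0 := rfl

/-- local description: near a point, the three sections `a`, `b`, `a + b` have coordinates
`f`, `g`, `f + g` with respect to a basis -/
theorem exists_local_coords {M : X.Modules} (hM : PicF.IsInvertible M)
    (a b : Coh.structureModule X ⟶ M) (x : X) :
    ∃ (W : X.Opens) (_ : x ∈ W) (f g : Γ(X, W)),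
      CohB1.genLocus M a ⊓ W = X.basicOpen f ∧ CohB1.genLocus M b ⊓ W = X.basicOpen g ∧
        CohB1.genLocus M (a + b) ⊓ W = X.basicOpen (f + g) := by
  obtain ⟨W, e, hxW, he⟩ := exists_basis_of_isInvertible hM x
  obtain ⟨f, hf⟩ : ∃ f : Γ(X, W), SecTwist.val a W = f • e := by
    refine ⟨he.coord le_rfl (SecTwist.val a W), ?_⟩
    have := he.coord_smul le_rfl (SecTwist.val a W)
    rw [mres_self] at this
    exact this.symm
  obtain ⟨g, hg⟩ : ∃ g : Γ(X, W), SecTwist.val b W = g • e := by
    refine ⟨he.coord le_rfl (SecTwist.val b W), ?_⟩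
    have := he.coord_smul le_rfl (SecTwist.val b W)
    rw [mres_self] at this
    exact this.symm
  have hfg : SecTwist.val (a + b) W = (f + g) • e := by
    rw [add_smul, ← hf, ← hg]
    exact val_add a b W
  exact ⟨W, hxW, f, g, genLocus_inf_eq_basicOpen a he f hf, genLocus_inf_eq_basicOpen b he g hg,
    genLocus_inf_eq_basicOpen (a + b) he (f + g) hfg⟩

theorem genLocus_zero {M : X.Modules} (hM : PicF.IsInvertible M) :
    CohB1.genLocus M (0 : Coh.structureModule X ⟶ M) = ⊥ := by
  rw [eq_bot_iff]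
  intro x hx
  exfalso
  obtain ⟨W, e, hxW, he⟩ := exists_basis_of_isInvertible hM x
  have h0 : SecTwist.val (0 : Coh.structureModule X ⟶ M) W = (0 : Γ(X, W)) • e := by
    rw [zero_smul]; exact val_zero W
  have h1 := genLocus_inf_eq_basicOpen (0 : Coh.structureModule X ⟶ M) he 0 h0
  have hx' : x ∈ X.basicOpen (0 : Γ(X, W)) := by rw [← h1]; exact ⟨hx, hxW⟩
  rw [Scheme.basicOpen_zero] at hx'
  exact hx'

theorem genLocus_add_le {M : X.Modules} (hM : PicF.IsInvertible M)
    (a b : Coh.structureModule X ⟶ M) :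
    CohB1.genLocus M (a + b) ≤ CohB1.genLocus M a ⊔ CohB1.genLocus M b := by
  intro x hx
  obtain ⟨W, hxW, f, g, h1, h2, h3⟩ := exists_local_coords hM a b x
  have hx' : x ∈ X.basicOpen (f + g) := by rw [← h3]; exact ⟨hx, hxW⟩
  rw [Scheme.mem_basicOpen _ _ x hxW, map_add] at hx'
  rcases IsLocalRing.isUnit_or_isUnit_of_isUnit_add hx' with hu | hu
  · left
    have : x ∈ X.basicOpen f := (Scheme.mem_basicOpen _ _ x hxW).2 hu
    rw [← h1] at this
    exact this.1
  · right
    have : x ∈ X.basicOpen g := (Scheme.mem_basicOpen _ _ x hxW).2 hu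
    rw [← h2] at this
    exact this.1

theorem mem_genLocus_add {M : X.Modules} (hM : PicF.IsInvertible M)
    (a b : Coh.structureModule X ⟶ M) (x : X) (ha : x ∈ CohB1.genLocus M a)
    (hb : x ∉ CohB1.genLocus M b) : x ∈ CohB1.genLocus M (a + b) := by
  obtain ⟨W, hxW, f, g, h1, h2, h3⟩ := exists_local_coords hM a b x
  have hf : IsUnit (X.presheaf.germ W x hxW f) := by
    rw [← Scheme.mem_basicOpen _ _ x hxW, ← h1]; exact ⟨ha, hxW⟩
  have hg : ¬ IsUnit (X.presheaf.germ W x hxW g) := by
    rw [← Scheme.mem_basicOpen _ _ x hxW, ← h2]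
    exact fun h => hb h.1
  have hfg : IsUnit (X.presheaf.germ W x hxW (f + g)) := by
    rw [map_add]
    by_contra hcon
    have := IsLocalRing.nonunits_add (show _ ∈ nonunits _ from hcon)
      (show -(X.presheaf.germ W x hxW g) ∈ nonunits _ from by
        rw [mem_nonunits_iff, IsUnit.neg_iff]; exact hg)
    rw [add_neg_cancel_right] at this
    exact this hf
  have : x ∈ X.basicOpen (f + g) := (Scheme.mem_basicOpen _ _ x hxW).2 hfg
  rw [← h3] at this
  exact this.1

/-- if `X_a` and `X_b` are affine then so is `X_{a+b}` -/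
theorem isAffineOpen_genLocus_add {M : X.Modules} (hM : PicF.IsInvertible M)
    (a b : Coh.structureModule X ⟶ M) (ha : IsAffineOpen (CohB1.genLocus M a))
    (hb : IsAffineOpen (CohB1.genLocus M b)) : IsAffineOpen (CohB1.genLocus M (a + b)) := by
  have bas := isBasisOn_genLocus hM (a + b)
  obtain ⟨h₁, hh₁⟩ : ∃ h₁ : Γ(X, CohB1.genLocus M (a + b)),
      SecTwist.val a (CohB1.genLocus M (a + b)) =
        h₁ • (show Γ(M, CohB1.genLocus M (a + b)) from
          SecTwist.val (a + b) (CohB1.genLocus M (a + b))) := by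
    refine ⟨bas.coord le_rfl (SecTwist.val a _), ?_⟩
    have := bas.coord_smul le_rfl (SecTwist.val a (CohB1.genLocus M (a + b)))
    rw [mres_self] at this
    exact this.symm
  obtain ⟨h₂, hh₂⟩ : ∃ h₂ : Γ(X, CohB1.genLocus M (a + b)),
      SecTwist.val b (CohB1.genLocus M (a + b)) =
        h₂ • (show Γ(M, CohB1.genLocus M (a + b)) from
          SecTwist.val (a + b) (CohB1.genLocus M (a + b))) := by
    refine ⟨bas.coord le_rfl (SecTwist.val b _), ?_⟩
    have := bas.coord_smul le_rfl (SecTwist.val b (CohB1.genLocus M (a + b)))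
    rw [mres_self] at this
    exact this.symm
  have hsum : h₁ + h₂ = 1 := by
    have hinj := (bas _ le_rfl).1
    apply hinj
    simp only
    rw [mres_self, add_smul, ← hh₁, ← hh₂, one_smul]
    exact (val_add a b _).symm
  have e₁ : CohB1.genLocus M a ⊓ CohB1.genLocus M (a + b) = X.basicOpen h₁ :=
    genLocus_inf_eq_basicOpen a bas h₁ hh₁
  have e₂ : CohB1.genLocus M b ⊓ CohB1.genLocus M (a + b) = X.basicOpen h₂ :=
    genLocus_inf_eq_basicOpen b bas h₂ hh₂
  refine isAffineOpen_of_isAffineOpen_basicOpen _ {h₁, h₂} ?_ ?_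
  · rw [Ideal.eq_top_iff_one, ← hsum]
    exact Ideal.add_mem _ (Ideal.subset_span (by simp)) (Ideal.subset_span (by simp))
  · intro i hi
    rcases hi with rfl | rfl
    · rw [← e₁, inf_comm]
      exact isAffineOpen_genLocus_inf hM (a + b) ha
    · rw [← e₂, inf_comm]
      exact isAffineOpen_genLocus_inf hM (a + b) hb

end Groth.Agent.H67.SumSections
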