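import Groth.Agent.H67.TraceGlue

/-!
# Trace of a quasi-coherent algebra locally free of rank `d` (helper67)

`strMod A ≫ τ = d • 𝟙`, via the basis of affine opens over which `A` has a basis indexed by `Fin d`.
-/

set_option autoImplicit false
set_option linter.style.haveILetI false
universe u
open CategoryTheory AlgebraicGeometry TopologicalSpace Opposite

namespace Groth.Agent.H67.TraceGlue

open Groth.Agent.H67.NormGlue Groth.Agent.H67.NormFreeAlg

variable {X : Scheme.{u}} (A : RelSpec.QCAlg X)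

attribute [local instance] algSec

/-- two morphisms into a sheaf of modules that agree on sections over a basis are equal -/
theorem hom_ext_of_basis {ι : Type u} {B : ι → X.Opens} (hB : Opens.IsBasis (Set.range B))
    {M N : X.Modules} {τ τ' : M ⟶ N}
    (h : ∀ i (a : M.val.obj (op (B i))),
      (τ.val.app (op (B i))).hom a = (τ'.val.app (op (B i))).hom a) : τ = τ' := by
  apply SheafOfModules.hom_ext
  apply (PresheafOfModules.toPresheaf _).map_injective
  apply TopCat.Sheaf.hom_ext _ (⟨N.val.presheaf, N.isSheaf⟩ : TopCat.Sheaf AddCommGrpCat.{u} X.toTopCat) hB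
  intro i
  ext a
  exact h i a

/-- evaluation of morphisms of modules on sections, as a group homomorphism -/
noncomputable def evalHom (M N : X.Modules) (U : X.Opens) :
    (M ⟶ N) →+ (M.val.obj (op U) →+ N.val.obj (op U)) where
  toFun f := (f.val.app (op U)).hom.toAddMonoidHom
  map_zero' := rfl
  map_add' _ _ := rfl

theorem nsmul_val_app {M N : X.Modules} (n : ℕ) (f : M ⟶ N) (U : X.Opens)
    (a : M.val.obj (op U)) :
    ((n • f).val.app (op U)).hom a = n • (f.val.app (op U)).hom a := by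
  have := map_nsmul (evalHom M N U) n f
  exact DFunLike.congr_fun this a

/-- an affine open of `X` over which `A` is free of rank `d` -/
def GoodOfRank (d : ℕ) (U : X.Opens) : Prop :=
  IsAffineOpen U ∧ Nonempty (Module.Basis (Fin d) Γ(X, U) (A.presheaf.obj (op U)))

variable {A}

theorem GoodOfRank.good {d : ℕ} {U : X.Opens} (h : GoodOfRank A d U) : Good A U := by
  obtain ⟨hU, ⟨b⟩⟩ := h
  exact ⟨hU, Module.Free.of_basis b, Module.Finite.of_basis b⟩

theorem isBasis_goodOfRank {d : ℕ} (hA : FlatMod.IsFinLocFreeOfRank d A.toModule) :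
    Opens.IsBasis (Set.range (fun W : {W : X.Opens // GoodOfRank A d W} => W.1)) := by
  rw [Opens.isBasis_iff_nbhd]
  intro U x hx
  obtain ⟨U₀, hxU₀, ⟨e⟩⟩ := hA x
  obtain ⟨_, ⟨W, hW, rfl⟩, hxW, hWU⟩ :=
    X.isBasis_affineOpens.exists_subset_of_mem_open (show x ∈ U₀ ⊓ U from ⟨hxU₀, hx⟩) (U₀ ⊓ U).2
  obtain ⟨b⟩ := Groth.Agent.H44.nonempty_basis_of_iso_freeMod A.toModule hW
    (fun y hy => (hWU hy).1) e
  exact ⟨W, ⟨⟨W, hW, ⟨b⟩⟩, rfl⟩, hxW, fun y hy => (hWU hy).2⟩

theorem strMod_comp_trace {d : ℕ} (hA : FlatMod.IsFinLocFreeOfRank d A.toModule)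
    (τ : A.toModule ⟶ Coh.structureModule X) (hτ : FinCov.IsTrace A τ) :
    FinCov.strMod A ≫ τ = d • 𝟙 (Coh.structureModule X) := by
  refine hom_ext_of_basis (isBasis_goodOfRank hA) (fun W s => ?_)
  obtain ⟨hW, ⟨b⟩⟩ := W.2
  rw [nsmul_val_app]
  have h1 := hτ W.1 hW (Module.Free.of_basis b) (Module.Finite.of_basis b)
    ((A.str.app (op W.1)).hom s)
  have h2 := Algebra.trace_algebraMap_of_basis b s
  rw [Fintype.card_fin] at h2
  exact h1.trans h2

end Groth.Agent.H67.TraceGlue
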