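import Groth.Agent.H67.SemilocalFree
import Groth.Agent.H44.LocFree
import Groth.Agent.H44.Retract
import Groth.Agent.H18.QCohLocal
import Groth.Agent.H8.QCohStalk

/-!
# A locally free module of rank `r` is free near any finite subset of an affine open
-/

set_option autoImplicit false
set_option linter.style.haveILetI false
universe u
open CategoryTheory CategoryTheory.Limits AlgebraicGeometry TopologicalSpace Opposite

namespace Groth.Agent.H67.FreeNearFinite

open Scheme.Modules Groth.Agent.H44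

variable {X : Scheme.{u}}

theorem isFinLocFree_of_rank {r : ℕ} {E : X.Modules} (hE : FlatMod.IsFinLocFreeOfRank r E) :
    FlatMod.IsFinLocFree E := by
  intro x
  obtain ⟨U, hx, e⟩ := hE x
  exact ⟨U, r, hx, e⟩

/-- finite locally free modules are quasi-coherent -/
theorem isQuasicoherent_of_isFinLocFree (M : X.Modules) (h : FlatMod.IsFinLocFree M) :
    M.IsQuasicoherent := by
  choose U n hxU e using h
  refine Groth.Agent.H18.isQuasicoherent_of_isOpenCover M U ?_ (fun x => ?_)
  · refine TopologicalSpace.IsOpenCover.mk (eq_top_iff.2 fun x _ => ?_)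
    exact TopologicalSpace.Opens.mem_iSup.2 ⟨x, hxU x⟩
  · have := Groth.Agent.H44.isQuasicoherent_freeMod (X := (U x : Scheme.{u})) (n x)
    exact (SheafOfModules.isQuasicoherent (U x : Scheme.{u}).ringCatSheaf).prop_of_iso
      (e x).some.symm this

/-- the rank at the prime of a point `x` of an affine open `V` of the sections over `V` of a
locally free module of rank `r` is `r` -/
theorem rankAtStalk_sections {r : ℕ} (E : X.Modules) [E.IsQuasicoherent]
    (hE : FlatMod.IsFinLocFreeOfRank r E) {V : X.Opens} (hV : IsAffineOpen V) {x : X}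
    (hx : x ∈ V) :
    Module.rankAtStalk Γ(E, V) (hV.primeIdealOf ⟨x, hx⟩) = r := by
  obtain ⟨hfin, hproj⟩ := finite_projective_of_isFinLocFree E (isFinLocFree_of_rank hE) hV
  haveI : Module.Flat Γ(X, V) Γ(E, V) := inferInstance
  obtain ⟨U, hxU, ⟨e⟩⟩ := hE x
  obtain ⟨g, hgU, hxg⟩ := hV.exists_basicOpen_le ⟨x, hxU⟩ hx
  obtain ⟨b⟩ := nonempty_basis_of_iso_freeMod E (hV.basicOpen g) hgU e
  letI := basicOpenModule E g
  haveI := isScalarTower_basicOpen E g
  haveI := isLocalizedModule_resBasicOpen E g hV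
  haveI : IsLocalization (.powers g) Γ(X, X.basicOpen g) := hV.isLocalization_basicOpen g
  have hbc : IsBaseChange Γ(X, X.basicOpen g) (resBasicOpen E g) :=
    IsLocalizedModule.isBaseChange (.powers g) Γ(X, X.basicOpen g) (resBasicOpen E g)
  set p := (hV.primeIdealOf ⟨x, hx⟩).asIdeal with hp
  have hgp : g ∉ p := (Groth.Agent.H8.notMem_primeIdealOf_iff hV hx g).2 hxg
  have hdis : Disjoint ((Submonoid.powers g : Submonoid Γ(X, V)) : Set Γ(X, V)) (p : Set Γ(X, V)) := by
    rw [Set.disjoint_left]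
    rintro _ ⟨n, rfl⟩ hn
    exact hgp (Ideal.IsPrime.mem_of_pow_mem inferInstance n hn)
  have hprime : (p.map (algebraMap Γ(X, V) Γ(X, X.basicOpen g))).IsPrime :=
    IsLocalization.isPrime_of_isPrime_disjoint (.powers g) _ p inferInstance hdis
  let P : PrimeSpectrum Γ(X, X.basicOpen g) := ⟨_, hprime⟩
  have hcomap : PrimeSpectrum.comap (algebraMap Γ(X, V) Γ(X, X.basicOpen g)) P =
      hV.primeIdealOf ⟨x, hx⟩ :=
    PrimeSpectrum.ext (IsLocalization.under_map_of_isPrime_disjoint (.powers g) _ inferInstance hdis)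
  have h1 := Module.rankAtStalk_isBaseChange hbc P
  rw [hcomap] at h1
  rw [← h1]
  haveI : Module.Free Γ(X, X.basicOpen g) Γ(E, X.basicOpen g) := Module.Free.of_basis b
  haveI : Nontrivial Γ(X, X.basicOpen g) := P.nontrivial
  rw [Module.rankAtStalk_eq_finrank_of_free]
  simp [Module.finrank_eq_card_basis b]

/-- A locally free module of rank `r` is free of rank `r` in a neighbourhood of any finite subset
of an affine open. -/
theorem exists_free_nhds (r : ℕ) (E : X.Modules) (hE : FlatMod.IsFinLocFreeOfRank r E)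
    (Z : Set X) (hZ : Z.Finite) (V : X.Opens) (hV : IsAffineOpen V) (hZV : Z ⊆ V) :
    ∃ U : X.Opens, Z ⊆ U ∧ U ≤ V ∧
      Nonempty (E.restrict U.ι ≅ FlatMod.freeMod (U : Scheme.{u}) r) := by
  have hE' := isFinLocFree_of_rank hE
  haveI : E.IsQuasicoherent := isQuasicoherent_of_isFinLocFree E hE'
  obtain ⟨hfin, hproj⟩ := finite_projective_of_isFinLocFree E hE' hV
  haveI : Finite Z := hZ.to_subtype
  let p : Z → Ideal Γ(X, V) := fun z => (hV.primeIdealOf ⟨z.1, hZV z.2⟩).asIdeal
  haveI : ∀ z, (p z).IsPrime := fun z => (hV.primeIdealOf ⟨z.1, hZV z.2⟩).isPrime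
  obtain ⟨f, hf, ⟨b'⟩⟩ := SemilocalFree.exists_basis_away p Γ(E, V) r
    (fun z => rankAtStalk_sections E hE hV (hZV z.2))
  letI := basicOpenModule E f
  haveI := isScalarTower_basicOpen E f
  haveI := isLocalizedModule_resBasicOpen E f hV
  haveI : IsLocalization (.powers f) Γ(X, X.basicOpen f) := hV.isLocalization_basicOpen f
  let b'' : Module.Basis (Fin r) Γ(X, X.basicOpen f) Γ(E, X.basicOpen f) :=
    basisOfLocalizedModule (.powers f) Γ(X, X.basicOpen f) (resBasicOpen E f) b'
  obtain ⟨iso⟩ := nonempty_iso_freeMod_of_basis E (hV.basicOpen f) b''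
  refine ⟨X.basicOpen f, ?_, X.basicOpen_le f, ⟨iso⟩⟩
  intro z hz
  exact (Groth.Agent.H8.notMem_primeIdealOf_iff hV (hZV hz) f).1 (hf ⟨z, hz⟩)

end Groth.Agent.H67.FreeNearFinite
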