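import Groth.Agent.H67.TraceRank
import Groth.Agent.H67.FreeNearFinite
import Groth.Agent.H18.SectionHom
import Groth.Agent.H92.LocFreeRank
import Groth.Agent.H44.LocFree
import Groth.Agent.H44.Retract

/-!
# Splitting of the trace when the rank is invertible (helper67)

For `A` locally free of rank `d` with trace `τ` and `d` invertible on `X`, `τ` is a split epimorphism
and `kernel τ` is locally free of rank `d - 1`.
-/

set_option autoImplicit false
set_option linter.style.haveILetI false
universe u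
open CategoryTheory CategoryTheory.Limits AlgebraicGeometry TopologicalSpace Opposite

namespace Groth.Agent.H67.TraceSplit

open Groth.Agent.H67.TraceGlue Groth.Agent.H92.LocFreeRank Groth.Agent.H44

section Algebra

/-- a complement of a rank one free summand in a free module of rank `d` has rank `d - 1` -/
theorem split_rank {R : Type*} [CommRing R] {A K P : Type*} [AddCommGroup A] [Module R A]
    [AddCommGroup K] [Module R K] [AddCommGroup P] [Module R P] {d : ℕ}
    (b : Module.Basis (Fin d) R A) (e : P ≃ₗ[R] R)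
    (i : K →ₗ[R] A) (q : A →ₗ[R] K) (τ : A →ₗ[R] P) (σ : P →ₗ[R] A)
    (hqi : q ∘ₗ i = LinearMap.id) (hτσ : τ ∘ₗ σ = LinearMap.id) (hτi : τ ∘ₗ i = 0)
    (hsum : i ∘ₗ q + σ ∘ₗ τ = LinearMap.id) :
    Module.Finite R K ∧ Module.Projective R K ∧
      ∀ p : PrimeSpectrum R, Module.rankAtStalk K p = d - 1 := by
  haveI : Module.Free R A := Module.Free.of_basis b
  haveI : Module.Finite R A := Module.Finite.of_basis b
  have hqi' : ∀ k, q (i k) = k := fun k => LinearMap.congr_fun hqi k
  have hτσ' : ∀ r, τ (σ r) = r := fun r => LinearMap.congr_fun hτσ r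
  have hτi' : ∀ k, τ (i k) = 0 := fun k => LinearMap.congr_fun hτi k
  have hsum' : ∀ a, i (q a) + σ (τ a) = a := fun a => LinearMap.congr_fun hsum a
  have hqσ : ∀ r, q (σ r) = 0 := by
    intro r
    have h1 := hsum' (σ r)
    rw [hτσ'] at h1
    have h2 : i (q (σ r)) = 0 := by simpa using h1
    rw [← hqi' (q (σ r)), h2, map_zero]
  haveI hfinK : Module.Finite R K :=
    Module.Finite.of_surjective q (fun k => ⟨i k, hqi' k⟩)
  haveI hprojK : Module.Projective R K := Module.Projective.of_split i q hqi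
  refine ⟨hfinK, hprojK, fun p => ?_⟩
  haveI : Nontrivial R := p.nontrivial
  let E : A ≃ₗ[R] K × R :=
    LinearEquiv.ofLinear (q.prod (e.toLinearMap ∘ₗ τ)) (i.coprod (σ ∘ₗ e.symm.toLinearMap))
      (by
        ext k
        · simp [hqi']
        · simp [hτi']
        · simp [hqσ]
        · simp [hτσ'])
      (by
        ext a
        simp [hsum'])
  have h1 := Module.rankAtStalk_eq_of_equiv E
  have h2 : Module.rankAtStalk (R := R) A p = d := by
    rw [Module.rankAtStalk_eq_finrank_of_free]
    simp [Module.finrank_eq_card_basis b]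
  have h3 := Module.rankAtStalk_prod (R := R) K R
  have h4 := congrFun h1 p
  rw [h3, h2] at h4
  simp only [Pi.add_apply, Module.rankAtStalk_self, Pi.one_apply] at h4
  omega

end Algebra

variable {X : Scheme.{u}}

/-- variant of `H44.exists_iso_freeMod_of_finite_projective` with prescribed rank -/
theorem exists_iso_freeMod_of_rankAtStalk (F : X.Modules) [F.IsQuasicoherent] {V : X.Opens}
    (hV : IsAffineOpen V) [Module.Finite Γ(X, V) Γ(F, V)] [Module.Projective Γ(X, V) Γ(F, V)]
    {x : X} (hx : x ∈ V) {m : ℕ}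
    (hm : Module.rankAtStalk Γ(F, V) (hV.primeIdealOf ⟨x, hx⟩) = m) :
    ∃ U : X.Opens, x ∈ U ∧ Nonempty (F.restrict U.ι ≅ FlatMod.freeMod U.toScheme m) := by
  set p := (hV.primeIdealOf ⟨x, hx⟩).asIdeal with hp
  haveI : Module.FinitePresentation Γ(X, V) Γ(F, V) := Module.finitePresentation_of_projective _ _
  haveI : Module.Free (Localization.AtPrime p) (LocalizedModule p.primeCompl Γ(F, V)) :=
    Module.free_of_flat_of_isLocalRing
  let I := Module.Free.ChooseBasisIndex (Localization.AtPrime p)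
    (LocalizedModule p.primeCompl Γ(F, V))
  let b : Module.Basis I (Localization.AtPrime p) (LocalizedModule p.primeCompl Γ(F, V)) :=
    Module.Free.chooseBasis _ _
  have hcard : Fintype.card I = m := by
    rw [← hm, ← Module.finrank_eq_card_chooseBasisIndex]
    rfl
  obtain ⟨r, hr, b', -⟩ := Module.FinitePresentation.exists_basis_localizedModule_powers
    p.primeCompl (LocalizedModule.mkLinearMap p.primeCompl Γ(F, V)) (Localization.AtPrime p) b
  letI := basicOpenModule F r
  haveI := isScalarTower_basicOpen F r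
  haveI := isLocalizedModule_resBasicOpen F r hV
  haveI : IsLocalization (.powers r) Γ(X, X.basicOpen r) := hV.isLocalization_basicOpen r
  let b'' : Module.Basis I Γ(X, X.basicOpen r) Γ(F, X.basicOpen r) :=
    basisOfLocalizedModule (.powers r) Γ(X, X.basicOpen r) (resBasicOpen F r) b'
  obtain ⟨iso⟩ := nonempty_iso_freeMod_of_basis F (hV.basicOpen r)
    (b''.reindex (Fintype.equivFinOfCardEq hcard))
  exact ⟨X.basicOpen r, (Groth.Agent.H8.notMem_primeIdealOf_iff hV hx r).mp hr, ⟨iso⟩⟩

variable {X : Scheme.{u}} {A : RelSpec.QCAlg X}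

/-- sections of the structure module are functions -/
noncomputable def secEquivAt (X : Scheme.{u}) (W : X.Opens) :
    Γ(Coh.structureModule X, W) ≃ₗ[Γ(X, W)] Γ(X, W) where
  toFun x := x
  invFun x := x
  map_add' _ _ := rfl
  map_smul' _ _ := rfl
  left_inv _ := rfl
  right_inv _ := rfl

/-- the section of the trace when `d` is invertible -/
noncomputable def traceSection (A : RelSpec.QCAlg X) (u : Γ(X, ⊤)) :
    Coh.structureModule X ⟶ A.toModule :=
  Groth.Agent.H18.sectionHom A.toModule ((A.str.app (op ⊤)).hom u)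

theorem traceSection_comp {d : ℕ} (hA : FlatMod.IsFinLocFreeOfRank d A.toModule)
    (τ : A.toModule ⟶ Coh.structureModule X) (hτ : FinCov.IsTrace A τ)
    (u : Γ(X, ⊤)) (hu : (d : Γ(X, ⊤)) * u = 1) :
    traceSection A u ≫ τ = 𝟙 (Coh.structureModule X) := by
  apply Scheme.Modules.hom_ext
  intro U
  ext (r : Γ(X, U))
  have h0 := strMod_comp_trace hA τ hτ
  have h1 : (traceSection A u).app U r =
      r • Groth.Agent.H18.mres A.toModule (le_top : U ≤ ⊤) ((A.str.app (op ⊤)).hom u) :=
    Groth.Agent.H18.sectionHom_app A.toModule _ U r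
  have h2 : Groth.Agent.H18.mres A.toModule (le_top : U ≤ ⊤) ((A.str.app (op ⊤)).hom u) =
      (A.str.app (op U)).hom (NormGlue.rY X (le_top : U ≤ ⊤) u) :=
    (str_rY A (le_top : U ≤ ⊤) u).symm
  have h3 : τ.app U ((A.str.app (op U)).hom (NormGlue.rY X (le_top : U ≤ ⊤) u)) =
      d • (NormGlue.rY X (le_top : U ≤ ⊤) u) := by
    have := nsmul_val_app d (𝟙 (Coh.structureModule X)) U (NormGlue.rY X (le_top : U ≤ ⊤) u)
    rw [← h0] at this
    exact this
  have h4 : d • (NormGlue.rY X (le_top : U ≤ ⊤) u) = (1 : Γ(X, U)) := by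
    rw [nsmul_eq_mul, ← map_natCast (NormGlue.rY X (le_top : U ≤ ⊤)), ← map_mul, hu, map_one]
  change τ.app U ((traceSection A u).app U r) = r
  rw [h1, Scheme.Modules.Hom.app_smul, h2, h3]
  change r * (d • (NormGlue.rY X (le_top : U ≤ ⊤) u)) = r
  rw [h4, mul_one]

theorem isSplitEpi_and_kernel {d : ℕ} (hA : FlatMod.IsFinLocFreeOfRank d A.toModule)
    (τ : A.toModule ⟶ Coh.structureModule X) (hτ : FinCov.IsTrace A τ)
    (hd : IsUnit ((d : Γ(X, ⊤)))) :
    IsSplitEpi τ ∧ FlatMod.IsFinLocFreeOfRank (d - 1) (kernel τ) := by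
  obtain ⟨u, hu⟩ := hd.exists_right_inv
  set σ := traceSection A u with hσdef
  have hστ : σ ≫ τ = 𝟙 _ := traceSection_comp hA τ hτ u hu
  refine ⟨IsSplitEpi.mk' ⟨σ, hστ⟩, ?_⟩
  let q : A.toModule ⟶ kernel τ := kernel.lift τ (𝟙 _ - τ ≫ σ) (by
    rw [Preadditive.sub_comp, Category.assoc, hστ, Category.id_comp, Category.comp_id, sub_self])
  have hq1 : kernel.ι τ ≫ q = 𝟙 _ := by
    rw [← cancel_mono (kernel.ι τ), Category.assoc, kernel.lift_ι, Preadditive.comp_sub,
      Category.comp_id, kernel.condition_assoc, zero_comp, sub_zero, Category.id_comp]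
  have hq2 : q ≫ kernel.ι τ + τ ≫ σ = 𝟙 _ := by
    rw [kernel.lift_ι, sub_add_cancel]
  haveI : A.toModule.IsQuasicoherent :=
    FreeNearFinite.isQuasicoherent_of_isFinLocFree _ (FreeNearFinite.isFinLocFree_of_rank hA)
  haveI : (kernel τ).IsQuasicoherent := isQuasicoherent_of_retract (kernel.ι τ) q hq1
  intro x
  obtain ⟨_, ⟨W, rfl⟩, hxW, -⟩ :=
    Opens.isBasis_iff_nbhd.mp (isBasis_goodOfRank hA) (show x ∈ (⊤ : X.Opens) from trivial)
  obtain ⟨hW, ⟨b⟩⟩ := W.2
  have b' : Module.Basis (Fin d) Γ(X, W.1) Γ(A.toModule, W.1) := b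
  obtain ⟨hfin, hproj, hrank⟩ := split_rank b' (secEquivAt X W.1)
    (appLin (kernel.ι τ) W.1) (appLin q W.1) (appLin τ W.1) (appLin σ W.1)
    (by rw [← appLin_comp, hq1, appLin_id])
    (by rw [← appLin_comp, hστ, appLin_id])
    (by rw [← appLin_comp, kernel.condition, appLin_zero])
    (by rw [← appLin_comp, ← appLin_comp, ← appLin_add, hq2, appLin_id])
  exact exists_iso_freeMod_of_rankAtStalk (kernel τ) hW hxW (hrank _)

end Groth.Agent.H67.TraceSplit
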