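import Groth.Agent.H44.PullUnit
import Groth.Agent.H54.PullbackSection
import Groth.Agent.H18.STL.Restrict
import Groth.Agent.H67.BasisLocal

/-!
# Pullback of a local basis of a module is a local basis of the pullback
-/

set_option autoImplicit false
set_option linter.style.haveILetI false
universe u
open CategoryTheory AlgebraicGeometry TopologicalSpace Opposite

namespace Groth.Agent.H67.PullBasis

open Groth.Agent.H18 Groth.Agent.H18.PUP Groth.Agent.H18.STL Groth.Agent.H44 Scheme.Modules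

variable {Z S : Scheme.{u}} (u : Z ⟶ S)

/-- a global section which is a basis over `V` pulls back to a basis over `u⁻¹ V` -/
theorem isBasisOn_pullSect_global (M : S.Modules) (e : Γ(M, (⊤ : S.Opens))) (V : S.Opens)
    (he : IsBasisOn M V (mres M le_top e)) :
    IsBasisOn ((pullback u).obj M) (u ⁻¹ᵁ V)
      (mres ((pullback u).obj M) le_top (OmegaSh.pullSect u M ⊤ e)) := by
  have h1 : IsIso ((restrictFunctor V.ι).map (sectionHom M e)) := by
    rw [Groth.Agent.H67.GenLocusAffine.isIso_restrict_iff]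
    intro W hW
    have hb := he W hW
    have : ((sectionHom M e).app W : Γ(S, W) → Γ(M, W)) =
        fun r : Γ(S, W) => r • mres M hW (mres M le_top e) := by
      funext r
      rw [mres_mres]
      exact sectionHom_app M e W r
    rw [this]
    exact hb
  have h2 := Groth.Agent.H54.PB.isIso_restrict_sectionHom_pullSect u M e V h1
  intro W hW
  have hb := Groth.Agent.H54.PB.smul_mres_bijective _ (Groth.Agent.H54.PB.pullSect u M ⊤ e)
    (u ⁻¹ᵁ V) h2 W hW
  have : (fun r : Γ(Z, W) => r • mres ((pullback u).obj M) hW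
      (mres ((pullback u).obj M) le_top (OmegaSh.pullSect u M ⊤ e))) =
      fun r : Γ(Z, W) => r • (mres ((pullback u).obj M) (le_top : W ≤ ⊤)
        (Groth.Agent.H54.PB.pullSect u M ⊤ e) : Γ((pullback u).obj M, W)) := by
    funext r
    rw [mres_mres]
    rfl
  rw [this]
  exact hb

/-- restriction to `u⁻¹W` of the pullback is the pullback along `u ∣_ W` of the restriction -/
noncomputable def pbRestrictIso (W : S.Opens) (M : S.Modules) :
    ((pullback u).obj M).restrict (u ⁻¹ᵁ W).ι ≅ (pullback (u ∣_ W)).obj (M.restrict W.ι) :=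
  (restrictFunctorIsoPullback (u ⁻¹ᵁ W).ι).app _ ≪≫
    (pullbackComp (u ⁻¹ᵁ W).ι u).app M ≪≫
    (pullbackCongr (morphismRestrict_ι u W).symm).app M ≪≫
    (pullbackComp (u ∣_ W) W.ι).symm.app M ≪≫
    (pullback (u ∣_ W)).mapIso ((restrictFunctorIsoPullback W.ι).symm.app M)

theorem pbRestrictIso_hom_app (W : S.Opens) (M : S.Modules) (m : Γ(M, W)) :
    ((pbRestrictIso u W M).hom).app ⊤
        (pullSectLE u M W ((u ⁻¹ᵁ W).ι ''ᵁ ⊤) (image_ι_le _ ⊤) m) =
      pullSectLE (u ∣_ W) (M.restrict W.ι) ⊤ ⊤ le_top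
        (M.presheaf.map (homOfLE (image_ι_le W ⊤)).op m) := by
  have w := morphismRestrict_ι u W
  have le1 : (⊤ : ((u ⁻¹ᵁ W : Z.Opens) : Scheme.{u}).Opens) ≤ (u ⁻¹ᵁ W).ι ⁻¹ᵁ (u ⁻¹ᵁ W) := by
    intro x _
    exact image_ι_le (u ⁻¹ᵁ W) ⊤ ⟨x, trivial, rfl⟩
  have le2 : (⊤ : ((W : S.Opens) : Scheme.{u}).Opens) ≤ W.ι ⁻¹ᵁ W := by
    intro x _
    exact image_ι_le W ⊤ ⟨x, trivial, rfl⟩
  -- step 1
  have s1 := restrictFunctorIsoPullback_hom_app (u ⁻¹ᵁ W).ι ((pullback u).obj M)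
    (u ⁻¹ᵁ W) ⊤ le1 (OmegaSh.pullSect u M W m)
  -- step 2
  have s2 := pullbackComp_hom_app (u ⁻¹ᵁ W).ι u M W (u ⁻¹ᵁ W) ⊤ le_rfl le1 m
  rw [pullSectLE_self] at s2
  -- step 3
  have s3 := pullbackCongr_hom_app w.symm M W ⊤ (le1.trans ((u ⁻¹ᵁ W).ι.preimage_mono le_rfl)) m
  -- step 4
  have s4 := pullbackComp_inv_app (u ∣_ W) W.ι M W ⊤ ⊤ le2 le_top m
  -- step 5
  have s5 := pullSectLE_naturality (u ∣_ W)
    ((restrictFunctorIsoPullback W.ι).inv.app M) ⊤ ⊤ le_top (pullSectLE W.ι M W ⊤ le2 m)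
  rw [restrictFunctorIsoPullback_inv_app] at s5
  simp only [pbRestrictIso, Iso.trans_hom, Iso.app_hom, Iso.symm_hom, Functor.mapIso_hom,
    Scheme.Modules.Hom.comp_app, ConcreteCategory.comp_apply]
  have e1 : ((restrictFunctorIsoPullback (u ⁻¹ᵁ W).ι).hom.app ((pullback u).obj M)).app ⊤
      (pullSectLE u M W ((u ⁻¹ᵁ W).ι ''ᵁ ⊤) (image_ι_le _ ⊤) m) =
      pullSectLE (u ⁻¹ᵁ W).ι ((pullback u).obj M) (u ⁻¹ᵁ W) ⊤ le1
        (OmegaSh.pullSect u M W m) := s1
  rw [e1, s2, s3, s4, s5]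

theorem pbRestrictIso_inv_app (W : S.Opens) (M : S.Modules) (m : Γ(M, W)) :
    ((pbRestrictIso u W M).inv).app ⊤
        (pullSectLE (u ∣_ W) (M.restrict W.ι) ⊤ ⊤ le_top
          (M.presheaf.map (homOfLE (image_ι_le W ⊤)).op m)) =
      pullSectLE u M W ((u ⁻¹ᵁ W).ι ''ᵁ ⊤) (image_ι_le _ ⊤) m := by
  rw [← pbRestrictIso_hom_app u W M m, ← ConcreteCategory.comp_apply,
    ← Scheme.Modules.Hom.comp_app, Iso.hom_inv_id]
  rfl

/-- the pullback of a local basis is a local basis of the pullback -/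
theorem isBasisOn_pullSect (M : S.Modules) (W : S.Opens) (e : Γ(M, W)) (he : IsBasisOn M W e) :
    IsBasisOn ((pullback u).obj M) (u ⁻¹ᵁ W) (OmegaSh.pullSect u M W e) := by
  -- step 1: restrict to `W`
  have h1 : IsBasisOn M (W.ι ''ᵁ ⊤) (mres M (image_ι_le W ⊤) e) := he.mono _
  have h2 := isBasisOn_restrict h1
  -- step 2: the global case on the scheme `W`
  have h2' : IsBasisOn (M.restrict W.ι) ⊤ (mres (M.restrict W.ι) le_top
      (toRestrict W M ⊤ (mres M (image_ι_le W ⊤) e))) := by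
    rw [mres_self]; exact h2
  have h3 := isBasisOn_pullSect_global (u ∣_ W) (M.restrict W.ι)
    (toRestrict W M ⊤ (mres M (image_ι_le W ⊤) e)) ⊤ h2'
  have h3' : IsBasisOn ((pullback (u ∣_ W)).obj (M.restrict W.ι)) ⊤
      (pullSectLE (u ∣_ W) (M.restrict W.ι) ⊤ ⊤ le_top
        (M.presheaf.map (homOfLE (image_ι_le W ⊤)).op e)) := h3
  -- step 3: transfer along the isomorphism
  have h4 := isBasisOn_map_iso (pbRestrictIso u W M).symm h3'
  have h4' : ((pbRestrictIso u W M).symm.hom).app ⊤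
      (pullSectLE (u ∣_ W) (M.restrict W.ι) ⊤ ⊤ le_top
        (M.presheaf.map (homOfLE (image_ι_le W ⊤)).op e)) =
      pullSectLE u M W ((u ⁻¹ᵁ W).ι ''ᵁ ⊤) (image_ι_le _ ⊤) e :=
    pbRestrictIso_inv_app u W M e
  rw [h4'] at h4
  -- step 4: back to `Z`
  have h5 : IsBasisOn ((pullback u).obj M) ((u ⁻¹ᵁ W).ι ''ᵁ ⊤)
      (pullSectLE u M W ((u ⁻¹ᵁ W).ι ''ᵁ ⊤) (image_ι_le _ ⊤) e) := isBasisOn_of_restrict h4
  have hle : u ⁻¹ᵁ W ≤ (u ⁻¹ᵁ W).ι ''ᵁ ⊤ := by rw [Scheme.Opens.ι_image_top]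
  have h6 := h5.mono hle
  have h7 : mres ((pullback u).obj M) hle
      (pullSectLE u M W ((u ⁻¹ᵁ W).ι ''ᵁ ⊤) (image_ι_le _ ⊤) e) = OmegaSh.pullSect u M W e := by
    unfold pullSectLE
    exact (mres_mres _ _ _ _).trans (mres_self _ _ _)
  rw [h7] at h6
  exact h6

end Groth.Agent.H67.PullBasis
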