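import Groth.Agent.H67.ConstFunAlg
import Groth.Agent.H71.CohBC.HHIso
import Groth.Agent.H18.HH0Sections

/-!
# Global functions of proper geometrically reduced and connected schemes are constants (helper67)
-/

set_option autoImplicit false
set_option linter.style.haveILetI false
universe u
open CategoryTheory CategoryTheory.Limits AlgebraicGeometry TopologicalSpace Opposite

namespace Groth.Agent.H67.ConstFun

/-- idempotent global functions on a connected reduced scheme are trivial -/
theorem idem_trivial (X : Scheme.{u}) [IsReduced X] [ConnectedSpace X] (e : Γ(X, ⊤))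
    (he : IsIdempotentElem e) : e = 0 ∨ e = 1 := by
  have hmul : e * (1 - e) = 0 := by
    have : e * e = e := he
    rw [mul_sub, mul_one, this, sub_self]
  have hdisj : X.basicOpen e ⊓ X.basicOpen (1 - e) = ⊥ := by
    rw [← Scheme.basicOpen_mul, hmul, Scheme.basicOpen_zero]
  have hcov : ∀ x : X, x ∈ X.basicOpen e ∨ x ∈ X.basicOpen (1 - e) := by
    intro x
    rw [Scheme.mem_basicOpen X e x (show x ∈ (⊤ : X.Opens) from trivial),
      Scheme.mem_basicOpen X (1 - e) x (show x ∈ (⊤ : X.Opens) from trivial)]
    have h1 : X.presheaf.germ ⊤ x trivial e + X.presheaf.germ ⊤ x trivial (1 - e) = 1 := by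
      rw [← map_add, add_sub_cancel, map_one]
    exact IsLocalRing.isUnit_or_isUnit_of_add_one h1
  have hclopen : IsClopen (X.basicOpen e : Set X) := by
    refine ⟨?_, (X.basicOpen e).2⟩
    have : (X.basicOpen e : Set X)ᶜ = (X.basicOpen (1 - e) : Set X) := by
      ext x
      constructor
      · intro hx
        exact (hcov x).resolve_left hx
      · intro hx hx'
        have : x ∈ X.basicOpen e ⊓ X.basicOpen (1 - e) := ⟨hx', hx⟩
        rw [hdisj] at this
        exact this
    rw [← isOpen_compl_iff, this]
    exact (X.basicOpen (1 - e)).2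
  rcases isClopen_iff.1 hclopen with h | h
  · left
    have : X.basicOpen e = ⊥ := Opens.ext h
    exact (basicOpen_eq_bot_iff e).1 this
  · right
    have : X.basicOpen (1 - e) = ⊥ := by
      apply Opens.ext
      ext x
      simp only [Opens.coe_bot, Set.mem_empty_iff_false, iff_false]
      intro hx
      have h2 : x ∈ X.basicOpen e ⊓ X.basicOpen (1 - e) :=
        ⟨(h ▸ Set.mem_univ x : x ∈ (X.basicOpen e : Set X)), hx⟩
      rw [hdisj] at h2
      exact h2
    have h3 := (basicOpen_eq_bot_iff (1 - e)).1 this
    exact (sub_eq_zero.1 h3).symm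

/-- the global functions of a connected reduced scheme universally closed over an algebraically
closed field are the constants -/
theorem bijective_toGlobal (k : Type u) [Field k] [IsAlgClosed k] {X : Scheme.{u}}
    (f : X ⟶ Spec (CommRingCat.of k)) [UniversallyClosed f] [IsReduced X] [ConnectedSpace X] :
    Function.Bijective (Coh.toGlobal f) := by
  let F := (Scheme.ΓSpecIso (CommRingCat.of k)).inv ≫ f.appTop
  have hint : F.hom.IsIntegral := by
    apply RingHom.isIntegral_respectsIso.2
      (e := (Scheme.ΓSpecIso _).symm.commRingCatIsoToRingEquiv)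
    exact isIntegral_appTop_of_universallyClosed f
  letI : Algebra k Γ(X, ⊤) := F.hom.toAlgebra
  haveI : Algebra.IsIntegral k Γ(X, ⊤) := ⟨hint⟩
  haveI : Nonempty X := inferInstance
  haveI : Nonempty (⊤ : X.Opens) := ⟨⟨Classical.arbitrary X, trivial⟩⟩
  haveI : Nontrivial Γ(X, ⊤) := inferInstance
  have hsurj := surjective_algebraMap_of_integral (k := k) (R := Γ(X, ⊤)) (idem_trivial X)
  exact ⟨(algebraMap k Γ(X, ⊤)).injective, hsurj⟩

/-- if the global functions are the constants, `H⁰(X, O_X)` is one-dimensional -/
theorem finrank_hh_zero_of_bijective (k : Type u) [Field k] (X : Scheme.{u})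
    [X.Over (Spec (CommRingCat.of k))]
    (h : Function.Bijective (Coh.toGlobal (X ↘ Spec (CommRingCat.of k)))) :
    Module.finrank k (Coh.HH X (Coh.structureModule X) 0) = 1 := by
  let φ := RingEquiv.ofBijective (Coh.toGlobal (X ↘ Spec (CommRingCat.of k))) h
  let e₀ : Coh.HH X (Coh.structureModule X) 0 ≃+ Coh.Γtop X :=
    Groth.Agent.H18.HH0.equiv (Coh.structureModule X)
  have he₀ : ∀ (r : Coh.Γtop X) (x : Coh.HH X (Coh.structureModule X) 0),
      e₀ (r • x) = r * e₀ x := fun r x =>
    Groth.Agent.H18.HH0.equiv_smul (Coh.structureModule X) r x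
  let l : Coh.HH X (Coh.structureModule X) 0 ≃ₗ[k] k :=
    { toFun := fun x => φ.symm (e₀ x)
      invFun := fun a => e₀.symm (φ a)
      left_inv := fun x => by
        change e₀.symm (φ (φ.symm (e₀ x))) = x
        rw [φ.apply_symm_apply, e₀.symm_apply_apply]
      right_inv := fun a => by
        change φ.symm (e₀ (e₀.symm (φ a))) = a
        rw [e₀.apply_symm_apply, φ.symm_apply_apply]
      map_add' := fun x y => by
        change φ.symm (e₀ (x + y)) = φ.symm (e₀ x) + φ.symm (e₀ y)
        rw [map_add, map_add]
      map_smul' := fun a x => by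
        change φ.symm (e₀ (a • x)) = a * φ.symm (e₀ x)
        rw [Groth.Agent.H18.HH0.smul_def', he₀, map_mul]
        congr 1
        exact φ.symm_apply_apply a }
  rw [l.finrank_eq, Module.finrank_self]

/-- a proper, geometrically reduced and geometrically connected scheme over a field has only
constant global functions -/
theorem finrank_hh_zero (k : Type u) [Field k] (X : Scheme.{u})
    [X.Over (Spec (CommRingCat.of k))] [IsProper (X ↘ (Spec (CommRingCat.of k)))]
    [GeometricallyReduced (X ↘ (Spec (CommRingCat.of k)))]
    [GeometricallyConnected (X ↘ (Spec (CommRingCat.of k)))] :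
    Module.finrank k (Coh.HH X (Coh.structureModule X) 0) = 1 := by
  let K := AlgebraicClosure k
  let φ := Spec.map (CommRingCat.ofHom (algebraMap k K))
  let p := X ↘ Spec (CommRingCat.of k)
  let X' := pullback p φ
  letI : X'.Over (Spec (CommRingCat.of K)) := ⟨pullback.snd p φ⟩
  have hpb : IsPullback (pullback.fst p φ) (pullback.snd p φ) p φ := IsPullback.of_hasPullback p φ
  haveI : CompactSpace X := QuasiCompact.compactSpace_of_compactSpace p
  haveI : QuasiSeparatedSpace X := quasiSeparatedSpace_of_quasiSeparated p
  have h1 := Groth.Agent.H71.CohBC.finrank_hh_structureModule_baseChange k K X X'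
    (pullback.fst p φ) hpb 0
  rw [← h1]
  haveI : IsReduced X' :=
    (GeometricallyReduced.geometrically_isReduced (f := p)) φ (pullback.fst p φ)
      (pullback.snd p φ) hpb
  haveI : ConnectedSpace X' :=
    (GeometricallyConnected.geometrically_connectedSpace (f := p)) φ (pullback.fst p φ)
      (pullback.snd p φ) hpb
  haveI : UniversallyClosed (pullback.snd p φ) := inferInstance
  exact finrank_hh_zero_of_bijective K X' (bijective_toGlobal K (pullback.snd p φ))

end Groth.Agent.H67.ConstFun
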