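import Groth.Agent.H67.FreeLocus
import Groth.Agent.H44.FPSections

/-!
# A finitely presented module is flat at a point iff it is locally free near that point
-/

set_option autoImplicit false
set_option linter.style.haveILetI false
universe u
open CategoryTheory CategoryTheory.Limits AlgebraicGeometry TopologicalSpace Opposite

namespace Groth.Agent.H67.FlatLocFree

open Scheme.Modules Groth.Agent.H44

variable {X : Scheme.{u}}

/-- the stalk at `x` of a quasi-coherent module that is free of finite rank near `x` is free -/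
theorem free_stalk_of_free_nhds (F : X.Modules) [F.IsQuasicoherent] {W : X.Opens} {n : ℕ}
    (e : F.restrict W.ι ≅ FlatMod.freeMod (W : Scheme.{u}) n) {x : X} (hx : x ∈ W) :
    Module.Free (X.presheaf.stalk x) (F.presheaf.stalk x) := by
  obtain ⟨V, hV, hxV, hVW⟩ := Opens.isBasis_iff_nbhd.1 X.isBasis_affineOpens hx
  obtain ⟨b⟩ := nonempty_basis_of_iso_freeMod F hV hVW e
  haveI : Module.Free Γ(X, V) Γ(F, V) := Module.Free.of_basis b
  haveI : Module.Finite Γ(X, V) Γ(F, V) := Module.Finite.of_basis b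
  exact Groth.Agent.H71.QCoh.free_stalk_of_finite_projective F hV hxV

/-- a module whose restriction to an open `U` is free near `y : U` is free near the image of `y` -/
theorem exists_free_nhds_of_restrict (F : X.Modules) (U : X.Opens) (y : U)
    (h : ∃ (W' : (U : Scheme.{u}).Opens) (n : ℕ), y ∈ W' ∧
      Nonempty ((F.restrict U.ι).restrict W'.ι ≅ FlatMod.freeMod (W' : Scheme.{u}) n)) :
    ∃ (W : X.Opens) (n : ℕ), y.1 ∈ W ∧
      Nonempty (F.restrict W.ι ≅ FlatMod.freeMod (W : Scheme.{u}) n) := by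
  obtain ⟨W', n, hy, ⟨e⟩⟩ := h
  refine ⟨U.ι ''ᵁ W', n, ⟨y, hy, rfl⟩, ⟨?_⟩⟩
  let ψ : (U.ι ''ᵁ W' : Scheme.{u}) ⟶ (W' : Scheme.{u}) := (U.ι.isoImage W').inv
  have hψ : ψ ≫ W'.ι ≫ U.ι = (U.ι ''ᵁ W').ι := Scheme.Hom.isoImage_inv_ι U.ι W'
  exact (restrictRestrictIso F ψ (W'.ι ≫ U.ι) (U.ι ''ᵁ W').ι hψ).symm ≪≫
    (restrictFunctor ψ).mapIso (restrictRestrictIso F W'.ι U.ι (W'.ι ≫ U.ι) rfl).symm ≪≫
    (restrictFunctor ψ).mapIso e ≪≫ restrictFreeModIso ψ n

/-- **A finitely presented module is flat at `x` iff it is locally free near `x`.** -/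
theorem isFlatAt_iff (F : X.Modules) (hF : CohB1.IsFP F) (x : X) :
    FlatMod.IsFlatAt F x ↔ ∃ U : X.Opens, x ∈ U ∧
      FlatMod.IsFinLocFree ((Scheme.Modules.pullback U.ι).obj F) := by
  haveI : SheafOfModules.IsFinitePresentation (R := X.ringCatSheaf) F := hF
  haveI : F.IsQuasicoherent := inferInstance
  constructor
  · intro hflat
    obtain ⟨_, ⟨V, hV, rfl⟩, hxV, -⟩ :=
      X.isBasis_affineOpens.exists_subset_of_mem_open (Set.mem_univ x) isOpen_univ
    haveI : Module.FinitePresentation Γ(X, V) Γ(F, V) :=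
      finitePresentation_sections_of_isFinitePresentation F hV
    haveI : Module.Finite (X.presheaf.stalk x) (F.presheaf.stalk x) :=
      Groth.Agent.H67.FreeLocus.finite_stalk' F hV hxV
    haveI : Module.Flat (X.presheaf.stalk x) (F.presheaf.stalk x) := hflat
    have hfree : Module.Free (X.presheaf.stalk x) (F.presheaf.stalk x) :=
      Module.free_of_flat_of_isLocalRing
    obtain ⟨U, n, hxU, ⟨e⟩⟩ :=
      Groth.Agent.H67.FreeLocus.exists_free_nhds_of_free_stalk F hV hxV hfree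
    refine ⟨U, hxU, ?_⟩
    have h1 : FlatMod.IsFinLocFree (F.restrict U.ι) :=
      Groth.Agent.H67.FreeLocus.isFinLocFree_restrict F U (fun z _ => ⟨U, n, ‹_›, ⟨e⟩⟩)
    intro y
    obtain ⟨W, m, hy, ⟨a⟩⟩ := h1 y
    exact ⟨W, m, hy,
      ⟨(restrictFunctor W.ι).mapIso ((restrictFunctorIsoPullback U.ι).app F).symm ≪≫ a⟩⟩
  · rintro ⟨U, hxU, hU⟩
    have h1 : FlatMod.IsFinLocFree (F.restrict U.ι) := by
      intro y
      obtain ⟨W, m, hy, ⟨a⟩⟩ := hU y
      exact ⟨W, m, hy,
        ⟨(restrictFunctor W.ι).mapIso ((restrictFunctorIsoPullback U.ι).app F) ≪≫ a⟩⟩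
    obtain ⟨W, n, hxW, ⟨e⟩⟩ := exists_free_nhds_of_restrict F U ⟨x, hxU⟩ (h1 ⟨x, hxU⟩)
    haveI : Module.Free (X.presheaf.stalk x) (F.presheaf.stalk x) :=
      free_stalk_of_free_nhds F e hxW
    change Module.Flat (X.presheaf.stalk x) (F.presheaf.stalk x)
    infer_instance

end Groth.Agent.H67.FlatLocFree
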