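import Groth.Agent.H67.DevLocalIso
import Groth.Agent.S9515

/-!
# Global assembly for Stacks 01YE (dévissage step)

* `complIdeal W` : the vanishing ideal of the complement of an open `W`.
* `exists_extension` : Deligne extension of the local maps `descW` with a uniform exponent.
* `assemble` : the global statement.
-/

set_option autoImplicit false
set_option linter.style.haveILetI false
set_option linter.unusedSectionVars false
set_option linter.unusedVariables false
universe u
open CategoryTheory Limits AlgebraicGeometry TopologicalSpace Opposite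
open Groth.Agent.H18 (mres mres_mres mres_self mres_smul)
open Groth.Agent.H12.AffHomCrit (sproj sum_sproj_ι ι_sproj_self ι_sproj_ne)

namespace Groth.Agent.H67.Dev

variable {X Z : Scheme.{u}} (i : Z ⟶ X)

section ComplIdeal

/-- the vanishing ideal of the complement of an open -/
noncomputable def complIdeal (W : X.Opens) : X.IdealSheafData :=
  Scheme.IdealSheafData.vanishingIdeal ⟨(W : Set X)ᶜ, W.isOpen.isClosed_compl⟩

lemma coe_eq_compl_support (W : X.Opens) :
    (W : Set X) = ((complIdeal W).support : Set X)ᶜ := by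
  unfold complIdeal
  rw [Scheme.IdealSheafData.coe_support_vanishingIdeal]
  exact (compl_compl _).symm

lemma complIdeal_ideal_eq_top (W : X.Opens) (V : X.affineOpens) (hVW : V.1 ≤ W) :
    (complIdeal W).ideal V = ⊤ := by
  unfold complIdeal
  rw [Scheme.IdealSheafData.vanishingIdeal_ideal]
  refine (congrArg PrimeSpectrum.vanishingIdeal ?_).trans PrimeSpectrum.vanishingIdeal_empty
  rw [Set.eq_empty_iff_forall_notMem]
  intro p hp
  have h1 : V.2.fromSpec p ∈ (V.1 : Set X) := by
    rw [← V.2.range_fromSpec]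
    exact ⟨p, rfl⟩
  exact hp (hVW h1)

theorem idealMulι_app_surjective (W : X.Opens) (n : ℕ) (A : X.Modules) [A.IsQuasicoherent]
    {V : X.Opens} (hV : IsAffineOpen V) (hVW : V ≤ W) :
    Function.Surjective ((Dual3.idealMulι ((complIdeal W) ^ n) A).app V) := by
  intro s
  have h : s ∈ Groth.Agent.Lead.SubRange.rng (Dual3.idealMulι ((complIdeal W) ^ n) A) V := by
    rw [Groth.Agent.Lead.SubRange.rng_idealMulι _ hV, Scheme.IdealSheafData.ideal_pow,
      Pi.pow_apply, complIdeal_ideal_eq_top W ⟨V, hV⟩ hVW, Ideal.top_pow, Submodule.top_smul]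
    trivial
  exact h

end ComplIdeal

section Extension

variable [IsNoetherian X] [IsClosedImmersion i] {W : X.Opens} (hW : IsAffineOpen W)
  (F : X.Modules) [F.IsQuasicoherent] {r : ℕ} (x : Fin r → Γ(F, W)) (hg : GoodOn i F W x)

/-- the inclusion `J^n A ⟶ J^m A` for `m ≤ n` -/
theorem exists_idealMul_le (J : X.IdealSheafData) (A : X.Modules) [A.IsQuasicoherent] {m n : ℕ}
    (hmn : m ≤ n) : ∃ τ : (Dual3.idealMul (J ^ n)).obj A ⟶ (Dual3.idealMul (J ^ m)).obj A,
      τ ≫ Dual3.idealMulι (J ^ m) A = Dual3.idealMulι (J ^ n) A := by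
  refine Groth.Agent.Lead.IdealMul.exists_fac_of_range_le
    (Dual3.idealMulι (J ^ n) A) (Dual3.idealMulι (J ^ m) A) (fun V hV s => ?_)
  have h1 : (Dual3.idealMulι (J ^ n) A).app V s ∈
      Groth.Agent.Lead.SubRange.rng (Dual3.idealMulι (J ^ n) A) V := ⟨s, rfl⟩
  rw [Groth.Agent.Lead.SubRange.rng_idealMulι _ hV] at h1
  have h2 : ((J ^ n).ideal ⟨V, hV⟩) • (⊤ : Submodule Γ(X, V) Γ(A, V)) ≤
      ((J ^ m).ideal ⟨V, hV⟩) • (⊤ : Submodule Γ(X, V) Γ(A, V)) :=
    Submodule.smul_mono_left (Ideal.pow_le_pow_right hmn)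
  have h3 := h2 h1
  rw [← Groth.Agent.Lead.SubRange.rng_idealMulι _ hV] at h3
  exact h3

include hg in
theorem exists_extension :
    ∃ (n : ℕ) (ψ : Fin r → ((Dual3.idealMul ((complIdeal W) ^ n)).obj (pushO i) ⟶ F)),
      ∀ j, (Rw W).map (ψ j) =
        (Rw W).map (Dual3.idealMulι ((complIdeal W) ^ n) (pushO i)) ≫
          descW i F hW (x j) (hg.kill j) := by
  have hcoh : Coh.IsCoh (pushO i) := ⟨inferInstance, inferInstance⟩
  have hFq : Coh.IsQCoh F := ‹F.IsQuasicoherent›
  choose n₀ ψ₀ hψ₀ using fun j => Groth.Agent.S9515.result X F (pushO i) hFq hcoh (complIdeal W) W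
    (coe_eq_compl_support W) (descW i F hW (x j) (hg.kill j))
  set n := Finset.univ.sup n₀ with hn
  have hle : ∀ j, n₀ j ≤ n := fun j => Finset.le_sup (Finset.mem_univ j)
  choose τ hτ using fun j => exists_idealMul_le (complIdeal W) (pushO i) (hle j)
  refine ⟨n, fun j => τ j ≫ ψ₀ j, fun j => ?_⟩
  rw [Functor.map_comp, hψ₀ j, ← Category.assoc, ← Functor.map_comp, hτ j]

end Extension


lemma sproj_sum_ι {Y : Scheme.{u}} {n : ℕ} (J : Fin n → Y.Modules) (U : Y.Opens)
    (w : ∀ k, Γ(J k, U)) (j : Fin n) :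
    (sproj J j).app U (∑ k, (Sigma.ι J k).app U (w k)) = w j := by
  rw [map_sum, Finset.sum_eq_single j]
  · rw [← comp_app_apply, ι_sproj_self]
    rfl
  · intro k _ hk
    rw [← comp_app_apply, ι_sproj_ne J j k hk]
    rfl
  · intro h
    exact absurd (Finset.mem_univ j) h

section Key

variable [IsClosedImmersion i] {W : X.Opens} (hW : IsAffineOpen W) (F : X.Modules)
  [F.IsQuasicoherent] {r : ℕ} (x : Fin r → Γ(F, W)) (hg : GoodOn i F W x)
  (K : X.Modules) (κ : K ⟶ pushO i) (ψ : Fin r → (K ⟶ F))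
  (hψ : ∀ j, (Rw W).map (ψ j) = (Rw W).map κ ≫ descW i F hW (x j) (hg.kill j))

include hψ in
lemma psi_app (j : Fin r) (V' : (W : Scheme.{u}).Opens) (u : Γ(K, W.ι ''ᵁ V')) :
    (ψ j).app (W.ι ''ᵁ V') u =
      ((descW i F hW (x j) (hg.kill j)).app V' (κ.app (W.ι ''ᵁ V') u) : Γ(F, W.ι ''ᵁ V')) := by
  have h1 : ((Rw W).map (ψ j)).app V' u = ((Rw W).map κ ≫ descW i F hW (x j) (hg.kill j)).app V' u := by
    rw [hψ j]
  exact h1

include hψ in
theorem kappa_eq_zero_of_sum (V' : (W : Scheme.{u}).Opens) (u : Fin r → Γ(K, W.ι ''ᵁ V'))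
    (h0 : ∑ j, (ψ j).app (W.ι ''ᵁ V') (u j) = 0) (j : Fin r) :
    κ.app (W.ι ''ᵁ V') (u j) = 0 := by
  let J : Fin r → (W : Scheme.{u}).Modules := fun _ => (Rw W).obj (pushO i)
  haveI := isIso_PhiW i hW F x hg
  let t : Γ(∐ J, V') := ∑ k, (Sigma.ι J k).app V' (κ.app (W.ι ''ᵁ V') (u k))
  have h1 : (PhiW i hW F x hg).app V' t = 0 := by
    have h2 := sigma_desc_app J (fun j => descW i F hW (x j) (hg.kill j)) V' t
    rw [show Sigma.desc (fun j => descW i F hW (x j) (hg.kill j)) = PhiW i hW F x hg from rfl] at h2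
    rw [h2]
    refine Eq.trans ?_ h0
    refine Finset.sum_congr rfl (fun k _ => ?_)
    rw [sproj_sum_ι J V' (fun k => κ.app (W.ι ''ᵁ V') (u k)) k]
    exact (psi_app i hW F x hg K κ ψ hψ k V' (u k)).symm
  have h3 : t = 0 := by
    apply Groth.Agent.H12.QCohAbelian.app_injective_of_mono (PhiW i hW F x hg) V'
    rw [h1, map_zero]
  have h4 := sproj_sum_ι J V' (fun k => κ.app (W.ι ''ᵁ V') (u k)) j
  rw [show (∑ k, (Sigma.ι J k).app V' (κ.app (W.ι ''ᵁ V') (u k))) = t from rfl, h3, map_zero] at h4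
  exact h4.symm

end Key


section Pull

variable [IsNoetherian X] [IsClosedImmersion i]
  (K : X.Modules) [K.IsQuasicoherent] [SheafOfModules.IsFiniteType (R := X.ringCatSheaf) K]
  (κ : K ⟶ pushO i) [Mono κ]

include κ in
theorem killed_of_mono (V : X.affineOpens) (a : Γ(X, V.1))
    (ha : a ∈ RingHom.ker (i.app V.1).hom) (m : Γ(K, V.1)) : a • m = 0 := by
  apply Groth.Agent.H12.QCohAbelian.app_injective_of_mono κ V.1
  rw [map_zero, Scheme.Modules.Hom.app_smul]
  apply (secE i V.1).injective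
  rw [secE_smul, (mem_kerI_iff i a).mp ha, zero_mul]
  exact (secE i V.1).map_zero.symm

include κ in
theorem isIso_unit_of_mono :
    IsIso ((Scheme.Modules.pullbackPushforwardAdjunction i).unit.app K) :=
  Groth.Agent.H71.QCoh.isIso_unit_app_of_killed i K (killed_of_mono i K κ)

/-- the ideal sheaf on `Z` -/
noncomputable abbrev pullI : Z.Modules := (Scheme.Modules.pullback i).obj K

/-- the inclusion into `O_Z` -/
noncomputable def pullι : pullI i K ⟶ Coh.structureModule Z :=
  (Scheme.Modules.pullback i).map κ ≫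
    (Scheme.Modules.pullbackPushforwardAdjunction i).counit.app (Coh.structureModule Z)

theorem unit_pullι :
    (Scheme.Modules.pullbackPushforwardAdjunction i).unit.app K ≫
      (Scheme.Modules.pushforward i).map (pullι i K κ) = κ := by
  unfold pullι
  rw [Functor.map_comp, ← Category.assoc]
  have h := (Scheme.Modules.pullbackPushforwardAdjunction i).unit.naturality κ
  simp only [Functor.id_obj, Functor.id_map, Functor.comp_obj, Functor.comp_map] at h
  rw [← h, Category.assoc]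
  have h2 := (Scheme.Modules.pullbackPushforwardAdjunction i).right_triangle_components
    (Coh.structureModule Z)
  rw [h2, Category.comp_id]

theorem mono_pullι : Mono (pullι i K κ) := by
  haveI := isIso_unit_of_mono i K κ
  have h : (Scheme.Modules.pushforward i).map (pullι i K κ) =
      inv ((Scheme.Modules.pullbackPushforwardAdjunction i).unit.app K) ≫ κ := by
    rw [IsIso.eq_inv_comp]
    exact unit_pullι i K κ
  haveI : Mono ((Scheme.Modules.pushforward i).map (pullι i K κ)) := by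
    rw [h]
    infer_instance
  exact (Scheme.Modules.pushforward i).mono_of_mono_map inferInstance

theorem isCoh_pullI : Coh.IsCoh (pullI i K) :=
  ⟨inferInstance, inferInstance⟩

end Pull


lemma iso_app_inv_app {Y : Scheme.{u}} {M N : Y.Modules} (f : M ⟶ N) [IsIso f] (U : Y.Opens)
    (y : Γ(N, U)) : f.app U ((inv f).app U y) = y := by
  rw [← comp_app_apply, IsIso.inv_hom_id]
  rfl

lemma inv_app_iso_app {Y : Scheme.{u}} {M N : Y.Modules} (f : M ⟶ N) [IsIso f] (U : Y.Opens)
    (y : Γ(M, U)) : (inv f).app U (f.app U y) = y := by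
  rw [← comp_app_apply, IsIso.hom_inv_id]
  rfl


section Assemble

variable [IsNoetherian X] [IsClosedImmersion i]
  (F : X.Modules) {r : ℕ}
  (K : X.Modules) [K.IsQuasicoherent] [SheafOfModules.IsFiniteType (R := X.ringCatSheaf) K]
  (κ : K ⟶ pushO i) [Mono κ] (ψ : Fin r → (K ⟶ F))

/-- the unit `K ⟶ i_* i^* K` -/
noncomputable abbrev unitK : K ⟶ (Scheme.Modules.pushforward i).obj (pullI i K) :=
  (Scheme.Modules.pullbackPushforwardAdjunction i).unit.app K

/-- the components of a section of `i_* (I^r)`, as sections of `K` -/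
noncomputable def compK (V : X.Opens)
    (s : Γ((Scheme.Modules.pushforward i).obj (∐ fun _ : Fin r => pullI i K), V)) (j : Fin r) :
    Γ(K, V) :=
  (@inv _ _ _ _ (unitK i K) (isIso_unit_of_mono i K κ)).app V
    (((Scheme.Modules.pushforward i).map (sproj (fun _ : Fin r => pullI i K) j)).app V s)

/-- the global map `i_* (I^r) ⟶ F` -/
noncomputable def bigPhi :
    (Scheme.Modules.pushforward i).obj (∐ fun _ : Fin r => pullI i K) ⟶ F :=
  ∑ j, (Scheme.Modules.pushforward i).map (sproj (fun _ : Fin r => pullI i K) j) ≫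
    @inv _ _ _ _ (unitK i K) (isIso_unit_of_mono i K κ) ≫ ψ j

lemma bigPhi_app (V : X.Opens)
    (s : Γ((Scheme.Modules.pushforward i).obj (∐ fun _ : Fin r => pullI i K), V)) :
    (bigPhi i F K κ ψ).app V s = ∑ j, (ψ j).app V (compK i K κ V s j) := by
  unfold bigPhi
  rw [sum_app]
  rfl

lemma eq_zero_of_compK_eq_zero (V : X.Opens)
    (s : Γ((Scheme.Modules.pushforward i).obj (∐ fun _ : Fin r => pullI i K), V))
    (h : ∀ j, compK i K κ V s j = 0) : s = 0 := by
  haveI := isIso_unit_of_mono i K κ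
  have h1 : ∀ j, (sproj (fun _ : Fin r => pullI i K) j).app (i ⁻¹ᵁ V) s = 0 := by
    intro j
    have h2 := iso_app_inv_app (unitK i K) V
      (((Scheme.Modules.pushforward i).map (sproj (fun _ : Fin r => pullI i K) j)).app V s)
    have h3 : (@inv _ _ _ _ (unitK i K) (isIso_unit_of_mono i K κ)).app V
      (((Scheme.Modules.pushforward i).map (sproj (fun _ : Fin r => pullI i K) j)).app V s) = 0 :=
      h j
    rw [h3, map_zero] at h2
    exact h2.symm
  have h4 := sigma_section_eq (fun _ : Fin r => pullI i K) (i ⁻¹ᵁ V) s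
  refine h4.trans (Finset.sum_eq_zero (fun j _ => ?_))
  rw [h1 j, map_zero]

/-- a section with prescribed components -/
lemma exists_compK_eq (V : X.Opens) (u : Fin r → Γ(K, V)) :
    ∃ s : Γ((Scheme.Modules.pushforward i).obj (∐ fun _ : Fin r => pullI i K), V),
      ∀ j, compK i K κ V s j = u j := by
  haveI := isIso_unit_of_mono i K κ
  let w : Fin r → Γ(pullI i K, i ⁻¹ᵁ V) := fun j => (unitK i K).app V (u j)
  refine ⟨∑ k, (Sigma.ι (fun _ : Fin r => pullI i K) k).app (i ⁻¹ᵁ V) (w k), fun j => ?_⟩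
  unfold compK
  have h1 : ((Scheme.Modules.pushforward i).map (sproj (fun _ : Fin r => pullI i K) j)).app V
      (∑ k, (Sigma.ι (fun _ : Fin r => pullI i K) k).app (i ⁻¹ᵁ V) (w k)) = w j :=
    sproj_sum_ι (fun _ : Fin r => pullI i K) (i ⁻¹ᵁ V) w j
  rw [h1]
  exact inv_app_iso_app (unitK i K) V (u j)

end Assemble

section Integral2

variable [IsIntegral Z]

lemma subsingleton_pushO_of_notMem {V : X.Opens} (h : i (genericPoint Z) ∉ V) :
    Subsingleton Γ(pushO i, V) := by
  have hbot : i ⁻¹ᵁ V = ⊥ := by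
    by_contra hne
    have h3 : ((i ⁻¹ᵁ V : Z.Opens) : Set Z).Nonempty := by
      rw [Set.nonempty_iff_ne_empty]
      intro h'
      apply hne
      ext1
      exact h'
    have := ((genericPoint_spec Z).mem_open_set_iff (i ⁻¹ᵁ V).2).mpr (by simpa using h3)
    exact h this
  have h0 : ∀ f : Γ(Z, i ⁻¹ᵁ V), f = 0 := by
    intro f
    rw [← basicOpen_eq_bot_iff]
    exact le_bot_iff.mp ((Z.basicOpen_le f).trans hbot.le)
  refine ⟨fun a b => ?_⟩
  apply (secE i V).injective
  rw [h0 (secE i V a), h0 (secE i V b)]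

lemma pushO_res_injective {V V'' : X.Opens} (h : V'' ≤ V) (hξ : i (genericPoint Z) ∈ V'') :
    Function.Injective (mres (pushO i) h) := by
  haveI := nonempty_preimage i hξ
  have hinj := map_injective_of_isIntegral Z
    (homOfLE (show i ⁻¹ᵁ V'' ≤ i ⁻¹ᵁ V from fun _ hx => h hx))
  intro a b hab
  apply (secE i V).injective
  apply hinj
  have h1 := secE_map i h a
  have h2 := secE_map i h b
  rw [← h1, ← h2]
  exact congrArg (secE i V'') hab

end Integral2

section Final

variable [IsNoetherian X] [IsClosedImmersion i] {W : X.Opens} (hW : IsAffineOpen W)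
  (F : X.Modules) [F.IsQuasicoherent] {r : ℕ} (x : Fin r → Γ(F, W)) (hg : GoodOn i F W x)
  (K : X.Modules) [K.IsQuasicoherent] [SheafOfModules.IsFiniteType (R := X.ringCatSheaf) K]
  (κ : K ⟶ pushO i) [Mono κ] (ψ : Fin r → (K ⟶ F))
  (hψ : ∀ j, (Rw W).map (ψ j) = (Rw W).map κ ≫ descW i F hW (x j) (hg.kill j))

include hψ in
theorem compK_eq_zero_of_le (V' : (W : Scheme.{u}).Opens)
    (u : Fin r → Γ(K, W.ι ''ᵁ V')) (h0 : ∑ j, (ψ j).app (W.ι ''ᵁ V') (u j) = 0) (j : Fin r) :
    u j = 0 := by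
  apply Groth.Agent.H12.QCohAbelian.app_injective_of_mono κ
  rw [map_zero]
  exact kappa_eq_zero_of_sum i hW F x hg K κ ψ hψ V' u h0 j

include hψ in
theorem bigPhi_app_injective_of_le (V' : (W : Scheme.{u}).Opens) :
    Function.Injective ((bigPhi i F K κ ψ).app (W.ι ''ᵁ V')) := by
  rw [injective_iff_map_eq_zero]
  intro s hs
  rw [bigPhi_app] at hs
  exact eq_zero_of_compK_eq_zero i K κ _ s (fun j =>
    compK_eq_zero_of_le i hW F x hg K κ ψ hψ V' (fun j => compK i K κ _ s j) hs j)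

instance isQuasicoherent_pushSigma :
    ((Scheme.Modules.pushforward i).obj (∐ fun _ : Fin r => pullI i K)).IsQuasicoherent := by
  haveI : ∀ k : Fin r, ((fun _ : Fin r => pullI i K) k).IsQuasicoherent := fun _ =>
    (inferInstance : (pullI i K).IsQuasicoherent)
  haveI := Groth.Agent.H12.AffHomCrit.isQuasicoherent_sigma (fun _ : Fin r => pullI i K)
  exact Groth.Agent.H8.isQuasicoherent_pushforward_of_isAffineHom i _

include hψ in
theorem isIso_restrict_bigPhi (hκ : Function.Surjective (κ.app (W.ι ''ᵁ ⊤))) :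
    IsIso ((Rw W).map (bigPhi i F K κ ψ)) := by
  haveI : IsAffine (W : Scheme.{u}) := hW
  haveI : ((Rw W).obj ((Scheme.Modules.pushforward i).obj
    (∐ fun _ : Fin r => pullI i K))).IsQuasicoherent := inferInstance
  haveI : ((Rw W).obj F).IsQuasicoherent := inferInstance
  haveI : Mono ((Rw W).map (bigPhi i F K κ ψ)) := by
    refine Groth.Agent.H71.QCoh.mono_of_app_injective_cover _
      (fun _ : Unit => (⊤ : (W : Scheme.{u}).Opens)) (fun _ => ⟨(), trivial⟩)
      (fun _ => isAffineOpen_top _) (fun _ => ?_)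
    exact bigPhi_app_injective_of_le i hW F x hg K κ ψ hψ ⊤
  haveI : Epi ((Rw W).map (bigPhi i F K κ ψ)) := by
    refine Groth.Agent.H71.QCoh.epi_of_app_surjective_cover _
      (fun _ : Unit => (⊤ : (W : Scheme.{u}).Opens)) (fun _ => ⟨(), trivial⟩)
      (fun _ => isAffineOpen_top _) (fun _ y => ?_)
    let J : Fin r → (W : Scheme.{u}).Modules := fun _ => (Rw W).obj (pushO i)
    haveI := isIso_PhiW i hW F x hg
    obtain ⟨t, ht⟩ := Groth.Agent.H71.QCoh.app_surjective_of_epi (PhiW i hW F x hg)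
      (isAffineOpen_top (W : Scheme.{u})) y
    choose u hu using fun j => hκ ((sproj J j).app ⊤ t)
    obtain ⟨s, hs⟩ := exists_compK_eq i K κ (W.ι ''ᵁ ⊤) u
    refine ⟨s, ?_⟩
    change (bigPhi i F K κ ψ).app (W.ι ''ᵁ ⊤) s = y
    rw [bigPhi_app, ← ht]
    have h2 := sigma_desc_app J (fun j => descW i F hW (x j) (hg.kill j)) ⊤ t
    rw [show Sigma.desc (fun j => descW i F hW (x j) (hg.kill j)) = PhiW i hW F x hg from rfl] at h2
    refine Eq.trans ?_ h2.symm
    refine Finset.sum_congr rfl (fun k _ => ?_)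
    rw [hs k, psi_app i hW F x hg K κ ψ hψ k ⊤ (u k), hu k]
  exact isIso_of_mono_of_epi _

variable [IsIntegral Z]

include hψ in
theorem mono_bigPhi (hξ : i (genericPoint Z) ∈ W) : Mono (bigPhi i F K κ ψ) := by
  refine Groth.Agent.H71.QCoh.mono_of_app_injective_cover _
    (fun V : X.affineOpens => V.1) (fun p => ?_) (fun V => V.2) (fun V => ?_)
  · obtain ⟨_, ⟨V, hV, rfl⟩, hp, -⟩ :=
      X.isBasis_affineOpens.exists_subset_of_mem_open (Set.mem_univ p) isOpen_univ
    exact ⟨⟨V, hV⟩, hp⟩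
  rw [injective_iff_map_eq_zero]
  intro s hs
  rw [bigPhi_app] at hs
  refine eq_zero_of_compK_eq_zero i K κ _ s (fun j => ?_)
  apply Groth.Agent.H12.QCohAbelian.app_injective_of_mono κ
  rw [map_zero]
  by_cases hξV : i (genericPoint Z) ∈ V.1
  · let V' : (W : Scheme.{u}).Opens := W.ι ⁻¹ᵁ V.1
    have hle : W.ι ''ᵁ V' ≤ V.1 := by
      rintro _ ⟨y, hy, rfl⟩
      exact hy
    have hξ'' : i (genericPoint Z) ∈ W.ι ''ᵁ V' := ⟨⟨_, hξ⟩, hξV, rfl⟩
    apply pushO_res_injective i hle hξ''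
    rw [map_zero, Groth.Agent.H12.QCohExt.app_mres]
    refine kappa_eq_zero_of_sum i hW F x hg K κ ψ hψ V'
      (fun j => mres K hle (compK i K κ _ s j)) ?_ j
    have h1 : ∑ j, (ψ j).app (W.ι ''ᵁ V') (mres K hle (compK i K κ _ s j)) =
        mres F hle (∑ j, (ψ j).app V.1 (compK i K κ _ s j)) := by
      rw [map_sum]
      refine Finset.sum_congr rfl (fun k _ => ?_)
      rw [Groth.Agent.H12.QCohExt.app_mres]
    rw [h1, hs, map_zero]
  · haveI := subsingleton_pushO_of_notMem i hξV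
    exact Subsingleton.elim _ _

end Final


/-- Stacks 01YE, dévissage step. -/
theorem main (X Z : Scheme.{u}) [IsNoetherian X]
    (i : Z ⟶ X) [IsClosedImmersion i] [IsIntegral Z] (F : X.Modules) (hF : Coh.IsCoh F)
    (hann : ∀ a ∈ IsLocalRing.maximalIdeal (X.presheaf.stalk (i (genericPoint Z))),
      ∀ m : ↑(F.presheaf.stalk (i (genericPoint Z))), a • m = 0) :
    ∃ (r : ℕ) (I : Z.Modules) (ι : I ⟶ Coh.structureModule Z)
      (φ : (Coh.push i).obj (∐ fun _ : Fin r => I) ⟶ F),
      Mono ι ∧ Coh.IsCoh I ∧ Mono φ ∧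
      ∃ U : X.Opens, i (genericPoint Z) ∈ U ∧
        IsIso ((Scheme.Modules.restrictFunctor U.ι).map φ) := by
  obtain ⟨hFq, hFf⟩ := hF
  haveI : F.IsQuasicoherent := hFq
  haveI : SheafOfModules.IsFiniteType (R := X.ringCatSheaf) F := hFf
  obtain ⟨W, hW, hξ, r, x, hg⟩ := exists_goodOn i F hann
  obtain ⟨n, ψ, hψ⟩ := exists_extension i hW F x hg
  haveI hKq : ((Dual3.idealMul ((complIdeal W) ^ n)).obj (pushO i)).IsQuasicoherent :=
    Groth.Agent.Lead.SubRange.isQuasicoherent_idealMul _ _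
  haveI hKf : SheafOfModules.IsFiniteType (R := X.ringCatSheaf)
      ((Dual3.idealMul ((complIdeal W) ^ n)).obj (pushO i)) :=
    Groth.Agent.H71.QCoh.isFiniteType_of_mono (Dual3.idealMulι ((complIdeal W) ^ n) (pushO i))
  have hVaff : IsAffineOpen (W.ι ''ᵁ (⊤ : (W : Scheme.{u}).Opens)) := by
    haveI : IsAffine (W : Scheme.{u}) := hW
    exact (isAffineOpen_top (W : Scheme.{u})).image_of_isOpenImmersion W.ι
  have hκ : Function.Surjective
      ((Dual3.idealMulι ((complIdeal W) ^ n) (pushO i)).app (W.ι ''ᵁ ⊤)) :=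
    idealMulι_app_surjective W n (pushO i) hVaff (image_le W ⊤)
  exact ⟨r, pullI i ((Dual3.idealMul ((complIdeal W) ^ n)).obj (pushO i)),
    pullι i _ (Dual3.idealMulι ((complIdeal W) ^ n) (pushO i)),
    bigPhi i F _ (Dual3.idealMulι ((complIdeal W) ^ n) (pushO i)) ψ,
    mono_pullι i _ _, isCoh_pullI i _,
    mono_bigPhi i hW F x hg _ _ ψ hψ hξ, W, hξ,
    isIso_restrict_bigPhi i hW F x hg _ _ ψ hψ hκ⟩

end Groth.Agent.H67.Dev
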