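import Groth.Agent.H67.DevTwo
import Groth.Agent.S0026
import Groth.Agent.Lead.Coh.Devissage

/-!
# General form of the irreducible step in the dévissage lemmas, and relative Noetherian induction
-/

set_option autoImplicit false
set_option linter.style.haveILetI false
set_option linter.unusedSectionVars false
set_option linter.unusedVariables false
universe u
open CategoryTheory Limits AlgebraicGeometry TopologicalSpace Opposite
open Groth.Agent.H5.Stalk (stalkFunctor)
open Groth.Agent.H12.AffHomCrit (sproj sum_sproj_ι ι_sproj_self ι_sproj_ne)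

namespace Groth.Agent.H67.Dev

variable {X : Scheme.{u}}

theorem isZero_sigma_of_isZero {Y : Scheme.{u}} {r : ℕ} (J : Fin r → Y.Modules)
    (h : ∀ k, IsZero (J k)) : IsZero (∐ J) := by
  rw [IsZero.iff_id_eq_zero, ← sum_sproj_ι J]
  refine Finset.sum_eq_zero (fun k _ => ?_)
  rw [(h k).eq_of_tgt (sproj J k) 0, zero_comp]

theorem isZero_sigma_fin_zero {Y : Scheme.{u}} (J : Fin 0 → Y.Modules) : IsZero (∐ J) :=
  isZero_sigma_of_isZero J (fun k => k.elim0)

theorem notMem_support_of_isZero {M : X.Modules} (h : IsZero M) (x : X) :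
    x ∉ CohB1.support M := by
  rw [(Groth.Agent.H71.QCoh.isZero_iff_support_eq_empty M).mp h]
  exact Set.notMem_empty x

section Gen

variable [IsNoetherian X] (Z₀ : Set X) (ξ : X) (P : X.Modules → Prop)
  (hP : ∀ M N : X.Modules, Nonempty (M ≅ N) → P M → P N)
  (hA : ∀ Q : X.Modules, Coh.IsCoh Q → CohB1.support Q ⊆ Z₀ → ξ ∉ CohB1.support Q → P Q)

include hA in
theorem P_cokernel_kernel {O A B : X.Modules} (hO : Coh.IsCoh O) (hOs : CohB1.support O ⊆ Z₀)
    (a : A ⟶ O) (b : B ⟶ O) [Mono a] [Mono b] (hA' : Coh.IsCoh A) (hB : Coh.IsCoh B)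
    (hb : ξ ∉ CohB1.support (cokernel b)) :
    Coh.IsCoh (kernel (a ≫ cokernel.π b)) ∧
      Coh.IsCoh (cokernel (kernel.ι (a ≫ cokernel.π b))) ∧
      P (cokernel (kernel.ι (a ≫ cokernel.π b))) ∧ CohB1.support A ⊆ Z₀ := by
  have hC : Coh.IsCoh (cokernel b) := isCoh_cokernel b hB hO
  have hK : Coh.IsCoh (kernel (a ≫ cokernel.π b)) := isCoh_kernel _ hA' hC.1
  have hT : Coh.IsCoh (cokernel (kernel.ι (a ≫ cokernel.π b))) := isCoh_cokernel _ hK hA'
  have hTs : CohB1.support (cokernel (kernel.ι (a ≫ cokernel.π b))) ⊆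
      CohB1.support (cokernel b) :=
    support_subset_of_mono (Abelian.factorThruCoimage (a ≫ cokernel.π b))
  have hCs : CohB1.support (cokernel b) ⊆ Z₀ :=
    (support_subset_of_epi (cokernel.π b)).trans hOs
  exact ⟨hK, hT, hA _ hT (hTs.trans hCs) (fun h => hb (hTs h)),
    (support_subset_of_mono a).trans hOs⟩

variable (hfwd : ∀ S : ShortComplex X.Modules, S.ShortExact → Coh.IsCoh S.X₁ → Coh.IsCoh S.X₂ →
    Coh.IsCoh S.X₃ → CohB1.support S.X₂ ⊆ Z₀ → P S.X₂ → P S.X₃ → P S.X₁)
  (hbwd : ∀ S : ShortComplex X.Modules, S.ShortExact → Coh.IsCoh S.X₁ → Coh.IsCoh S.X₂ →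
    Coh.IsCoh S.X₃ → CohB1.support S.X₂ ⊆ Z₀ → P S.X₁ → P S.X₃ → P S.X₂)
  (h0 : ∀ M : X.Modules, IsZero M → P M)

include hP hA hfwd hbwd h0 in
/-- from one good subsheaf of `i_* O_Z` to all of them -/
theorem P_sub_of_sub (Z : Scheme.{u}) (i : Z ⟶ X) [IsClosedImmersion i] [IsIntegral Z]
    (hξ : ξ = i (genericPoint Z)) (hrange : Set.range i = Z₀)
    {N' : X.Modules} (a : N' ⟶ pushO i) [Mono a] (hN'c : Coh.IsCoh N')
    (hN'ξ : ξ ∈ CohB1.support N') (hPN' : P N')
    {N : X.Modules} (b : N ⟶ pushO i) [Mono b] (hN : Coh.IsQCoh N) : P N := by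
  subst hξ
  have hO : Coh.IsCoh (pushO i) := ⟨inferInstance, inferInstance⟩
  have hOs : CohB1.support (pushO i) ⊆ Z₀ := by
    rw [← hrange]
    exact Groth.Agent.H71.QCoh.support_subset_range_of_iso_pushforward i _ _ (Iso.refl _)
  haveI : N.IsQuasicoherent := hN
  have hNc : Coh.IsCoh N := ⟨hN, Groth.Agent.H71.QCoh.isFiniteType_of_mono b⟩
  by_cases hNξ : i (genericPoint Z) ∈ CohB1.support N
  swap
  · exact h0 N (isZero_of_mono_pushO i b hNξ)
  have hcb : i (genericPoint Z) ∉ CohB1.support (cokernel b) :=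
    notMem_support_cokernel_of_mono_pushO i b hNξ
  have hca : i (genericPoint Z) ∉ CohB1.support (cokernel a) :=
    notMem_support_cokernel_of_mono_pushO i a hN'ξ
  obtain ⟨k1, t1, p1, s1⟩ := P_cokernel_kernel Z₀ _ P hA hO hOs a b hN'c hNc hcb
  obtain ⟨k2, t2, p2, s2⟩ := P_cokernel_kernel Z₀ _ P hA hO hOs b a hNc hN'c hca
  have h1 : P (kernel (a ≫ cokernel.π b)) :=
    hfwd _ (shortExact_cokernel (kernel.ι (a ≫ cokernel.π b))) k1 hN'c t1 s1 hPN' p1
  have h2 : P (kernel (b ≫ cokernel.π a)) := hP _ _ ⟨kernelInfIso a b⟩ h1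
  exact hbwd _ (shortExact_cokernel (kernel.ι (b ≫ cokernel.π a))) k2 hNc t2 s2 h2 p2

include hP hA hfwd hbwd h0 in
/-- the irreducible step: from a witness `G` to all subsheaves of `i_* O_Z` -/
theorem P_sub_of_witness (Z : Scheme.{u}) (i : Z ⟶ X) [IsClosedImmersion i] [IsIntegral Z]
    (hξ : ξ = i (genericPoint Z)) (hrange : Set.range i = Z₀)
    (G : X.Modules) (hG : Coh.IsCoh G) (hGs : CohB1.support G ⊆ Z₀)
    (hGξ : ξ ∈ CohB1.support G)
    (hann : ∀ a ∈ IsLocalRing.maximalIdeal (X.presheaf.stalk ξ),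
      ∀ m : ↑(G.presheaf.stalk ξ), a • m = 0) (hPG : P G)
    (hsum : ∀ (r : ℕ) (I' : Z.Modules)
      (φ : (Scheme.Modules.pushforward i).obj (∐ fun _ : Fin r => I') ⟶ G),
      Function.Bijective ((stalkFunctor ξ).map φ).hom → Coh.IsCoh I' →
      Coh.IsCoh ((Scheme.Modules.pushforward i).obj (∐ fun _ : Fin r => I')) →
      P ((Scheme.Modules.pushforward i).obj (∐ fun _ : Fin r => I')) →
      P ((Scheme.Modules.pushforward i).obj I'))
    {N : X.Modules} (b : N ⟶ pushO i) [Mono b] (hN : Coh.IsQCoh N) : P N := by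
  subst hξ
  obtain ⟨r, I', ι', φ, hι', hI', hφ, U, hξU, hiso⟩ := main X Z i G hG hann
  haveI := hι'
  haveI := hφ
  haveI := hiso
  have hbij := stalk_bijective_of_isIso_restrict φ U hξU
  haveI : I'.IsQuasicoherent := hI'.1
  haveI : G.IsQuasicoherent := hG.1
  haveI : SheafOfModules.IsFiniteType (R := X.ringCatSheaf) G := hG.2
  haveI hN'q : ((Scheme.Modules.pushforward i).obj
      (∐ fun _ : Fin r => I')).IsQuasicoherent := by
    haveI : ∀ k : Fin r, ((fun _ : Fin r => I') k).IsQuasicoherent := fun _ => hI'.1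
    haveI := Groth.Agent.H12.AffHomCrit.isQuasicoherent_sigma (fun _ : Fin r => I')
    exact Groth.Agent.H8.isQuasicoherent_pushforward_of_isAffineHom i _
  have hN'c : Coh.IsCoh ((Scheme.Modules.pushforward i).obj (∐ fun _ : Fin r => I')) :=
    ⟨hN'q, Groth.Agent.H71.QCoh.isFiniteType_of_mono φ⟩
  have hQ := isCoh_cokernel φ hN'c hG
  have hQξ : i (genericPoint Z) ∉ CohB1.support (cokernel φ) :=
    notMem_support_cokernel_of_surjective φ _ hbij.2
  have hQs : CohB1.support (cokernel φ) ⊆ Z₀ :=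
    (support_subset_of_epi (cokernel.π φ)).trans hGs
  have hPQ := hA _ hQ hQs hQξ
  have hPr : P ((Scheme.Modules.pushforward i).obj (∐ fun _ : Fin r => I')) :=
    hfwd _ (shortExact_cokernel φ) hN'c hG hQ hGs hPG hPQ
  have hPI' : P ((Scheme.Modules.pushforward i).obj I') := hsum r I' φ hbij hI' hN'c hPr
  -- the support of `i_* I'` contains the generic point
  have hI'ξ : i (genericPoint Z) ∈ CohB1.support ((Scheme.Modules.pushforward i).obj I') := by
    by_contra hcon
    haveI : Mono ((Scheme.Modules.pushforward i).map ι') := inferInstance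
    have hz := isZero_of_mono_pushO i ((Scheme.Modules.pushforward i).map ι') hcon
    have hz' : IsZero I' := by
      rw [IsZero.iff_id_eq_zero] at hz ⊢
      apply (Scheme.Modules.pushforward i).map_injective
      rw [CategoryTheory.Functor.map_id, Functor.map_zero]
      exact hz
    have hz2 : IsZero ((Scheme.Modules.pushforward i).obj (∐ fun _ : Fin r => I')) :=
      (Scheme.Modules.pushforward i).map_isZero (isZero_sigma_of_isZero _ (fun _ => hz'))
    have hsub : Subsingleton ((stalkFunctor (i (genericPoint Z))).obj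
        ((Scheme.Modules.pushforward i).obj (∐ fun _ : Fin r => I'))) :=
      not_not.mp (notMem_support_of_isZero hz2 (i (genericPoint Z)))
    haveI := hsub
    have h5 : Subsingleton ((stalkFunctor (i (genericPoint Z))).obj G) := hbij.2.subsingleton
    exact hGξ h5
  haveI : Mono ((Scheme.Modules.pushforward i).map ι') := inferInstance
  exact P_sub_of_sub Z₀ _ P hP hA hfwd hbwd h0 Z i rfl hrange
    ((Scheme.Modules.pushforward i).map ι') (isCoh_push_of_mono i ι' hI'.1) hI'ξ hPI' b hN

end Gen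

theorem hasIdealFiltration [IsNoetherian X] (M : X.Modules) (hM : Coh.IsCoh M) :
    HasIdealFiltration M := Groth.Agent.S0026.result X M hM

/-- relative Noetherian induction: reduction to the irreducible step -/
theorem devissage_rel [IsNoetherian X] (X' : Set X) (hX' : IsClosed X') (P : X.Modules → Prop)
    (hP : ∀ M N : X.Modules, Nonempty (M ≅ N) → P M → P N)
    (h0 : ∀ M : X.Modules, IsZero M → P M)
    (hext : ∀ S : ShortComplex X.Modules, S.ShortExact → Coh.IsCoh S.X₁ → Coh.IsCoh S.X₂ →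
      Coh.IsCoh S.X₃ → CohB1.support S.X₂ ⊆ X' → P S.X₁ → P S.X₃ → P S.X₂)
    (hirr : ∀ (Z : Scheme.{u}) (i : Z ⟶ X) [IsClosedImmersion i] [IsIntegral Z],
      Set.range i ⊆ X' →
      (∀ Q : X.Modules, Coh.IsCoh Q → CohB1.support Q ⊆ Set.range i →
        i (genericPoint Z) ∉ CohB1.support Q → P Q) →
      ∀ (I : Z.Modules) (ι : I ⟶ Coh.structureModule Z), Mono ι → Coh.IsQCoh I →
        P ((Coh.push i).obj I))
    (M : X.Modules) (hM : Coh.IsCoh M) (hsupp : CohB1.support M ⊆ X') : P M := by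
  have key : ∀ T : Closeds X, (T : Set X) ⊆ X' → ∀ M : X.Modules, Coh.IsCoh M →
      CohB1.support M ⊆ (T : Set X) → P M := by
    intro T
    induction T using WellFoundedLT.induction with
    | ind T ih =>
      intro hT M hM hsupp
      refine filt_ind P hP h0 (T : Set X) ?_ ?_ M (hasIdealFiltration M hM) hsupp
      · intro S hS c1 c2 c3 hs p1 p3
        exact hext S hS c1 c2 c3 (hs.trans hT) p1 p3
      · intro Z i _ _ I ι hι hIq hIz hmem
        have hsub : Set.range i ⊆ (T : Set X) := range_subset_of_gen_mem i T.isClosed hmem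
        refine hirr Z i (hsub.trans hT) ?_ I ι hι hIq
        intro Q hQ hQs hQξ
        haveI : Q.IsQuasicoherent := hQ.1
        haveI : SheafOfModules.IsFiniteType (R := X.ringCatSheaf) Q := hQ.2
        let T' : Closeds X := ⟨CohB1.support Q, Groth.Agent.H71.QCoh.isClosed_support Q⟩
        have hle : T' ≤ T := fun y hy => hsub (hQs hy)
        have hlt : T' < T := by
          refine lt_of_le_of_ne hle ?_
          intro heq
          apply hQξ
          have h1 : (T : Set X) = CohB1.support Q :=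
            congrArg (fun C : Closeds X => (C : Set X)) heq.symm
          rw [← h1]
          exact hmem
        exact ih T' hlt (fun y hy => hT (hle hy)) Q hQ subset_rfl
  exact key ⟨X', hX'⟩ subset_rfl M hM hsupp

section Extra

variable {X Z : Scheme.{u}} (i : Z ⟶ X)

theorem one_le_of_bijective {I' : Z.Modules} {r : ℕ} {G : X.Modules} (x : X)
    (φ : (Scheme.Modules.pushforward i).obj (∐ fun _ : Fin r => I') ⟶ G)
    (hφ : Function.Bijective ((stalkFunctor x).map φ).hom) (hx : x ∈ CohB1.support G) :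
    1 ≤ r := by
  by_contra hr
  have hr0 : r = 0 := by omega
  subst hr0
  have hz2 : IsZero ((Scheme.Modules.pushforward i).obj (∐ fun _ : Fin 0 => I')) :=
    (Scheme.Modules.pushforward i).map_isZero (isZero_sigma_fin_zero _)
  have hsub : Subsingleton ((stalkFunctor x).obj
      ((Scheme.Modules.pushforward i).obj (∐ fun _ : Fin 0 => I'))) :=
    not_not.mp (notMem_support_of_isZero hz2 x)
  haveI := hsub
  have h5 : Subsingleton ((stalkFunctor x).obj G) := hφ.2.subsingleton
  exact hx h5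

/-- `i_* I'` is a retract of `i_* (I'^r)` for `r ≥ 1` -/
theorem push_retract {I' : Z.Modules} {r : ℕ} (hr : 1 ≤ r) :
    (Scheme.Modules.pushforward i).map (Sigma.ι (fun _ : Fin r => I') ⟨0, hr⟩) ≫
      (Scheme.Modules.pushforward i).map (sproj (fun _ : Fin r => I') ⟨0, hr⟩) = 𝟙 _ := by
  rw [← Functor.map_comp, ι_sproj_self, CategoryTheory.Functor.map_id]

theorem hann_of_killedByIdeal [IsClosedImmersion i] [IsIntegral Z] (G : X.Modules)
    [G.IsQuasicoherent]
    (hk : ClSub.KilledByIdeal (Scheme.IdealSheafData.vanishingIdeal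
      ⟨Set.range i, i.isClosedEmbedding.isClosed_range⟩) G) :
    ∀ a ∈ IsLocalRing.maximalIdeal (X.presheaf.stalk (i (genericPoint Z))),
      ∀ m : ↑(G.presheaf.stalk (i (genericPoint Z))), a • m = 0 := by
  refine Groth.Agent.Lead.Devissage.smul_stalk_eq_zero_of_killed
    ⟨Set.range i, i.isClosedEmbedding.isClosed_range⟩ (i (genericPoint Z))
    (closure_singleton_gen i) G ?_
  intro V a ha s
  rw [pow_one] at ha
  exact hk V a ha s

end Extra

end Groth.Agent.H67.Dev
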