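import Groth.Agent.H67.K0Len3
import Groth.Agent.H67.FreeNearFinite
import Groth.Agent.H5.Stalk.Tensor
import Groth.Agent.H6.Ref1Tensor
import Groth.Agent.H71.QCoh.LocFreeRank
import Groth.Agent.H71.QCoh.StalkFree

/-!
# Tensoring with a locally free module of rank `e` multiplies the top-dimensional part of a class in
`K'_0` by `e`
-/

set_option autoImplicit false
set_option linter.style.haveILetI false
set_option linter.unusedSectionVars false
set_option linter.unusedVariables false
universe u
open CategoryTheory CategoryTheory.Limits AlgebraicGeometry Opposite TopologicalSpace TensorProduct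

namespace Groth.Agent.H67.K0Tensor

open Groth.Agent.H67.K0Len

/-- the length of `E ⊗ M` for `E` free of rank `e` -/
theorem length_tensor_of_basis {R : Type u} [CommRing R] {E M : Type u} [AddCommGroup E]
    [Module R E] [AddCommGroup M] [Module R M] {e : ℕ} (b : Module.Basis (Fin e) R E) :
    Module.length R (E ⊗[R] M) = e * Module.length R M := by
  have e1 : (E ⊗[R] M) ≃ₗ[R] (Fin e →₀ M) :=
    TensorProduct.congr b.repr (LinearEquiv.refl R M) ≪≫ₗ TensorProduct.finsuppScalarLeft R M (Fin e)
  rw [e1.length_eq, Module.length_finsupp]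
  simp

variable {X : Scheme.{u}}

/-- the stalks of a locally free module of rank `e` are free of rank `e` -/
theorem nonempty_basis_stalk {e : ℕ} (E : X.Modules) (hE : FlatMod.IsFinLocFreeOfRank e E) (x : X) :
    Nonempty (Module.Basis (Fin e) (X.presheaf.stalk x) (E.presheaf.stalk x)) := by
  have hE' := FreeNearFinite.isFinLocFree_of_rank hE
  haveI : E.IsQuasicoherent := FreeNearFinite.isQuasicoherent_of_isFinLocFree E hE'
  obtain ⟨U, hxU, ⟨i⟩⟩ := hE x
  obtain ⟨_, ⟨V, hV, rfl⟩, hxV, hVU⟩ :=
    X.isBasis_affineOpens.exists_subset_of_mem_open hxU U.2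
  obtain ⟨b⟩ := Groth.Agent.H44.nonempty_basis_of_iso_freeMod E hV hVU i
  letI := Groth.Agent.H8.stalkModule E hxV
  letI : Algebra Γ(X, V) (X.presheaf.stalk x) :=
    TopCat.Presheaf.algebra_section_stalk X.presheaf ⟨x, hxV⟩
  haveI : IsScalarTower Γ(X, V) (X.presheaf.stalk x) (E.presheaf.stalk x) :=
    IsScalarTower.of_algebraMap_smul (fun r m => rfl)
  haveI := hV.isLocalization_stalk ⟨x, hxV⟩
  haveI := Groth.Agent.H8.isLocalizedModule_germₗ E hV hxV
  exact ⟨b.ofIsLocalizedModule (X.presheaf.stalk x)
    (hV.primeIdealOf ⟨x, hxV⟩).asIdeal.primeCompl (Groth.Agent.H8.germₗ E hxV)⟩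

/-- the length of the stalk of `E ⊗ F` -/
theorem len_tensor {e : ℕ} (E : X.Modules) (hE : FlatMod.IsFinLocFreeOfRank e E) (F : X.Modules)
    (x : X) : len x (CohB1.tensorMod E F) = e * len x F := by
  obtain ⟨b⟩ := nonempty_basis_stalk E hE x
  have e2 := (Groth.Agent.H5.Stalk.Tensor.stalkTensorIso x E F).toLinearEquiv
  unfold len
  have h := e2.length_eq
  refine h.trans ?_
  exact length_tensor_of_basis (R := X.presheaf.stalk x) (E := E.presheaf.stalk x)
    (M := F.presheaf.stalk x) b

theorem support_tensor_subset {e : ℕ} (E : X.Modules) (hE : FlatMod.IsFinLocFreeOfRank e E)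
    (F : X.Modules) : CohB1.support (CohB1.tensorMod E F) ⊆ CohB1.support F := by
  intro x hx
  by_contra hxF
  apply hx
  have h0 : len x (CohB1.tensorMod E F) = 0 := by
    rw [len_tensor E hE F x, show len x F = 0 from length_stalk_eq_zero_of_notMem hxF, mul_zero]
  exact Module.length_eq_zero_iff.mp h0

theorem isCoh_of_rank {e : ℕ} (E : X.Modules) (hE : FlatMod.IsFinLocFreeOfRank e E) :
    Coh.IsCoh E := by
  have hE' := FreeNearFinite.isFinLocFree_of_rank hE
  haveI : E.IsQuasicoherent := FreeNearFinite.isQuasicoherent_of_isFinLocFree E hE'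
  exact ⟨inferInstance, Groth.Agent.H71.QCoh.isFiniteType_of_isFinLocFree E hE'⟩

end Groth.Agent.H67.K0Tensor
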