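import Groth.Agent.H67.DevGen
import Groth.Agent.H5.Stalk.PushClosed
import Groth.Agent.S9838

/-!
# Pushforwards of coherent modules along an integral closed subscheme as dévissage witnesses
-/

set_option autoImplicit false
set_option linter.style.haveILetI false
set_option linter.unusedSectionVars false
set_option linter.unusedVariables false
universe u
open CategoryTheory Limits AlgebraicGeometry TopologicalSpace Opposite
open Groth.Agent.H5.Stalk (stalkFunctor)

namespace Groth.Agent.H67.Dev

variable {X Z : Scheme.{u}} (i : Z ⟶ X)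

theorem isCoh_push_closed [IsClosedImmersion i] {H : Z.Modules} (hH : Coh.IsCoh H) :
    Coh.IsCoh ((Scheme.Modules.pushforward i).obj H) := by
  haveI : H.IsQuasicoherent := hH.1
  exact ⟨Groth.Agent.H8.isQuasicoherent_pushforward_of_isAffineHom i H,
    (Groth.Agent.S9838.result i H).mp hH.2⟩

theorem mem_support_push_of_nontrivial [IsClosedImmersion i] (H : Z.Modules) (z : Z)
    (h : Nontrivial (H.presheaf.stalk z)) :
    i z ∈ CohB1.support ((Scheme.Modules.pushforward i).obj H) := by
  intro hsub
  haveI : Subsingleton ((stalkFunctor (i z)).obj ((Scheme.Modules.pushforward i).obj H)) := hsub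
  have hb := Groth.Agent.H5.Stalk.pushStalkMap_bijective i z i.isClosedEmbedding.isInducing H
  have h2 : Subsingleton ((Groth.Agent.H5.Stalk.resStalk i z).obj ((stalkFunctor z).obj H)) :=
    hb.2.subsingleton
  have h3 : Subsingleton (H.presheaf.stalk z) := h2
  exact not_subsingleton _ h3

theorem hann_push [IsIntegral Z] (H : Z.Modules) :
    ∀ a ∈ IsLocalRing.maximalIdeal (X.presheaf.stalk (i (genericPoint Z))),
      ∀ m : ↑(((Scheme.Modules.pushforward i).obj H).presheaf.stalk (i (genericPoint Z))),
        a • m = 0 := by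
  intro c hc z
  obtain ⟨U, hx, c', z', rfl, rfl⟩ :=
    Groth.Agent.H5.Stalk.exists_germ_eq₂ ((Scheme.Modules.pushforward i).obj H)
      (i (genericPoint Z)) c z
  rw [← Groth.Agent.H5.Stalk.germ_smul]
  have hc' : c' ∈ kerI i U := by
    by_contra hn
    have h1 := mem_basicOpen_of_notMem_kerI i hx c' hn
    rw [X.mem_basicOpen c' _ hx] at h1
    exact (IsLocalRing.mem_maximalIdeal _).mp hc h1
  have h0 : c' • z' = 0 := by
    let z'' : Γ(H, i ⁻¹ᵁ U) := z'
    have h1 : (c' • z' : Γ((Scheme.Modules.pushforward i).obj H, U)) =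
        ((i.app U).hom c' • z'' : Γ(H, i ⁻¹ᵁ U)) := rfl
    rw [h1, (mem_kerI_iff i c').mp hc', zero_smul]
    rfl
  rw [h0, map_zero]

end Groth.Agent.H67.Dev
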