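import Groth.Agent.H67.PullGenLocus

/-!
# Pointwise version of `genLocus_pullback`

`L` need only have a local basis near the point `u z`.
-/

set_option autoImplicit false
set_option linter.style.haveILetI false
universe u
open CategoryTheory AlgebraicGeometry TopologicalSpace Opposite

namespace Groth.Agent.H67.PullGenLocus

open Groth.Agent.H18 Groth.Agent.H18.PUP Groth.Agent.H18.STL Groth.Agent.H44 Scheme.Modules
open Groth.Agent.H67.PullBasis

variable {Z S : Scheme.{u}} (u : Z ⟶ S)

/-- pointwise version of `genLocus_sectionHom_pullSect` -/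
theorem mem_genLocus_sectionHom_pullSect_iff (L : S.Modules) (σ : Γ(L, (⊤ : S.Opens)))
    (z : Z) (W : S.Opens) (e₀ : Γ(L, W)) (hxW : u z ∈ W) (he₀ : IsBasisOn L W e₀) :
    z ∈ CohB1.genLocus ((pullback u).obj L)
      (sectionHom ((pullback u).obj L) (OmegaSh.pullSect u L ⊤ σ)) ↔
      u z ∈ CohB1.genLocus L (sectionHom L σ) := by
  obtain ⟨f, hf⟩ : ∃ f : Γ(S, W), SecTwist.val (sectionHom L σ) W = f • e₀ := by
    refine ⟨he₀.coord le_rfl (SecTwist.val (sectionHom L σ) W), ?_⟩
    have := he₀.coord_smul le_rfl (SecTwist.val (sectionHom L σ) W)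
    rw [mres_self] at this
    exact this.symm
  have h1 := genLocus_inf_eq_basicOpen (sectionHom L σ) he₀ f hf
  have hβ := isBasisOn_pullSect u L W e₀ he₀
  have hval : SecTwist.val (sectionHom ((pullback u).obj L) (OmegaSh.pullSect u L ⊤ σ))
      (u ⁻¹ᵁ W) = (u.app W).hom f • OmegaSh.pullSect u L W e₀ := by
    rw [val_sectionHom]
    have h2 : mres ((pullback u).obj L) (le_top : u ⁻¹ᵁ W ≤ ⊤) (OmegaSh.pullSect u L ⊤ σ) =
        OmegaSh.pullSect u L W (mres L le_top σ) :=
      (Groth.Agent.H54.PB.pullSect_mres u L (le_top : W ≤ ⊤) σ).symm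
    rw [h2, ← val_sectionHom L σ W, hf]
    exact Groth.Agent.H54.PB.pullSect_smul u L W f e₀
  have h3 := genLocus_inf_eq_basicOpen
    (sectionHom ((pullback u).obj L) (OmegaSh.pullSect u L ⊤ σ)) hβ _ hval
  have h4 : u ⁻¹ᵁ S.basicOpen f = Z.basicOpen ((u.app W).hom f) := Scheme.preimage_basicOpen u f
  have hzW : z ∈ u ⁻¹ᵁ W := hxW
  constructor
  · intro hz
    have : z ∈ Z.basicOpen ((u.app W).hom f) := by rw [← h3]; exact ⟨hz, hzW⟩
    rw [← h4] at this
    have h5 : u z ∈ S.basicOpen f := this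
    rw [← h1] at h5
    exact h5.1
  · intro hz
    have h5 : u z ∈ S.basicOpen f := by rw [← h1]; exact ⟨hz, hxW⟩
    have : z ∈ Z.basicOpen ((u.app W).hom f) := by rw [← h4]; exact h5
    rw [← h3] at this
    exact this.1

/-- pointwise version of `genLocus_pullback` -/
theorem mem_genLocus_pullback_iff (L : S.Modules) (s : Coh.structureModule S ⟶ L)
    (e : Coh.structureModule Z ≅ (pullback u).obj (Coh.structureModule S))
    (z : Z) (W : S.Opens) (e₀ : Γ(L, W)) (hxW : u z ∈ W) (he₀ : IsBasisOn L W e₀) :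
    z ∈ CohB1.genLocus ((pullback u).obj L) (e.hom ≫ (pullback u).map s) ↔
      u z ∈ CohB1.genLocus L s := by
  rw [genLocus_iso_comp e.hom (Groth.Agent.H54.PB.unitMap u)]
  conv_lhs => rw [← sectionHom_evOne L s]
  rw [Groth.Agent.H54.PB.unitMap_comp_pullback_sectionHom]
  conv_rhs => rw [← sectionHom_evOne L s]
  exact mem_genLocus_sectionHom_pullSect_iff u L _ z W e₀ hxW he₀

end Groth.Agent.H67.PullGenLocus
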