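import Groth.Agent.H67.TwistLocal
import Groth.Agent.H67.PullGenLocusLocal
import Groth.Agent.H67.AmplePullback

/-!
# Pullbacks of `O(d)` to schemes mapping to `Proj` with affine preimages of `D₊(f)`

EGA II 4.5.2-type statement: a quasi-compact open subscheme of `Proj 𝒜` carries an ample twist.
-/

set_option autoImplicit false
set_option linter.style.haveILetI false
universe u
open CategoryTheory AlgebraicGeometry TopologicalSpace Opposite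

namespace Groth.Agent.H67.ProjOpenAmple

open Groth.Agent.H18 Groth.Agent.H18.PUP Groth.Agent.H18.STL Scheme.Modules
open Groth.Agent.H67.TwistLocal Groth.Agent.H67.PullGenLocus Groth.Agent.H67.PullBasis

variable {R A : Type u} [CommRing R] [CommRing A] [Algebra R A]
variable (𝒜 : ℕ → Submodule R A) [GradedAlgebra 𝒜]

/-- the basis `f / 1` of `O(d)` over `D₊(f)` -/
theorem isBasisOn_fracTw_basicOpen {d : ℕ} {f : A} (hf : f ∈ 𝒜 d) :
    IsBasisOn (Twist.twist 𝒜 (d : ℤ)) (Proj.basicOpen 𝒜 f)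
      (fracTw 𝒜 hf (SetLike.GradedOne.one_mem : (1 : A) ∈ 𝒜 0)
        (by simp : ((d : ℕ) : ℤ) = ((0 : ℕ) : ℤ) + (d : ℤ)) (Proj.basicOpen 𝒜 f)
        (fun x _ => GrMod.one_nin x)) :=
  isBasisOn_fracTw 𝒜 hf _ _ _ (fun _ hx => hx) (fun x _ => GrMod.one_nin x)

/-- if `X` is quasi-compact and covered by affine preimages of opens `D₊(f)`, `f` of degree `d`,
then the pullback of `O(d)` to `X` is ample -/
theorem isAmple_pullback_twist {X : Scheme.{u}} [CompactSpace X] (j : X ⟶ Proj 𝒜) (d : ℕ)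
    (hcov : ∀ x : X, ∃ f : A, f ∈ 𝒜 d ∧ j x ∈ Proj.basicOpen 𝒜 f ∧
      IsAffineOpen (j ⁻¹ᵁ Proj.basicOpen 𝒜 f)) :
    CohB1.IsAmple ((pullback j).obj (Twist.twist 𝒜 (d : ℤ))) := by
  have hM : PicF.IsInvertible ((pullback j).obj (Twist.twist 𝒜 (d : ℤ))) := by
    refine isInvertible_of_local_bases _ (fun x => ?_)
    obtain ⟨f, hf, hxf, -⟩ := hcov x
    exact ⟨j ⁻¹ᵁ Proj.basicOpen 𝒜 f, OmegaSh.pullSect j _ _ _, hxf,
      isBasisOn_pullSect j _ _ _ (isBasisOn_fracTw_basicOpen 𝒜 hf)⟩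
  refine ⟨hM, inferInstance, fun x => ?_⟩
  obtain ⟨f, hf, hxf, haff⟩ := hcov x
  obtain ⟨s₀, hs₀⟩ : ∃ s₀ : Coh.structureModule X ⟶ (pullback j).obj (Twist.twist 𝒜 (d : ℤ)),
      s₀ = (asIso (Groth.Agent.H54.PB.unitMap j)).hom ≫
        (pullback j).map (sectionHom (Twist.twist 𝒜 (d : ℤ)) (secN 𝒜 hf)) := ⟨_, rfl⟩
  have hgen : CohB1.genLocus _ s₀ = j ⁻¹ᵁ Proj.basicOpen 𝒜 f := by
    ext z
    obtain ⟨g, hg, hzg, -⟩ := hcov z
    rw [hs₀]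
    have h1 := mem_genLocus_pullback_iff j (Twist.twist 𝒜 (d : ℤ))
      (sectionHom (Twist.twist 𝒜 (d : ℤ)) (secN 𝒜 hf))
      (asIso (Groth.Agent.H54.PB.unitMap j)) z (Proj.basicOpen 𝒜 g) _ hzg
      (isBasisOn_fracTw_basicOpen 𝒜 hg)
    have h2 := mem_genLocus_sectionHom_secN_iff 𝒜 hf (j z)
      ⟨d, 0, g, 1, hg, SetLike.GradedOne.one_mem, by simp, hzg, GrMod.one_nin _⟩
    exact h1.trans h2
  obtain ⟨𝔄⟩ := nonempty_atlas hM
  obtain ⟨b, -, hb⟩ := (hasWeight_self 𝔄).exists_transfer (hasWeight_tensorPow 𝔄 (0 + 1)) s₀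
  refine ⟨0, b, ?_, ?_⟩
  · rw [hb, hgen]; exact hxf
  · rw [hb, hgen]; exact haff

/-- the opens `D₊(f)`, `f` homogeneous of positive degree, form a basis of `Proj` -/
theorem exists_pos_homogeneous_nhd (U : (Proj 𝒜).Opens) (y : Proj 𝒜) (hy : y ∈ U) :
    ∃ (m : ℕ) (f : A), 0 < m ∧ f ∈ 𝒜 m ∧ y ∈ Proj.basicOpen 𝒜 f ∧ Proj.basicOpen 𝒜 f ≤ U := by
  classical
  obtain ⟨_, ⟨h, rfl⟩, hyh, hhU⟩ := Opens.isBasis_iff_nbhd.1 (Proj.isBasis_basicOpen 𝒜) hy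
  have hyh' := hyh
  rw [Proj.basicOpen_eq_iSup_proj] at hyh'
  obtain ⟨i, hi⟩ := Opens.mem_iSup.1 hyh'
  obtain ⟨g, m, g_deg, hm, hg⟩ : ∃ (g : A) (m : ℕ) (_ : g ∈ 𝒜 m) (_ : 0 < m),
      g ∉ y.asHomogeneousIdeal := by
    by_contra!
    refine y.not_irrelevant_le fun z hz ↦ ?_
    rw [← DirectSum.sum_support_decompose 𝒜 z]
    exact y.1.toIdeal.sum_mem fun k hk ↦ this _ k (SetLike.coe_mem _) <| by_contra <| by aesop
  refine ⟨i + m, GradedRing.proj 𝒜 i h * g, by omega,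
    SetLike.mul_mem_graded (SetLike.coe_mem _) g_deg, ?_, ?_⟩
  · rw [Proj.basicOpen_mul]; exact ⟨hi, hg⟩
  · rw [Proj.basicOpen_mul]
    refine inf_le_left.trans (le_trans ?_ hhU)
    rw [Proj.basicOpen_eq_iSup_proj 𝒜 h]
    exact le_iSup (fun i => Proj.basicOpen 𝒜 (GradedRing.proj 𝒜 i h)) i

/-- a quasi-compact open subscheme of `Proj` is covered by finitely many `D₊(f)` with `f`
homogeneous of the same positive degree -/
theorem exists_common_degree_cover {X : Scheme.{u}} [CompactSpace X] (j : X ⟶ Proj 𝒜)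
    [IsOpenImmersion j] :
    ∃ d : ℕ, 0 < d ∧ ∀ x : X, ∃ f : A, f ∈ 𝒜 d ∧ j x ∈ Proj.basicOpen 𝒜 f ∧
      IsAffineOpen (j ⁻¹ᵁ Proj.basicOpen 𝒜 f) := by
  classical
  choose m f hm hf hxf hle using fun x : X =>
    exists_pos_homogeneous_nhd 𝒜 j.opensRange (j x) ⟨x, rfl⟩
  obtain ⟨t, ht⟩ := CompactSpace.elim_nhds_subcover
    (fun x : X => ((j ⁻¹ᵁ Proj.basicOpen 𝒜 (f x) : X.Opens) : Set X))
    (fun x => (j ⁻¹ᵁ Proj.basicOpen 𝒜 (f x)).isOpen.mem_nhds (hxf x))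
  refine ⟨∏ x ∈ t, m x, Finset.prod_pos (fun x _ => hm x), fun x' => ?_⟩
  have hx' : x' ∈ ⋃ x ∈ t, ((j ⁻¹ᵁ Proj.basicOpen 𝒜 (f x) : X.Opens) : Set X) := by
    rw [ht]; trivial
  obtain ⟨x, hxt, hx'x⟩ := Set.mem_iUnion₂.1 hx'
  obtain ⟨q, hq⟩ : m x ∣ ∏ x ∈ t, m x := Finset.dvd_prod_of_mem m hxt
  have hqpos : 0 < q := by
    rcases Nat.eq_zero_or_pos q with h0 | h0
    · exfalso
      have hp : 0 < ∏ x ∈ t, m x := Finset.prod_pos (fun x _ => hm x)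
      rw [hq, h0, mul_zero] at hp
      exact lt_irrefl _ hp
    · exact h0
  have hbo : Proj.basicOpen 𝒜 (f x ^ q) = Proj.basicOpen 𝒜 (f x) := Proj.basicOpen_pow 𝒜 _ _ hqpos
  refine ⟨f x ^ q, ?_, ?_, ?_⟩
  · have := SetLike.pow_mem_graded q (hf x)
    rw [hq, mul_comm]
    simpa [smul_eq_mul] using this
  · rw [hbo]; exact hx'x
  · rw [hbo]
    exact (Proj.isAffineOpen_basicOpen 𝒜 (f x) (hf x) (hm x)).preimage_of_isOpenImmersion j (hle x)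

/-- EGA II 4.5.2-type statement: a quasi-compact open subscheme of `Proj 𝒜` carries an ample
positive twist -/
theorem exists_isAmple_pullback_twist {X : Scheme.{u}} [CompactSpace X] (j : X ⟶ Proj 𝒜)
    [IsOpenImmersion j] :
    ∃ d : ℕ, 0 < d ∧ CohB1.IsAmple ((pullback j).obj (Twist.twist 𝒜 (d : ℤ))) := by
  obtain ⟨d, hd, hcov⟩ := exists_common_degree_cover 𝒜 j
  exact ⟨d, hd, isAmple_pullback_twist 𝒜 j d hcov⟩

end Groth.Agent.H67.ProjOpenAmple
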