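import Groth.Agent.H67.CharPChar2
import Mathlib.RingTheory.PowerSeries.Substitution
import Mathlib.RingTheory.PowerSeries.Trunc

set_option autoImplicit false

universe u

namespace Groth.Agent.H67

open Finset

section PS

variable {A : Type u} [CommRing A]

theorem fin2_single_add_eq_iff (a b i j : ℕ) :
    (Finsupp.single (0 : Fin 2) a + Finsupp.single (1 : Fin 2) b =
      Finsupp.single (0 : Fin 2) i + Finsupp.single (1 : Fin 2) j) ↔ a = i ∧ b = j := by
  constructor
  · intro h
    have h0 := DFunLike.congr_fun h (0 : Fin 2)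
    have h1 := DFunLike.congr_fun h (1 : Fin 2)
    simp at h0 h1
    exact ⟨h0, h1⟩
  · rintro ⟨rfl, rfl⟩
    rfl

theorem fin2_eq_single_add (e : Fin 2 →₀ ℕ) :
    e = Finsupp.single (0 : Fin 2) (e 0) + Finsupp.single (1 : Fin 2) (e 1) := by
  ext i
  fin_cases i <;> simp

theorem coeff_X0_add_X1_pow (a b d : ℕ) :
    MvPowerSeries.coeff (Finsupp.single (0 : Fin 2) a + Finsupp.single (1 : Fin 2) b)
      ((MvPowerSeries.X 0 + MvPowerSeries.X 1 : MvPowerSeries (Fin 2) A) ^ d) =
      if d = a + b then ((d.choose a : ℕ) : A) else 0 := by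
  classical
  rw [add_pow, map_sum]
  have hterm : ∀ i ∈ range (d + 1),
      MvPowerSeries.coeff (Finsupp.single (0 : Fin 2) a + Finsupp.single (1 : Fin 2) b)
        ((MvPowerSeries.X 0 : MvPowerSeries (Fin 2) A) ^ i * MvPowerSeries.X 1 ^ (d - i) *
          ((d.choose i : ℕ) : MvPowerSeries (Fin 2) A)) =
      if a = i ∧ b = d - i then ((d.choose i : ℕ) : A) else 0 := by
    intro i _
    rw [MvPowerSeries.X_pow_eq, MvPowerSeries.X_pow_eq, MvPowerSeries.monomial_mul_monomial,
      mul_one, mul_comm, ← nsmul_eq_mul, map_nsmul, MvPowerSeries.coeff_monomial]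
    simp only [fin2_single_add_eq_iff]
    split_ifs <;> simp
  rw [Finset.sum_congr rfl hterm]
  by_cases hd : d = a + b
  · rw [if_pos hd, Finset.sum_eq_single a]
    · rw [if_pos ⟨rfl, by omega⟩]
    · intro i _ hi
      rw [if_neg]
      rintro ⟨h1, -⟩
      exact hi h1.symm
    · intro h
      exact absurd (mem_range.2 (by omega)) h
  · rw [if_neg hd]
    apply Finset.sum_eq_zero
    intro i hi
    rw [if_neg]
    rintro ⟨h1, h2⟩
    have := mem_range.1 hi
    omega

theorem coeff_subst_X0_add_X1 (χ : PowerSeries A) (a b : ℕ) :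
    MvPowerSeries.coeff (Finsupp.single (0 : Fin 2) a + Finsupp.single (1 : Fin 2) b)
      (PowerSeries.subst (MvPowerSeries.X 0 + MvPowerSeries.X 1 : MvPowerSeries (Fin 2) A) χ) =
      (((a + b).choose a : ℕ) : A) * PowerSeries.coeff (a + b) χ := by
  have hs : PowerSeries.HasSubst (MvPowerSeries.X 0 + MvPowerSeries.X 1 : MvPowerSeries (Fin 2) A) :=
    (PowerSeries.HasSubst.X 0).add (PowerSeries.HasSubst.X 1)
  rw [PowerSeries.coeff_subst hs, finsum_eq_single _ (a + b)]
  · rw [coeff_X0_add_X1_pow, if_pos rfl, smul_eq_mul, mul_comm]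
  · intro d hd
    rw [coeff_X0_add_X1_pow, if_neg hd, smul_zero]

theorem coeff_subst_X0_mul_subst_X1 (χ : PowerSeries A) (a b : ℕ) :
    MvPowerSeries.coeff (Finsupp.single (0 : Fin 2) a + Finsupp.single (1 : Fin 2) b)
      (PowerSeries.subst (MvPowerSeries.X 0 : MvPowerSeries (Fin 2) A) χ *
        PowerSeries.subst (MvPowerSeries.X 1 : MvPowerSeries (Fin 2) A) χ) =
      PowerSeries.coeff a χ * PowerSeries.coeff b χ := by
  classical
  rw [MvPowerSeries.coeff_mul]
  rw [Finset.sum_eq_single (Finsupp.single (0 : Fin 2) a, Finsupp.single (1 : Fin 2) b)]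
  · rw [PowerSeries.coeff_subst_single, PowerSeries.coeff_subst_single]
    simp
  · rintro ⟨u, v⟩ huv hne
    rw [Finset.mem_antidiagonal] at huv
    rw [PowerSeries.coeff_subst_single, PowerSeries.coeff_subst_single]
    by_cases h1 : u = Finsupp.single 0 (u 0)
    · by_cases h2 : v = Finsupp.single 1 (v 1)
      · exfalso
        apply hne
        rw [h1, h2] at huv
        have := (fin2_single_add_eq_iff (u 0) (v 1) a b).1 huv
        rw [h1, h2, this.1, this.2]
      · rw [if_neg h2, mul_zero]
    · rw [if_neg h1, zero_mul]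
  · intro h
    exfalso
    apply h
    rw [Finset.mem_antidiagonal]

/-- Multiplicativity of a power series, in terms of coefficients. -/
theorem subst_add_eq_mul_iff (χ : PowerSeries A) :
    PowerSeries.subst (MvPowerSeries.X 0 + MvPowerSeries.X 1 : MvPowerSeries (Fin 2) A) χ =
        PowerSeries.subst (MvPowerSeries.X 0 : MvPowerSeries (Fin 2) A) χ *
          PowerSeries.subst (MvPowerSeries.X 1 : MvPowerSeries (Fin 2) A) χ ↔
      ∀ a b : ℕ, (((a + b).choose a : ℕ) : A) * PowerSeries.coeff (a + b) χ =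
        PowerSeries.coeff a χ * PowerSeries.coeff b χ := by
  constructor
  · intro h a b
    rw [← coeff_subst_X0_add_X1, ← coeff_subst_X0_mul_subst_X1, h]
  · intro h
    ext e
    rw [fin2_eq_single_add e, coeff_subst_X0_add_X1, coeff_subst_X0_mul_subst_X1, h]

end PS

end Groth.Agent.H67
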