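import Groth.Agent.H67.DevGen2
import Groth.Agent.Lead.Coh.SigmaSplit
import Groth.Agent.H47.IdealPowKill

/-!
# The extension-closed dévissage lemma (Stacks 01YM): irreducible step
-/

set_option autoImplicit false
set_option linter.style.haveILetI false
set_option linter.unusedSectionVars false
set_option linter.unusedVariables false
universe u
open CategoryTheory Limits AlgebraicGeometry TopologicalSpace Opposite
open Groth.Agent.H5.Stalk (stalkFunctor)
open Groth.Agent.H12.AffHomCrit (sproj sum_sproj_ι ι_sproj_self ι_sproj_ne)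

namespace Groth.Agent.H67.Dev

variable {X : Scheme.{u}}

theorem stalk_surjective_of_notMem_support_cokernel {A B : X.Modules} (f : A ⟶ B) [Mono f]
    (x : X) (h : x ∉ CohB1.support (cokernel f)) :
    Function.Surjective ((stalkFunctor x).map f).hom := by
  have hS' := Groth.Agent.H5.Stalk.stalkFunctor_map_shortExact x _ (shortExact_cokernel f)
  have hsub : Subsingleton ((stalkFunctor x).obj (cokernel f)) := not_not.mp h
  have hex := (ShortComplex.moduleCat_exact_iff _).mp hS'.exact
  intro y
  obtain ⟨m, hm⟩ := hex y (hsub.elim _ _)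
  exact ⟨m, hm⟩

section SigmaMap

variable {Y : Scheme.{u}} {r : ℕ} {A B : Y.Modules} (f : A ⟶ B)

theorem sigmaMap_sproj (j : Fin r) :
    Limits.Sigma.map (fun _ : Fin r => f) ≫ sproj (fun _ : Fin r => B) j =
      sproj (fun _ : Fin r => A) j ≫ f := by
  apply Sigma.hom_ext
  intro k
  rw [← Category.assoc, Sigma.ι_map, Category.assoc]
  by_cases hk : k = j
  · subst hk
    rw [ι_sproj_self, Category.comp_id, ← Category.assoc, ι_sproj_self, Category.id_comp]
  · rw [ι_sproj_ne _ j k hk, comp_zero, ← Category.assoc, ι_sproj_ne _ j k hk, zero_comp]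

instance mono_sigmaMap [Mono f] : Mono (Limits.Sigma.map (fun _ : Fin r => f)) := by
  apply Groth.Agent.H5.Stalk.mono_of_app_injective
  intro U
  rw [injective_iff_map_eq_zero]
  intro s hs
  rw [sigma_section_eq (fun _ : Fin r => A) U s]
  refine Finset.sum_eq_zero (fun j _ => ?_)
  have h1 : f.app U ((sproj (fun _ : Fin r => A) j).app U s) = 0 := by
    rw [← comp_app_apply, ← sigmaMap_sproj, comp_app_apply, hs, map_zero]
  have h2 := Groth.Agent.H12.QCohAbelian.app_injective_of_mono f U
    (h1.trans (map_zero _).symm)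
  rw [h2, map_zero]

theorem sigmaMap_surjective {R : Type u} [Ring R] (Φ : Y.Modules ⥤ ModuleCat.{u} R) [Φ.Additive]
    (hf : Function.Surjective (Φ.map f).hom) :
    Function.Surjective (Φ.map (Limits.Sigma.map (fun _ : Fin r => f))).hom := by
  intro y
  choose a ha using fun j => hf ((Φ.map (sproj (fun _ : Fin r => B) j)).hom y)
  refine ⟨∑ j, (Φ.map (Sigma.ι (fun _ : Fin r => A) j)).hom (a j), ?_⟩
  rw [map_sum]
  have h := congrArg (fun g => (Φ.map g).hom y) (sum_sproj_ι (fun _ : Fin r => B))
  simp only [Functor.map_sum, Functor.map_comp, CategoryTheory.Functor.map_id] at h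
  rw [ModuleCat.hom_sum, LinearMap.sum_apply] at h
  refine Eq.trans ?_ h
  refine Finset.sum_congr rfl (fun j _ => ?_)
  rw [ModuleCat.hom_comp, LinearMap.comp_apply, ← ha j]
  have h2 : Φ.map (Sigma.ι (fun _ : Fin r => A) j) ≫ Φ.map (Limits.Sigma.map (fun _ : Fin r => f)) =
      Φ.map f ≫ Φ.map (Sigma.ι (fun _ : Fin r => B) j) := by
    rw [← Functor.map_comp, ← Functor.map_comp, Sigma.ι_map]
  exact congr($(h2).hom (a j))

end SigmaMap


theorem idealMulι_comp_eq_zero_of_killed (J : X.IdealSheafData) {G Q : X.Modules}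
    [G.IsQuasicoherent] (π : G ⟶ Q)
    (hk : ∀ (V : X.affineOpens) (a : Γ(X, V.1)), a ∈ J.ideal V → ∀ s : Γ(Q, V.1), a • s = 0) :
    Dual3.idealMulι J G ≫ π = 0 := by
  refine Groth.Agent.Lead.IdealMul.hom_ext_affine _ _ (fun V hV s => ?_)
  have h1 : (Dual3.idealMulι J G).app V s ∈
      Groth.Agent.Lead.SubRange.rng (Dual3.idealMulι J G) V := ⟨s, rfl⟩
  rw [Groth.Agent.Lead.SubRange.rng_idealMulι J hV] at h1
  rw [comp_app_apply]
  change π.app V ((Dual3.idealMulι J G).app V s) = 0
  refine Submodule.smul_induction_on h1 (fun a ha g _ => ?_) (fun x y hx hy => ?_)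
  · rw [Scheme.Modules.Hom.app_smul, hk ⟨V, hV⟩ a ha]
  · rw [map_add, hx, hy, add_zero]

theorem notMem_support_pow_vanishingIdeal (T : Closeds X) (ξ : X) (hξ : ξ ∉ (T : Set X)) (n : ℕ) :
    ξ ∉ (((Scheme.IdealSheafData.vanishingIdeal T) ^ n).support : Set X) := by
  cases n with
  | zero =>
    rw [pow_zero, Scheme.IdealSheafData.one_eq_top, Scheme.IdealSheafData.support_top]
    exact fun h => h
  | succ n =>
    rw [Scheme.IdealSheafData.support_pow_succ, Scheme.IdealSheafData.coe_support_vanishingIdeal]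
    exact hξ

theorem mem_support_push_of_bijective {Z : Scheme.{u}} (i : Z ⟶ X) [IsIntegral Z]
    [IsClosedImmersion i] {I' : Z.Modules}
    (ι' : I' ⟶ Coh.structureModule Z) [Mono ι'] {r : ℕ} {G : X.Modules}
    (φ : (Scheme.Modules.pushforward i).obj (∐ fun _ : Fin r => I') ⟶ G)
    (hbij : Function.Bijective ((stalkFunctor (i (genericPoint Z))).map φ).hom)
    (hGξ : i (genericPoint Z) ∈ CohB1.support G) :
    i (genericPoint Z) ∈ CohB1.support ((Scheme.Modules.pushforward i).obj I') := by
  by_contra hcon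
  haveI : Mono ((Scheme.Modules.pushforward i).map ι') := inferInstance
  have hz := isZero_of_mono_pushO i ((Scheme.Modules.pushforward i).map ι') hcon
  have hz' : IsZero I' := by
    rw [IsZero.iff_id_eq_zero] at hz ⊢
    apply (Scheme.Modules.pushforward i).map_injective
    rw [CategoryTheory.Functor.map_id, Functor.map_zero]
    exact hz
  have hz2 : IsZero ((Scheme.Modules.pushforward i).obj (∐ fun _ : Fin r => I')) :=
    (Scheme.Modules.pushforward i).map_isZero (isZero_sigma_of_isZero _ (fun _ => hz'))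
  have hsub : Subsingleton ((stalkFunctor (i (genericPoint Z))).obj
      ((Scheme.Modules.pushforward i).obj (∐ fun _ : Fin r => I'))) :=
    not_not.mp (notMem_support_of_isZero hz2 (i (genericPoint Z)))
  haveI := hsub
  have h5 : Subsingleton ((stalkFunctor (i (genericPoint Z))).obj G) := hbij.2.subsingleton
  exact hGξ h5


theorem stalk_comp_hom {A B C : X.Modules} (f : A ⟶ B) (g : B ⟶ C) (x : X) :
    ((stalkFunctor x).map (f ≫ g)).hom =
      ((stalkFunctor x).map g).hom.comp ((stalkFunctor x).map f).hom := by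
  rw [Functor.map_comp, ModuleCat.hom_comp]

theorem stalk_surjective_comp {A B C : X.Modules} (f : A ⟶ B) (g : B ⟶ C) (x : X)
    (hf : Function.Surjective ((stalkFunctor x).map f).hom)
    (hg : Function.Surjective ((stalkFunctor x).map g).hom) :
    Function.Surjective ((stalkFunctor x).map (f ≫ g)).hom := by
  rw [stalk_comp_hom]
  exact hg.comp hf

theorem stalk_surjective_of_comp {A B C : X.Modules} (f : A ⟶ B) (g : B ⟶ C) (x : X)
    (hfg : Function.Surjective ((stalkFunctor x).map (f ≫ g)).hom)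
    (hg : Function.Injective ((stalkFunctor x).map g).hom) :
    Function.Surjective ((stalkFunctor x).map f).hom := by
  rw [stalk_comp_hom] at hfg
  intro y
  obtain ⟨a, ha⟩ := hfg (((stalkFunctor x).map g).hom y)
  exact ⟨a, hg ha⟩

theorem stalk_surjective_of_isIso {A B : X.Modules} (f : A ⟶ B) [IsIso f] (x : X) :
    Function.Surjective ((stalkFunctor x).map f).hom := by
  have h : IsIso ((stalkFunctor x).map f) := inferInstance
  exact ((ConcreteCategory.isIso_iff_bijective _).mp h).2

/-- the cokernel of the inclusion of `A ∩ B` into `A` is supported inside the support of the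
cokernel of `B` -/
theorem stalk_surjective_kernel_ι {O A B : X.Modules} (a : A ⟶ O) (b : B ⟶ O) [Mono a] [Mono b]
    (x : X) (hb : x ∉ CohB1.support (cokernel b)) :
    Function.Surjective ((stalkFunctor x).map (kernel.ι (a ≫ cokernel.π b))).hom := by
  apply stalk_surjective_of_notMem_support_cokernel
  intro h
  exact hb (support_subset_of_mono (Abelian.factorThruCoimage (a ≫ cokernel.π b)) h)

section Ext

variable [IsNoetherian X] (Z₀ : Set X) (ξ : X) (P : X.Modules → Prop)
  (hP : ∀ M N : X.Modules, Nonempty (M ≅ N) → P M → P N)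
  (hA : ∀ Q : X.Modules, Coh.IsCoh Q → CohB1.support Q ⊆ Z₀ → ξ ∉ CohB1.support Q → P Q)
  (hext : ∀ S : ShortComplex X.Modules, S.ShortExact → Coh.IsCoh S.X₁ → Coh.IsCoh S.X₂ →
    Coh.IsCoh S.X₃ → CohB1.support S.X₂ ⊆ Z₀ → P S.X₁ → P S.X₃ → P S.X₂)
  (hroot : ∀ (F : X.Modules) (r : ℕ), Coh.IsCoh F → 1 ≤ r → P (∐ fun _ : Fin r => F) → P F)

include hP hA hext hroot in
/-- the irreducible step of Stacks 01YM -/
theorem P_push_of_ext (Z : Scheme.{u}) (i : Z ⟶ X) [IsClosedImmersion i] [IsIntegral Z]
    (hξ : ξ = i (genericPoint Z)) (hrange : Set.range i = Z₀)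
    (G : X.Modules) (hG : Coh.IsCoh G) (hGs : CohB1.support G ⊆ Z₀)
    (hGξ : ξ ∈ CohB1.support G)
    (hann : ∀ a ∈ IsLocalRing.maximalIdeal (X.presheaf.stalk ξ),
      ∀ m : ↑(G.presheaf.stalk ξ), a • m = 0)
    (hG' : ∀ J : X.IdealSheafData, ξ ∉ (J.support : Set X) →
      ∃ (G' : X.Modules) (ι' : G' ⟶ (Dual3.idealMul J).obj G), Mono ι' ∧ Coh.IsQCoh G' ∧
        Function.Bijective ((stalkFunctor ξ).map (ι' ≫ Dual3.idealMulι J G)).hom ∧ P G')
    (I : Z.Modules) (ι : I ⟶ Coh.structureModule Z) [Mono ι] (hI : Coh.IsQCoh I)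
    (hIz : ¬ IsZero I) : P ((Scheme.Modules.pushforward i).obj I) := by
  subst hξ
  haveI : IsLocallyNoetherian Z := LocallyOfFiniteType.isLocallyNoetherian i
  obtain ⟨r, I', ι', φ, hι', hI', hφ, U, hξU, hiso⟩ := main X Z i G hG hann
  haveI := hι'
  haveI := hφ
  haveI := hiso
  have hbij := stalk_bijective_of_isIso_restrict φ U hξU
  have hr1 : 1 ≤ r := one_le_of_bijective i _ φ hbij hGξ
  haveI : I.IsQuasicoherent := hI
  haveI : I'.IsQuasicoherent := hI'.1
  haveI : G.IsQuasicoherent := hG.1
  haveI : SheafOfModules.IsFiniteType (R := X.ringCatSheaf) G := hG.2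
  haveI : SheafOfModules.IsFiniteType (R := Z.ringCatSheaf) (Coh.structureModule Z) :=
    isFiniteType_structureModule
  have hOZ : Coh.IsCoh (Coh.structureModule Z) := ⟨inferInstance, isFiniteType_structureModule⟩
  have hIc : Coh.IsCoh I := ⟨hI, Groth.Agent.H71.QCoh.isFiniteType_of_mono ι⟩
  -- the ambient module and the two subobjects
  let α : (Scheme.Modules.pushforward i).obj (∐ fun _ : Fin r => I') ⟶
      (Scheme.Modules.pushforward i).obj (∐ fun _ : Fin r => Coh.structureModule Z) :=
    (Scheme.Modules.pushforward i).map (Limits.Sigma.map (fun _ : Fin r => ι'))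
  let β : (Scheme.Modules.pushforward i).obj (∐ fun _ : Fin r => I) ⟶
      (Scheme.Modules.pushforward i).obj (∐ fun _ : Fin r => Coh.structureModule Z) :=
    (Scheme.Modules.pushforward i).map (Limits.Sigma.map (fun _ : Fin r => ι))
  haveI : Mono α := inferInstance
  haveI : Mono β := inferInstance
  have hAc : Coh.IsCoh ((Scheme.Modules.pushforward i).obj (∐ fun _ : Fin r => I')) :=
    isCoh_push_closed i (Groth.Agent.Lead.SigmaSplit.isCoh_pow I' hI' r)
  have hBc : Coh.IsCoh ((Scheme.Modules.pushforward i).obj (∐ fun _ : Fin r => I)) :=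
    isCoh_push_closed i (Groth.Agent.Lead.SigmaSplit.isCoh_pow I hIc r)
  have hOc : Coh.IsCoh ((Scheme.Modules.pushforward i).obj
      (∐ fun _ : Fin r => Coh.structureModule Z)) :=
    isCoh_push_closed i (Groth.Agent.Lead.SigmaSplit.isCoh_pow _ hOZ r)
  have hBs : CohB1.support ((Scheme.Modules.pushforward i).obj (∐ fun _ : Fin r => I)) ⊆ Z₀ := by
    rw [← hrange]
    exact Groth.Agent.H71.QCoh.support_subset_range_of_iso_pushforward i _ _ (Iso.refl _)
  -- stalk surjectivity of α and β
  let Φ : Z.Modules ⥤ ModuleCat.{u} (X.presheaf.stalk (i (genericPoint Z))) :=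
    Scheme.Modules.pushforward i ⋙ stalkFunctor (i (genericPoint Z))
  haveI : Φ.Additive := inferInstance
  haveI : Mono ((Scheme.Modules.pushforward i).map ι) := inferInstance
  haveI : Mono ((Scheme.Modules.pushforward i).map ι') := inferInstance
  have hιξ : Function.Surjective (Φ.map ι).hom :=
    stalk_surjective_of_notMem_support_cokernel ((Scheme.Modules.pushforward i).map ι) _
      (notMem_support_cokernel_of_mono_pushO i _ (mem_support_push i ι hIz))
  have hι'ξ : Function.Surjective (Φ.map ι').hom :=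
    stalk_surjective_of_notMem_support_cokernel ((Scheme.Modules.pushforward i).map ι') _
      (notMem_support_cokernel_of_mono_pushO i _
        (mem_support_push_of_bijective i ι' φ hbij hGξ))
  have hαξ : Function.Surjective ((stalkFunctor (i (genericPoint Z))).map α).hom :=
    sigmaMap_surjective ι' Φ hι'ξ
  have hβξ : Function.Surjective ((stalkFunctor (i (genericPoint Z))).map β).hom :=
    sigmaMap_surjective ι Φ hιξ
  have hcα := notMem_support_cokernel_of_surjective α _ hαξ
  have hcβ := notMem_support_cokernel_of_surjective β _ hβξ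
  -- the intersection
  let k := kernel.ι (α ≫ cokernel.π β)
  have hkξ := stalk_surjective_kernel_ι α β _ hcβ
  let l := (kernelInfIso α β).hom ≫ kernel.ι (β ≫ cokernel.π α)
  haveI : Mono l := mono_comp _ _
  have hlξ : Function.Surjective ((stalkFunctor (i (genericPoint Z))).map l).hom :=
    stalk_surjective_comp _ _ _ (stalk_surjective_of_isIso _ _)
      (stalk_surjective_kernel_ι β α _ hcα)
  have hKc : Coh.IsCoh (kernel (α ≫ cokernel.π β)) :=
    isCoh_kernel _ hAc (isCoh_cokernel β hBc hOc).1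
  -- the composite into `G`
  let ψ := k ≫ φ
  haveI : Mono ψ := mono_comp _ _
  have hψξ : Function.Surjective ((stalkFunctor (i (genericPoint Z))).map ψ).hom :=
    stalk_surjective_comp _ _ _ hkξ hbij.2
  have hQc := isCoh_cokernel ψ hKc hG
  have hQξ := notMem_support_cokernel_of_surjective ψ _ hψξ
  let T : Closeds X := ⟨CohB1.support (cokernel ψ),
    @Groth.Agent.H71.QCoh.isClosed_support X (cokernel ψ) hQc.1 hQc.2⟩
  obtain ⟨n, hn⟩ := @Groth.Agent.H47.IdealPowKill.main X _ (cokernel ψ) hQc.1 hQc.2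
    (Scheme.IdealSheafData.vanishingIdeal T) (by
      rw [Scheme.IdealSheafData.coe_support_vanishingIdeal]
      exact subset_rfl)
  have hz : Dual3.idealMulι ((Scheme.IdealSheafData.vanishingIdeal T) ^ n) G ≫ cokernel.π ψ = 0 :=
    idealMulι_comp_eq_zero_of_killed _ _ (fun V a ha s => hn V a ha s)
  let u := Abelian.monoLift ψ (Dual3.idealMulι ((Scheme.IdealSheafData.vanishingIdeal T) ^ n) G) hz
  have hu : u ≫ ψ = Dual3.idealMulι ((Scheme.IdealSheafData.vanishingIdeal T) ^ n) G :=
    Abelian.monoLift_comp _ _ _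
  obtain ⟨G', ι'', hm, hq, hb', hPG'⟩ := hG' ((Scheme.IdealSheafData.vanishingIdeal T) ^ n)
    (notMem_support_pow_vanishingIdeal T _ hQξ n)
  haveI := hm
  haveI : G'.IsQuasicoherent := hq
  let w := ι'' ≫ u
  have hw : w ≫ ψ = ι'' ≫ Dual3.idealMulι ((Scheme.IdealSheafData.vanishingIdeal T) ^ n) G := by
    rw [Category.assoc, hu]
  haveI : Mono (w ≫ ψ) := by
    rw [hw]
    exact mono_comp _ _
  haveI : Mono w := mono_of_mono w ψ
  have hwξ : Function.Surjective ((stalkFunctor (i (genericPoint Z))).map w).hom := by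
    refine stalk_surjective_of_comp w ψ _ ?_
      (Groth.Agent.H5.Stalk.stalkFunctor_map_injective_of_mono _ ψ)
    rw [hw]
    exact hb'.2
  let v := w ≫ l
  haveI : Mono v := mono_comp _ _
  have hvξ := stalk_surjective_comp w l _ hwξ hlξ
  have hG'c : Coh.IsCoh G' := ⟨hq, Groth.Agent.H71.QCoh.isFiniteType_of_mono (w ≫ ψ)⟩
  have hCc := isCoh_cokernel v hG'c hBc
  have hCξ := notMem_support_cokernel_of_surjective v _ hvξ
  have hCs : CohB1.support (cokernel v) ⊆ Z₀ :=
    (support_subset_of_epi (cokernel.π v)).trans hBs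
  have hPB : P ((Scheme.Modules.pushforward i).obj (∐ fun _ : Fin r => I)) :=
    hext _ (shortExact_cokernel v) hG'c hBc hCc hBs hPG' (hA _ hCc hCs hCξ)
  refine hroot _ r (isCoh_push_closed i hIc) hr1 ?_
  exact hP _ _ ⟨PreservesCoproduct.iso (Scheme.Modules.pushforward i) (fun _ : Fin r => I)⟩ hPB

end Ext

end Groth.Agent.H67.Dev
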