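import Mathlib
import Groth.Prelude.Def_CInt
import Groth.Agent.H11.EtaleSlice
import Groth.Agent.H19.SchDense
import Groth.Agent.H48.CycFib

/-!
# Uniqueness half of the Néron mapping property from étale test schemes

Two `S`-morphisms `g₁ g₂ : Z ⟶ N` from a smooth `S`-scheme which agree over a schematically dense
open `S₀ ⊆ S` (with `S` locally Noetherian, all residue characteristics `0`) are equal, provided the
same uniqueness is known for all étale test schemes.  `N` is not assumed separated: the equality of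
the underlying maps comes from étale slices through the points closed in their fibre.
-/

set_option autoImplicit false
set_option linter.style.haveILetI false

universe u

namespace Groth.Agent.H67.NeronInj

open CategoryTheory CategoryTheory.Limits AlgebraicGeometry TopologicalSpace

/-- Two morphisms over `S` have the same base change along `j` iff they agree after composing with
the projection from the base change. -/
theorem map_eq_iff {C : Type*} [Category C] [HasPullbacks C] {S₀ S : C} (j : S₀ ⟶ S)
    {Z N : Over S} (g₁ g₂ : Z ⟶ N) :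
    (Over.pullback j).map g₁ = (Over.pullback j).map g₂ ↔
      pullback.fst Z.hom j ≫ g₁.left = pullback.fst Z.hom j ≫ g₂.left := by
  constructor
  · intro h
    have h' := congrArg (fun f => f.left ≫ pullback.fst N.hom j) h
    simp only [Over.pullback_map_left] at h'
    rw [pullback.lift_fst, pullback.lift_fst] at h'
    exact h'
  · intro h
    ext
    apply pullback.hom_ext
    · simp only [Over.pullback_map_left]
      rw [pullback.lift_fst, pullback.lift_fst]
      exact h
    · simp only [Over.pullback_map_left]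
      rw [pullback.lift_snd, pullback.lift_snd]

/-- Morphisms to an affine scheme which agree after a scheme-theoretically dominant quasi-compact
morphism are equal. -/
theorem eq_of_dominant_affine {Q W Y : Scheme.{u}} [IsAffine Y] (q : Q ⟶ W)
    [IsSchemeTheoreticallyDominant q] [QuasiCompact q] (h₁ h₂ : W ⟶ Y)
    (h : q ≫ h₁ = q ≫ h₂) : h₁ = h₂ := by
  apply ext_of_isAffine
  apply CommRingCat.hom_ext
  apply RingHom.ext
  intro a
  apply q.app_injective ⊤
  have h' := congrArg (fun f : Q ⟶ Y => f.appTop a) h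
  simp only [Scheme.Hom.comp_appTop, CommRingCat.comp_apply] at h'
  exact h'

/-- Local agreement: two morphisms agreeing after a scheme-theoretically dominant quasi-compact
morphism and at a point `z` agree on an open neighbourhood of `z`. -/
theorem exists_open_eq {P Z N : Scheme.{u}} (p : P ⟶ Z) [IsSchemeTheoreticallyDominant p]
    [QuasiCompact p] (g₁ g₂ : Z ⟶ N) (h : p ≫ g₁ = p ≫ g₂) (z : Z) (hz : g₁ z = g₂ z) :
    ∃ W : Z.Opens, z ∈ W ∧ W.ι ≫ g₁ = W.ι ≫ g₂ := by
  obtain ⟨N', hN', hzN'⟩ : ∃ N' : N.Opens, IsAffineOpen N' ∧ g₁ z ∈ N' := by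
    obtain ⟨_, ⟨N', hN', rfl⟩, hzN', -⟩ :=
      N.isBasis_affineOpens.exists_subset_of_mem_open (Set.mem_univ (g₁ z)) isOpen_univ
    exact ⟨N', hN', hzN'⟩
  let W : Z.Opens := g₁ ⁻¹ᵁ N' ⊓ g₂ ⁻¹ᵁ N'
  have e₁ : W ≤ g₁ ⁻¹ᵁ N' := inf_le_left
  have e₂ : W ≤ g₂ ⁻¹ᵁ N' := inf_le_right
  have hzW : z ∈ W := ⟨hzN', by show g₂ z ∈ N'; rw [← hz]; exact hzN'⟩
  refine ⟨W, hzW, ?_⟩
  have : IsAffine N'.toScheme := hN'
  have key : g₁.resLE N' W e₁ = g₂.resLE N' W e₂ := by
    apply eq_of_dominant_affine (pullback.snd p W.ι)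
    rw [← cancel_mono N'.ι]
    simp only [Category.assoc, Scheme.Hom.resLE_comp_ι]
    rw [← pullback.condition_assoc, ← pullback.condition_assoc, h]
  rw [← Scheme.Hom.resLE_comp_ι g₁ e₁, ← Scheme.Hom.resLE_comp_ι g₂ e₂, key]

/-- A point of a fibre which is closed in the fibre has finite residue field extension. -/
theorem finite_of_isClosed {X Y : Scheme.{u}} (f : X ⟶ Y) [LocallyOfFiniteType f]
    (y : Y) (z : X) (hz : f z = y) (t : f.fiber y)
    (ht : f.fiberι y t = z) (hcl : IsClosed ({t} : Set (f.fiber y))) :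
    (f.residueFieldMap z).hom.Finite := by
  subst hz
  have : t = f.asFiber z := by
    apply (f.fiberι (f z)).isEmbedding.injective
    rw [ht, Scheme.Hom.fiberι_asFiber]
  subst this
  exact Groth.Agent.H48.CycFib.residueFieldMap_finite_of_isClosed_asFiber f z hcl

/-- Every nonempty closed subset of the source of a morphism locally of finite type contains a
point whose residue field is finite over the residue field of its image. -/
theorem exists_finite_point {X Y : Scheme.{u}} (f : X ⟶ Y) [LocallyOfFiniteType f]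
    (C : Set X) (hC : IsClosed C) (hne : C.Nonempty) :
    ∃ x ∈ C, (f.residueFieldMap x).hom.Finite := by
  obtain ⟨x₀, hx₀⟩ := hne
  have hC' : IsClosed ((f.fiberι (f x₀)) ⁻¹' C) := hC.preimage (f.fiberι (f x₀)).continuous
  have hne' : ((f.fiberι (f x₀)) ⁻¹' C).Nonempty := by
    have : x₀ ∈ Set.range (f.fiberι (f x₀)) := by rw [Scheme.Hom.range_fiberι]; rfl
    obtain ⟨w, hw⟩ := this
    exact ⟨w, by show f.fiberι (f x₀) w ∈ C; rw [hw]; exact hx₀⟩
  obtain ⟨w, hwC, hwcl⟩ := nonempty_inter_closedPoints hne' hC'.isLocallyClosed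
  refine ⟨f.fiberι (f x₀) w, hwC, ?_⟩
  have hw : f (f.fiberι (f x₀) w) = f x₀ := by
    have : f.fiberι (f x₀) w ∈ Set.range (f.fiberι (f x₀)) := ⟨w, rfl⟩
    rw [Scheme.Hom.range_fiberι] at this
    exact this
  exact finite_of_isClosed f (f x₀) _ hw w rfl (mem_closedPoints_iff.mp hwcl)

/-- Residue fields of a scheme over a field of characteristic zero have characteristic zero. -/
theorem charZero_residueField {k : Type u} [Field k] [CharZero k] {S : Scheme.{u}}
    (σ : S ⟶ Spec (CommRingCat.of k)) (s : S) : CharZero (S.residueField s) := by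
  let φ : CommRingCat.of k ⟶ S.residueField s := Spec.preimage (S.fromSpecResidueField s ≫ σ)
  exact charZero_of_injective_ringHom φ.hom.injective

set_option maxHeartbeats 800000 in
/-- The uniqueness half of the Néron mapping property for smooth test schemes follows from the one
for étale test schemes. -/
theorem main {k : Type u} [Field k] [CharZero k] {S : Scheme.{u}}
    (σ : S ⟶ Spec (CommRingCat.of k)) [IsLocallyNoetherian S] (S₀ : S.Opens)
    (hS₀ : CInt.IsSchematicallyDense S₀) {Z N : Scheme.{u}} (zh : Z ⟶ S) (nh : N ⟶ S) [Smooth zh]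
    (H : ∀ (U : Scheme.{u}) (uh : U ⟶ S), Etale uh → ∀ a b : U ⟶ N, a ≫ nh = uh → b ≫ nh = uh →
        pullback.fst uh S₀.ι ≫ a = pullback.fst uh S₀.ι ≫ b → a = b)
    (g₁ g₂ : Z ⟶ N) (hg₁ : g₁ ≫ nh = zh) (hg₂ : g₂ ≫ nh = zh)
    (h : pullback.fst zh S₀.ι ≫ g₁ = pullback.fst zh S₀.ι ≫ g₂) : g₁ = g₂ := by
  haveI : IsSchemeTheoreticallyDominant S₀.ι :=
    Groth.Agent.H19.dominant_of_isSchematicallyDense S₀ hS₀
  haveI : IsSchemeTheoreticallyDominant (pullback.fst zh S₀.ι) := inferInstance
  haveI : QuasiCompact (pullback.fst zh S₀.ι) := inferInstance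
  -- the locus of local agreement
  let E : Set Z := {z | ∃ W : Z.Opens, z ∈ W ∧ W.ι ≫ g₁ = W.ι ≫ g₂}
  have hEopen : IsOpen E := by
    rw [isOpen_iff_forall_mem_open]
    rintro z ⟨W, hzW, hW⟩
    exact ⟨W, fun z' hz' => ⟨W, hz', hW⟩, W.2, hzW⟩
  have hE : E = Set.univ := by
    by_contra hne
    have hne' : (Eᶜ).Nonempty := by
      rw [Set.nonempty_compl]; exact hne
    obtain ⟨x, hxE, hfin⟩ := exists_finite_point zh Eᶜ hEopen.isClosed_compl hne'
    apply hxE
    -- separability of the residue field extension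
    haveI : CharZero (S.residueField (zh x)) := charZero_residueField σ (zh x)
    have hsep : @Algebra.IsSeparable (S.residueField (zh x)) (Z.residueField x) _ _
        (zh.residueFieldMap x).hom.toAlgebra := by
      letI := (zh.residueFieldMap x).hom.toAlgebra
      haveI : Module.Finite (S.residueField (zh x)) (Z.residueField x) := hfin
      infer_instance
    haveI : Smooth ((⊤ : Z.Opens).ι ≫ zh) := inferInstance
    obtain ⟨U, i, u, hi, hét, hiu, -⟩ :=
      Groth.Agent.H11.EtaleSlice.exists_etale_slice zh x ⊤ trivial hsep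
    have hag : i ≫ g₁ = i ≫ g₂ := by
      apply H U (i ≫ zh) hét
      · rw [Category.assoc, hg₁]
      · rw [Category.assoc, hg₂]
      · obtain ⟨l, hl⟩ : ∃ l : pullback (i ≫ zh) S₀.ι ⟶ pullback zh S₀.ι,
            l ≫ pullback.fst zh S₀.ι = pullback.fst (i ≫ zh) S₀.ι ≫ i :=
          ⟨pullback.lift (pullback.fst (i ≫ zh) S₀.ι ≫ i) (pullback.snd (i ≫ zh) S₀.ι)
              (by rw [Category.assoc, pullback.condition]), pullback.lift_fst _ _ _⟩
        rw [← Category.assoc, ← Category.assoc, ← hl, Category.assoc, Category.assoc, h]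
    have hpt : g₁ x = g₂ x := by
      rw [← hiu]
      have := congrArg (fun f : U ⟶ N => f u) hag
      simpa using this
    exact exists_open_eq (pullback.fst zh S₀.ι) g₁ g₂ h x hpt
  -- glue
  have hall : ∀ z : Z, ∃ W : Z.Opens, z ∈ W ∧ W.ι ≫ g₁ = W.ι ≫ g₂ := by
    intro z
    have : z ∈ E := by rw [hE]; trivial
    exact this
  choose W hzW hW using hall
  have hcov : IsOpenCover W := by
    rw [IsOpenCover, eq_top_iff]
    intro z _
    exact TopologicalSpace.Opens.mem_iSup.mpr ⟨z, hzW z⟩
  exact (Z.openCoverOfIsOpenCover W hcov).hom_ext g₁ g₂ (fun z => hW z)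

end Groth.Agent.H67.NeronInj
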