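import Groth.Agent.H67.UnitIso
import Groth.Agent.H67.InvertibleNearFibre
import Groth.Agent.H67.FreeNearFinite

/-!
# Consequences of the unit isomorphism `N ≅ f_* f^* N` for finite locally free `N`
-/

set_option autoImplicit false
set_option linter.style.haveILetI false
universe u
open CategoryTheory CategoryTheory.Limits AlgebraicGeometry TopologicalSpace Opposite

namespace Groth.Agent.H67.UnitIso

open Scheme.Modules

variable {X S : Scheme.{u}} (f : X ⟶ S)

theorem bijective_app_of_isIso_unitToPush (h : IsIso (ClSub.unitToPush f)) (U : S.Opens) :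
    Function.Bijective (f.app U) := by
  have h1 := (Hom.isIso_iff_isIso_app.1 h) U
  have h2 : Function.Bijective ((ClSub.unitToPush f).app U) :=
    (ConcreteCategory.isIso_iff_bijective _).1 h1
  exact h2

theorem isFinLocFree_of_iso {L L' : S.Modules} (e : L ≅ L') (hL : FlatMod.IsFinLocFree L) :
    FlatMod.IsFinLocFree L' := by
  intro y
  obtain ⟨W, n, hy, ⟨a⟩⟩ := hL y
  exact ⟨W, n, hy, ⟨(restrictFunctor W.ι).mapIso e.symm ≪≫ a⟩⟩

variable (hf : ∀ U : S.Opens, Function.Bijective (f.app U))

include hf in
theorem isIso_unit_of_isInvertible (L : S.Modules) (hL : PicF.IsInvertible L) :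
    IsIso ((Scheme.Modules.pullbackPushforwardAdjunction f).unit.app L) :=
  isIso_unit_of_isFinLocFree f hf L (FreeNearFinite.isFinLocFree_of_rank
    (InvertibleNearFibre.isFinLocFreeOfRank_one L hL))

include hf in
/-- an invertible module with trivial pullback is trivial, when `O_S ≅ f_* O_X` -/
theorem trivial_of_pullback_trivial (L : S.Modules) (hL : PicF.IsInvertible L)
    (e : (Scheme.Modules.pullback f).obj L ≅ Coh.structureModule X) :
    Nonempty (L ≅ Coh.structureModule S) := by
  haveI := isIso_unit_of_isInvertible f hf L hL
  haveI := isIso_unitToPush' f hf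
  exact ⟨asIso ((Scheme.Modules.pullbackPushforwardAdjunction f).unit.app L) ≪≫
    (Scheme.Modules.pushforward f).mapIso e ≪≫ (asIso (unitToPush' f)).symm⟩

include hf in
/-- characterisation of the finite locally free modules on `X` which are pulled back from `S` -/
theorem exists_pullback_iff (E : X.Modules) :
    (∃ M : S.Modules, FlatMod.IsFinLocFree M ∧
        Nonempty (E ≅ (Scheme.Modules.pullback f).obj M)) ↔
      (FlatMod.IsFinLocFree ((Scheme.Modules.pushforward f).obj E) ∧
        IsIso ((Scheme.Modules.pullbackPushforwardAdjunction f).counit.app E)) := by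
  let adj := Scheme.Modules.pullbackPushforwardAdjunction f
  constructor
  · rintro ⟨M, hM, ⟨e⟩⟩
    haveI hη := isIso_unit_of_isFinLocFree f hf M hM
    refine ⟨isFinLocFree_of_iso (asIso (adj.unit.app M) ≪≫
      (Scheme.Modules.pushforward f).mapIso e.symm) hM, ?_⟩
    have htri := adj.left_triangle_components M
    haveI : IsIso ((Scheme.Modules.pullback f).map (adj.unit.app M)) := inferInstance
    haveI : IsIso (adj.counit.app ((Scheme.Modules.pullback f).obj M)) := by
      haveI : IsIso ((Scheme.Modules.pullback f).map (adj.unit.app M) ≫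
          adj.counit.app ((Scheme.Modules.pullback f).obj M)) := by
        rw [htri]
        infer_instance
      exact IsIso.of_isIso_comp_left ((Scheme.Modules.pullback f).map (adj.unit.app M)) _
    have hnat := adj.counit.naturality e.hom
    simp only [Functor.comp_map, Functor.id_map] at hnat
    have h2 : adj.counit.app E =
        (Scheme.Modules.pullback f).map ((Scheme.Modules.pushforward f).map e.hom) ≫
          adj.counit.app ((Scheme.Modules.pullback f).obj M) ≫ e.inv := by
      rw [← Category.assoc, hnat, Category.assoc, Iso.hom_inv_id, Category.comp_id]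
    show IsIso (adj.counit.app E)
    rw [h2]
    infer_instance
  · rintro ⟨hM, hε⟩
    exact ⟨(Scheme.Modules.pushforward f).obj E, hM, ⟨(asIso (adj.counit.app E)).symm⟩⟩

end Groth.Agent.H67.UnitIso
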