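import Groth.Agent.H67.GenericFree
import Groth.Agent.H71.QCoh.StalkFree
import Groth.Agent.H44.LocFree
import Groth.Agent.Lead.RegularLocal

/-!
# Torsion-free coherent modules on regular integral schemes of dimension at most one are locally free
-/

set_option autoImplicit false
set_option linter.style.haveILetI false
universe u
open CategoryTheory CategoryTheory.Limits AlgebraicGeometry TopologicalSpace Opposite

namespace Groth.Agent.H67.TorsionFreeLocFree

section Algebra

open IsLocalRing

/-- a regular local ring of dimension at most one is a principal ideal domain -/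
theorem isPrincipalIdealRing_of_regular (R : Type u) [CommRing R] [IsRegularLocalRing R]
    (hdim : ringKrullDim R ≤ 1) : IsDomain R ∧ IsPrincipalIdealRing R := by
  haveI : IsDomain R := Groth.Agent.Lead.RLR.isDomain R
  refine ⟨inferInstance, ?_⟩
  have h := (IsRegularLocalRing.iff_finrank_cotangentSpace R).1 inferInstance
  have h2 : Module.finrank (ResidueField R) (CotangentSpace R) ≤ 1 := by
    have h3 : ((Module.finrank (ResidueField R) (CotangentSpace R) : ℕ) : WithBot ℕ∞) ≤ 1 := by
      rw [h]; exact hdim
    exact_mod_cast h3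
  exact ((tfae_of_isNoetherianRing_of_isLocalRing_of_isDomain R).out 5 0).1 h2

end Algebra

variable {X : Scheme.{u}}

/-- local rings of a scheme of dimension at most one have dimension at most one -/
theorem ringKrullDim_stalk_le_one (hdim : topologicalKrullDim X ≤ 1) (x : X) :
    ringKrullDim (X.presheaf.stalk x) ≤ 1 := by
  obtain ⟨_, ⟨V, hV, rfl⟩, hxV, -⟩ :=
    X.isBasis_affineOpens.exists_subset_of_mem_open (Set.mem_univ x) isOpen_univ
  letI : Algebra Γ(X, V) (X.presheaf.stalk x) :=
    TopCat.Presheaf.algebra_section_stalk X.presheaf ⟨x, hxV⟩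
  haveI := hV.isLocalization_stalk ⟨x, hxV⟩
  rw [IsLocalization.AtPrime.ringKrullDim_eq_height (hV.primeIdealOf ⟨x, hxV⟩).asIdeal
    (X.presheaf.stalk x)]
  refine (Ideal.height_le_ringKrullDim_of_ne_top (hV.primeIdealOf ⟨x, hxV⟩).isPrime.ne_top).trans ?_
  rw [← PrimeSpectrum.topologicalKrullDim_eq_ringKrullDim]
  refine le_trans ?_ hdim
  exact (hV.fromSpec.isOpenEmbedding.isInducing).topologicalKrullDim_le

theorem isFinLocFree_of_torsionFree [IsIntegral X] [IsLocallyNoetherian X]
    (hreg : ∀ x : X, IsRegularLocalRing (X.presheaf.stalk x))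
    (hdim : topologicalKrullDim X ≤ 1) (F : X.Modules) (hF : Coh.IsCoh F)
    (htf : ∀ x : X, NoZeroSMulDivisors (X.presheaf.stalk x) (F.presheaf.stalk x)) :
    FlatMod.IsFinLocFree F := by
  haveI : F.IsQuasicoherent := hF.1
  haveI : SheafOfModules.IsFiniteType (R := X.ringCatSheaf) F := hF.2
  -- all stalks are free
  have hfree : ∀ x : X, Module.Free (X.presheaf.stalk x) (F.presheaf.stalk x) := by
    intro x
    obtain ⟨_, ⟨V, hV, rfl⟩, hxV, -⟩ :=
      X.isBasis_affineOpens.exists_subset_of_mem_open (Set.mem_univ x) isOpen_univ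
    haveI : Module.Finite Γ(X, V) Γ(F, V) := Groth.Agent.H44.finite_sections_of_isFiniteType F hV
    haveI := GenericFree.finite_stalk F hV hxV
    haveI := hreg x
    obtain ⟨hdom, hpid⟩ := isPrincipalIdealRing_of_regular (X.presheaf.stalk x)
      (ringKrullDim_stalk_le_one hdim x)
    haveI := htf x
    exact Module.free_of_finite_type_torsion_free'
  apply Groth.Agent.H44.isFinLocFree_of_forall_exists_affine
  intro x
  obtain ⟨_, ⟨V, hV, rfl⟩, hxV, -⟩ :=
    X.isBasis_affineOpens.exists_subset_of_mem_open (Set.mem_univ x) isOpen_univ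
  haveI : Module.Finite Γ(X, V) Γ(F, V) := Groth.Agent.H44.finite_sections_of_isFiniteType F hV
  haveI : IsNoetherianRing Γ(X, V) := IsLocallyNoetherian.component_noetherian ⟨V, hV⟩
  haveI : Module.FinitePresentation Γ(X, V) Γ(F, V) := Module.finitePresentation_of_finite _ _
  refine ⟨V, hV, hxV, inferInstance, ?_⟩
  apply Module.projective_of_localization_maximal
  intro I hI
  haveI := Groth.Agent.H71.QCoh.free_localizedModule_of_free_stalks F hV hfree ⟨I, hI.isPrime⟩
  infer_instance

theorem torsionFree_of_isFinLocFree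
    (hreg : ∀ x : X, IsRegularLocalRing (X.presheaf.stalk x))
    (F : X.Modules) (hF : Coh.IsCoh F) (hlf : FlatMod.IsFinLocFree F) (x : X) :
    NoZeroSMulDivisors (X.presheaf.stalk x) (F.presheaf.stalk x) := by
  haveI : F.IsQuasicoherent := hF.1
  haveI := hreg x
  haveI : IsDomain (X.presheaf.stalk x) := Groth.Agent.Lead.RLR.isDomain _
  haveI := Groth.Agent.H71.QCoh.free_stalks_of_isFinLocFree F hlf x
  have htf : Module.IsTorsionFree (X.presheaf.stalk x) (F.presheaf.stalk x) := inferInstance
  refine ⟨fun {c m} h => ?_⟩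
  by_cases hc : c = 0
  · exact Or.inl hc
  · right
    have hreg' : IsSMulRegular (F.presheaf.stalk x) c :=
      htf.isSMulRegular (isRegular_of_ne_zero hc)
    exact hreg' (show c • m = c • (0 : F.presheaf.stalk x) by rw [h, smul_zero])

end Groth.Agent.H67.TorsionFreeLocFree
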