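import Groth.Agent.H67.NormFinLocFree
import Groth.Agent.H67.TraceRank
import Groth.Agent.H44.AffineFree
import Groth.Agent.H8.PushQCoh
import Groth.Agent.H18.RelSpecGamma
import Groth.Prelude.Def_FinCov

/-!
# Covers of degree `d` and locally free algebras of rank `d` (helper67)
-/

set_option autoImplicit false
set_option linter.style.haveILetI false
universe u
open CategoryTheory CategoryTheory.Limits AlgebraicGeometry TopologicalSpace Opposite

namespace Groth.Agent.H67.CoverFree

open Groth.Agent.H67.NormFLF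

variable {X Y : Scheme.{u}} (f : X ⟶ Y)

attribute [local instance] algApp

/-- the pullback square over an affine open of the target of an affine morphism -/
theorem isPullback_affine [IsAffineHom f] {W : Y.Opens} (hW : IsAffineOpen W) :
    IsPullback ((hW.preimage f).fromSpec) (Spec.map (f.app W)) f hW.fromSpec := by
  refine (IsOpenImmersion.isPullback (Spec.map (f.app W)) (hW.preimage f).fromSpec
    hW.fromSpec f ?_ ?_).flip
  · have := IsAffineOpen.SpecMap_appLE_fromSpec f hW (hW.preimage f) le_rfl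
    rw [Scheme.Hom.appLE_eq_app] at this
    exact this.symm
  · rw [hW.opensRange_fromSpec, (hW.preimage f).opensRange_fromSpec]

/-- a property of morphisms local on the target holds for an affine morphism if it holds for the
ring maps over a cover by affine opens -/
theorem of_affine_cover (P : MorphismProperty Scheme.{u}) [IsZariskiLocalAtTarget P]
    [IsAffineHom f] (W : Y → Y.Opens) (hW : ∀ y, IsAffineOpen (W y)) (hy : ∀ y, y ∈ W y)
    (h : ∀ y, P (Spec.map (f.app (W y)))) : P f := by
  have hsup : iSup W = ⊤ := eq_top_iff.2 fun y _ => Opens.mem_iSup.2 ⟨y, hy y⟩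
  refine IsZariskiLocalAtTarget.of_iSup_eq_top W hsup (fun y => ?_)
  have e : Arrow.mk (f ∣_ W y) ≅ Arrow.mk (Spec.map (f.app (W y))) :=
    Arrow.isoMk ((hW y).preimage f).isoSpec (hW y).isoSpec (by
      simp only [Arrow.mk_left, Arrow.mk_right, Arrow.mk_hom]
      rw [IsAffineOpen.isoSpec_hom, IsAffineOpen.isoSpec_hom]
      exact (Scheme.Opens.toSpecΓ_naturality f (W y)))
  exact (P.arrow_mk_iso_iff e).2 (h y)

set_option backward.isDefEq.respectTransparency.types false in
/-- an affine morphism whose direct image algebra has, near every point of the target, a basis of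
`d` sections over an affine open is a cover of degree `d` -/
theorem isCover_of_local_basis [IsAffineHom f] (d : ℕ)
    (h : ∀ y : Y, ∃ W : Y.Opens, IsAffineOpen W ∧ y ∈ W ∧
      Nonempty (Module.Basis (Fin d) Γ(Y, W) Γ(X, f ⁻¹ᵁ W))) : FinCov.IsCover f d := by
  choose W hW hy hb using h
  have hfree : ∀ y, Module.Free Γ(Y, W y) Γ(X, f ⁻¹ᵁ W y) := fun y =>
    Module.Free.of_basis (hb y).some
  have hfinite : ∀ y, Module.Finite Γ(Y, W y) Γ(X, f ⁻¹ᵁ W y) := fun y =>
    Module.Finite.of_basis (hb y).some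
  have hfin : IsFinite f := by
    refine of_affine_cover f @IsFinite W hW hy (fun y => ?_)
    rw [IsFinite.SpecMap_iff]
    exact hfinite y
  have hflat : Flat f := by
    refine of_affine_cover f @Flat W hW hy (fun y => ?_)
    rw [Flat.SpecMap_iff]
    haveI := hfree y
    exact (inferInstance : Module.Flat Γ(Y, W y) Γ(X, f ⁻¹ᵁ W y))
  have hfp : LocallyOfFinitePresentation f := by
    refine of_affine_cover f @LocallyOfFinitePresentation W hW hy (fun y => ?_)
    rw [HasRingHomProperty.Spec_iff (P := @LocallyOfFinitePresentation)]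
    haveI := hfree y
    haveI := hfinite y
    haveI : Module.FinitePresentation Γ(Y, W y) Γ(X, f ⁻¹ᵁ W y) :=
      Module.finitePresentation_of_projective _ _
    exact (inferInstance : Algebra.FinitePresentation Γ(Y, W y) Γ(X, f ⁻¹ᵁ W y))
  refine ⟨⟨hfin, hflat, hfp⟩, fun y => ?_⟩
  have hpb := isPullback_affine f (hW y)
  have h1 := Scheme.Hom.finrank_of_isPullback _ _ _ _ hpb ((hW y).primeIdealOf ⟨y, hy y⟩)
  rw [(hW y).fromSpec_primeIdealOf ⟨y, hy y⟩] at h1
  have h2 : (f.app (W y)).hom.Finite := hfinite y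
  have h3 : (f.app (W y)).hom.Flat := by
    haveI := hfree y
    exact (inferInstance : Module.Flat Γ(Y, W y) Γ(X, f ⁻¹ᵁ W y))
  rw [Scheme.Hom.finrank_SpecMap_eq_finrank h2 h3] at h1
  have h4 : (f.app (W y)).hom.finrank ((hW y).primeIdealOf ⟨y, hy y⟩) =
    Module.rankAtStalk Γ(X, f ⁻¹ᵁ W y) ((hW y).primeIdealOf ⟨y, hy y⟩) := rfl
  haveI := hfree y
  haveI := hfinite y
  haveI : Nontrivial Γ(Y, W y) := ((hW y).primeIdealOf ⟨y, hy y⟩).nontrivial
  rw [h4, Module.rankAtStalk_eq_finrank_of_free, Module.finrank_eq_card_basis (hb y).some,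
    Fintype.card_fin] at h1
  exact h1.symm

/-- sections of `f_* O_X` over `W` are the functions on `f⁻¹ W`, compatibly with the module
structures -/
noncomputable def pushSecEquiv (W : Y.Opens) :
    Γ((Scheme.Modules.pushforward f).obj (Coh.structureModule X), W) ≃ₗ[Γ(Y, W)]
      Γ(X, f ⁻¹ᵁ W) where
  toFun s := s
  invFun s := s
  map_add' _ _ := rfl
  map_smul' _ _ := rfl
  left_inv _ := rfl
  right_inv _ := rfl

theorem isQuasicoherent_structureModule (X : Scheme.{u}) :
    (Coh.structureModule X).IsQuasicoherent := by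
  have e : SheafOfModules.free (R := X.ringCatSheaf) PUnit.{u + 1} ≅
      SheafOfModules.unit X.ringCatSheaf := coproductUniqueIso _
  exact (SheafOfModules.isQuasicoherent X.ringCatSheaf).prop_of_iso e inferInstance

/-- the direct image of the structure sheaf along a cover of degree `d` is locally free of
rank `d` -/
theorem isFinLocFreeOfRank_pushforward {d : ℕ} (hf : FinCov.IsCover f d) :
    FlatMod.IsFinLocFreeOfRank d
      ((Scheme.Modules.pushforward f).obj (Coh.structureModule X)) := by
  intro y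
  haveI : IsFinite f := hf.1.1
  obtain ⟨_, ⟨⟨W, hW⟩, rfl⟩, hyW, -⟩ := (Opens.isBasis_iff_nbhd.1 (isBasis_good hf.1))
    (show y ∈ (⊤ : Y.Opens) from trivial)
  haveI : Nontrivial Γ(Y, W) := (hW.1.primeIdealOf ⟨y, hyW⟩).nontrivial
  have hr := finrank_eq_of_good hf hW
  obtain ⟨hWa, hfree, hfinite⟩ := hW
  let b := Module.finBasisOfFinrankEq Γ(Y, W) Γ(X, f ⁻¹ᵁ W) hr
  haveI := isQuasicoherent_structureModule X
  haveI : ((Scheme.Modules.pushforward f).obj (Coh.structureModule X)).IsQuasicoherent :=
    Groth.Agent.H8.isQuasicoherent_pushforward_of_isAffineHom f _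
  obtain ⟨e⟩ := Groth.Agent.H44.nonempty_iso_freeMod_of_basis _ hWa
    (b.map (pushSecEquiv f W).symm)
  exact ⟨W, hyW, ⟨e⟩⟩

/-- an affine morphism whose direct image of the structure sheaf is locally free of rank `d` is a
cover of degree `d` -/
theorem isCover_of_isFinLocFreeOfRank_pushforward [IsAffineHom f] {d : ℕ}
    (h : FlatMod.IsFinLocFreeOfRank d
      ((Scheme.Modules.pushforward f).obj (Coh.structureModule X))) : FinCov.IsCover f d := by
  refine isCover_of_local_basis f d (fun y => ?_)
  obtain ⟨U₀, hyU₀, ⟨e⟩⟩ := h y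
  obtain ⟨_, ⟨W, hW, rfl⟩, hyW, hWU⟩ :=
    Y.isBasis_affineOpens.exists_subset_of_mem_open hyU₀ U₀.2
  obtain ⟨b⟩ := Groth.Agent.H44.nonempty_basis_of_iso_freeMod _ hW hWU e
  exact ⟨W, hW, hyW, ⟨b.map (pushSecEquiv f W)⟩⟩

theorem isCover_iff (d : ℕ) :
    FinCov.IsCover f d ↔ IsAffineHom f ∧ FlatMod.IsFinLocFreeOfRank d
      ((Scheme.Modules.pushforward f).obj (Coh.structureModule X)) := by
  constructor
  · intro hf
    haveI : IsFinite f := hf.1.1
    exact ⟨inferInstance, isFinLocFreeOfRank_pushforward f hf⟩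
  · rintro ⟨haff, h⟩
    exact isCover_of_isFinLocFreeOfRank_pushforward f h

open Groth.Agent.H67.TraceGlue in
attribute [local instance] Groth.Agent.H67.TraceGlue.algSec in
/-- the relative spectrum of a quasi-coherent algebra locally free of rank `d` is a cover of
degree `d` -/
theorem isCover_π {X : Scheme.{u}} (A : RelSpec.QCAlg X) (d : ℕ)
    (hA : FlatMod.IsFinLocFreeOfRank d A.toModule) : FinCov.IsCover A.π d := by
  refine isCover_of_local_basis A.π d (fun y => ?_)
  obtain ⟨_, ⟨⟨W, hW, ⟨b⟩⟩, rfl⟩, hyW, -⟩ :=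
    (Opens.isBasis_iff_nbhd.1 (isBasis_goodOfRank hA))
      (show y ∈ (⊤ : X.Opens) from trivial)
  refine ⟨W, hW, hyW, ?_⟩
  haveI := Groth.Agent.H18.isIso_gammaAff A W hW
  let e : Γ(A.spec, A.π ⁻¹ᵁ W) ≃+* A.presheaf.obj (op W) :=
    (asIso (A.gammaAff W hW)).commRingCatIsoToRingEquiv
  have he : ∀ r : Γ(X, W), e (A.π.app W r) = A.str.app (op W) r := fun r => by
    have := A.π_app_gammaAff W hW
    exact congrArg (fun φ => φ.hom r) this
  let l : A.presheaf.obj (op W) ≃ₗ[Γ(X, W)] Γ(A.spec, A.π ⁻¹ᵁ W) :=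
    { e.symm.toAddEquiv with
      map_smul' := fun r a => by
        change e.symm (A.str.app (op W) r * a) = A.π.app W r * e.symm a
        rw [map_mul, ← he r, e.symm_apply_apply] }
  exact ⟨b.map l⟩

end Groth.Agent.H67.CoverFree
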