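import Groth.Agent.H67.GaGmMain

set_option autoImplicit false

universe u

namespace Groth.Agent.H67

open MvPolynomial TrivSqZeroExt DualNumber

variable {R : Type u} [CommRing R]

/-- Symmetric additive 2-cocycles of the additive group (in terms of points). -/
structure IsAddCoc (F : MvPolynomial (Fin 2) R) : Prop where
  symm : ∀ (B : Type u) [CommRing B] [Algebra R B] (x y : B), aeval ![y, x] F = aeval ![x, y] F
  coc : ∀ (B : Type u) [CommRing B] [Algebra R B] (x y z : B),
    aeval ![x, y + z] F + aeval ![y, z] F = aeval ![x + y, z] F + aeval ![x, y] F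

theorem isAddCoc_of_univ (F : MvPolynomial (Fin 2) R)
    (hsymm : aeval ![(X 1 : MvPolynomial (Fin 2) R), X 0] F = F)
    (hcoc : aeval ![(X 0 : MvPolynomial (Fin 3) R), X 1 + X 2] F + aeval ![X 1, X 2] F =
      aeval ![X 0 + X 1, X 2] F + aeval ![X 0, X 1] F) : IsAddCoc F := by
  refine ⟨?_, ?_⟩
  · intro B _ _ x y
    have := congrArg (aeval ![x, y]) hsymm
    rw [aeval_aeval_fin2] at this
    simpa using this
  · intro B _ _ x y z
    have := congrArg (aeval ![x, y, z]) hcoc
    rw [map_add, map_add, aeval_aeval_fin2, aeval_aeval_fin2, aeval_aeval_fin2,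
      aeval_aeval_fin2] at this
    simpa using this

theorem IsAddCoc.univ_symm {F : MvPolynomial (Fin 2) R} (hc : IsAddCoc F) :
    aeval ![(X 1 : MvPolynomial (Fin 2) R), X 0] F = F := by
  rw [hc.symm, aeval_X_fin2]

theorem IsAddCoc.univ_coc {F : MvPolynomial (Fin 2) R} (hc : IsAddCoc F) :
    aeval ![(X 0 : MvPolynomial (Fin 3) R), X 1 + X 2] F + aeval ![X 1, X 2] F =
      aeval ![X 0 + X 1, X 2] F + aeval ![X 0, X 1] F := hc.coc _ _ _ _

theorem IsAddCoc.add {F F' : MvPolynomial (Fin 2) R} (hc : IsAddCoc F) (hc' : IsAddCoc F') :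
    IsAddCoc (F + F') := by
  refine ⟨?_, ?_⟩
  · intro B _ _ x y
    rw [map_add, map_add, hc.symm, hc'.symm]
  · intro B _ _ x y z
    simp only [map_add]
    linear_combination hc.coc B x y z + hc'.coc B x y z

theorem IsAddCoc.sub {F F' : MvPolynomial (Fin 2) R} (hc : IsAddCoc F) (hc' : IsAddCoc F') :
    IsAddCoc (F - F') := by
  refine ⟨?_, ?_⟩
  · intro B _ _ x y
    rw [map_sub, map_sub, hc.symm, hc'.symm]
  · intro B _ _ x y z
    simp only [map_sub]
    linear_combination hc.coc B x y z - hc'.coc B x y z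

theorem IsAddCoc.C_mul {F : MvPolynomial (Fin 2) R} (hc : IsAddCoc F) (r : R) :
    IsAddCoc (C r * F) := by
  refine ⟨?_, ?_⟩
  · intro B _ _ x y
    rw [map_mul, map_mul, hc.symm, aeval_C, aeval_C]
  · intro B _ _ x y z
    simp only [map_mul, aeval_C]
    linear_combination (algebraMap R B r) * hc.coc B x y z

theorem isAddCoc_zero : IsAddCoc (0 : MvPolynomial (Fin 2) R) :=
  ⟨fun B _ _ x y => by simp, fun B _ _ x y z => by simp⟩

/-- The coboundary of a polynomial in one variable. -/
noncomputable def delta (G₀ : Polynomial R) : MvPolynomial (Fin 2) R :=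
  Polynomial.aeval (X 0 + X 1 : MvPolynomial (Fin 2) R) G₀ -
    Polynomial.aeval (X 0 : MvPolynomial (Fin 2) R) G₀ -
    Polynomial.aeval (X 1 : MvPolynomial (Fin 2) R) G₀

theorem aeval_delta (G₀ : Polynomial R) {B : Type*} [CommRing B] [Algebra R B] (x y : B) :
    aeval ![x, y] (delta G₀) =
      Polynomial.aeval (x + y) G₀ - Polynomial.aeval x G₀ - Polynomial.aeval y G₀ := by
  unfold delta
  rw [map_sub, map_sub, ← Polynomial.aeval_algHom_apply, ← Polynomial.aeval_algHom_apply,
    ← Polynomial.aeval_algHom_apply]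
  simp

theorem isAddCoc_delta (G₀ : Polynomial R) : IsAddCoc (delta G₀) := by
  refine ⟨?_, ?_⟩
  · intro B _ _ x y
    rw [aeval_delta, aeval_delta, add_comm y x]
    ring
  · intro B _ _ x y z
    rw [aeval_delta, aeval_delta, aeval_delta, aeval_delta, add_assoc x y z]
    ring

theorem G_eq_snd (q : MvPolynomial (Fin 2) R) :
    G q = (aeval ![(inl Polynomial.X : DualNumber (Polynomial R)), ε] q).snd := by
  rw [dn_aeval_snd]
  simp only [fst_inl, snd_inl, fst_eps, snd_eps, zero_mul, one_mul, zero_add]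
  rfl

theorem G_add (q q' : MvPolynomial (Fin 2) R) : G (q + q') = G q + G q' := by
  unfold G
  rw [map_add, map_add]

theorem G_sub (q q' : MvPolynomial (Fin 2) R) : G (q - q') = G q - G q' := by
  unfold G
  rw [map_sub, map_sub]

theorem G_C_mul (r : R) (q : MvPolynomial (Fin 2) R) : G (C r * q) = Polynomial.C r * G q := by
  unfold G
  rw [pderiv_C_mul, map_mul, aeval_C]
  rfl

theorem G_delta (G₀ : Polynomial R) :
    G (delta G₀) = Polynomial.derivative G₀ -
      Polynomial.C ((Polynomial.derivative G₀).coeff 0) := by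
  rw [G_eq_snd, aeval_delta, TrivSqZeroExt.snd_sub, TrivSqZeroExt.snd_sub, dn_paeval_snd,
    dn_paeval_snd, dn_paeval_snd]
  simp only [fst_inl, snd_inl, fst_eps, snd_eps, fst_add, snd_add, zero_mul, one_mul, zero_add,
    add_zero, Polynomial.aeval_X_left_apply, sub_zero]
  rw [← Polynomial.coeff_zero_eq_aeval_zero']
  rfl

end Groth.Agent.H67
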