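import Groth.Agent.H67.AddCoc

set_option autoImplicit false

universe u

namespace Groth.Agent.H67

open MvPolynomial TrivSqZeroExt DualNumber

variable {R : Type u} [CommRing R]

theorem IsAddCoc.pderiv_one {F : MvPolynomial (Fin 2) R} (hc : IsAddCoc F) :
    pderiv 1 F = Polynomial.aeval (X 0 + X 1 : MvPolynomial (Fin 2) R) (G F) -
      Polynomial.aeval (X 1 : MvPolynomial (Fin 2) R) (G F) := by
  have E := hc.coc (DualNumber (MvPolynomial (Fin 2) R)) (inl (X 0)) (inl (X 1)) ε
  have E' := congrArg TrivSqZeroExt.snd E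
  rw [TrivSqZeroExt.snd_add, TrivSqZeroExt.snd_add, dn_aeval_snd, dn_aeval_snd, dn_aeval_snd,
    dn_aeval_snd] at E'
  simp only [fst_inl, snd_inl, fst_eps, snd_eps, fst_add, snd_add, zero_mul, one_mul, zero_add,
    add_zero] at E'
  rw [aeval_X_fin2, ← paeval_G, ← paeval_G] at E'
  linear_combination E'

theorem IsAddCoc.pderiv_zero {F : MvPolynomial (Fin 2) R} (hc : IsAddCoc F) :
    pderiv 0 F = aeval ![(X 1 : MvPolynomial (Fin 2) R), X 0] (pderiv 1 F) := by
  have E := hc.symm (DualNumber (MvPolynomial (Fin 2) R)) (inl (X 0) + ε) (inl (X 1))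
  have E' := congrArg TrivSqZeroExt.snd E
  rw [dn_aeval_snd, dn_aeval_snd] at E'
  simp only [fst_inl, snd_inl, fst_eps, snd_eps, fst_add, snd_add, zero_mul, one_mul, zero_add,
    add_zero] at E'
  rw [aeval_X_fin2] at E'
  exact E'.symm

theorem IsAddCoc.G_coeff_zero {F : MvPolynomial (Fin 2) R} (hc : IsAddCoc F) :
    (G F).coeff 0 = 0 := by
  have E1 := hc.symm (DualNumber R) (0 : DualNumber R) ε
  have E2 := hc.coc (DualNumber R) (ε : DualNumber R) 0 0
  rw [add_zero, add_zero] at E2
  have E3 : aeval ![(0 : DualNumber R), 0] F = aeval ![(ε : DualNumber R), 0] F :=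
    add_left_cancel E2
  rw [← E3] at E1
  have E' := congrArg TrivSqZeroExt.snd E1
  rw [dn_aeval_snd, dn_aeval_snd] at E'
  simp only [fst_eps, snd_eps, TrivSqZeroExt.fst_zero, TrivSqZeroExt.snd_zero, zero_mul, one_mul,
    zero_add, add_zero] at E'
  rw [Polynomial.coeff_zero_eq_aeval_zero, paeval_G]
  exact E'.symm

section A1

variable (p : ℕ) [hp : Fact p.Prime] [CharP R p]

theorem IsAddCoc.G_coeff_eq_zero_of_dvd {F : MvPolynomial (Fin 2) R} (hc : IsAddCoc F) {m : ℕ}
    (hdvd : p ∣ m + 1) (hm : p ≤ m) : (G F).coeff m = 0 := by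
  classical
  have hp1 : 1 ≤ p := hp.out.one_lt.le
  set n : Fin 2 →₀ ℕ := Finsupp.single 0 (m - p + 1) + Finsupp.single 1 (p - 1) with hn
  have hn0 : n 0 = m - p + 1 := by simp [hn]
  have hn1 : n 1 = p - 1 := by simp [hn]
  have hD := congrArg (coeff n) hc.pderiv_one
  rw [coeff_pderiv, hn1] at hD
  have hpz : (((p - 1 : ℕ) : R) + 1) = 0 := by
    rw [← Nat.cast_succ, Nat.succ_eq_add_one, Nat.sub_add_cancel hp1]
    exact CharP.cast_eq_zero R p
  rw [hpz, mul_zero, coeff_sub, coeff_paeval_add, coeff_paeval_X, hn0, hn1] at hD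
  have e1 : m - p + 1 + (p - 1) = m := by omega
  rw [e1, if_neg, sub_zero, choose_pred_eq_one p hdvd hm, one_mul] at hD
  · exact hD.symm
  · intro hs
    have := DFunLike.congr_fun hs 0
    rw [hn0] at this
    simp at this

theorem IsAddCoc.exists_expand {F : MvPolynomial (Fin 2) R} (hc : IsAddCoc F) (hG : G F = 0) :
    ∃ F₁ : MvPolynomial (Fin 2) R, F = expand p F₁ := by
  have h1 : pderiv 1 F = 0 := by
    rw [hc.pderiv_one, hG]
    simp
  have h0 : pderiv 0 F = 0 := by
    rw [hc.pderiv_zero, h1, map_zero]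
  apply exists_expand_of_pderiv_eq_zero p
  intro i
  fin_cases i
  · exact h0
  · exact h1

theorem IsAddCoc.of_expand {F₁ : MvPolynomial (Fin 2) R} (hc : IsAddCoc (expand p F₁)) :
    IsAddCoc F₁ := by
  have hp0 : 0 < p := hp.out.pos
  apply isAddCoc_of_univ
  · apply expand_injective (σ := Fin 2) (R := R) hp0
    rw [expand_aeval_fin2 p, hc.univ_symm]
    intro i
    fin_cases i <;> simp
  · apply expand_injective (σ := Fin 3) (R := R) hp0
    rw [map_add, map_add, expand_aeval_fin2 p, expand_aeval_fin2 p, expand_aeval_fin2 p,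
      expand_aeval_fin2 p, hc.univ_coc]
    all_goals
      intro i
      fin_cases i <;> simp [add_pow_char]

theorem expand_delta (G₁ : Polynomial R) :
    expand p (delta G₁) = delta (Polynomial.expand R p G₁) := by
  unfold delta
  have e : ∀ t : MvPolynomial (Fin 2) R, expand p t = t ^ p →
      Polynomial.aeval t (Polynomial.expand R p G₁) = expand p (Polynomial.aeval t G₁) := by
    intro t ht
    rw [Polynomial.expand_aeval, ← ht, Polynomial.aeval_algHom_apply]
  rw [e _ (by simp [add_pow_char]), e _ (by simp), e _ (by simp), map_sub, map_sub]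

end A1

end Groth.Agent.H67
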