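import Groth.Agent.H67.AddCoc2
import Mathlib.Data.Nat.Choose.Dvd
import Mathlib.Data.Nat.Choose.Sum

set_option autoImplicit false

universe u v

namespace Groth.Agent.H67

open MvPolynomial

section SpFun

variable (p : ℕ)

/-- The function `((x + y)^p - x^p - y^p) / p`. -/
def spFun {B : Type v} [CommRing B] (x y : B) : B :=
  ∑ j ∈ Finset.Ioo 0 p, ((p.choose j / p : ℕ) : B) * x ^ j * y ^ (p - j)

theorem map_spFun {B : Type u} {B' : Type v} [CommRing B] [CommRing B'] (φ : B →+* B') (x y : B) :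
    φ (spFun p x y) = spFun p (φ x) (φ y) := by
  unfold spFun
  rw [map_sum]
  refine Finset.sum_congr rfl (fun j _ => ?_)
  rw [map_mul, map_mul, map_pow, map_pow, map_natCast]

theorem p_mul_spFun [hp : Fact p.Prime] {B : Type v} [CommRing B] (x y : B) :
    (p : B) * spFun p x y = (x + y) ^ p - x ^ p - y ^ p := by
  classical
  have hIoo : Finset.Ioo 0 p = (Finset.range (p + 1)).filter (fun j => 0 < j ∧ j < p) := by
    ext j
    simp only [Finset.mem_Ioo, Finset.mem_filter, Finset.mem_range]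
    omega
  unfold spFun
  rw [Finset.mul_sum, hIoo, Finset.sum_filter, add_pow]
  have hsplit : ∀ j ∈ Finset.range (p + 1),
      x ^ j * y ^ (p - j) * ((p.choose j : ℕ) : B) =
        (if 0 < j ∧ j < p then (p : B) * (((p.choose j / p : ℕ) : B) * x ^ j * y ^ (p - j)) else 0) +
          ((if j = 0 then y ^ p else 0) + (if j = p then x ^ p else 0)) := by
    intro j hj
    have hjle : j ≤ p := Nat.lt_succ_iff.1 (Finset.mem_range.1 hj)
    have hp0 : 0 < p := hp.out.pos
    by_cases h0 : j = 0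
    · subst h0
      rw [if_neg (by omega), if_pos rfl, if_neg (by omega)]
      simp
    · by_cases hjp : j = p
      · subst hjp
        rw [if_neg (by omega), if_neg h0, if_pos rfl]
        simp
      · rw [if_pos ⟨Nat.pos_of_ne_zero h0, lt_of_le_of_ne hjle hjp⟩, if_neg h0, if_neg hjp,
          add_zero, add_zero]
        have hdvd : p ∣ p.choose j :=
          Nat.Prime.dvd_choose_self hp.out h0 (lt_of_le_of_ne hjle hjp)
        have : ((p.choose j : ℕ) : B) = (p : B) * ((p.choose j / p : ℕ) : B) := by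
          rw [← Nat.cast_mul, Nat.mul_div_cancel' hdvd]
        rw [this]
        ring
  rw [Finset.sum_congr rfl hsplit, Finset.sum_add_distrib, Finset.sum_add_distrib,
    Finset.sum_ite_eq' (Finset.range (p + 1)) 0, Finset.sum_ite_eq' (Finset.range (p + 1)) p,
    if_pos (Finset.mem_range.2 (Nat.succ_pos p)), if_pos (Finset.mem_range.2 (Nat.lt_succ_self p))]
  ring

theorem spFun_symm_int [hp : Fact p.Prime] :
    spFun p (X 1 : MvPolynomial (Fin 2) ℤ) (X 0) = spFun p (X 0) (X 1) := by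
  have hp0 : (p : MvPolynomial (Fin 2) ℤ) ≠ 0 := Nat.cast_ne_zero.2 hp.out.pos.ne'
  apply mul_left_cancel₀ hp0
  rw [p_mul_spFun, p_mul_spFun]
  ring

theorem spFun_coc_int [hp : Fact p.Prime] :
    spFun p (X 0 : MvPolynomial (Fin 3) ℤ) (X 1 + X 2) + spFun p (X 1) (X 2) =
      spFun p (X 0 + X 1) (X 2) + spFun p (X 0) (X 1) := by
  have hp0 : (p : MvPolynomial (Fin 3) ℤ) ≠ 0 := Nat.cast_ne_zero.2 hp.out.pos.ne'
  apply mul_left_cancel₀ hp0
  rw [mul_add, mul_add, p_mul_spFun, p_mul_spFun, p_mul_spFun, p_mul_spFun]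
  ring

theorem spFun_symm [hp : Fact p.Prime] {B : Type v} [CommRing B] (x y : B) :
    spFun p y x = spFun p x y := by
  have := congrArg (aeval ![x, y] : MvPolynomial (Fin 2) ℤ →ₐ[ℤ] B) (spFun_symm_int p)
  have e := fun a b =>
    map_spFun p ((aeval ![x, y] : MvPolynomial (Fin 2) ℤ →ₐ[ℤ] B).toRingHom) a b
  simp only [AlgHom.toRingHom_eq_coe, RingHom.coe_coe] at e
  rw [e, e] at this
  simpa using this

theorem spFun_coc [hp : Fact p.Prime] {B : Type v} [CommRing B] (x y z : B) :
    spFun p x (y + z) + spFun p y z = spFun p (x + y) z + spFun p x y := by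
  have := congrArg (aeval ![x, y, z] : MvPolynomial (Fin 3) ℤ →ₐ[ℤ] B) (spFun_coc_int p)
  have e := fun a b =>
    map_spFun p ((aeval ![x, y, z] : MvPolynomial (Fin 3) ℤ →ₐ[ℤ] B).toRingHom) a b
  simp only [AlgHom.toRingHom_eq_coe, RingHom.coe_coe] at e
  rw [map_add, map_add, e, e, e, e] at this
  simpa using this

end SpFun

section Sp

variable (p : ℕ) (R : Type u) [CommRing R]

/-- The polynomial `((X + Y)^p - X^p - Y^p) / p`. -/
noncomputable def Sp : MvPolynomial (Fin 2) R :=
  ∑ j ∈ Finset.Ioo 0 p, C ((p.choose j / p : ℕ) : R) * X 0 ^ j * X 1 ^ (p - j)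

theorem aeval_Sp {B : Type v} [CommRing B] [Algebra R B] (x y : B) :
    aeval ![x, y] (Sp p R) = spFun p x y := by
  unfold Sp spFun
  rw [map_sum]
  refine Finset.sum_congr rfl (fun j _ => ?_)
  rw [map_mul, map_mul, map_pow, map_pow, aeval_C, map_natCast]
  simp

/-- The Frobenius twists of `Sp`. -/
noncomputable def Spi (i : ℕ) : MvPolynomial (Fin 2) R :=
  aeval ![(X 0 : MvPolynomial (Fin 2) R) ^ p ^ i, X 1 ^ p ^ i] (Sp p R)

end Sp

end Groth.Agent.H67
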