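import Groth.Agent.H67.AddCoc3

set_option autoImplicit false

universe u

namespace Groth.Agent.H67

open MvPolynomial

section

variable (p : ℕ) [hp : Fact p.Prime] (R : Type u) [CommRing R]

theorem isAddCoc_Sp : IsAddCoc (Sp p R) := by
  refine ⟨?_, ?_⟩
  · intro B _ _ x y
    rw [aeval_Sp, aeval_Sp, spFun_symm]
  · intro B _ _ x y z
    rw [aeval_Sp, aeval_Sp, aeval_Sp, aeval_Sp]
    exact spFun_coc p x y z

theorem isAddCoc_Spi [CharP R p] (i : ℕ) : IsAddCoc (Spi p R i) := by
  apply isAddCoc_of_univ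
  · unfold Spi
    rw [aeval_aeval_fin2]
    simp only [Matrix.cons_val_zero, Matrix.cons_val_one, map_pow, aeval_X]
    rw [aeval_Sp, aeval_Sp, spFun_symm]
  · unfold Spi
    rw [aeval_aeval_fin2, aeval_aeval_fin2, aeval_aeval_fin2, aeval_aeval_fin2]
    simp only [Matrix.cons_val_zero, Matrix.cons_val_one, map_pow, aeval_X]
    rw [aeval_Sp, aeval_Sp, aeval_Sp, aeval_Sp, add_pow_char_pow, add_pow_char_pow]
    exact spFun_coc p _ _ _

theorem Spi_zero : Spi p R 0 = Sp p R := by
  unfold Spi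
  simp only [pow_zero, pow_one]
  exact aeval_X_fin2 _

theorem expand_Spi (i : ℕ) : expand p (Spi p R i) = Spi p R (i + 1) := by
  unfold Spi
  rw [MvPolynomial.comp_aeval_apply]
  have e : (fun j => expand p (![(X 0 : MvPolynomial (Fin 2) R) ^ p ^ i, X 1 ^ p ^ i] j)) =
      ![(X 0 : MvPolynomial (Fin 2) R) ^ p ^ (i + 1), X 1 ^ p ^ (i + 1)] := by
    funext j
    fin_cases j
    · simp [← pow_mul, pow_succ']
    · simp [← pow_mul, pow_succ']
  rw [e]

theorem coeff_Sp (s : Fin 2 →₀ ℕ) :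
    coeff s (Sp p R) =
      if 0 < s 0 ∧ s 0 < p ∧ s 0 + s 1 = p then ((p.choose (s 0) / p : ℕ) : R) else 0 := by
  classical
  unfold Sp
  rw [coeff_sum]
  have hterm : ∀ j ∈ Finset.Ioo 0 p,
      coeff s (C ((p.choose j / p : ℕ) : R) * X 0 ^ j * X 1 ^ (p - j)) =
        if j = s 0 ∧ p - j = s 1 then ((p.choose j / p : ℕ) : R) else 0 := by
    intro j _
    rw [mul_assoc, X_pow_eq_monomial, X_pow_eq_monomial, monomial_mul, C_mul_monomial, one_mul,
      mul_one, coeff_monomial]
    conv_lhs => rw [fin2_eq_single_add s]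
    simp only [fin2_single_add_eq_iff]
  rw [Finset.sum_congr rfl hterm]
  by_cases hcond : 0 < s 0 ∧ s 0 < p ∧ s 0 + s 1 = p
  · rw [if_pos hcond, Finset.sum_eq_single (s 0)]
    · rw [if_pos ⟨rfl, by omega⟩]
    · intro j _ hj
      rw [if_neg]
      rintro ⟨h1, -⟩
      exact hj h1
    · intro h
      exact absurd (Finset.mem_Ioo.2 ⟨hcond.1, hcond.2.1⟩) h
  · rw [if_neg hcond]
    apply Finset.sum_eq_zero
    intro j hj
    rw [if_neg]
    rintro ⟨h1, h2⟩
    apply hcond
    have := Finset.mem_Ioo.1 hj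
    omega

theorem G_Sp : G (Sp p R) = Polynomial.X ^ (p - 1) := by
  have hp2 : 2 ≤ p := hp.out.two_le
  ext i
  rw [coeff_G, coeff_Sp, Polynomial.coeff_X_pow]
  simp only [Finsupp.add_apply, Finsupp.single_apply]
  simp only [if_true, Fin.isValue, one_ne_zero, zero_ne_one, if_false, add_zero, zero_add]
  by_cases hi : i = p - 1
  · rw [if_pos hi, if_pos (by omega)]
    have : p.choose i = p := by
      rw [hi]
      have := Nat.choose_succ_self_right (p - 1)
      rw [Nat.sub_add_cancel (by omega)] at this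
      exact this
    rw [this, Nat.div_self hp.out.pos, Nat.cast_one]
  · rw [if_neg hi, if_neg (by omega)]

theorem coeff_smul_Sp (m : Fin 2 →₀ ℕ) : coeff (p • m) (Sp p R) = 0 := by
  rw [coeff_Sp, if_neg]
  rintro ⟨h1, h2, -⟩
  simp only [Finsupp.smul_apply, smul_eq_mul] at h1 h2
  have hm : 0 < m 0 := by
    rcases Nat.eq_zero_or_pos (m 0) with h | h
    · rw [h] at h1; simp at h1
    · exact h
  have : p * 1 ≤ p * m 0 := Nat.mul_le_mul_left p hm
  omega

theorem coeff_smul_delta (G₀ : Polynomial R) (hG₀ : ∀ k, G₀.coeff (p * k) = 0)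
    (m : Fin 2 →₀ ℕ) : coeff (p • m) (delta G₀) = 0 := by
  unfold delta
  rw [coeff_sub, coeff_sub, coeff_paeval_add, coeff_paeval_X, coeff_paeval_X]
  simp only [Finsupp.smul_apply, smul_eq_mul]
  rw [← mul_add, hG₀, hG₀, hG₀]
  simp

theorem delta_add (A B : Polynomial R) : delta (A + B) = delta A + delta B := by
  unfold delta
  simp only [map_add]
  ring

theorem delta_C (a : R) : delta (Polynomial.C a) = -C a := by
  unfold delta
  simp only [Polynomial.aeval_C]
  simp [MvPolynomial.algebraMap_eq]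

end

end Groth.Agent.H67
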