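import Groth.Agent.H67.AddCoc4

set_option autoImplicit false

universe u

namespace Groth.Agent.H67

open MvPolynomial

section

variable (p : ℕ) [hp : Fact p.Prime] (R : Type u) [CommRing R] [CharP R p]

theorem fin2_sum_eq (s : Fin 2 →₀ ℕ) : (s.sum fun _ e => e) = s 0 + s 1 := by
  rw [Finsupp.sum_fintype _ _ (fun _ => rfl), Fin.sum_univ_two]

/-- One step of the reduction: subtracting a coboundary and a multiple of `Sp` makes a symmetric
cocycle a polynomial in `X^p`, `Y^p`. -/
theorem addCoc_step (F : MvPolynomial (Fin 2) R) (hc : IsAddCoc F) :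
    ∃ (G₀ : Polynomial R) (r₀ : R) (F₁ : MvPolynomial (Fin 2) R),
      F = delta G₀ + C r₀ * Sp p R + expand p F₁ ∧ IsAddCoc F₁ ∧
        ∀ m : Fin 2 →₀ ℕ, coeff m F₁ = coeff (p • m) F := by
  classical
  have hp1 : 1 < p := hp.out.one_lt
  have hex : ∀ n : ℕ, ∃ k : ℕ, ¬ p ∣ n → (k : R) * (n : R) = 1 := by
    intro n
    by_cases hn : p ∣ n
    · exact ⟨0, fun h => absurd hn h⟩
    · obtain ⟨k, hk⟩ := exists_natCast_mul_eq_one p R hn
      exact ⟨k, fun _ => hk⟩
  choose kf hkf using hex
  set g := G F with hg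
  obtain ⟨G₀, hG₀def⟩ : ∃ G₀ : Polynomial R, G₀ = ∑ i ∈ Finset.range (g.natDegree + 1),
      if p ∣ i + 1 then 0 else
        Polynomial.C ((kf (i + 1) : R) * g.coeff i) * Polynomial.X ^ (i + 1) := ⟨_, rfl⟩
  have hG₀coeff : ∀ k, G₀.coeff (p * k) = 0 := by
    intro k
    rw [hG₀def, Polynomial.finset_sum_coeff]
    apply Finset.sum_eq_zero
    intro i _
    split_ifs with h
    · simp
    · rw [Polynomial.coeff_C_mul_X_pow, if_neg]
      intro hk
      apply h
      rw [← hk]
      exact dvd_mul_right p k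
  have hder : ∀ i, (Polynomial.derivative G₀).coeff i = if p ∣ i + 1 then 0 else g.coeff i := by
    intro i
    rw [hG₀def, Polynomial.derivative_sum, Polynomial.finset_sum_coeff]
    have hterm : ∀ j ∈ Finset.range (g.natDegree + 1),
        (Polynomial.derivative (if p ∣ j + 1 then (0 : Polynomial R) else
          Polynomial.C ((kf (j + 1) : R) * g.coeff j) * Polynomial.X ^ (j + 1))).coeff i =
        if j = i then (if p ∣ i + 1 then 0 else g.coeff i) else 0 := by
      intro j _
      by_cases hj : p ∣ j + 1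
      · rw [if_pos hj, Polynomial.derivative_zero, Polynomial.coeff_zero]
        split_ifs with h1 h2
        · rfl
        · exact absurd (h1 ▸ hj) h2
        · rfl
      · rw [if_neg hj, Polynomial.derivative_C_mul_X_pow, Nat.add_sub_cancel,
          Polynomial.coeff_C_mul_X_pow]
        by_cases hji : j = i
        · subst hji
          rw [if_pos rfl, if_pos rfl, if_neg hj]
          have := hkf (j + 1) hj
          calc (kf (j + 1) : R) * g.coeff j * ((j + 1 : ℕ) : R)
              = ((kf (j + 1) : R) * ((j + 1 : ℕ) : R)) * g.coeff j := by ring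
            _ = g.coeff j := by rw [this, one_mul]
        · rw [if_neg (Ne.symm hji), if_neg hji]
    rw [Finset.sum_congr rfl hterm, Finset.sum_ite_eq' (Finset.range (g.natDegree + 1)) i]
    by_cases hi : i ∈ Finset.range (g.natDegree + 1)
    · rw [if_pos hi]
    · rw [if_neg hi]
      have : g.coeff i = 0 := by
        apply Polynomial.coeff_eq_zero_of_natDegree_lt
        rw [Finset.mem_range] at hi
        omega
      rw [this]
      simp
  have hder0 : (Polynomial.derivative G₀).coeff 0 = 0 := by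
    rw [hder, hc.G_coeff_zero]
    simp
  set r₀ := g.coeff (p - 1) with hr₀
  have hgdecomp : g = Polynomial.derivative G₀ + Polynomial.C r₀ * Polynomial.X ^ (p - 1) := by
    ext i
    rw [Polynomial.coeff_add, hder, Polynomial.coeff_C_mul_X_pow]
    by_cases hdvd : p ∣ i + 1
    · rw [if_pos hdvd, zero_add]
      by_cases hi : i = p - 1
      · rw [if_pos hi, hi]
      · rw [if_neg hi]
        have : p ≤ i := by
          obtain ⟨c, hc'⟩ := hdvd
          rcases Nat.lt_or_ge c 2 with h2 | h2
          · interval_cases c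
            · omega
            · omega
          · have : p * 2 ≤ p * c := Nat.mul_le_mul_left p h2
            omega
        exact hc.G_coeff_eq_zero_of_dvd p hdvd this
    · rw [if_neg hdvd, if_neg, add_zero]
      intro hi
      apply hdvd
      rw [hi, Nat.sub_add_cancel hp1.le]
  have hc' : IsAddCoc (F - delta G₀ - C r₀ * Sp p R) :=
    (hc.sub (isAddCoc_delta G₀)).sub ((isAddCoc_Sp p R).C_mul r₀)
  have hG' : G (F - delta G₀ - C r₀ * Sp p R) = 0 := by
    rw [G_sub, G_sub, G_C_mul, G_delta, G_Sp, hder0, map_zero, sub_zero, ← hg]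
    rw [hgdecomp]
    ring
  obtain ⟨F₁, hF₁⟩ := hc'.exists_expand p hG'
  refine ⟨G₀, r₀, F₁, ?_, ?_, ?_⟩
  · rw [← hF₁]
    ring
  · apply IsAddCoc.of_expand p
    rw [← hF₁]
    exact hc'
  · intro m
    rw [← coeff_expand_smul p hp.out.pos.ne' F₁ m, ← hF₁, coeff_sub, coeff_sub, coeff_C_mul,
      coeff_smul_Sp, coeff_smul_delta p R G₀ hG₀coeff, mul_zero, sub_zero, sub_zero]

theorem addCoc_decomp : ∀ (d : ℕ) (F : MvPolynomial (Fin 2) R), F.totalDegree ≤ d → IsAddCoc F →
    ∃ (G₀ : Polynomial R) (N : ℕ) (r : ℕ → R),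
      F = delta G₀ + ∑ i ∈ Finset.range N, C (r i) * Spi p R i := by
  intro d
  induction d with
  | zero =>
    intro F hd _
    have h0 : F.totalDegree = 0 := Nat.le_zero.1 hd
    rw [totalDegree_eq_zero_iff_eq_C] at h0
    refine ⟨Polynomial.C (-(coeff 0 F)), 0, fun _ => 0, ?_⟩
    rw [delta_C, Finset.sum_range_zero, add_zero, map_neg, neg_neg]
    exact h0
  | succ d ih =>
    intro F hd hc
    obtain ⟨G₀, r₀, F₁, hF, hc₁, hcoeff⟩ := addCoc_step p R F hc
    have hd₁ : F₁.totalDegree ≤ d := by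
      unfold totalDegree
      apply Finset.sup_le
      intro m hm
      rw [mem_support_iff, hcoeff m] at hm
      have h1 := le_totalDegree (mem_support_iff.2 hm)
      rw [fin2_sum_eq] at h1 ⊢
      simp only [Finsupp.smul_apply, smul_eq_mul] at h1
      have hp2 : 2 ≤ p := hp.out.two_le
      have h2 : 2 * m 0 + 2 * m 1 ≤ p * m 0 + p * m 1 :=
        Nat.add_le_add (Nat.mul_le_mul_right _ hp2) (Nat.mul_le_mul_right _ hp2)
      omega
    obtain ⟨G₁, N₁, r₁, hF₁⟩ := ih F₁ hd₁ hc₁
    obtain ⟨r, hr0, hrs⟩ : ∃ r : ℕ → R, r 0 = r₀ ∧ ∀ i, r (i + 1) = r₁ i :=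
      ⟨fun i => Nat.casesOn i r₀ r₁, rfl, fun _ => rfl⟩
    refine ⟨G₀ + Polynomial.expand R p G₁, N₁ + 1, r, ?_⟩
    rw [Finset.sum_range_succ', delta_add, ← expand_delta]
    simp only [Spi_zero, hr0, hrs]
    rw [hF, hF₁, map_add, map_sum]
    have : ∀ i ∈ Finset.range N₁, expand p (C (r₁ i) * Spi p R i) =
        C (r₁ i) * Spi p R (i + 1) := by
      intro i _
      rw [map_mul, expand_C, expand_Spi]
    rw [Finset.sum_congr rfl this]
    ring

end

end Groth.Agent.H67
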