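import Mathlib.CategoryTheory.Adjunction.Mates
import Mathlib.CategoryTheory.Limits.Shapes.Products

set_option autoImplicit false

universe v₁ v₂ u₁ u₂ w

namespace Groth.Agent.H67

open CategoryTheory CategoryTheory.Limits

variable {C : Type u₁} [Category.{v₁} C] {D : Type u₂} [Category.{v₂} D] {Φ : Type w}
  {L : C ⥤ D} {R : D ⥤ C} (adj : L ⊣ R)
  {Lf : Φ → (C ⥤ D)} {Rf : Φ → (D ⥤ C)} (adjf : ∀ f, Lf f ⊣ Rf f) (π : ∀ f, R ⟶ Rf f)

theorem homEquiv_conjugate_comp (f : Φ) (a : C) (b : D) (g : L.obj a ⟶ b) :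
    (adjf f).homEquiv a b (((conjugateEquiv adj (adjf f)).symm (π f)).app a ≫ g) =
      adj.homEquiv a b g ≫ (π f).app b := by
  rw [Adjunction.homEquiv_unit, Adjunction.homEquiv_unit, Functor.map_comp, ← Category.assoc,
    ← unit_conjugateEquiv_symm, Category.assoc, Category.assoc, (π f).naturality]

/-- If a right adjoint is, naturally, a product of right adjoints, the left adjoint is the coproduct
of their left adjoints (with the conjugate injections). -/
theorem isColimit_cofan_of_isLimit_fan
    (hπ : ∀ b : D, Nonempty (IsLimit (Fan.mk (R.obj b) (fun f => (π f).app b)))) (a : C) :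
    Nonempty (IsColimit (Cofan.mk (L.obj a)
      (fun f => ((conjugateEquiv adj (adjf f)).symm (π f)).app a))) := by
  refine ⟨Cofan.IsColimit.mk _
    (fun s => (adj.homEquiv a s.pt).symm (Fan.IsLimit.lift (hπ s.pt).some
      (fun f => (adjf f).homEquiv a s.pt (s.inj f)))) ?_ ?_⟩
  · intro s f
    apply ((adjf f).homEquiv a s.pt).injective
    have := homEquiv_conjugate_comp adj adjf π f a s.pt
      ((adj.homEquiv a s.pt).symm (Fan.IsLimit.lift (hπ s.pt).some
        (fun f => (adjf f).homEquiv a s.pt (s.inj f))))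
    refine this.trans ?_
    rw [Equiv.apply_symm_apply]
    exact Fan.IsLimit.fac (hπ s.pt).some _ f
  · intro s m hm
    apply (adj.homEquiv a s.pt).injective
    rw [Equiv.apply_symm_apply]
    refine Fan.IsLimit.hom_ext (hπ s.pt).some _ _ (fun f => ?_)
    have h1 := homEquiv_conjugate_comp adj adjf π f a s.pt m
    have h2 : Fan.IsLimit.lift (hπ s.pt).some (fun f => (adjf f).homEquiv a s.pt (s.inj f)) ≫
        (Fan.mk (R.obj s.pt) (fun f => (π f).app s.pt)).proj f =
        (adjf f).homEquiv a s.pt (s.inj f) := Fan.IsLimit.fac (hπ s.pt).some _ f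
    rw [h2]
    refine Eq.trans h1.symm ?_
    rw [← hm f]
    rfl

end Groth.Agent.H67
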