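import Groth.Agent.H67.AmplePullback
import Mathlib.AlgebraicGeometry.Morphisms.Affine

/-!
# Pullback of an ample invertible module along an affine morphism is ample
-/

set_option autoImplicit false
set_option linter.style.haveILetI false
universe u
open CategoryTheory AlgebraicGeometry TopologicalSpace Opposite

namespace Groth.Agent.H67.AmplePullback

open Groth.Agent.H18 Groth.Agent.H18.PUP Groth.Agent.H18.STL Scheme.Modules

variable {Z S : Scheme.{u}} (u : Z ⟶ S)

/-- the pullback of an ample module along an affine morphism is ample -/
theorem isAmple_pullback_of_isAffineHom [IsAffineHom u] (L : S.Modules) (hL : CohB1.IsAmple L) :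
    CohB1.IsAmple ((pullback u).obj L) := by
  have hinv := isInvertible_pullback u hL.1
  haveI : CompactSpace S := hL.2.1
  haveI : CompactSpace Z := QuasiCompact.compactSpace_of_compactSpace u
  refine ⟨hinv, inferInstance, fun z => ?_⟩
  obtain ⟨n, a, hxa, haff⟩ := hL.2.2 (u z)
  obtain ⟨s', hs'⟩ := exists_pullback_section u hL.1 (n + 1) a
  refine ⟨n, s', ?_, ?_⟩
  · rw [hs']; exact hxa
  · rw [hs']; exact haff.preimage u

end Groth.Agent.H67.AmplePullback
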