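import Mathlib.Data.Nat.Choose.Lucas
import Mathlib.Data.Nat.Prime.Factorial
import Mathlib.Algebra.CharP.Invertible
import Mathlib.Algebra.CharP.Basic
import Mathlib.Algebra.Polynomial.Coeff
import Mathlib.Algebra.Polynomial.BigOperators
import Mathlib.Algebra.GroupWithZero.Units.Basic

set_option autoImplicit false

universe u

namespace Groth.Agent.H67

open Finset

section Digits

variable (p : ℕ) [hp : Fact p.Prime]

theorem digit_mod_pow {k n i : ℕ} (hi : i < n) : k % p ^ n / p ^ i % p = k / p ^ i % p := by
  obtain ⟨m, rfl⟩ := Nat.exists_eq_add_of_lt hi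
  have h1 : p ^ (i + m + 1) = p ^ i * p ^ (m + 1) := by rw [← pow_add]; ring_nf
  rw [h1, Nat.mod_mul_right_div_self]
  exact Nat.mod_mod_of_dvd _ (dvd_pow_self p (Nat.succ_ne_zero m))

/-- Binomial coefficients with no carries. -/
theorem choose_add_mul_pow_modEq_one {r j i : ℕ} (hr : r < p ^ i) :
    (r + j * p ^ i).choose r ≡ 1 [MOD p] := by
  have hpos : 0 < p ^ i := pow_pos hp.out.pos i
  have h := Choose.choose_modEq_choose_mul_prod_range_choose (p := p) (n := r + j * p ^ i)
    (k := r) i
  rw [← Int.natCast_modEq_iff]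
  refine h.trans ?_
  have e1 : (r + j * p ^ i) / p ^ i = j := by
    rw [Nat.add_mul_div_right _ _ hpos, Nat.div_eq_of_lt hr, zero_add]
  have e2 : r / p ^ i = 0 := Nat.div_eq_of_lt hr
  rw [e1, e2, Nat.choose_zero_right]
  have e3 : ∀ l ∈ range i, ((r + j * p ^ i) / p ^ l % p).choose (r / p ^ l % p) = 1 := by
    intro l hl
    have hl' : l < i := mem_range.1 hl
    have : (r + j * p ^ i) / p ^ l % p = r / p ^ l % p := by
      have h4 := digit_mod_pow p (k := r + j * p ^ i) (n := i) (i := l) hl'
      have h5 : (r + j * p ^ i) % p ^ i = r := by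
        rw [Nat.add_mul_mod_self_right, Nat.mod_eq_of_lt hr]
      rw [h5] at h4
      exact h4.symm
    rw [this, Nat.choose_self]
  rw [Finset.prod_congr rfl e3]
  simp

end Digits

section Core

variable (p : ℕ) [hp : Fact p.Prime] {A : Type u} [CommRing A] [CharP A p]
variable (c : ℕ → A) (h0 : c 0 = 1)
  (hM : ∀ a b : ℕ, ((a + b).choose a : A) * c (a + b) = c a * c b)

include hM h0 in
theorem char_pow_eq (i : ℕ) : ∀ j : ℕ, c (p ^ i) ^ j = (j.factorial : A) * c (j * p ^ i) := by
  intro j
  induction j with
  | zero => simp [h0]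
  | succ j ih =>
    rw [pow_succ, ih, mul_assoc, ← hM (j * p ^ i) (p ^ i)]
    have e1 : j * p ^ i + p ^ i = (j + 1) * p ^ i := by ring
    rw [e1]
    have e2 : (((j + 1) * p ^ i).choose (j * p ^ i) : A) = ((j + 1 : ℕ) : A) := by
      apply CharP.natCast_eq_natCast' A p
      have := Choose.choose_pow_mul_pow_mul_modEq_choose_nat (p := p) (k := i) (a := j + 1) (b := j)
      rw [mul_comm (p ^ i) (j + 1), mul_comm (p ^ i) j] at this
      refine this.trans ?_
      rw [Nat.choose_succ_self_right]
    rw [e2, Nat.factorial_succ, Nat.cast_mul]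
    ring

include hM h0 in
theorem char_pow_p_eq_zero (i : ℕ) : c (p ^ i) ^ p = 0 := by
  rw [char_pow_eq p c h0 hM i p]
  have : ((p.factorial : ℕ) : A) = 0 := by
    rw [CharP.cast_eq_zero_iff A p]
    exact Nat.dvd_factorial hp.out.pos le_rfl
  rw [this, zero_mul]

theorem isUnit_factorial_of_lt {j : ℕ} (hj : j < p) : IsUnit ((j.factorial : ℕ) : A) := by
  rw [CharP.isUnit_natCast_iff hp.out]
  exact fun h => absurd ((Nat.Prime.dvd_factorial hp.out).1 h) (not_le.2 hj)

include hM h0 in
theorem char_mul_pow_eq (i : ℕ) {j : ℕ} (hj : j < p) :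
    c (j * p ^ i) = Ring.inverse ((j.factorial : ℕ) : A) * c (p ^ i) ^ j := by
  rw [char_pow_eq p c h0 hM i j, ← mul_assoc,
    Ring.inverse_mul_cancel _ (isUnit_factorial_of_lt p hj), one_mul]

include hM in
theorem char_add_mul_pow_eq {r i : ℕ} (hr : r < p ^ i) (j : ℕ) :
    c (r + j * p ^ i) = c r * c (j * p ^ i) := by
  rw [← hM r (j * p ^ i)]
  have : (((r + j * p ^ i).choose r : ℕ) : A) = ((1 : ℕ) : A) :=
    CharP.natCast_eq_natCast' A p (choose_add_mul_pow_modEq_one p hr)
  rw [this, Nat.cast_one, one_mul]

include hM h0 in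
theorem char_digits_eq : ∀ (n k : ℕ), k < p ^ n →
    c k = ∏ i ∈ range n, Ring.inverse (((k / p ^ i % p).factorial : ℕ) : A) *
      c (p ^ i) ^ (k / p ^ i % p) := by
  intro n
  induction n with
  | zero =>
    intro k hk
    have : k = 0 := by simpa using hk
    subst this
    simp [h0]
  | succ n ih =>
    intro k hk
    have hpos : 0 < p ^ n := pow_pos hp.out.pos n
    have hj : k / p ^ n < p := by
      rw [Nat.div_lt_iff_lt_mul hpos, mul_comm, ← pow_succ]
      exact hk
    have hr : k % p ^ n < p ^ n := Nat.mod_lt _ hpos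
    have hk' : k = k % p ^ n + k / p ^ n * p ^ n := (Nat.mod_add_div' k (p ^ n)).symm
    rw [Finset.prod_range_succ]
    have e1 : c k = c (k % p ^ n) * c (k / p ^ n * p ^ n) := by
      conv_lhs => rw [hk']
      exact char_add_mul_pow_eq p c hM hr _
    rw [e1, ih (k % p ^ n) hr, char_mul_pow_eq p c h0 hM n hj, Nat.mod_eq_of_lt hj]
    congr 1
    refine Finset.prod_congr rfl (fun i hi => ?_)
    rw [digit_mod_pow p (mem_range.1 hi)]

end Core

section Converse

variable (p : ℕ) [hp : Fact p.Prime] {A : Type u} [CommRing A] [CharP A p]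

/-- The digit product attached to a sequence. -/
noncomputable def digitProd (α : ℕ → A) (m k : ℕ) : A :=
  ∏ i ∈ range m, Ring.inverse (((k / p ^ i % p).factorial : ℕ) : A) * α i ^ (k / p ^ i % p)

theorem digitProd_succ (α : ℕ → A) (m k : ℕ) :
    digitProd p α (m + 1) k =
      digitProd p (fun i => α (i + 1)) m (k / p) *
        (Ring.inverse (((k % p).factorial : ℕ) : A) * α 0 ^ (k % p)) := by
  unfold digitProd
  rw [Finset.prod_range_succ']
  congr 1
  · refine Finset.prod_congr rfl (fun i _ => ?_)
    have : k / p ^ (i + 1) = k / p / p ^ i := by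
      rw [pow_succ', Nat.div_div_eq_div_mul]
    rw [this]
  · simp

theorem inv_factorial_mul {s t : ℕ} (hst : s + t < p) (x : A) :
    (((s + t).choose s : ℕ) : A) *
        (Ring.inverse (((s + t).factorial : ℕ) : A) * x ^ (s + t)) =
      (Ring.inverse ((s.factorial : ℕ) : A) * x ^ s) *
        (Ring.inverse ((t.factorial : ℕ) : A) * x ^ t) := by
  have hu := isUnit_factorial_of_lt (A := A) p (j := s) (by omega)
  have hv := isUnit_factorial_of_lt (A := A) p (j := t) (by omega)
  have hw := isUnit_factorial_of_lt (A := A) p (j := s + t) hst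
  have hfac : (((s + t).factorial : ℕ) : A) =
      (((s + t).choose s : ℕ) : A) * ((s.factorial : ℕ) : A) * ((t.factorial : ℕ) : A) := by
    rw [← Nat.cast_mul, ← Nat.cast_mul, Nat.choose_symm_add,
      Nat.add_choose_mul_factorial_mul_factorial]
  have key : (((s + t).choose s : ℕ) : A) * Ring.inverse (((s + t).factorial : ℕ) : A) =
      Ring.inverse ((s.factorial : ℕ) : A) * Ring.inverse ((t.factorial : ℕ) : A) := by
    apply (hu.mul hv).mul_left_injective
    change (((s + t).choose s : ℕ) : A) * Ring.inverse (((s + t).factorial : ℕ) : A) *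
        (((s.factorial : ℕ) : A) * ((t.factorial : ℕ) : A)) =
      Ring.inverse ((s.factorial : ℕ) : A) * Ring.inverse ((t.factorial : ℕ) : A) *
        (((s.factorial : ℕ) : A) * ((t.factorial : ℕ) : A))
    have e1 : Ring.inverse ((s.factorial : ℕ) : A) * Ring.inverse ((t.factorial : ℕ) : A) *
        (((s.factorial : ℕ) : A) * ((t.factorial : ℕ) : A)) =
        (Ring.inverse ((s.factorial : ℕ) : A) * ((s.factorial : ℕ) : A)) *
          (Ring.inverse ((t.factorial : ℕ) : A) * ((t.factorial : ℕ) : A)) := by ring
    have e2 : (((s + t).choose s : ℕ) : A) * Ring.inverse (((s + t).factorial : ℕ) : A) *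
        (((s.factorial : ℕ) : A) * ((t.factorial : ℕ) : A)) =
        Ring.inverse (((s + t).factorial : ℕ) : A) *
          ((((s + t).choose s : ℕ) : A) * ((s.factorial : ℕ) : A) * ((t.factorial : ℕ) : A)) := by
      ring
    rw [e1, e2, ← hfac, Ring.inverse_mul_cancel _ hu, Ring.inverse_mul_cancel _ hv,
      Ring.inverse_mul_cancel _ hw, one_mul]
  calc (((s + t).choose s : ℕ) : A) * (Ring.inverse (((s + t).factorial : ℕ) : A) * x ^ (s + t))
      = ((((s + t).choose s : ℕ) : A) * Ring.inverse (((s + t).factorial : ℕ) : A)) *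
          x ^ (s + t) := by ring
    _ = _ := by rw [key, pow_add]; ring

/-- The digit products satisfy the coefficient identity of characters. -/
theorem digitProd_mul : ∀ (m : ℕ) (α : ℕ → A), (∀ i, α i ^ p = 0) → ∀ a b : ℕ, a + b < p ^ m →
    (((a + b).choose a : ℕ) : A) * digitProd p α m (a + b) =
      digitProd p α m a * digitProd p α m b := by
  intro m
  induction m with
  | zero =>
    intro α _ a b hab
    have : a = 0 ∧ b = 0 := by simpa using hab
    obtain ⟨rfl, rfl⟩ := this
    simp [digitProd]
  | succ m ih =>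
    intro α hα a b hab
    have hp0 : 0 < p := hp.out.pos
    rw [digitProd_succ, digitProd_succ, digitProd_succ]
    have hlucas : (((a + b).choose a : ℕ) : A) =
        ((((a + b) % p).choose (a % p) : ℕ) : A) * ((((a + b) / p).choose (a / p) : ℕ) : A) := by
      rw [← Nat.cast_mul]
      exact CharP.natCast_eq_natCast' A p Choose.choose_modEq_choose_mod_mul_choose_div_nat
    by_cases hc : a % p + b % p < p
    · have h1 : (a + b) % p = a % p + b % p := by
        rw [Nat.add_mod, Nat.mod_eq_of_lt hc]
      have h2 : (a + b) / p = a / p + b / p := by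
        rw [Nat.add_div hp0, if_neg (not_le.2 hc), add_zero]
      have h3 : a / p + b / p < p ^ m := by
        rw [← h2, Nat.div_lt_iff_lt_mul hp0, ← pow_succ]
        exact hab
      have ih' := ih (fun i => α (i + 1)) (fun i => hα (i + 1)) (a / p) (b / p) h3
      have e0 := inv_factorial_mul p hc (α 0)
      rw [hlucas, h1, h2]
      calc (((a % p + b % p).choose (a % p) : ℕ) : A) *
            (((a / p + b / p).choose (a / p) : ℕ) : A) *
            (digitProd p (fun i => α (i + 1)) m (a / p + b / p) *
              (Ring.inverse (((a % p + b % p).factorial : ℕ) : A) * α 0 ^ (a % p + b % p)))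
          = ((((a / p + b / p).choose (a / p) : ℕ) : A) *
              digitProd p (fun i => α (i + 1)) m (a / p + b / p)) *
            ((((a % p + b % p).choose (a % p) : ℕ) : A) *
              (Ring.inverse (((a % p + b % p).factorial : ℕ) : A) * α 0 ^ (a % p + b % p))) := by
            ring
        _ = _ := by rw [ih', e0]; ring
    · have hc' : p ≤ a % p + b % p := not_lt.1 hc
      have h1 : (a + b) % p < a % p := by
        have ha := Nat.mod_lt a hp0
        have hb := Nat.mod_lt b hp0
        rw [Nat.add_mod]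
        have : (a % p + b % p) % p = a % p + b % p - p := by
          rw [Nat.mod_eq_sub_mod hc', Nat.mod_eq_of_lt (by omega)]
        omega
      rw [hlucas, Nat.choose_eq_zero_of_lt h1, Nat.cast_zero, zero_mul, zero_mul]
      have hz : α 0 ^ (a % p) * α 0 ^ (b % p) = 0 := by
        rw [← pow_add, ← Nat.sub_add_cancel hc', pow_add, hα 0, mul_zero]
      have : digitProd p (fun i => α (i + 1)) m (a / p) *
          (Ring.inverse (((a % p).factorial : ℕ) : A) * α 0 ^ (a % p)) *
          (digitProd p (fun i => α (i + 1)) m (b / p) *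
          (Ring.inverse (((b % p).factorial : ℕ) : A) * α 0 ^ (b % p))) =
          digitProd p (fun i => α (i + 1)) m (a / p) * Ring.inverse (((a % p).factorial : ℕ) : A) *
          digitProd p (fun i => α (i + 1)) m (b / p) * Ring.inverse (((b % p).factorial : ℕ) : A) *
          (α 0 ^ (a % p) * α 0 ^ (b % p)) := by ring
      rw [this, hz, mul_zero]

end Converse

section Expansion

open Polynomial

variable (p : ℕ) [hp : Fact p.Prime] {A : Type u} [CommRing A] (e : ℕ → ℕ → A)

/-- The coefficients of a product of polynomials in `X ^ (p ^ i)` of degree `< p` in these. -/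
theorem coeff_prod_digits : ∀ (n k : ℕ),
    (∏ i ∈ range n, ∑ j ∈ range p, C (e i j) * X ^ (j * p ^ i) : A[X]).coeff k =
      if k < p ^ n then ∏ i ∈ range n, e i (k / p ^ i % p) else 0 := by
  intro n
  induction n with
  | zero =>
    intro k
    simp only [range_zero, prod_empty, pow_zero, Nat.lt_one_iff, coeff_one]
  | succ n ih =>
    intro k
    have hpos : 0 < p ^ n := pow_pos hp.out.pos n
    rw [Finset.prod_range_succ, Finset.mul_sum, finsetSum_coeff]
    have hterm : ∀ j : ℕ, ((∏ i ∈ range n, ∑ j ∈ range p, C (e i j) * X ^ (j * p ^ i)) *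
        (C (e n j) * X ^ (j * p ^ n)) : A[X]).coeff k =
        if j * p ^ n ≤ k then
          (if k - j * p ^ n < p ^ n then ∏ i ∈ range n, e i ((k - j * p ^ n) / p ^ i % p) else 0) *
            e n j
        else 0 := by
      intro j
      rw [← mul_assoc, coeff_mul_X_pow', coeff_mul_C, ih]
    rw [Finset.sum_congr rfl (fun j _ => hterm j)]
    by_cases hk : k < p ^ (n + 1)
    · rw [if_pos hk]
      have hj₀ : k / p ^ n < p := by
        rw [Nat.div_lt_iff_lt_mul hpos, mul_comm, ← pow_succ]
        exact hk
      rw [Finset.sum_eq_single (k / p ^ n)]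
      · have h1 : k / p ^ n * p ^ n ≤ k := Nat.div_mul_le_self k (p ^ n)
        have h2 : k - k / p ^ n * p ^ n = k % p ^ n := by
          have := Nat.mod_add_div' k (p ^ n)
          omega
        rw [if_pos h1, h2, if_pos (Nat.mod_lt _ hpos), Finset.prod_range_succ,
          Nat.mod_eq_of_lt hj₀]
        congr 1
        refine Finset.prod_congr rfl (fun i hi => ?_)
        rw [digit_mod_pow p (mem_range.1 hi)]
      · intro j _ hj
        by_cases h1 : j * p ^ n ≤ k
        · rw [if_pos h1]
          by_cases h2 : k - j * p ^ n < p ^ n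
          · exfalso
            apply hj
            symm
            apply Nat.div_eq_of_lt_le h1
            rw [add_mul, one_mul]
            omega
          · rw [if_neg h2, zero_mul]
        · rw [if_neg h1]
      · intro h
        exact absurd (mem_range.2 hj₀) h
    · rw [if_neg hk]
      apply Finset.sum_eq_zero
      intro j hj
      have hj' : j < p := mem_range.1 hj
      by_cases h1 : j * p ^ n ≤ k
      · rw [if_pos h1]
        by_cases h2 : k - j * p ^ n < p ^ n
        · exfalso
          apply hk
          have h3 : (j + 1) * p ^ n ≤ p * p ^ n := Nat.mul_le_mul_right _ hj'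
          rw [pow_succ, mul_comm]
          rw [add_mul, one_mul] at h3
          omega
        · rw [if_neg h2, zero_mul]
      · rw [if_neg h1]

end Expansion

end Groth.Agent.H67
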