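import Groth.Agent.H67.CharPChar
import Mathlib.Algebra.MvPolynomial.Basic
import Mathlib.Algebra.MvPolynomial.CommRing
import Mathlib.Algebra.Polynomial.AlgebraMap
import Mathlib.RingTheory.Ideal.Quotient.Basic
import Mathlib.RingTheory.Ideal.Span

set_option autoImplicit false

universe u

namespace Groth.Agent.H67

open Finset Polynomial

section Extract

variable {A : Type u} [CommRing A]

/-- The comparison map to bivariate polynomials. -/
noncomputable def biv : MvPolynomial (Fin 2) A →ₐ[A] A[X][X] :=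
  MvPolynomial.aeval ![C X, X]

theorem biv_X0 : biv (MvPolynomial.X 0 : MvPolynomial (Fin 2) A) = C X := by
  simp [biv]

theorem biv_X1 : biv (MvPolynomial.X 1 : MvPolynomial (Fin 2) A) = X := by
  simp [biv]

theorem biv_coeff_of_mem {N : ℕ} {g : MvPolynomial (Fin 2) A}
    (hg : g ∈ Ideal.span {(MvPolynomial.X 0 ^ N : MvPolynomial (Fin 2) A), MvPolynomial.X 1 ^ N})
    {a b : ℕ} (ha : a < N) (hb : b < N) : ((biv g).coeff b).coeff a = 0 := by
  obtain ⟨u, v, rfl⟩ := Ideal.mem_span_pair.1 hg
  rw [map_add, map_mul, map_mul, map_pow, map_pow, biv_X0, biv_X1, ← C_pow, coeff_add,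
    coeff_mul_C, coeff_mul_X_pow', if_neg (not_le.2 hb), add_zero, coeff_mul_X_pow',
    if_neg (not_le.2 ha)]

theorem biv_aeval_add (f : A[X]) (a b : ℕ) :
    ((biv (aeval (MvPolynomial.X 0 + MvPolynomial.X 1 : MvPolynomial (Fin 2) A) f)).coeff b).coeff a =
      ((a + b).choose b : A) * f.coeff (a + b) := by
  rw [← aeval_algHom_apply, map_add, biv_X0, biv_X1, add_comm (C X) X,
    aeval_eq_sum_range' (n := f.natDegree + a + b + 1) (by omega)]
  simp only [finsetSum_coeff, coeff_smul, smul_eq_mul, coeff_X_add_C_pow]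
  rw [Finset.sum_eq_single (a + b)]
  · have h1 : a + b - b = a := by omega
    rw [h1, ← C_eq_natCast, coeff_mul_C, coeff_X_pow, if_pos rfl, one_mul, mul_comm]
  · intro k _ hk
    rw [← C_eq_natCast, coeff_mul_C, coeff_X_pow]
    by_cases h : a = k - b
    · have hkb : k < b := by
        by_contra h'
        apply hk
        omega
      rw [Nat.choose_eq_zero_of_lt hkb]
      simp
    · rw [if_neg h, zero_mul, mul_zero]
  · intro h
    exact absurd (mem_range.2 (by omega)) h

theorem biv_aeval_mul (f : A[X]) (a b : ℕ) :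
    ((biv (aeval (MvPolynomial.X 0 : MvPolynomial (Fin 2) A) f *
      aeval (MvPolynomial.X 1 : MvPolynomial (Fin 2) A) f)).coeff b).coeff a =
      f.coeff a * f.coeff b := by
  rw [map_mul, ← aeval_algHom_apply, ← aeval_algHom_apply, biv_X0, biv_X1]
  have h1 : aeval (C X : A[X][X]) f = C f := by
    have := aeval_algHom_apply (CAlgHom (R := A) (A := A[X])) (X : A[X]) f
    rw [aeval_X_left_apply] at this
    exact this
  have h2 : aeval (X : A[X][X]) f = f.map C := by
    rw [aeval_X_left_eq_map]
    rfl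
  rw [h1, h2, coeff_C_mul, coeff_map, coeff_mul_C]

/-- The coefficient identity satisfied by a truncated character. -/
theorem coeff_identity_of_mul_mod {N : ℕ} (f : A[X])
    (hmul : Ideal.Quotient.mk
        (Ideal.span {(MvPolynomial.X 0 ^ N : MvPolynomial (Fin 2) A), MvPolynomial.X 1 ^ N})
        (aeval (MvPolynomial.X 0 + MvPolynomial.X 1 : MvPolynomial (Fin 2) A) f) =
      Ideal.Quotient.mk
        (Ideal.span {(MvPolynomial.X 0 ^ N : MvPolynomial (Fin 2) A), MvPolynomial.X 1 ^ N})
        (aeval (MvPolynomial.X 0 : MvPolynomial (Fin 2) A) f *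
          aeval (MvPolynomial.X 1 : MvPolynomial (Fin 2) A) f))
    {a b : ℕ} (ha : a < N) (hb : b < N) :
    ((a + b).choose a : A) * f.coeff (a + b) = f.coeff a * f.coeff b := by
  have h1 := biv_coeff_of_mem (Ideal.Quotient.eq.1 hmul) ha hb
  rw [map_sub, coeff_sub, coeff_sub, biv_aeval_add, biv_aeval_mul, sub_eq_zero] at h1
  rw [← h1, Nat.choose_symm_add]

end Extract

end Groth.Agent.H67
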