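import Mathlib

/-!
# Integral reduced connected algebras over an algebraically closed field (helper67)
-/

set_option autoImplicit false
open Polynomial

namespace Groth.Agent.H67.ConstFun

/-- a nontrivial reduced algebra without nontrivial idempotents which is integral over an
algebraically closed field is the field itself -/
theorem surjective_algebraMap_of_integral {k R : Type*} [Field k] [IsAlgClosed k] [CommRing R]
    [Algebra k R] [Nontrivial R] [IsReduced R] [Algebra.IsIntegral k R]
    (hidem : ∀ e : R, IsIdempotentElem e → e = 0 ∨ e = 1) :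
    Function.Surjective (algebraMap k R) := by
  intro a
  have hint : IsIntegral k a := Algebra.IsIntegral.isIntegral a
  set μ := minpoly k a with hμ
  have hmonic : μ.Monic := minpoly.monic hint
  have hdeg : μ.degree ≠ 0 := (minpoly.degree_pos hint).ne'
  obtain ⟨c, hc⟩ := IsAlgClosed.exists_root μ hdeg
  set q := μ /ₘ (X - C c) with hq
  have hμq : (X - C c) * q = μ := (mul_divByMonic_eq_iff_isRoot).2 hc
  have hqmonic : q.Monic := (monic_X_sub_C c).of_mul_monic_left (hμq ▸ hmonic)
  have hqdeg : q.degree < μ.degree := by
    apply degree_lt_degree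
    rw [← hμq, (monic_X_sub_C c).natDegree_mul hqmonic, natDegree_X_sub_C]
    omega
  set x := a - algebraMap k R c with hx
  set y := aeval a q with hy
  have hxy : x * y = 0 := by
    have : aeval a ((X - C c) * q) = 0 := by rw [hμq]; exact minpoly.aeval k a
    rw [map_mul, map_sub, aeval_X, aeval_C] at this
    exact this
  have hy0 : y ≠ 0 := by
    intro h0
    have := minpoly.min k a hqmonic h0
    exact absurd hqdeg (not_lt.2 this)
  by_cases hroot : q.IsRoot c
  · exfalso
    set r := q /ₘ (X - C c) with hr
    have hqr : (X - C c) * r = q := (mul_divByMonic_eq_iff_isRoot).2 hroot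
    have hyy : y * y = 0 := by
      have h1 : q * q = μ * r := by rw [← hμq, ← hqr]; ring
      have h2 : aeval a (q * q) = 0 := by rw [h1, map_mul, minpoly.aeval, zero_mul]
      rwa [map_mul] at h2
    exact hy0 (IsReduced.eq_zero y ⟨2, by rw [pow_two]; exact hyy⟩)
  · set d := q.eval c with hd
    have hd0 : d ≠ 0 := hroot
    set s := q /ₘ (X - C c) with hs
    have hdiv : C d + (X - C c) * s = q := by
      have := modByMonic_add_div q (X - C c)
      rwa [modByMonic_X_sub_C_eq_C_eval] at this
    have h1 : algebraMap k R d + x * aeval a s = y := by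
      have := congrArg (aeval a) hdiv
      rwa [map_add, map_mul, map_sub, aeval_X, aeval_C, aeval_C] at this
    set e := algebraMap k R d⁻¹ * y with he
    have hde : algebraMap k R d⁻¹ * algebraMap k R d = 1 := by
      rw [← map_mul, inv_mul_cancel₀ hd0, map_one]
    have h2 : e = 1 + algebraMap k R d⁻¹ * (x * aeval a s) := by
      rw [he, ← h1, mul_add, hde]
    have hidem_e : IsIdempotentElem e := by
      change e * e = e
      have h3 : e * (algebraMap k R d⁻¹ * (x * aeval a s)) = 0 := by
        rw [he]
        calc algebraMap k R d⁻¹ * y * (algebraMap k R d⁻¹ * (x * aeval a s))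
            = algebraMap k R d⁻¹ * algebraMap k R d⁻¹ * aeval a s * (x * y) := by ring
          _ = 0 := by rw [hxy, mul_zero]
      conv_lhs => rw [h2, mul_add, mul_one]
      rw [← h2, h3, add_zero]
    rcases hidem e hidem_e with h0 | h1'
    · exfalso
      apply hy0
      have : algebraMap k R d * e = y := by
        rw [he, ← mul_assoc, mul_comm (algebraMap k R d), hde, one_mul]
      rw [← this, h0, mul_zero]
    · refine ⟨c, ?_⟩
      have hx0 : x = 0 := by
        calc x = x * e := by rw [h1', mul_one]
          _ = algebraMap k R d⁻¹ * (x * y) := by rw [he]; ring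
          _ = 0 := by rw [hxy, mul_zero]
      exact (sub_eq_zero.1 hx0).symm

end Groth.Agent.H67.ConstFun
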