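import Groth.Agent.H67.DevSupp

/-!
# Induction along a filtration by ideal sheaves of integral closed subschemes
-/

set_option autoImplicit false
set_option linter.style.haveILetI false
set_option linter.unusedSectionVars false
set_option linter.unusedVariables false
universe u
open CategoryTheory Limits AlgebraicGeometry TopologicalSpace Opposite

namespace Groth.Agent.H67.Dev

variable {X : Scheme.{u}}

/-- the conclusion of the filtration lemma (Stacks 01YF) for a module `M` -/
def HasIdealFiltration (M : X.Modules) : Prop :=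
  ∃ (m : ℕ) (F : ℕ → X.Modules) (φ : (j : ℕ) → (F j ⟶ F (j + 1))),
    IsZero (F 0) ∧ Nonempty (F m ≅ M) ∧ (∀ j ≤ m, Coh.IsCoh (F j)) ∧ ∀ j < m, Mono (φ j) ∧
      ∃ (Z : Scheme.{u}) (i : Z ⟶ X), IsClosedImmersion i ∧ IsIntegral Z ∧
        ∃ (I : Z.Modules) (ι : I ⟶ Coh.structureModule Z), Mono ι ∧ Coh.IsQCoh I ∧ ¬ IsZero I ∧
          Nonempty (cokernel (φ j) ≅ (Coh.push i).obj I)

theorem isCoh_cokernel [IsNoetherian X] {A B : X.Modules} (f : A ⟶ B) (hA : Coh.IsCoh A)
    (hB : Coh.IsCoh B) : Coh.IsCoh (cokernel f) := by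
  haveI : A.IsQuasicoherent := hA.1
  haveI : B.IsQuasicoherent := hB.1
  haveI : SheafOfModules.IsFiniteType (R := X.ringCatSheaf) B := hB.2
  haveI hq : (cokernel f).IsQuasicoherent :=
    Groth.Agent.H12.QCohAbelian.isQuasicoherent_cokernel f
  exact ⟨hq, Groth.Agent.H71.QCoh.isFiniteType_of_epi (cokernel.π f)⟩

theorem isCoh_kernel [IsNoetherian X] {A B : X.Modules} (f : A ⟶ B) (hA : Coh.IsCoh A)
    (hB : Coh.IsQCoh B) : Coh.IsCoh (kernel f) := by
  haveI : A.IsQuasicoherent := hA.1
  haveI : B.IsQuasicoherent := hB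
  haveI : SheafOfModules.IsFiniteType (R := X.ringCatSheaf) A := hA.2
  haveI hq : (kernel f).IsQuasicoherent :=
    Groth.Agent.H12.QCohAbelian.isQuasicoherent_kernel f
  exact ⟨hq, Groth.Agent.H71.QCoh.isFiniteType_of_mono (kernel.ι f)⟩

theorem shortExact_cokernel {A B : X.Modules} (f : A ⟶ B) [Mono f] :
    (ShortComplex.mk f (cokernel.π f) (cokernel.condition f)).ShortExact :=
  { exact := ShortComplex.exact_cokernel f
    mono_f := (inferInstance : Mono f)
    epi_g := (inferInstance : Epi (cokernel.π f)) }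

theorem filt_ind [IsNoetherian X] (P : X.Modules → Prop)
    (hP : ∀ M N : X.Modules, Nonempty (M ≅ N) → P M → P N)
    (h0 : ∀ M : X.Modules, IsZero M → P M) (T : Set X)
    (hext : ∀ S : ShortComplex X.Modules, S.ShortExact → Coh.IsCoh S.X₁ → Coh.IsCoh S.X₂ →
      Coh.IsCoh S.X₃ → CohB1.support S.X₂ ⊆ T → P S.X₁ → P S.X₃ → P S.X₂)
    (hgen : ∀ (Z : Scheme.{u}) (i : Z ⟶ X) [IsClosedImmersion i] [IsIntegral Z]
      (I : Z.Modules) (ι : I ⟶ Coh.structureModule Z), Mono ι → Coh.IsQCoh I → ¬ IsZero I →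
      i (genericPoint Z) ∈ T → P ((Coh.push i).obj I))
    (M : X.Modules) (hM : HasIdealFiltration M) (hsupp : CohB1.support M ⊆ T) : P M := by
  obtain ⟨m, F, φ, hF0, ⟨e⟩, hcoh, hstep⟩ := hM
  have hsub : ∀ k j, j + k = m → CohB1.support (F j) ⊆ CohB1.support (F m) := by
    intro k
    induction k with
    | zero =>
      intro j hj
      have : j = m := by omega
      subst this
      exact subset_rfl
    | succ k ih =>
      intro j hj
      haveI := (hstep j (by omega)).1
      exact (support_subset_of_mono (φ j)).trans (ih (j + 1) (by omega))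
  have hT : ∀ j, j ≤ m → CohB1.support (F j) ⊆ T := by
    intro j hj
    refine (hsub (m - j) j (by omega)).trans ?_
    rw [support_eq_of_iso e]
    exact hsupp
  have hPj : ∀ j, j ≤ m → P (F j) := by
    intro j
    induction j with
    | zero => exact fun _ => h0 _ hF0
    | succ j ih =>
      intro hj
      obtain ⟨hmono, Z, i, hi, hZ, I, ι, hι, hIq, hIz, ⟨ec⟩⟩ := hstep j (by omega)
      haveI := hmono
      haveI := hi
      haveI := hZ
      haveI := hι
      have hcok : Coh.IsCoh (cokernel (φ j)) :=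
        isCoh_cokernel (φ j) (hcoh j (by omega)) (hcoh (j + 1) hj)
      have hmem : i (genericPoint Z) ∈ T := by
        apply hT (j + 1) hj
        apply support_subset_of_epi (cokernel.π (φ j))
        rw [support_eq_of_iso ec]
        exact mem_support_push i ι hIz
      have hPc : P (cokernel (φ j)) := hP _ _ ⟨ec.symm⟩ (hgen Z i I ι hι hIq hIz hmem)
      exact hext _ (shortExact_cokernel (φ j)) (hcoh j (by omega)) (hcoh (j + 1) hj) hcok
        (hT (j + 1) hj) (ih (by omega)) hPc
  exact hP _ _ ⟨e⟩ (hPj m le_rfl)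

end Groth.Agent.H67.Dev
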