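import Groth.Agent.H67.DevFilt

/-!
# The rank in Stacks 01YE is one when the stalk is the residue field
-/

set_option autoImplicit false
set_option linter.style.haveILetI false
set_option linter.unusedSectionVars false
set_option linter.unusedVariables false
universe u
open CategoryTheory Limits AlgebraicGeometry TopologicalSpace Opposite
open Groth.Agent.H5.Stalk (stalkFunctor)
open Groth.Agent.H12.AffHomCrit (sproj sum_sproj_ι ι_sproj_self ι_sproj_ne)

namespace Groth.Agent.H67.Dev

theorem card_eq_one_of_simple {R : Type*} [Ring R] {A B : Type*} [AddCommGroup A] [Module R A]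
    [AddCommGroup B] [Module R B] [IsSimpleModule R A]
    {r : ℕ} (σ : Fin r → B →ₗ[R] A) (π : Fin r → A →ₗ[R] B)
    (h1 : ∀ j, (π j).comp (σ j) = LinearMap.id) (h2 : ∀ j k, k ≠ j → (π j).comp (σ k) = 0)
    (h3 : ∑ j, (σ j).comp (π j) = LinearMap.id) : r = 1 := by
  haveI := IsSimpleModule.nontrivial R A
  have hB : (∀ b : B, b = 0) → False := by
    intro hb
    obtain ⟨a, ha⟩ := exists_ne (0 : A)
    apply ha
    have h4 := congrArg (fun f : A →ₗ[R] A => f a) h3
    simp only [LinearMap.sum_apply, LinearMap.comp_apply, LinearMap.id_apply] at h4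
    rw [← h4]
    refine Finset.sum_eq_zero (fun j _ => ?_)
    rw [hb (π j a), map_zero]
  by_contra hr
  rcases Nat.lt_or_ge r 2 with hlt | hge
  · have hr0 : r = 0 := by omega
    subst hr0
    apply hB
    intro b
    obtain ⟨a, ha⟩ := exists_ne (0 : A)
    exfalso
    apply ha
    have h4 := congrArg (fun f : A →ₗ[R] A => f a) h3
    simpa using h4.symm
  · let j0 : Fin r := ⟨0, by omega⟩
    let j1 : Fin r := ⟨1, by omega⟩
    have h01 : j1 ≠ j0 := by
      intro h
      have := congrArg Fin.val h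
      simp [j0, j1] at this
    rcases (σ j0).surjective_or_eq_zero with hs | hz
    · apply hB
      intro b
      obtain ⟨b', hb'⟩ := hs (σ j1 b)
      have h5 : π j0 (σ j0 b') = π j0 (σ j1 b) := by rw [hb']
      have h6 : π j0 (σ j0 b') = b' := congrArg (fun f : B →ₗ[R] B => f b') (h1 j0)
      have h7 : π j0 (σ j1 b) = 0 := congrArg (fun f : B →ₗ[R] B => f b) (h2 j0 j1 h01)
      rw [h6, h7] at h5
      rw [h5, map_zero] at hb'
      have h8 : π j1 (σ j1 b) = b := congrArg (fun f : B →ₗ[R] B => f b) (h1 j1)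
      rw [← h8, ← hb', map_zero]
    · apply hB
      intro b
      have h6 : π j0 (σ j0 b) = b := congrArg (fun f : B →ₗ[R] B => f b) (h1 j0)
      rw [← h6, hz, LinearMap.zero_apply, map_zero]

theorem isSimpleModule_residueField (R : Type*) [CommRing R] [IsLocalRing R] :
    IsSimpleModule R (IsLocalRing.ResidueField R) := by
  have : IsCoatom (IsLocalRing.maximalIdeal R) := (IsLocalRing.maximalIdeal.isMaximal R).out
  exact isSimpleModule_iff_isCoatom.mpr this

variable {X Z : Scheme.{u}} (i : Z ⟶ X)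

theorem hann_of_equiv {G : X.Modules} {x : X}
    (e : ↑(G.presheaf.stalk x) ≃ₗ[X.presheaf.stalk x]
      IsLocalRing.ResidueField (X.presheaf.stalk x)) :
    ∀ a ∈ IsLocalRing.maximalIdeal (X.presheaf.stalk x),
      ∀ m : ↑(G.presheaf.stalk x), a • m = 0 := by
  intro a ha m
  apply e.injective
  rw [map_smul, map_zero, Algebra.smul_def]
  have : algebraMap (X.presheaf.stalk x) (IsLocalRing.ResidueField (X.presheaf.stalk x)) a = 0 :=
    (IsLocalRing.residue_eq_zero_iff a).mpr ha
  rw [this, zero_mul]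

theorem stalk_bijective_of_isIso_restrict {A B : X.Modules} (φ : A ⟶ B) (U : X.Opens) {x : X}
    (hx : x ∈ U) [IsIso ((Rw U).map φ)] :
    Function.Bijective ((stalkFunctor x).map φ).hom := by
  have h := Groth.Agent.H33.LocCoh.isIso_stalk_map_of_isIso_restrict U.ι φ (⟨x, hx⟩ : U)
  have h1 : IsIso ((TopCat.Presheaf.stalkFunctor Ab x).map φ.mapPresheaf) := h
  have h2 : Function.Bijective ((TopCat.Presheaf.stalkFunctor Ab x).map φ.mapPresheaf) :=
    ConcreteCategory.bijective_of_isIso _
  exact h2

theorem rank_eq_one {I' : Z.Modules} {r : ℕ} {G : X.Modules} (x : X)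
    (φ : (Scheme.Modules.pushforward i).obj (∐ fun _ : Fin r => I') ⟶ G)
    (hφ : Function.Bijective ((stalkFunctor x).map φ).hom)
    (e : ↑(G.presheaf.stalk x) ≃ₗ[X.presheaf.stalk x]
      IsLocalRing.ResidueField (X.presheaf.stalk x)) : r = 1 := by
  let Φ : Z.Modules ⥤ ModuleCat.{u} (X.presheaf.stalk x) :=
    Scheme.Modules.pushforward i ⋙ stalkFunctor x
  haveI : Φ.Additive := inferInstance
  let J : Fin r → Z.Modules := fun _ => I'
  let e1 : (Φ.obj (∐ J)) ≃ₗ[X.presheaf.stalk x] ↑(G.presheaf.stalk x) :=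
    LinearEquiv.ofBijective ((stalkFunctor x).map φ).hom hφ
  haveI := isSimpleModule_residueField (X.presheaf.stalk x)
  haveI : IsSimpleModule (X.presheaf.stalk x) (Φ.obj (∐ J)) := IsSimpleModule.congr (e1.trans e)
  refine card_eq_one_of_simple (R := X.presheaf.stalk x) (A := Φ.obj (∐ J)) (B := Φ.obj I')
    (fun j => (Φ.map (Sigma.ι J j)).hom) (fun j => (Φ.map (sproj J j)).hom) ?_ ?_ ?_
  · intro j
    rw [← ModuleCat.hom_comp, ← Functor.map_comp, ι_sproj_self, CategoryTheory.Functor.map_id]
    rfl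
  · intro j k hk
    rw [← ModuleCat.hom_comp, ← Functor.map_comp, ι_sproj_ne J j k hk, Functor.map_zero]
    rfl
  · have h := congrArg (fun f => (Φ.map f).hom) (sum_sproj_ι J)
    simp only [Functor.map_sum, Functor.map_comp, CategoryTheory.Functor.map_id] at h
    rw [ModuleCat.hom_sum] at h
    exact h

end Groth.Agent.H67.Dev
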