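import Groth.Agent.H36.ProjMapTwist
import Groth.Agent.H97.ProjBaseChange
import Groth.Agent.H67.AmplePullback
import Groth.Agent.H18.TwistPow
import Groth.Agent.H18.Counit.EpiCrit

/-!
# Base change of the twisting sheaves of projective space

`(P^n_B ⟶ P^n_A)^* O(m) ≅ O(m)` for a ring map `A → B` and `m : ℕ`.
-/

set_option autoImplicit false
set_option linter.unusedSectionVars false
set_option linter.unusedVariables false
set_option linter.style.haveILetI false

namespace Groth.Agent.H67.Fin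

universe u

open AlgebraicGeometry CategoryTheory HomogeneousLocalization
open Groth.Agent.H18 Groth.Agent.H18.PUP

section general

variable {R A R' B : Type u} [CommRing R] [CommRing A] [Algebra R A] [CommRing R'] [CommRing B]
  [Algebra R' B]
variable (𝒜 : ℕ → Submodule R A) [GradedAlgebra 𝒜] (ℬ : ℕ → Submodule R' B) [GradedAlgebra ℬ]
variable (φ : 𝒜 →+*ᵍ ℬ)
  (hφ : HomogeneousIdeal.irrelevant ℬ ≤ (HomogeneousIdeal.irrelevant 𝒜).map φ)

/-- `Proj.map φ` on the chart `D₊(g)`, on fractions of degree one (two base rings) -/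
theorem chartHom_projMap' {g a : A} (hg : g ∈ 𝒜 1) (ha : a ∈ 𝒜 1) :
    chartHom 𝒜 (Proj.map φ hφ) hg (Proj.basicOpen ℬ (φ g))
      (Proj.map_preimage_basicOpen φ hφ g).ge a =
      fracO ℬ (φ.map_mem ha) (φ.map_mem hg) (Proj.basicOpen ℬ (φ g)) (fun _ hx => hx) := by
  rw [chartHom_apply 𝒜 (Proj.map φ hφ) hg _ _ ha]
  have h := Proj.awayToSection_comp_appLE φ hφ hg
  have h2 := congr($h (Away.mk 𝒜 hg 1 a (mem_smul_one 𝒜 ha)))
  refine h2.trans ?_
  change (Proj.awayToSection ℬ (φ g)).hom (Away.map φ g (Away.mk 𝒜 hg 1 a (mem_smul_one 𝒜 ha))) = _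
  rw [Away.map_mk, awayToSection_eq_fracO]
  exact fracO_eq_of_mul_eq ℬ _ _ _ _ _ _ _ (by rw [pow_one]; rfl)

/-- the pull back of `O(1)` along `Proj.map φ` is `O(1)` (two base rings) -/
theorem nonempty_pullback_twist_one_iso' {J : Type*} (b : J → A) (hb : ∀ j, b j ∈ 𝒜 1)
    (hproj : ∀ y : Proj 𝒜, ∃ j, y ∈ Proj.basicOpen 𝒜 (b j)) :
    Nonempty ((Scheme.Modules.pullback (Proj.map φ hφ)).obj (Twist.twist 𝒜 1) ≅
      Twist.twist ℬ 1) := by
  let r : Proj ℬ ⟶ Proj 𝒜 := Proj.map φ hφ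
  let q : Proj ℬ ⟶ Spec (CommRingCat.of R) := r ≫ pA 𝒜
  let v : J → Γ(Twist.twist ℬ 1, (⊤ : (Proj ℬ).Opens)) := fun j => gs ℬ (φ.map_mem (hb j))
  let c : J → Chart q (Twist.twist ℬ 1) b v := fun j =>
    { W := Proj.basicOpen ℬ (φ (b j))
      j := j
      F := chartHom 𝒜 r (hb j) (Proj.basicOpen ℬ (φ (b j)))
        (Proj.map_preimage_basicOpen φ hφ (b j)).ge
      basis := isBasisOn_gs ℬ (φ.map_mem (hb j))
      F_b := fun j' => by
        rw [chartHom_projMap' 𝒜 ℬ φ hφ (hb j) (hb j')]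
        exact fracO_smul_gs ℬ (φ.map_mem (hb j')) (φ.map_mem (hb j)) _ _
      F_alg := fun a => chartHom_algebraMap 𝒜 r (hb j) _ _ a }
  have hcov : ∀ x : Proj ℬ, ∃ j, x ∈ (c j).W := fun x => hproj (r.base x)
  have hr : ∀ j, (c j).W.ι ≫ r = (c j).map 𝒜 hb := fun j =>
    ι_comp_eq_localMap 𝒜 r (hb j) (Proj.basicOpen ℬ (φ (b j)))
        (Proj.map_preimage_basicOpen φ hφ (b j)).ge
  exact ⟨tauIso c hb hcov hproj r hr⟩

end general

section projSpace

open Groth.Agent.H97.ProjChart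

variable (A B : Type u) [CommRing A] [CommRing B] [Algebra A B] (n : ℕ)

theorem exists_mem_stdOpen (y : CohB1.ProjSpace n A) :
    ∃ j : Fin (n + 1), y ∈ Proj.basicOpen (CohB1.polyGrading n A) (MvPolynomial.X j) := by
  have h := Groth.Agent.Lead.Coh.iSup_stdOpen n A
  have hy : y ∈ (⨆ i, Groth.Agent.Lead.Coh.stdOpen n A i) := by rw [h]; trivial
  obtain ⟨j, hj⟩ := TopologicalSpace.Opens.mem_iSup.mp hy
  exact ⟨j, hj⟩

/-- `(P^n_B ⟶ P^n_A)^* O(1) ≅ O(1)` -/
theorem nonempty_pullback_projMap_twist_one_iso :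
    Nonempty ((Scheme.Modules.pullback (projMap A B n)).obj (Twist.twistProjSpace n A 1) ≅
      Twist.twistProjSpace n B 1) :=
  nonempty_pullback_twist_one_iso' (CohB1.polyGrading n A) (CohB1.polyGrading n B) (gmap A B n)
    (irrelevant_le_map A B n) (fun j : Fin (n + 1) => MvPolynomial.X j) (fun j => X_mem A n j)
    (exists_mem_stdOpen A n)

theorem hcov_polyGrading (x : ProjectiveSpectrum (CohB1.polyGrading n A)) :
    ∃ f : MvPolynomial (Fin (n + 1)) A, f ∈ CohB1.polyGrading n A 1 ∧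
      f ∉ x.asHomogeneousIdeal := by
  obtain ⟨j, hj⟩ := exists_mem_stdOpen A n x
  exact ⟨MvPolynomial.X j, X_mem A n j, (ProjectiveSpectrum.mem_basicOpen _ _ _).mp hj⟩

/-- `(P^n_B ⟶ P^n_A)^* O(m) ≅ O(m)` for `m : ℕ` -/
theorem nonempty_pullback_projMap_twist_iso (m : ℕ) :
    Nonempty ((Scheme.Modules.pullback (projMap A B n)).obj (Twist.twistProjSpace n A (m : ℤ)) ≅
      Twist.twistProjSpace n B (m : ℤ)) := by
  obtain ⟨e1⟩ := nonempty_twist_iso_tensorPow (CohB1.polyGrading n A) (hcov_polyGrading A n) m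
  obtain ⟨e2⟩ := Groth.Agent.H67.AmplePullback.nonempty_pullback_tensorPow_iso (projMap A B n)
    (Twist.twist (CohB1.polyGrading n A) 1) m
  obtain ⟨e0⟩ := nonempty_pullback_projMap_twist_one_iso A B n
  obtain ⟨e3⟩ := Groth.Agent.H18.CounitCrit.nonempty_tensorPow_iso e0 m
  obtain ⟨e4⟩ := nonempty_twist_iso_tensorPow (CohB1.polyGrading n B) (hcov_polyGrading B n) m
  exact ⟨(Scheme.Modules.pullback (projMap A B n)).mapIso e1 ≪≫ e2 ≪≫ e3 ≪≫ e4.symm⟩

end projSpace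

end Groth.Agent.H67.Fin
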