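import Mathlib.AlgebraicGeometry.ZariskisMainTheorem
import Groth.Agent.S0025
import Groth.Agent.H97.ProjProper
import Groth.Agent.H97.ProjSpaceOverIso
import Groth.Agent.H22.CompLift
import Groth.Agent.H67.FinTwistBC

/-!
# (P4) of the S0002 chain: geometry of the Chow cover of an integral closed subscheme

Global part: for `X` proper over a Noetherian ring `A` and `T` an irreducible closed subset,
the reduced induced subscheme `Z` is integral and admits `π : Z' ⟶ Z` proper surjective,
an isomorphism over a dense open, with a CLOSED immersion `j : Z' ⟶ P^N_A` over `Spec A`.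
-/

set_option autoImplicit false
set_option linter.unusedSectionVars false
set_option linter.unusedVariables false
set_option linter.style.haveILetI false

namespace Groth.Agent.H67.Fin

universe u

open AlgebraicGeometry CategoryTheory Limits TopologicalSpace
open Groth.Agent.H97.ProjChart

/-- an immersion whose composite with a separated morphism is proper is a closed immersion -/
theorem isClosedImmersion_of_isProper_comp {X Y S : Scheme.{u}} (j : X ⟶ Y) (p : Y ⟶ S)
    [Mono j] [IsSeparated p] (h : IsProper (j ≫ p)) : IsClosedImmersion j := by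
  haveI : IsProper j := IsProper.of_comp j p
  exact (IsClosedImmersion.iff_isProper_and_mono j).mpr ⟨inferInstance, inferInstance⟩

variable (A : Type u) [CommRing A] [IsNoetherianRing A] {X : Scheme.{u}}
  (f : X ⟶ Spec (CommRingCat.of A)) [IsProper f] (T : Closeds X)

/-- (GEO, global part) -/
theorem exists_chow_data (hT : IsIrreducible (T : Set X)) :
    IsIntegral (Scheme.IdealSheafData.vanishingIdeal T).subscheme ∧
    ∃ (N : ℕ) (Z' : Scheme.{u}) (π : Z' ⟶ (Scheme.IdealSheafData.vanishingIdeal T).subscheme)
      (j : Z' ⟶ CohB1.ProjSpace N A),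
      IsClosedImmersion j ∧
      j ≫ CohB1.ProjSpace.toSpec N A =
        π ≫ (Scheme.IdealSheafData.vanishingIdeal T).subschemeι ≫ f ∧
      IsProper π ∧ Surjective π ∧
      ∃ U : (Scheme.IdealSheafData.vanishingIdeal T).subscheme.Opens,
        Dense (U : Set (Scheme.IdealSheafData.vanishingIdeal T).subscheme) ∧ IsIso (π ∣_ U) := by
  refine ⟨Groth.Agent.H22.CompLift.isIntegral_subscheme_vanishingIdeal T hT, ?_⟩
  let J := Scheme.IdealSheafData.vanishingIdeal T
  let g : J.subscheme ⟶ Spec (CommRingCat.of A) := J.subschemeι ≫ f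
  haveI : IsProper g := inferInstance
  obtain ⟨N, Z', π, j0, hj0, hcomp, hπ, hsurj, U, hU, hiso⟩ := Groth.Agent.S0025.result g
  haveI := hπ
  haveI : IsProper (CohB1.ProjSpaceOver.toBase N (Spec (CommRingCat.of A))) :=
    Groth.Agent.H97.ProjProper.isProper_toBase N _
  have hprop : IsProper (j0 ≫ CohB1.ProjSpaceOver.toBase N (Spec (CommRingCat.of A))) := by
    rw [hcomp]; infer_instance
  haveI : IsClosedImmersion j0 := isClosedImmersion_of_isProper_comp j0 _ hprop
  refine ⟨N, Z', π, j0 ≫ (projSpaceOverIso A N).hom, inferInstance, ?_, hπ, hsurj, U, hU, hiso⟩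
  rw [Category.assoc, projSpaceOverIso_hom_toSpec, hcomp]

end Groth.Agent.H67.Fin
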