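import Groth.Agent.H67.DevGen2
import Groth.Agent.Lead.Gabriel
import Groth.Agent.H71.QCoh.SupportProper

/-!
# (P5) of the S0002 chain: support / annihilator / generic stalk of `i_* π_* L`

For a closed subset `Z` of `X` with vanishing ideal `J`, a morphism `π : Z' ⟶ J.subscheme`
which is an isomorphism over an open `U`, and a module `L` on `Z'`, the module
`G := i_* π_* L` (`i = J.subschemeι`) has support in `Z`, is killed by `J`, and its support
contains `i (π z')` for every `z'` in the support of `L` with `π z' ∈ U`.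
-/

set_option autoImplicit false
set_option linter.style.haveILetI false
set_option linter.unusedSectionVars false
set_option linter.unusedVariables false
universe u
open CategoryTheory Limits AlgebraicGeometry TopologicalSpace Opposite
open Groth.Agent.H18 (mres mres_mres mres_self)

namespace Groth.Agent.H67.Fin

/-- if `π` is an isomorphism over the open `U`, the support of `π_* L` contains the images of the
points of the support of `L` lying over `U` -/
theorem mem_support_push_of_isIso_restrict {Z Z' : Scheme.{u}} (π : Z' ⟶ Z) (U : Z.Opens)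
    [IsIso (π ∣_ U)] (L : Z'.Modules) (z' : Z') (hz : π z' ∈ U)
    (hL : z' ∈ CohB1.support L) :
    π z' ∈ CohB1.support ((Scheme.Modules.pushforward π).obj L) := by
  intro hsub
  apply hL
  let g : ((π ⁻¹ᵁ U : Z'.Opens) : Scheme.{u}) ⟶ Z := (π ⁻¹ᵁ U).ι ≫ π
  have hg : g = (π ∣_ U) ≫ U.ι := (morphismRestrict_ι π U).symm
  haveI : IsOpenImmersion g := by rw [hg]; infer_instance
  have hgU : ∀ w, g w ∈ U := by
    intro w
    rw [hg]
    exact ((π ∣_ U) w).2
  have h0 : ∀ t : L.presheaf.stalk z', t = 0 := by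
    intro t
    obtain ⟨W₀, hzW₀, s₀, rfl⟩ := TopCat.Presheaf.exists_germ_eq L.presheaf t
    let W' : Z'.Opens := W₀ ⊓ π ⁻¹ᵁ U
    have hzW' : z' ∈ W' := ⟨hzW₀, hz⟩
    let V : Z.Opens := g ''ᵁ ((π ⁻¹ᵁ U).ι ⁻¹ᵁ W')
    have hV : π ⁻¹ᵁ V = W' := by
      ext x
      constructor
      · rintro ⟨w, hw, hwx⟩
        have hxU : x ∈ π ⁻¹ᵁ U := by
          show π x ∈ U
          rw [← hwx]; exact hgU w
        have : g ⟨x, hxU⟩ = g w := hwx.symm
        have hxw : (⟨x, hxU⟩ : (π ⁻¹ᵁ U : Z'.Opens)) = w :=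
          (Scheme.Hom.isOpenEmbedding g).injective this
        have : x = (π ⁻¹ᵁ U).ι w := by rw [← hxw]; rfl
        rw [this]
        exact hw
      · intro hx
        exact ⟨⟨x, hx.2⟩, hx, rfl⟩
    have hzV : π z' ∈ V := by
      have : z' ∈ π ⁻¹ᵁ V := by rw [hV]; exact hzW'
      exact this
    let s' : Γ((Scheme.Modules.pushforward π).obj L, V) :=
      (mres L ((le_of_eq hV).trans inf_le_left) s₀ : Γ(L, π ⁻¹ᵁ V))
    have h1 : ((Scheme.Modules.pushforward π).obj L).presheaf.germ V (π z') hzV s' =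
        ((Scheme.Modules.pushforward π).obj L).presheaf.germ V (π z') hzV 0 :=
      Subsingleton.elim _ _
    obtain ⟨V₁, hzV₁, iU, iV, hres⟩ := TopCat.Presheaf.germ_eq _ _ _ _ _ _ h1
    rw [map_zero] at hres
    have hle : V₁ ≤ V := leOfHom iU
    have hres' : mres L (show π ⁻¹ᵁ V₁ ≤ π ⁻¹ᵁ V from fun x hx => hle hx)
        (mres L ((le_of_eq hV).trans inf_le_left) s₀ : Γ(L, π ⁻¹ᵁ V)) = 0 := hres
    rw [mres_mres] at hres'
    rw [← Groth.Agent.H71.QCoh.germ_mres z' L
      (show π ⁻¹ᵁ V₁ ≤ W₀ from (fun x hx => ((le_of_eq hV) (hle hx : π x ∈ V)).1))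
      (show z' ∈ π ⁻¹ᵁ V₁ from hzV₁) s₀, hres', map_zero]
  exact ⟨fun a b => (h0 a).trans (h0 b).symm⟩

variable {X : Scheme.{u}}

/-- (P5): the three support/annihilator properties of the dévissage witness `i_* π_* L`. -/
theorem witness_props (Z : Set X) (hZ : IsClosed Z)
    {Z' : Scheme.{u}}
    (π : Z' ⟶ (Scheme.IdealSheafData.vanishingIdeal ⟨Z, hZ⟩).subscheme)
    (U : (Scheme.IdealSheafData.vanishingIdeal ⟨Z, hZ⟩).subscheme.Opens) [IsIso (π ∣_ U)]
    (L : Z'.Modules) :
    CohB1.support ((Scheme.Modules.pushforward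
        (Scheme.IdealSheafData.vanishingIdeal ⟨Z, hZ⟩).subschemeι).obj
        ((Scheme.Modules.pushforward π).obj L)) ⊆ Z ∧
    ClSub.KilledByIdeal (Scheme.IdealSheafData.vanishingIdeal ⟨Z, hZ⟩)
      ((Scheme.Modules.pushforward (Scheme.IdealSheafData.vanishingIdeal ⟨Z, hZ⟩).subschemeι).obj
        ((Scheme.Modules.pushforward π).obj L)) ∧
    ∀ z' : Z', π z' ∈ U → z' ∈ CohB1.support L →
      (Scheme.IdealSheafData.vanishingIdeal ⟨Z, hZ⟩).subschemeι (π z') ∈
        CohB1.support ((Scheme.Modules.pushforward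
          (Scheme.IdealSheafData.vanishingIdeal ⟨Z, hZ⟩).subschemeι).obj
          ((Scheme.Modules.pushforward π).obj L)) := by
  let T : Closeds X := ⟨Z, hZ⟩
  let J : X.IdealSheafData := Scheme.IdealSheafData.vanishingIdeal T
  have hri : Set.range J.subschemeι = Z :=
    Groth.Agent.H22.CompLift.range_subschemeι_vanishingIdeal T
  refine ⟨?_, Groth.Agent.Lead.Gabriel.killedByIdeal_pushforward J _, ?_⟩
  · exact (Groth.Agent.H71.QCoh.support_subset_range_of_iso_pushforward J.subschemeι _ _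
      (Iso.refl _)).trans (le_of_eq hri)
  · intro z' hz hL
    exact Groth.Agent.Lead.Gabriel.mem_support_pushforward J.subschemeι
      J.subschemeι.isClosedEmbedding.isInducing _ (π z')
      (mem_support_push_of_isIso_restrict π U L z' hz hL)

end Groth.Agent.H67.Fin
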