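import Groth.Agent.H67.FinGeoLocal
import Groth.Agent.H67.FinWitness
import Groth.Agent.H18.STL.Invertible

/-!
# Invertible modules have full support; the modules `L_m = j^* O(m)` of the S0002 chain
-/

set_option autoImplicit false
set_option linter.unusedSectionVars false
set_option linter.unusedVariables false
set_option linter.style.haveILetI false

namespace Groth.Agent.H67.Fin

universe u

open AlgebraicGeometry CategoryTheory Limits TopologicalSpace
open Groth.Agent.H18 Groth.Agent.H18.PUP Groth.Agent.H18.STL

/-- every point lies in the support of an invertible module -/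
theorem mem_support_of_isInvertible {Y : Scheme.{u}} {L : Y.Modules} (hL : PicF.IsInvertible L)
    (z : Y) : z ∈ CohB1.support L := by
  intro hsub
  obtain ⟨U, t, hzU, ht⟩ := exists_basis_of_isInvertible hL z
  have h1 : L.presheaf.germ U z hzU t = L.presheaf.germ U z hzU 0 := Subsingleton.elim _ _
  obtain ⟨V, hzV, iU, iV, hres⟩ := TopCat.Presheaf.germ_eq _ _ _ _ _ _ h1
  rw [map_zero] at hres
  have hle : V ≤ U := leOfHom iU
  have hres' : mres L hle t = 0 := hres
  have h2 : (1 : Γ(Y, V)) = 0 := by
    apply (ht V hle).1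
    change (1 : Γ(Y, V)) • mres L hle t = (0 : Γ(Y, V)) • mres L hle t
    rw [hres', smul_zero, smul_zero]
  have h3 := congrArg (Y.presheaf.germ V z hzV).hom h2
  rw [map_one, map_zero] at h3
  exact one_ne_zero h3

/-- the modules `L_m = j^* O(m)` on a scheme mapping to projective space are invertible -/
theorem isInvertible_pullback_twist (A : Type u) [CommRing A] (N : ℕ) {Z' : Scheme.{u}}
    (j : Z' ⟶ CohB1.ProjSpace N A) (m : ℤ) :
    PicF.IsInvertible ((Scheme.Modules.pullback j).obj (Twist.twistProjSpace N A m)) :=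
  Groth.Agent.H67.AmplePullback.isInvertible_pullback j
    (isInvertible_twist (CohB1.polyGrading N A) (hcov_polyGrading A N) m)

/-- the three support/annihilator clauses of hypothesis (H4) of
`Lead.ProperFinite.finite_of_witnesses` for `G = i_* π_* L`, `L` invertible -/
theorem witness_support {X : Scheme.{u}} (Z : Set X) (hZ : IsClosed Z) (y : X)
    (hy : closure {y} = Z) {Z' : Scheme.{u}}
    (π : Z' ⟶ (Scheme.IdealSheafData.vanishingIdeal ⟨Z, hZ⟩).subscheme) (hπ : Surjective π)
    (U : (Scheme.IdealSheafData.vanishingIdeal ⟨Z, hZ⟩).subscheme.Opens)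
    (hU : Dense (U : Set (Scheme.IdealSheafData.vanishingIdeal ⟨Z, hZ⟩).subscheme))
    [IsIso (π ∣_ U)] (L : Z'.Modules) (hL : PicF.IsInvertible L) :
    CohB1.support ((Scheme.Modules.pushforward
        (Scheme.IdealSheafData.vanishingIdeal ⟨Z, hZ⟩).subschemeι).obj
        ((Scheme.Modules.pushforward π).obj L)) ⊆ Z ∧
    ClSub.KilledByIdeal (Scheme.IdealSheafData.vanishingIdeal ⟨Z, hZ⟩)
      ((Scheme.Modules.pushforward (Scheme.IdealSheafData.vanishingIdeal ⟨Z, hZ⟩).subschemeι).obj
        ((Scheme.Modules.pushforward π).obj L)) ∧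
    y ∈ CohB1.support ((Scheme.Modules.pushforward
        (Scheme.IdealSheafData.vanishingIdeal ⟨Z, hZ⟩).subschemeι).obj
        ((Scheme.Modules.pushforward π).obj L)) := by
  obtain ⟨h1, h2, h3⟩ := witness_props Z hZ π U L
  refine ⟨h1, h2, ?_⟩
  let T : Closeds X := ⟨Z, hZ⟩
  let J : X.IdealSheafData := Scheme.IdealSheafData.vanishingIdeal T
  have hri : Set.range J.subschemeι = Z :=
    Groth.Agent.H22.CompLift.range_subschemeι_vanishingIdeal T
  have hyZ : y ∈ Z := by rw [← hy]; exact subset_closure rfl
  rw [← hri] at hyZ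
  obtain ⟨z, hz⟩ := hyZ
  have hemb : Topology.IsClosedEmbedding J.subschemeι := J.subschemeι.isClosedEmbedding
  have hcl : closure ({z} : Set J.subscheme) = Set.univ := by
    have h4 := hemb.closure_image_eq ({z} : Set J.subscheme)
    rw [Set.image_singleton, hz, hy, ← hri, ← Set.image_univ] at h4
    exact hemb.injective.image_injective h4.symm
  have hzU : z ∈ U := by
    by_contra hn
    have h5 : closure ({z} : Set J.subscheme) ⊆ (U : Set J.subscheme)ᶜ :=
      closure_minimal (Set.singleton_subset_iff.mpr hn) U.2.isClosed_compl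
    rw [hcl] at h5
    have h6 : (U : Set J.subscheme) = ∅ := by
      ext w
      simp only [Set.mem_empty_iff_false, iff_false]
      intro hw
      exact h5 (Set.mem_univ w) hw
    have h7 := hU z
    rw [h6, closure_empty] at h7
    exact h7
  obtain ⟨z', hz'⟩ := hπ.surj z
  have h8 := h3 z' (by rw [hz']; exact hzU) (mem_support_of_isInvertible hL z')
  rw [hz', hz] at h8
  exact h8

end Groth.Agent.H67.Fin
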