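import Groth.Agent.H67.GenLocusAffine
import Groth.Agent.H67.DevRank
import Groth.Agent.H67.DevFilt
import Groth.Agent.H5.Stalk.Acyclic
import Groth.Agent.H92.LocFreeRank
import Groth.Agent.Lead.Coh.ProperAsm

/-!
# The cokernel of a nonzero section of an invertible module on an integral scheme
-/

set_option autoImplicit false
set_option linter.style.haveILetI false
set_option linter.unusedSectionVars false
set_option linter.unusedVariables false
universe u
open CategoryTheory CategoryTheory.Limits AlgebraicGeometry Opposite TopologicalSpace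

namespace Groth.Agent.H67.CurveSec

open Scheme.Modules Groth.Agent.H67.GenLocusAffine Groth.Agent.H67.ParaExt

variable {X : Scheme.{u}}

/-- a morphism of modules vanishing on the members of an open cover vanishes -/
theorem hom_eq_zero_of_locally {M N : X.Modules} (φ : M ⟶ N)
    (h : ∀ x : X, ∃ W : X.Opens, x ∈ W ∧ ∀ W' : X.Opens, W' ≤ W → ∀ a : Γ(M, W'), φ.app W' a = 0) :
    φ = 0 := by
  have hmono : ∀ (U : X.Opens) (a : Γ(M, U)), φ.app U a = 0 := by
    intro U a
    choose W hxW hW using h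
    refine TopCat.Sheaf.eq_of_locally_eq' (⟨N.presheaf, N.isSheaf⟩ : TopCat.Sheaf Ab X)
      (fun x : U => U ⊓ W x.1) U (fun x => homOfLE inf_le_left) ?_ _ _ (fun x => ?_)
    · intro x hx
      exact Opens.mem_iSup.2 ⟨⟨x, hx⟩, hx, hxW x⟩
    · have hnat := φ.mapPresheaf.naturality (homOfLE (inf_le_left : U ⊓ W x.1 ≤ U)).op
      have h1 := ConcreteCategory.congr_hom hnat a
      simp only [ConcreteCategory.comp_apply] at h1
      change N.presheaf.map _ (φ.app U a) = N.presheaf.map _ 0
      rw [map_zero]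
      refine Eq.trans h1.symm ?_
      exact hW x.1 _ inf_le_right _
  apply (Scheme.Modules.toPresheaf X).map_injective
  ext U a
  exact hmono U a

variable (L : X.Modules) (s : Coh.structureModule X ⟶ L)

/-- over a trivializing open on which the generating locus is empty, `s` vanishes -/
theorem app_eq_zero_of_genLocus_inf_eq_bot [IsReduced X] (W₀ : X.Opens)
    (e : L.restrict W₀.ι ≅ Coh.structureModule (W₀ : Scheme.{u}))
    (h : CohB1.genLocus L s ⊓ W₀ = ⊥) (W' : X.Opens) (hW' : W' ≤ W₀)
    (a : Γ(Coh.structureModule X, W')) : s.app W' a = 0 := by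
  rw [genLocus_inf_eq L s W₀ e] at h
  have hb : (W₀ : Scheme.{u}).basicOpen (endoFun (trivEndo L s W₀ e)) = ⊥ := by
    have := congrArg (fun V => W₀.ι ⁻¹ᵁ V) h
    simpa [Scheme.Hom.preimage_image_eq] using this
  have hg : endoFun (trivEndo L s W₀ e) = 0 := by
    exact (AlgebraicGeometry.basicOpen_eq_bot_iff _).1 hb
  -- the trivialized endomorphism vanishes
  have ht : ∀ (V : (W₀ : Scheme.{u}).Opens) (b : Γ(Coh.structureModule (W₀ : Scheme.{u}), V)),
      (trivEndo L s W₀ e).app V b = 0 := by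
    intro V b
    rw [endo_app_apply, hg, map_zero, mul_zero]
    rfl
  -- transport back
  have hV : W₀.ι ''ᵁ (W₀.ι ⁻¹ᵁ W') = W' := image_preimage_of_le W₀ W' hW'
  have key : ∀ b : Γ(Coh.structureModule X, W₀.ι ''ᵁ (W₀.ι ⁻¹ᵁ W')),
      s.app (W₀.ι ''ᵁ (W₀.ι ⁻¹ᵁ W')) b = 0 := by
    intro b
    have h1 : Function.Bijective ((restrictUnitIso W₀.ι).inv.app (W₀.ι ⁻¹ᵁ W')) :=
      ConcreteCategory.bijective_of_isIso _
    have h2 : Function.Bijective (e.hom.app (W₀.ι ⁻¹ᵁ W')) := ConcreteCategory.bijective_of_isIso _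
    obtain ⟨c, rfl⟩ := h1.2 b
    apply h2.1
    exact (ht (W₀.ι ⁻¹ᵁ W') c).trans (map_zero _).symm
  revert a
  rw [← hV]
  exact key

/-- on a reduced scheme, a section of an invertible module whose generating locus is empty is zero -/
theorem eq_zero_of_genLocus_eq_bot [IsReduced X] (hL : PicF.IsInvertible L)
    (h : CohB1.genLocus L s = ⊥) : s = 0 := by
  refine hom_eq_zero_of_locally s (fun x => ?_)
  obtain ⟨W₀, hx, ⟨e⟩⟩ := hL x
  refine ⟨W₀, hx, fun W' hW' a => ?_⟩
  exact app_eq_zero_of_genLocus_inf_eq_bot L s W₀ e (by rw [h, bot_inf_eq]) W' hW' a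

theorem genLocus_ne_bot [IsReduced X] (hL : PicF.IsInvertible L) (hs : s ≠ 0) :
    CohB1.genLocus L s ≠ ⊥ := fun h => hs (eq_zero_of_genLocus_eq_bot L s hL h)

/-- `s` restricted to its generating locus is an isomorphism -/
theorem isIso_restrict_genLocus :
    IsIso ((restrictFunctor (CohB1.genLocus L s).ι).map s) := by
  rw [isIso_restrict_iff]
  intro W hW
  -- cover `W` by opens on which `s` is an isomorphism
  have hloc : ∀ x : W, ∃ U : X.Opens, x.1 ∈ U ∧ IsIso ((restrictFunctor U.ι).map s) := by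
    intro x
    have hx : x.1 ∈ sSup {U : X.Opens | IsIso ((restrictFunctor U.ι).map s)} := hW x.2
    rw [Opens.mem_sSup] at hx
    obtain ⟨U, hU, hxU⟩ := hx
    exact ⟨U, hxU, hU⟩
  choose U hxU hU using hloc
  have hbij : ∀ (x : W) (V : X.Opens), V ≤ U x → Function.Bijective (s.app V) :=
    fun x V hV => (isIso_restrict_iff s (U x)).1 (hU x) V hV
  constructor
  · -- injective
    intro a b hab
    refine TopCat.Sheaf.eq_of_locally_eq' (⟨(Coh.structureModule X).presheaf,
      (Coh.structureModule X).isSheaf⟩ : TopCat.Sheaf Ab X)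
      (fun x : W => W ⊓ U x) W (fun x => homOfLE inf_le_left) ?_ _ _ (fun x => ?_)
    · intro y hy
      exact Opens.mem_iSup.2 ⟨⟨y, hy⟩, hy, hxU ⟨y, hy⟩⟩
    · apply (hbij x (W ⊓ U x) inf_le_right).1
      have hnat := s.mapPresheaf.naturality (homOfLE (inf_le_left : W ⊓ U x ≤ W)).op
      have h1 := ConcreteCategory.congr_hom hnat a
      have h2 := ConcreteCategory.congr_hom hnat b
      simp only [ConcreteCategory.comp_apply] at h1 h2
      exact h1.trans ((congrArg _ hab).trans h2.symm)
  · -- surjective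
    intro t
    let F : TopCat.Sheaf Ab X := ⟨(Coh.structureModule X).presheaf, (Coh.structureModule X).isSheaf⟩
    let G : TopCat.Sheaf Ab X := ⟨L.presheaf, L.isSheaf⟩
    have hsec : ∀ x : W, ∃ a : Γ(Coh.structureModule X, W ⊓ U x),
        s.app (W ⊓ U x) a = L.presheaf.map (homOfLE (inf_le_left : W ⊓ U x ≤ W)).op t :=
      fun x => (hbij x (W ⊓ U x) inf_le_right).2 _
    choose a ha using hsec
    have hcompat : TopCat.Presheaf.IsCompatible F.1 (fun x : W => W ⊓ U x) a := by
      intro x y
      apply (hbij x ((W ⊓ U x) ⊓ (W ⊓ U y)) (inf_le_left.trans inf_le_right)).1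
      have hnx := s.mapPresheaf.naturality
        (homOfLE (inf_le_left : (W ⊓ U x) ⊓ (W ⊓ U y) ≤ W ⊓ U x)).op
      have hny := s.mapPresheaf.naturality
        (homOfLE (inf_le_right : (W ⊓ U x) ⊓ (W ⊓ U y) ≤ W ⊓ U y)).op
      have h1 := ConcreteCategory.congr_hom hnx (a x)
      have h2 := ConcreteCategory.congr_hom hny (a y)
      simp only [ConcreteCategory.comp_apply] at h1 h2
      refine h1.trans (Eq.trans ?_ h2.symm)
      change L.presheaf.map _ (s.app _ (a x)) = L.presheaf.map _ (s.app _ (a y))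
      rw [ha x, ha y, ← ConcreteCategory.comp_apply, ← ConcreteCategory.comp_apply,
        ← Functor.map_comp, ← Functor.map_comp]
      rfl
    have hcov : W ≤ ⨆ x : W, W ⊓ U x := by
      intro y hy
      exact Opens.mem_iSup.2 ⟨⟨y, hy⟩, hy, hxU ⟨y, hy⟩⟩
    obtain ⟨b, hb, -⟩ := F.existsUnique_gluing' (fun x : W => W ⊓ U x) W
      (fun x => homOfLE inf_le_left) hcov a hcompat
    refine ⟨b, ?_⟩
    refine TopCat.Sheaf.eq_of_locally_eq' G (fun x : W => W ⊓ U x) W
      (fun x => homOfLE inf_le_left) hcov _ _ (fun x => ?_)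
    have hnat := s.mapPresheaf.naturality (homOfLE (inf_le_left : W ⊓ U x ≤ W)).op
    have h1 := ConcreteCategory.congr_hom hnat b
    simp only [ConcreteCategory.comp_apply] at h1
    refine h1.symm.trans ?_
    change s.app _ ((Coh.structureModule X).presheaf.map _ b) = _
    rw [hb x]
    exact ha x

end Groth.Agent.H67.CurveSec
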