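import Groth.Agent.H67.DevRank
import Groth.Agent.H22.CompLift

/-!
# Dévissage with the two-out-of-three property (Stacks 01YI), assuming the filtration lemma
-/

set_option autoImplicit false
set_option linter.style.haveILetI false
set_option linter.unusedSectionVars false
set_option linter.unusedVariables false
universe u
open CategoryTheory Limits AlgebraicGeometry TopologicalSpace Opposite
open Groth.Agent.H5.Stalk (stalkFunctor)

namespace Groth.Agent.H67.Dev

variable {X : Scheme.{u}}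

theorem isFiniteType_structureModule :
    SheafOfModules.IsFiniteType (R := X.ringCatSheaf) (Coh.structureModule X) := by
  haveI : (Coh.structureModule X).IsQuasicoherent := inferInstance
  refine Groth.Agent.H71.QCoh.isFiniteType_of_finite_sections _ (fun V => ?_)
  refine Module.Finite.of_fg_top ?_
  rw [Submodule.fg_def]
  refine ⟨{(secO V.1).symm 1}, Set.finite_singleton _, ?_⟩
  rw [eq_top_iff]
  rintro n -
  have h : n = (secO V.1 n) • (secO V.1).symm 1 := by
    apply (secO V.1).injective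
    rw [secO_smul, AddEquiv.apply_symm_apply, mul_one]
  rw [h]
  exact Submodule.smul_mem _ _ (Submodule.subset_span rfl)

theorem isCoh_of_isZero [IsNoetherian X] {M : X.Modules} (hM : IsZero M) : Coh.IsCoh M := by
  haveI : (Coh.structureModule X).IsQuasicoherent := inferInstance
  have e : kernel (𝟙 (Coh.structureModule X)) ≅ M :=
    (isZero_kernel_of_mono (𝟙 (Coh.structureModule X))).iso hM
  haveI hk : (kernel (𝟙 (Coh.structureModule X))).IsQuasicoherent :=
    Groth.Agent.H12.QCohAbelian.isQuasicoherent_kernel _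
  haveI hq : M.IsQuasicoherent := Groth.Agent.H12.QCohAbelian.isQuasicoherent_of_iso e
  haveI : Epi (0 : Coh.structureModule X ⟶ M) := ⟨fun g h _ => hM.eq_of_src g h⟩
  haveI : SheafOfModules.IsFiniteType (R := X.ringCatSheaf) (Coh.structureModule X) :=
    isFiniteType_structureModule
  exact ⟨hq, Groth.Agent.H71.QCoh.isFiniteType_of_epi (0 : Coh.structureModule X ⟶ M)⟩

theorem notMem_support_cokernel_of_surjective {A B : X.Modules} (f : A ⟶ B) (x : X)
    (hsurj : Function.Surjective ((stalkFunctor x).map f).hom) :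
    x ∉ CohB1.support (cokernel f) := by
  intro hcok
  apply hcok
  have hπ : Function.Surjective ((stalkFunctor x).map (cokernel.π f)).hom :=
    (ModuleCat.epi_iff_surjective _).mp inferInstance
  have h0 : ∀ y : (cokernel f).presheaf.stalk x, y = 0 := by
    intro y
    obtain ⟨z, rfl⟩ := hπ y
    obtain ⟨m, rfl⟩ := hsurj z
    have h1 : (stalkFunctor x).map f ≫ (stalkFunctor x).map (cokernel.π f) = 0 := by
      rw [← Functor.map_comp, cokernel.condition, Functor.map_zero]
    exact congr($(h1).hom m)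
  exact ⟨fun a b => (h0 a).trans (h0 b).symm⟩

/-- the two descriptions of the intersection of two subobjects agree -/
noncomputable def kernelInfIso {A B F : X.Modules} (a : A ⟶ F) (b : B ⟶ F) [Mono a] [Mono b] :
    kernel (a ≫ cokernel.π b) ≅ kernel (b ≫ cokernel.π a) :=
  Subobject.isoOfMkEqMk (Groth.Agent.Lead.SubRange.infHom a b)
    (Groth.Agent.Lead.SubRange.infHom b a) (by
      rw [Groth.Agent.Lead.SubRange.mk_infHom, Groth.Agent.Lead.SubRange.mk_infHom, inf_comm])

section TwoOfThree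

variable [IsNoetherian X] (Z₀ : Set X) (hZ₀ : IsClosed Z₀) (ξ : X) (hξ : closure {ξ} = Z₀)
  (P : X.Modules → Prop) (hP : ∀ M N : X.Modules, Nonempty (M ≅ N) → P M → P N)
  (h0 : ∀ M : X.Modules, IsZero M → P M)
  (h₁ : ∀ S : ShortComplex X.Modules, S.ShortExact → Coh.IsCoh S.X₁ → Coh.IsCoh S.X₂ →
    Coh.IsCoh S.X₃ → CohB1.support S.X₂ ⊆ Z₀ →
    (P S.X₁ → P S.X₂ → P S.X₃) ∧ (P S.X₁ → P S.X₃ → P S.X₂) ∧ (P S.X₂ → P S.X₃ → P S.X₁))
  (h₂ : ∀ (Z : Scheme.{u}) (i : Z ⟶ X), IsClosedImmersion i → IsIntegral Z →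
    Set.range ⇑i ⊆ Z₀ → Set.range ⇑i ≠ Z₀ →
    ∀ (I : Z.Modules) (ι : I ⟶ Coh.structureModule Z), Mono ι → Coh.IsQCoh I →
      P ((Coh.push i).obj I))
  (hfilt : ∀ M : X.Modules, Coh.IsCoh M → HasIdealFiltration M)

include hZ₀ hξ hP h0 h₁ h₂ hfilt in
/-- coherent modules supported in `Z₀` away from the generic point have `P` -/
theorem P_of_notMem (Q : X.Modules) (hQ : Coh.IsCoh Q) (hQs : CohB1.support Q ⊆ Z₀)
    (hQξ : ξ ∉ CohB1.support Q) : P Q := by
  refine filt_ind P hP h0 (CohB1.support Q) ?_ ?_ Q (hfilt Q hQ) subset_rfl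
  · intro S hS c1 c2 c3 hsub p1 p3
    exact (h₁ S hS c1 c2 c3 (hsub.trans hQs)).2.1 p1 p3
  · intro Z i _ _ I ι hι hIq hIz hmem
    refine h₂ Z i inferInstance inferInstance (range_subset_of_gen_mem i hZ₀ (hQs hmem)) ?_
      I ι hι hIq
    intro heq
    have : ξ = i (genericPoint Z) := eq_gen_of_closure_eq i (hξ.trans heq.symm)
    rw [this] at hQξ
    exact hQξ hmem

include hZ₀ hξ hP h0 h₁ h₂ hfilt in
/-- passing to the intersection with a subobject that is everything near `ξ` -/
theorem P_inf_iff {O A B : X.Modules} (hO : Coh.IsCoh O) (hOs : CohB1.support O ⊆ Z₀)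
    (a : A ⟶ O) (b : B ⟶ O) [Mono a] [Mono b] (hA : Coh.IsCoh A) (hB : Coh.IsCoh B)
    (hb : ξ ∉ CohB1.support (cokernel b)) :
    P A ↔ P (kernel (a ≫ cokernel.π b)) := by
  have hC : Coh.IsCoh (cokernel b) := isCoh_cokernel b hB hO
  have hK : Coh.IsCoh (kernel (a ≫ cokernel.π b)) := isCoh_kernel _ hA hC.1
  have hT : Coh.IsCoh (cokernel (kernel.ι (a ≫ cokernel.π b))) := isCoh_cokernel _ hK hA
  have hTs : CohB1.support (cokernel (kernel.ι (a ≫ cokernel.π b))) ⊆
      CohB1.support (cokernel b) :=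
    support_subset_of_mono (Abelian.factorThruCoimage (a ≫ cokernel.π b))
  have hCs : CohB1.support (cokernel b) ⊆ Z₀ :=
    (support_subset_of_epi (cokernel.π b)).trans hOs
  have hPT : P (cokernel (kernel.ι (a ≫ cokernel.π b))) :=
    P_of_notMem Z₀ hZ₀ ξ hξ P hP h0 h₁ h₂ hfilt _ hT (hTs.trans hCs) (fun h => hb (hTs h))
  have hAs : CohB1.support A ⊆ Z₀ := (support_subset_of_mono a).trans hOs
  have h := h₁ _ (shortExact_cokernel (kernel.ι (a ≫ cokernel.π b))) hK hA hT hAs
  exact ⟨fun pA => h.2.2 pA hPT, fun pK => h.2.1 pK hPT⟩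

include hZ₀ hξ hP h0 h₁ h₂ hfilt in
theorem P_sub_pushO (Z : Scheme.{u}) (i : Z ⟶ X) [IsClosedImmersion i] [IsIntegral Z]
    (hrange : Set.range i = Z₀)
    (G : X.Modules) (hG : Coh.IsCoh G) (hGs : CohB1.support G = Z₀)
    (e : ↑(G.presheaf.stalk ξ) ≃ₗ[X.presheaf.stalk ξ]
      IsLocalRing.ResidueField (X.presheaf.stalk ξ)) (hPG : P G)
    {N : X.Modules} (b : N ⟶ pushO i) [Mono b] (hN : Coh.IsQCoh N) : P N := by
  have hξeq : ξ = i (genericPoint Z) := eq_gen_of_closure_eq i (hξ.trans hrange.symm)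
  subst hξeq
  have hO : Coh.IsCoh (pushO i) := ⟨inferInstance, inferInstance⟩
  have hOs : CohB1.support (pushO i) ⊆ Z₀ := by
    rw [← hrange]
    exact Groth.Agent.H71.QCoh.support_subset_range_of_iso_pushforward i _ _ (Iso.refl _)
  haveI : N.IsQuasicoherent := hN
  have hNc : Coh.IsCoh N := ⟨hN, Groth.Agent.H71.QCoh.isFiniteType_of_mono b⟩
  by_cases hNξ : i (genericPoint Z) ∈ CohB1.support N
  swap
  · exact h0 N (isZero_of_mono_pushO i b hNξ)
  obtain ⟨r, I', ι', φ, hι', hI', hφ, U, hξU, hiso⟩ := main X Z i G hG (hann_of_equiv e)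
  haveI := hι'
  haveI := hφ
  haveI := hiso
  have hbij := stalk_bijective_of_isIso_restrict φ U hξU
  have hr : r = 1 := rank_eq_one i _ φ hbij e
  subst hr
  let e1 : (∐ fun _ : Fin 1 => I') ≅ I' := coproductUniqueIso (fun _ : Fin 1 => I')
  let a : (Scheme.Modules.pushforward i).obj (∐ fun _ : Fin 1 => I') ⟶ pushO i :=
    (Scheme.Modules.pushforward i).map (e1.hom ≫ ι')
  haveI : Mono a := inferInstance
  haveI : I'.IsQuasicoherent := hI'.1
  haveI : G.IsQuasicoherent := hG.1
  haveI : SheafOfModules.IsFiniteType (R := X.ringCatSheaf) G := hG.2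
  haveI hN'q : ((Scheme.Modules.pushforward i).obj
      (∐ fun _ : Fin 1 => I')).IsQuasicoherent := by
    haveI : ∀ k : Fin 1, ((fun _ : Fin 1 => I') k).IsQuasicoherent := fun _ => hI'.1
    haveI := Groth.Agent.H12.AffHomCrit.isQuasicoherent_sigma (fun _ : Fin 1 => I')
    exact Groth.Agent.H8.isQuasicoherent_pushforward_of_isAffineHom i _
  have hN'c : Coh.IsCoh ((Scheme.Modules.pushforward i).obj (∐ fun _ : Fin 1 => I')) :=
    ⟨hN'q, Groth.Agent.H71.QCoh.isFiniteType_of_mono φ⟩
  have hQ := isCoh_cokernel φ hN'c hG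
  have hQξ : i (genericPoint Z) ∉ CohB1.support (cokernel φ) :=
    notMem_support_cokernel_of_surjective φ _ hbij.2
  have hQs : CohB1.support (cokernel φ) ⊆ Z₀ :=
    (support_subset_of_epi (cokernel.π φ)).trans hGs.le
  have hPQ := P_of_notMem Z₀ hZ₀ _ hξ P hP h0 h₁ h₂ hfilt _ hQ hQs hQξ
  have hPN' : P ((Scheme.Modules.pushforward i).obj (∐ fun _ : Fin 1 => I')) :=
    (h₁ _ (shortExact_cokernel φ) hN'c hG hQ hGs.le).2.2 hPG hPQ
  have hN'ξ : i (genericPoint Z) ∈
      CohB1.support ((Scheme.Modules.pushforward i).obj (∐ fun _ : Fin 1 => I')) := by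
    intro hsub
    haveI : Subsingleton ((stalkFunctor (i (genericPoint Z))).obj
      ((Scheme.Modules.pushforward i).obj (∐ fun _ : Fin 1 => I'))) := hsub
    haveI h5 : Subsingleton ((stalkFunctor (i (genericPoint Z))).obj G) := hbij.2.subsingleton
    haveI : Subsingleton (G.presheaf.stalk (i (genericPoint Z))) := h5
    haveI : Subsingleton (IsLocalRing.ResidueField (X.presheaf.stalk (i (genericPoint Z)))) :=
      e.symm.injective.subsingleton
    exact not_subsingleton (IsLocalRing.ResidueField (X.presheaf.stalk (i (genericPoint Z))))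
      inferInstance
  have hcb : i (genericPoint Z) ∉ CohB1.support (cokernel b) :=
    notMem_support_cokernel_of_mono_pushO i b hNξ
  have hca : i (genericPoint Z) ∉ CohB1.support (cokernel a) :=
    notMem_support_cokernel_of_mono_pushO i a hN'ξ
  have h1 := (P_inf_iff Z₀ hZ₀ _ hξ P hP h0 h₁ h₂ hfilt hO hOs a b hN'c hNc hcb).mp hPN'
  have h2 : P (kernel (b ≫ cokernel.π a)) := hP _ _ ⟨kernelInfIso a b⟩ h1
  exact (P_inf_iff Z₀ hZ₀ _ hξ P hP h0 h₁ h₂ hfilt hO hOs b a hNc hN'c hca).mpr h2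

end TwoOfThree

theorem shortExact_zero_id {X : Scheme.{u}} {M G : X.Modules} (hM : IsZero M) :
    (ShortComplex.mk (0 : M ⟶ G) (𝟙 G) zero_comp).ShortExact :=
  { exact := (ShortComplex.exact_iff_mono _ rfl).mpr (inferInstance : Mono (𝟙 G))
    mono_f := ⟨fun g h _ => hM.eq_of_tgt g h⟩
    epi_g := (inferInstance : Epi (𝟙 G)) }

/-- Stacks 01YI, assuming the filtration lemma 01YF. -/
theorem two_of_three_irreducible (X : Scheme.{u}) [IsNoetherian X]
    (Z₀ : Set X) (hZ₀ : IsClosed Z₀) (ξ : X) (hξ : closure {ξ} = Z₀)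
    (P : X.Modules → Prop) (hP : ∀ M N : X.Modules, Nonempty (M ≅ N) → P M → P N)
    (h₁ : ∀ S : ShortComplex X.Modules, S.ShortExact → Coh.IsCoh S.X₁ → Coh.IsCoh S.X₂ →
      Coh.IsCoh S.X₃ → CohB1.support S.X₂ ⊆ Z₀ →
      (P S.X₁ → P S.X₂ → P S.X₃) ∧ (P S.X₁ → P S.X₃ → P S.X₂) ∧ (P S.X₂ → P S.X₃ → P S.X₁))
    (h₂ : ∀ (Z : Scheme.{u}) (i : Z ⟶ X), IsClosedImmersion i → IsIntegral Z →
      Set.range ⇑i ⊆ Z₀ → Set.range ⇑i ≠ Z₀ →
      ∀ (I : Z.Modules) (ι : I ⟶ Coh.structureModule Z), Mono ι → Coh.IsQCoh I →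
        P ((Coh.push i).obj I))
    (h₃ : ∃ G : X.Modules, Coh.IsCoh G ∧ CohB1.support G = Z₀ ∧
      Nonempty (↑(G.presheaf.stalk ξ) ≃ₗ[X.presheaf.stalk ξ]
        IsLocalRing.ResidueField (X.presheaf.stalk ξ)) ∧ P G)
    (hfilt : ∀ M : X.Modules, Coh.IsCoh M → HasIdealFiltration M)
    (M : X.Modules) (hM : Coh.IsCoh M) (hsupp : CohB1.support M ⊆ Z₀) : P M := by
  obtain ⟨G, hG, hGs, ⟨e⟩, hPG⟩ := h₃
  have h0 : ∀ M' : X.Modules, IsZero M' → P M' := fun M' hM' =>
    (h₁ _ (shortExact_zero_id (G := G) hM') (isCoh_of_isZero hM') hG hG hGs.le).2.2 hPG hPG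
  refine filt_ind P hP h0 Z₀ ?_ ?_ M (hfilt M hM) hsupp
  · intro S hS c1 c2 c3 hsub p1 p3
    exact (h₁ S hS c1 c2 c3 hsub).2.1 p1 p3
  · intro Z i _ _ I ι hι hIq hIz hmem
    by_cases hrange : Set.range i = Z₀
    · haveI := hι
      haveI : Mono ((Scheme.Modules.pushforward i).map ι) := inferInstance
      haveI : I.IsQuasicoherent := hIq
      exact P_sub_pushO Z₀ hZ₀ ξ hξ P hP h0 h₁ h₂ hfilt Z i hrange G hG hGs e hPG
        ((Scheme.Modules.pushforward i).map ι)
        (Groth.Agent.H8.isQuasicoherent_pushforward_of_isAffineHom i I)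
    · exact h₂ Z i inferInstance inferInstance (range_subset_of_gen_mem i hZ₀ hmem) hrange
        I ι hι hIq

theorem isCoh_push_of_mono [IsNoetherian X] {Z : Scheme.{u}} (i : Z ⟶ X) [IsClosedImmersion i]
    {I : Z.Modules} (ι : I ⟶ Coh.structureModule Z) [Mono ι] (hI : Coh.IsQCoh I) :
    Coh.IsCoh ((Coh.push i).obj I) := by
  haveI : I.IsQuasicoherent := hI
  haveI hq : ((Scheme.Modules.pushforward i).obj I).IsQuasicoherent :=
    Groth.Agent.H8.isQuasicoherent_pushforward_of_isAffineHom i I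
  haveI : Mono ((Scheme.Modules.pushforward i).map ι) := inferInstance
  exact ⟨hq, Groth.Agent.H71.QCoh.isFiniteType_of_mono ((Scheme.Modules.pushforward i).map ι)⟩

/-- there is an integral closed subscheme through any point -/
theorem exists_integral_closed (x : X) :
    ∃ (Z : Scheme.{u}) (i : Z ⟶ X), IsClosedImmersion i ∧ IsIntegral Z := by
  let T : Closeds X := ⟨closure {x}, isClosed_closure⟩
  have hT : IsIrreducible (T : Set X) := isIrreducible_singleton.closure
  exact ⟨_, (Scheme.IdealSheafData.vanishingIdeal T).subschemeι, inferInstance,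
    Groth.Agent.H22.CompLift.isIntegral_subscheme_vanishingIdeal T hT⟩

/-- Stacks 01YL, assuming the filtration lemma 01YF. -/
theorem two_of_three (X : Scheme.{u}) [IsNoetherian X] [Nonempty X]
    (P : X.Modules → Prop) (hP : ∀ M N : X.Modules, Nonempty (M ≅ N) → P M → P N)
    (h₁ : ∀ S : ShortComplex X.Modules, S.ShortExact → Coh.IsCoh S.X₁ → Coh.IsCoh S.X₂ →
      Coh.IsCoh S.X₃ →
      (P S.X₁ → P S.X₂ → P S.X₃) ∧ (P S.X₁ → P S.X₃ → P S.X₂) ∧ (P S.X₂ → P S.X₃ → P S.X₁))
    (h₂ : ∀ (Z : Scheme.{u}) (i : Z ⟶ X) [IsClosedImmersion i] [IsIntegral Z],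
      ∃ G : X.Modules, Coh.IsCoh G ∧ CohB1.support G = Set.range ⇑i ∧
        Nonempty (↑(G.presheaf.stalk (i (genericPoint Z))) ≃ₗ[X.presheaf.stalk (i (genericPoint Z))]
          IsLocalRing.ResidueField (X.presheaf.stalk (i (genericPoint Z)))) ∧ P G)
    (hfilt : ∀ M : X.Modules, Coh.IsCoh M → HasIdealFiltration M)
    (M : X.Modules) (hM : Coh.IsCoh M) : P M := by
  -- zero modules
  have h0 : ∀ M' : X.Modules, IsZero M' → P M' := by
    intro M' hM'
    obtain ⟨Z, i, hi, hZ⟩ := exists_integral_closed (Classical.arbitrary X)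
    obtain ⟨G, hG, -, -, hPG⟩ := h₂ Z i
    exact (h₁ _ (shortExact_zero_id (G := G) hM') (isCoh_of_isZero hM') hG hG).2.2 hPG hPG
  -- Noetherian induction on the closed set containing the support
  have key : ∀ T : Closeds X, ∀ M : X.Modules, Coh.IsCoh M → CohB1.support M ⊆ (T : Set X) →
      P M := by
    intro T
    induction T using WellFoundedLT.induction with
    | ind T ih =>
      intro M hM hsupp
      refine filt_ind P hP h0 (T : Set X) ?_ ?_ M (hfilt M hM) hsupp
      · intro S hS c1 c2 c3 _ p1 p3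
        exact (h₁ S hS c1 c2 c3).2.1 p1 p3
      · intro Z i _ _ I ι hι hIq hIz hmem
        haveI := hι
        have hcl : IsClosed (Set.range i) := i.isClosedEmbedding.isClosed_range
        have hsub : Set.range i ⊆ (T : Set X) := range_subset_of_gen_mem i T.isClosed hmem
        refine two_of_three_irreducible X (Set.range i) hcl (i (genericPoint Z))
          (closure_singleton_gen i) P hP (fun S hS c1 c2 c3 _ => h₁ S hS c1 c2 c3) ?_
          (h₂ Z i) hfilt _ (isCoh_push_of_mono i ι hIq)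
          (Groth.Agent.H71.QCoh.support_subset_range_of_iso_pushforward i _ _ (Iso.refl _))
        intro Z' i' hi' hZ' hsub' hne' I' ι' hι' hI'q
        haveI := hi'
        haveI := hZ'
        haveI := hι'
        let T' : Closeds X := ⟨Set.range i', i'.isClosedEmbedding.isClosed_range⟩
        have hlt : T' < T := by
          refine lt_of_le_of_ne (fun y hy => hsub (hsub' hy)) ?_
          intro heq
          apply hne'
          refine Set.Subset.antisymm hsub' ?_
          have h1 : (T : Set X) = Set.range i' := congrArg (fun C : Closeds X => (C : Set X)) heq.symm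
          rw [← h1]
          exact hsub
        exact ih T' hlt _ (isCoh_push_of_mono i' ι' hI'q)
          (Groth.Agent.H71.QCoh.support_subset_range_of_iso_pushforward i' _ _ (Iso.refl _))
  exact key ⊤ M hM (Set.subset_univ _)

end Groth.Agent.H67.Dev
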