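import Groth.Agent.H67.CurveSec1
import Groth.Agent.H67.DevExt
import Groth.Agent.H67.DevTwo

/-!
# A nonzero section of an invertible module on an integral scheme is injective; its cokernel
is supported off the generating locus
-/

set_option autoImplicit false
set_option linter.style.haveILetI false
set_option linter.unusedSectionVars false
set_option linter.unusedVariables false
universe u
open CategoryTheory CategoryTheory.Limits AlgebraicGeometry Opposite TopologicalSpace

namespace Groth.Agent.H67.CurveSec

open Scheme.Modules Groth.Agent.H67.GenLocusAffine Groth.Agent.H67.ParaExt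
open Groth.Agent.H5.Stalk (stalkFunctor)

variable {X : Scheme.{u}} (L : X.Modules) (s : Coh.structureModule X ⟶ L)

/-- `s` is bijective on sections over opens inside the generating locus -/
theorem bijective_app_of_le_genLocus (W : X.Opens) (hW : W ≤ CohB1.genLocus L s) :
    Function.Bijective (s.app W) :=
  (isIso_restrict_iff s _).1 (isIso_restrict_genLocus L s) W hW

theorem app_eq_zero_imp [IsIntegral X] (hL : PicF.IsInvertible L) (hs : s ≠ 0) (U : X.Opens)
    (c : Γ(Coh.structureModule X, U)) (hc : s.app U c = 0) : c = 0 := by
  by_cases hU : U = ⊥
  · subst hU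
    haveI := Groth.Agent.H5.Stalk.subsingleton_sections_bot (Coh.structureModule X)
    exact Subsingleton.elim _ _
  · have hG := genLocus_ne_bot L s hL hs
    have hUne : (U : Set X).Nonempty := by
      rw [← Opens.not_nonempty_iff_eq_bot, not_not] at hU
      exact hU
    have hGne : ((CohB1.genLocus L s : X.Opens) : Set X).Nonempty := by
      rw [Ne, ← Opens.not_nonempty_iff_eq_bot, not_not] at hG
      exact hG
    have hUG : ((U ⊓ CohB1.genLocus L s : X.Opens) : Set X).Nonempty :=
      nonempty_preirreducible_inter U.isOpen (CohB1.genLocus L s).isOpen hUne hGne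
    have hnat := s.mapPresheaf.naturality
      (homOfLE (inf_le_left : U ⊓ CohB1.genLocus L s ≤ U)).op
    have h1 := ConcreteCategory.congr_hom hnat c
    simp only [ConcreteCategory.comp_apply] at h1
    have h2 : s.app (U ⊓ CohB1.genLocus L s)
        ((Coh.structureModule X).presheaf.map
          (homOfLE (inf_le_left : U ⊓ CohB1.genLocus L s ≤ U)).op c) = 0 := by
      refine h1.trans ?_
      change L.presheaf.map _ (s.app U c) = 0
      rw [hc, map_zero]
    have h3 : (Coh.structureModule X).presheaf.map
          (homOfLE (inf_le_left : U ⊓ CohB1.genLocus L s ≤ U)).op c = 0 := by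
      apply (bijective_app_of_le_genLocus L s _ inf_le_right).1
      exact h2.trans (map_zero _).symm
    haveI : Nonempty (U ⊓ CohB1.genLocus L s : X.Opens) := hUG.to_subtype
    have hinj := map_injective_of_isIntegral X
      (homOfLE (inf_le_left : U ⊓ CohB1.genLocus L s ≤ U))
    apply hinj
    exact h3.trans (map_zero _).symm

/-- a nonzero section of an invertible module on an integral scheme is a monomorphism -/
theorem mono_of_ne_zero [IsIntegral X] (hL : PicF.IsInvertible L) (hs : s ≠ 0) : Mono s := by
  rw [Groth.Agent.H92.LocFreeRank.mono_iff_app_injective]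
  intro U a b hab
  have h0 : s.app U (a - b) = 0 := by rw [map_sub, hab, sub_self]
  exact sub_eq_zero.1 (app_eq_zero_imp L s hL hs U (a - b) h0)

/-- the cokernel of `s` has no support on the generating locus -/
theorem notMem_support_cokernel_of_mem_genLocus (x : X) (hx : x ∈ CohB1.genLocus L s) :
    x ∉ CohB1.support (cokernel s) := by
  haveI := isIso_restrict_genLocus L s
  exact Groth.Agent.H67.Dev.notMem_support_cokernel_of_surjective s x
    (Groth.Agent.H67.Dev.stalk_bijective_of_isIso_restrict s _ hx).2

/-- if the cokernel of a monomorphism `s` vanishes, `s` is an isomorphism -/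
theorem isIso_of_isZero_cokernel [Mono s] (h : IsZero (cokernel s)) : IsIso s := by
  haveI : Epi s := by
    rw [Preadditive.epi_iff_cancel_zero]
    intro P g hg
    have : g = cokernel.π s ≫ cokernel.desc s g hg := (cokernel.π_desc s g hg).symm
    rw [this, h.eq_of_src (cokernel.desc s g hg) 0, comp_zero]
  exact isIso_of_mono_of_epi s

end Groth.Agent.H67.CurveSec
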