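import Mathlib

/-!
# Sheaves supported on a closed discrete set: every germ extends to a global section
-/

set_option autoImplicit false
set_option linter.style.haveILetI false
set_option linter.unusedSectionVars false
set_option linter.unusedVariables false
universe u
open CategoryTheory CategoryTheory.Limits Opposite TopologicalSpace

namespace Groth.Agent.H67.SkyGlue

variable {X : TopCat.{u}} (F : TopCat.Sheaf Ab.{u} X)

/-- a section all of whose germs lie in subsingleton stalks vanishes -/
theorem section_eq_zero_of_stalks (O : Opens X) (a : F.1.obj (op O))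
    (h : ∀ y : X, y ∈ O → Subsingleton (F.presheaf.stalk y)) : a = 0 := by
  refine TopCat.Presheaf.section_ext F O a 0 (fun y hy => ?_)
  haveI := h y hy
  exact Subsingleton.elim _ _

/-- if `F` is supported on a closed discrete subset `Z`, every germ of `F` at a point of `Z` is the
germ of a global section -/
theorem exists_section_of_germ (Z : Set X) (hZ : IsClosed Z) [DiscreteTopology Z]
    (hF : ∀ y : X, y ∉ Z → Subsingleton (F.presheaf.stalk y)) (x : X) (hx : x ∈ Z)
    (g : F.presheaf.stalk x) :
    ∃ σ : F.1.obj (op ⊤), F.presheaf.germ ⊤ x trivial σ = g := by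
  obtain ⟨W, hxW, t, ht⟩ := F.presheaf.exists_germ_eq g
  have hop : IsOpen ({⟨x, hx⟩} : Set Z) := isOpen_discrete _
  obtain ⟨U, hUo, hU⟩ := isOpen_induced_iff.1 hop
  have hxU : x ∈ U := by
    have : (⟨x, hx⟩ : Z) ∈ Subtype.val ⁻¹' U := by rw [hU]; rfl
    exact this
  have hUZ : ∀ y : X, y ∈ U → y ∈ Z → y = x := by
    intro y hyU hyZ
    have : (⟨y, hyZ⟩ : Z) ∈ Subtype.val ⁻¹' U := hyU
    rw [hU] at this
    exact congrArg Subtype.val this
  have hxc : IsClosed ({x} : Set X) := by
    have h1 : IsClosed ((Subtype.val : Z → X) '' {⟨x, hx⟩}) :=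
      hZ.isClosedEmbedding_subtypeVal.isClosedMap _ (isClosed_discrete _)
    rwa [Set.image_singleton] at h1
  let W' : Opens X := W ⊓ ⟨U, hUo⟩
  let V : Opens X := ⟨{x}ᶜ, hxc.isOpen_compl⟩
  let t' : F.1.obj (op W') := F.1.map (homOfLE (inf_le_left : W' ≤ W)).op t
  have hxW' : x ∈ W' := ⟨hxW, hxU⟩
  have ht' : F.presheaf.germ W' x hxW' t' = g := by
    rw [← ht]
    exact TopCat.Presheaf.germ_res_apply F.presheaf (homOfLE (inf_le_left : W' ≤ W)) x hxW' t
  have hzero : ∀ (O : Opens X) (hO : O ≤ W') (hOV : O ≤ V), F.1.map (homOfLE hO).op t' = 0 := by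
    intro O hO hOV
    refine section_eq_zero_of_stalks F O _ (fun y hy => hF y (fun hyZ => ?_))
    have h1 : y = x := hUZ y (hO hy).2 hyZ
    exact (hOV hy) h1
  let Uc : Bool → Opens X := fun b => cond b W' V
  let sf : ∀ b : Bool, F.1.obj (op (Uc b)) := fun b =>
    match b with
    | true => t'
    | false => 0
  have hcompat : TopCat.Presheaf.IsCompatible F.1 Uc sf := by
    intro i j
    cases i <;> cases j
    · rfl
    · change F.1.map (Opens.infLELeft V W').op (0 : F.1.obj (op V)) =
        F.1.map (Opens.infLERight V W').op t'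
      rw [map_zero]
      exact (hzero (V ⊓ W') inf_le_right inf_le_left).symm
    · change F.1.map (Opens.infLELeft W' V).op t' =
        F.1.map (Opens.infLERight W' V).op (0 : F.1.obj (op V))
      rw [map_zero]
      exact hzero (W' ⊓ V) inf_le_left inf_le_right
    · rfl
  have hcover : (⊤ : Opens X) ≤ iSup Uc := by
    intro y _
    by_cases hy : y = x
    · exact Opens.mem_iSup.2 ⟨true, hy ▸ hxW'⟩
    · exact Opens.mem_iSup.2 ⟨false, hy⟩
  obtain ⟨σ, hσ, -⟩ := F.existsUnique_gluing' Uc ⊤ (fun b => homOfLE le_top) hcover sf hcompat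
  refine ⟨σ, ?_⟩
  rw [← ht']
  have h1 : F.1.map (homOfLE (le_top : W' ≤ ⊤)).op σ = t' := hσ true
  rw [← h1]
  exact (TopCat.Presheaf.germ_res_apply F.presheaf (homOfLE (le_top : W' ≤ ⊤)) x hxW' σ).symm

/-- a sheaf supported on a closed discrete set with no nonzero global sections has zero stalks -/
theorem subsingleton_stalk_of_subsingleton_sections (Z : Set X) (hZ : IsClosed Z)
    [DiscreteTopology Z] (hF : ∀ y : X, y ∉ Z → Subsingleton (F.presheaf.stalk y))
    (hΓ : Subsingleton (F.1.obj (op ⊤))) (x : X) : Subsingleton (F.presheaf.stalk x) := by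
  by_cases hx : x ∈ Z
  · refine ⟨fun a b => ?_⟩
    obtain ⟨σ, rfl⟩ := exists_section_of_germ F Z hZ hF x hx a
    obtain ⟨τ, rfl⟩ := exists_section_of_germ F Z hZ hF x hx b
    rw [Subsingleton.elim σ τ]
  · exact hF x hx

end Groth.Agent.H67.SkyGlue
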