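import Groth.Agent.H67.FinGeo

/-!
# (P4) of the S0002 chain, local part

For `π : Z' ⟶ Y` proper, `g : Y ⟶ Spec A`, `j : Z' ⟶ P^N_A` a closed immersion over `Spec A`
and `V ⊆ Y` an affine open with `B = Γ(Y, V)`: a closed immersion `jV : π⁻¹V ⟶ P^N_B` over
`V ≅ Spec B`, with `(j^* O(m))|_{π⁻¹V} ≅ jV^* O(m)`.
-/

set_option autoImplicit false
set_option linter.unusedSectionVars false
set_option linter.unusedVariables false
set_option linter.style.haveILetI false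

namespace Groth.Agent.H67.Fin

universe u

open AlgebraicGeometry CategoryTheory Limits TopologicalSpace
open Groth.Agent.H97.ProjChart

variable (A : Type u) [CommRing A] {Y Z' : Scheme.{u}} (g : Y ⟶ Spec (CommRingCat.of A))
  (π : Z' ⟶ Y) [IsProper π] (N : ℕ) (j : Z' ⟶ CohB1.ProjSpace N A) [Mono j]
  (hj : j ≫ CohB1.ProjSpace.toSpec N A = π ≫ g)

include hj in
/-- (GEO, local part) -/
theorem exists_local_data (V : Y.Opens) (hV : IsAffineOpen V) :
    ∃ jV : ((π ⁻¹ᵁ V : Z'.Opens) : Scheme.{u}) ⟶ CohB1.ProjSpace N Γ(Y, V),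
      IsClosedImmersion jV ∧
      jV ≫ CohB1.ProjSpace.toSpec N Γ(Y, V) = (π ∣_ V) ≫ hV.isoSpec.hom ∧
      ∀ m : ℕ, Nonempty
        ((Scheme.Modules.pullback (π ⁻¹ᵁ V).ι).obj
            ((Scheme.Modules.pullback j).obj (Twist.twistProjSpace N A (m : ℤ))) ≅
          (Scheme.Modules.pullback jV).obj (Twist.twistProjSpace N Γ(Y, V) (m : ℤ))) := by
  let φ : CommRingCat.of A ⟶ Γ(Y, V) := Spec.preimage (hV.fromSpec ≫ g)
  have hφ : Spec.map φ = hV.fromSpec ≫ g := Spec.map_preimage _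
  letI : Algebra A Γ(Y, V) := φ.hom.toAlgebra
  have halg : CommRingCat.ofHom (algebraMap A Γ(Y, V)) = φ := rfl
  have hP := isPullback_projMap A Γ(Y, V) N
  rw [halg] at hP
  have hcond : ((π ⁻¹ᵁ V).ι ≫ j) ≫ CohB1.ProjSpace.toSpec N A =
      ((π ∣_ V) ≫ hV.isoSpec.hom) ≫ Spec.map φ := by
    rw [Category.assoc, hj, hφ, Category.assoc, ← Category.assoc hV.isoSpec.hom,
      hV.isoSpec_hom_fromSpec, ← Category.assoc, ← Category.assoc, morphismRestrict_ι]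
  let jV : ((π ⁻¹ᵁ V : Z'.Opens) : Scheme.{u}) ⟶ CohB1.ProjSpace N Γ(Y, V) :=
    hP.lift _ _ hcond
  have h1 : jV ≫ projMap A Γ(Y, V) N = (π ⁻¹ᵁ V).ι ≫ j := hP.lift_fst _ _ hcond
  have h2 : jV ≫ CohB1.ProjSpace.toSpec N Γ(Y, V) = (π ∣_ V) ≫ hV.isoSpec.hom :=
    hP.lift_snd _ _ hcond
  haveI : Mono jV := by
    haveI : Mono (jV ≫ projMap A Γ(Y, V) N) := by rw [h1]; infer_instance
    exact mono_of_mono jV (projMap A Γ(Y, V) N)
  haveI : IsProper (CohB1.ProjSpace.toSpec N Γ(Y, V)) :=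
    Groth.Agent.H97.ProjProper.isProper_toSpec _ N
  have hprop : IsProper (jV ≫ CohB1.ProjSpace.toSpec N Γ(Y, V)) := by
    rw [h2]; infer_instance
  refine ⟨jV, isClosedImmersion_of_isProper_comp jV _ hprop, h2, fun m => ?_⟩
  obtain ⟨e⟩ := nonempty_pullback_projMap_twist_iso A Γ(Y, V) N m
  exact ⟨(Scheme.Modules.pullbackComp (π ⁻¹ᵁ V).ι j).app _ ≪≫
    (Scheme.Modules.pullbackCongr h1.symm).app _ ≪≫
    ((Scheme.Modules.pullbackComp jV (projMap A Γ(Y, V) N)).app _).symm ≪≫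
    (Scheme.Modules.pullback jV).mapIso e⟩

end Groth.Agent.H67.Fin
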