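import Groth.Agent.H67.CurveSec2
import Groth.Agent.H67.SkyGlue
import Groth.Agent.H86.GV.Main
import Groth.Agent.H38.EulerAdd
import Groth.Agent.H18.HH0Sections
import Groth.Agent.H29.TopDim2
import Groth.Agent.S0002
import Groth.Agent.S0820
import Groth.Agent.H71.QCoh.SupportProper
import Groth.Agent.Lead.Coh.ProperAsm

/-!
# The degree of an invertible module with a nonzero section on a proper integral curve
-/

set_option autoImplicit false
set_option linter.style.haveILetI false
set_option linter.unusedSectionVars false
set_option linter.unusedVariables false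
universe u
open CategoryTheory CategoryTheory.Limits AlgebraicGeometry Opposite TopologicalSpace

namespace Groth.Agent.H67.CurveSec

open Scheme.Modules Groth.Agent.H67.GenLocusAffine Groth.Agent.H67.ParaExt
open Groth.Agent.H5.Stalk (stalkFunctor)

theorem le_zero_of_lt_one (d : WithBot ℕ∞) (h : d < 1) : d ≤ 0 := by
  induction d using WithBot.recBotCoe with
  | bot => exact bot_le
  | coe n =>
    have h1 : n < 1 := by exact_mod_cast h
    have h2 : n = 0 := ENat.lt_one_iff_eq_zero.mp h1
    rw [h2]; rfl

section Supp

variable {X : Scheme.{u}} [IsNoetherian X] (Q : X.Modules) (hQ : Coh.IsCoh Q)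

include hQ

theorem isClosed_support_of_isCoh : IsClosed (CohB1.support Q) :=
  @Groth.Agent.H71.QCoh.isClosed_support X Q hQ.1 hQ.2

/-- a coherent module supported in dimension `≤ 0` has no higher cohomology -/
theorem HH_subsingleton_of_dim_support
    (hd : topologicalKrullDim (CohB1.support Q) < (1 : WithBot ℕ∞)) (q : ℕ) (hq : 1 ≤ q) :
    Subsingleton (Coh.HH X Q q) := by
  have hT := isClosed_support_of_isCoh Q hQ
  have hq' : topologicalKrullDim (CohB1.support Q) < (q : WithBot ℕ∞) :=
    lt_of_lt_of_le hd (by exact_mod_cast hq)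
  haveI hN : NoetherianSpace (CohB1.support Q) := NoetherianSpace.set _
  refine Groth.Agent.H86.GV.H_subsingleton_of_supp (Y := X.toTopCat) (CohB1.support Q) hT
    (@Groth.Agent.H86.GV.grothendieck_vanishing (TopCat.of (CohB1.support Q)) hN)
    (Coh.toAb Q) (fun x hx => ?_) q hq'
  have hsub : Subsingleton (Q.presheaf.stalk x) := not_not.mp hx
  have hsub' : Subsingleton (CohTop.stalk (X := X.toTopCat) (Coh.toAb Q) x) := hsub
  exact @AddCommGrpCat.isZero_of_subsingleton _ hsub'

/-- a coherent module supported in dimension `≤ 0` without global sections is zero -/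
theorem isZero_of_dim_support
    (hd : topologicalKrullDim (CohB1.support Q) < (1 : WithBot ℕ∞))
    (hΓ : Subsingleton (Q.val.obj (op (⊤ : X.Opens)))) : IsZero Q := by
  have hT := isClosed_support_of_isCoh Q hQ
  have hd0 : topologicalKrullDim (CohB1.support Q) ≤ 0 := le_zero_of_lt_one _ hd
  obtain ⟨hfin, hdisc⟩ := Groth.Agent.H29.finite_discrete_of_dim_zero hd0
  refine Groth.Agent.H5.Stalk.isZero_of_isZero_stalks Q (fun x => ?_)
  have h1 : Subsingleton (Q.presheaf.stalk x) :=
    Groth.Agent.H67.SkyGlue.subsingleton_stalk_of_subsingleton_sections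
      (X := X.toTopCat) (⟨Q.presheaf, Q.isSheaf⟩ : TopCat.Sheaf Ab X) (CohB1.support Q) hT
      (fun y hy => not_not.mp hy) hΓ x
  haveI : Subsingleton ((stalkFunctor x).obj Q) := h1
  exact ModuleCat.isZero_of_subsingleton _

end Supp

end Groth.Agent.H67.CurveSec
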