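import Groth.Agent.H67.CurveSec3

/-!
# The degree of an invertible module with a nonzero section on a proper integral curve: main
statements
-/

set_option autoImplicit false
set_option linter.style.haveILetI false
set_option linter.unusedSectionVars false
set_option linter.unusedVariables false
universe u
open CategoryTheory CategoryTheory.Limits AlgebraicGeometry Opposite TopologicalSpace

namespace Groth.Agent.H67.CurveSec

open Scheme.Modules Groth.Agent.H67.GenLocusAffine Groth.Agent.H67.ParaExt
open Groth.Agent.H5.Stalk (stalkFunctor)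

theorem isNoetherian_of_proper (k : Type u) [Field k] (X : Scheme.{u})
    [X.Over (Spec (CommRingCat.of k))] [IsProper (X ↘ (Spec (CommRingCat.of k)))] :
    IsNoetherian X := by
  haveI : IsLocallyNoetherian X :=
    LocallyOfFiniteType.isLocallyNoetherian (X ↘ Spec (CommRingCat.of k))
  haveI : CompactSpace X :=
    QuasiCompact.compactSpace_of_compactSpace (X ↘ Spec (CommRingCat.of k))
  exact {}

variable (k : Type u) [Field k] (X : Scheme.{u}) [X.Over (Spec (CommRingCat.of k))]
    [IsIntegral X] [IsProper (X ↘ (Spec (CommRingCat.of k)))]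
    (L : X.Modules) (s : Coh.structureModule X ⟶ L)

include k in
theorem isCoh_cokernel_sec (hL : PicF.IsInvertible L) : Coh.IsCoh (cokernel s) := by
  haveI := isNoetherian_of_proper k X
  exact Groth.Agent.H67.Dev.isCoh_cokernel s (Groth.Agent.S0820.isCoh_structureModule X)
    (Groth.Agent.Lead.ProperAsm.isCoh_of_isInvertible hL)

include k in
/-- the support of the cokernel of a nonzero section has dimension `≤ 0` on a curve -/
theorem dim_support_cokernel_lt (hdim : topologicalKrullDim X = 1)
    (hL : PicF.IsInvertible L) (hs : s ≠ 0) :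
    topologicalKrullDim (CohB1.support (cokernel s)) < (1 : WithBot ℕ∞) := by
  haveI := isNoetherian_of_proper k X
  have hQ := isCoh_cokernel_sec k X L s hL
  have hT := isClosed_support_of_isCoh _ hQ
  have hG := genLocus_ne_bot L s hL hs
  have hGne : ((CohB1.genLocus L s : X.Opens) : Set X).Nonempty := by
    rw [Ne, ← Opens.not_nonempty_iff_eq_bot, not_not] at hG
    exact hG
  obtain ⟨y, hy⟩ := hGne
  have hne : CohB1.support (cokernel s) ≠ Set.univ := by
    intro h
    exact notMem_support_cokernel_of_mem_genLocus L s y hy (h ▸ Set.mem_univ y)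
  have h2 : topologicalKrullDim X < (((1 : ℕ) + 1 : ℕ) : WithBot ℕ∞) := by
    rw [hdim]
    exact_mod_cast (by norm_num : (1 : ℕ) < 1 + 1)
  have := Groth.Agent.H86.GV.dim_lt_of_proper_closed (Y := X) _ hT hne 1 h2
  exact_mod_cast this

/-- `deg L = dim_k H^0(X, coker s)` -/
theorem deg_eq_finrank (hdim : topologicalKrullDim X = 1)
    (hL : PicF.IsInvertible L) (hs : s ≠ 0) :
    Curv2.deg k X L 1 = (Module.finrank k (Coh.HH X (cokernel s) 0) : ℤ) := by
  haveI := isNoetherian_of_proper k X
  haveI := mono_of_ne_zero L s hL hs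
  have hO := Groth.Agent.S0820.isCoh_structureModule X
  have hLc := Groth.Agent.Lead.ProperAsm.isCoh_of_isInvertible hL
  have hQ := isCoh_cokernel_sec k X L s hL
  have hSE := Groth.Agent.H67.Dev.shortExact_cokernel s
  have hadd := Groth.Agent.H38.EulerAdd.euler_additive_of_finite_qcqs k X _ hSE hO.1 hLc.1 hQ.1
    (fun n => Groth.Agent.S0002.result k X _ hO n)
    (fun n => Groth.Agent.S0002.result k X _ hLc n)
    (fun n => Groth.Agent.S0002.result k X _ hQ n)
  have hd := dim_support_cokernel_lt k X L s hdim hL hs
  have hv : ∀ n, 0 < n → Subsingleton (Coh.HH X (cokernel s) n) :=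
    fun n hn => HH_subsingleton_of_dim_support _ hQ hd n hn
  have hQe := Groth.Agent.H38.EulerAdd.euler_eq_sum k X (cokernel s) 0 hv
  unfold Curv2.deg
  change Curv2.euler k X L = _ at hadd
  rw [hadd, hQe]
  simp

/-- if the degree is `≤ 0`, the section is an isomorphism -/
theorem isIso_of_deg_le_zero (hdim : topologicalKrullDim X = 1)
    (hL : PicF.IsInvertible L) (hs : s ≠ 0) (hdeg : Curv2.deg k X L 1 ≤ 0) : IsIso s := by
  haveI := isNoetherian_of_proper k X
  haveI := mono_of_ne_zero L s hL hs
  have hQ := isCoh_cokernel_sec k X L s hL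
  have hd := dim_support_cokernel_lt k X L s hdim hL hs
  rw [deg_eq_finrank k X L s hdim hL hs] at hdeg
  have h0 : Module.finrank k (Coh.HH X (cokernel s) 0) = 0 := by omega
  haveI : Module.Finite k (Coh.HH X (cokernel s) 0) := Groth.Agent.S0002.result k X _ hQ 0
  have hsub : Subsingleton (Coh.HH X (cokernel s) 0) := Module.finrank_zero_iff.mp h0
  have hΓ : Subsingleton ((cokernel s).val.obj (op (⊤ : X.Opens))) :=
    (Groth.Agent.H18.HH0.equiv (cokernel s)).symm.toEquiv.subsingleton
  exact isIso_of_isZero_cokernel L s (isZero_of_dim_support _ hQ hd hΓ)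

theorem genLocus_eq_top_of_isIso [IsIso s] : CohB1.genLocus L s = ⊤ := by
  rw [eq_top_iff]
  refine le_sSup ?_
  change IsIso ((Scheme.Modules.restrictFunctor (⊤ : X.Opens).ι).map s)
  infer_instance

end Groth.Agent.H67.CurveSec
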