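import Groth.Agent.H67.CurveSec4
import Groth.Agent.H67.UnitHom

/-!
# Genus zero curves: cohomology of invertible modules of positive degree
-/

set_option autoImplicit false
set_option linter.style.haveILetI false
set_option linter.unusedSectionVars false
set_option linter.unusedVariables false
universe u
open CategoryTheory CategoryTheory.Limits AlgebraicGeometry Opposite TopologicalSpace

namespace Groth.Agent.H67.CurveSec

open Scheme.Modules Groth.Agent.H67.GenLocusAffine Groth.Agent.H67.ParaExt
open Groth.Agent.H5.Stalk (stalkFunctor)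
open Groth.Agent.Lead.FiniteLES

/-- a module with a nonzero `H^0` has a nonzero section -/
theorem exists_section_ne_zero {X : Scheme.{u}} (L : X.Modules)
    (h : Nontrivial (Coh.HH X L 0)) : ∃ s : Coh.structureModule X ⟶ L, s ≠ 0 := by
  obtain ⟨x, hx⟩ := exists_ne (0 : Coh.HH X L 0)
  let σ : Γ(L, (⊤ : X.Opens)) := Groth.Agent.H18.HH0.equiv L x
  have hσ : σ ≠ 0 := by
    intro h0
    apply hx
    have : Groth.Agent.H18.HH0.equiv L x = Groth.Agent.H18.HH0.equiv L 0 := by
      rw [map_zero]; exact h0
    exact (Groth.Agent.H18.HH0.equiv L).injective this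
  obtain ⟨s, hs⟩ := (Groth.Agent.H67.UnitHom.evalTop_bijective L).2 σ
  refine ⟨s, fun h0 => hσ ?_⟩
  rw [← hs, h0]
  change (0 : Coh.structureModule X ⟶ L).app ⊤ _ = 0
  rfl

/-- on a Noetherian scheme of dimension one, cohomology vanishes in degrees `≥ 2` -/
theorem HH_subsingleton_of_dim_one {X : Scheme.{u}} [IsNoetherian X]
    (hdim : topologicalKrullDim X = 1) (F : X.Modules) (q : ℕ) (hq : 2 ≤ q) :
    Subsingleton (Coh.HH X F q) := by
  have hN : NoetherianSpace X := inferInstance
  have hGV := @Groth.Agent.H86.GV.grothendieck_vanishing X.toTopCat hN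
  refine hGV (Coh.toAb F) q ?_
  change topologicalKrullDim X < _
  rw [hdim]
  exact_mod_cast (by omega : 1 < q)

variable (k : Type u) [Field k] (X : Scheme.{u}) [X.Over (Spec (CommRingCat.of k))]
    [IsIntegral X] [IsProper (X ↘ (Spec (CommRingCat.of k)))]

include k in
/-- `χ = h^0 - h^1` on a proper curve -/
theorem euler_eq_sub (hdim : topologicalKrullDim X = 1) (F : X.Modules) :
    Curv2.euler k X F =
      (Module.finrank k (Coh.HH X F 0) : ℤ) - (Module.finrank k (Coh.HH X F 1) : ℤ) := by
  haveI := isNoetherian_of_proper k X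
  have hv : ∀ n, 1 < n → Subsingleton (Coh.HH X F n) :=
    fun n hn => HH_subsingleton_of_dim_one hdim F n hn
  rw [Groth.Agent.H38.EulerAdd.euler_eq_sum k X F 1 hv]
  simp [Finset.sum_range_succ]
  ring

/-- genus zero: an invertible module of degree `d > 0` has `h^0 = d + 1` and `H^1 = 0` -/
theorem genus_zero_pos_deg (hdim : topologicalKrullDim X = 1)
    (h0 : Module.finrank k (Coh.HH X (Coh.structureModule X) 0) = 1) (hg : Curv2.genus k X = 0)
    (L : X.Modules) (hL : PicF.IsInvertible L) (d : ℕ) (hd : 0 < d)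
    (hdeg : Curv2.deg k X L 1 = d) :
    Module.finrank k (Coh.HH X L 0) = d + 1 ∧ Subsingleton (Coh.HH X L 1) := by
  haveI := isNoetherian_of_proper k X
  have hO := Groth.Agent.S0820.isCoh_structureModule X
  have hLc := Groth.Agent.Lead.ProperAsm.isCoh_of_isInvertible hL
  have heO := euler_eq_sub k X hdim (Coh.structureModule X)
  have heL := euler_eq_sub k X hdim L
  have hg' : Module.finrank k (Coh.HH X (Coh.structureModule X) 1) = 0 := hg
  have hdeg' : Curv2.euler k X L - 1 * Curv2.euler k X (Coh.structureModule X) = d := hdeg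
  rw [heO, h0, hg'] at hdeg'
  -- `h^0(L) > 0`
  have hpos : 0 < Module.finrank k (Coh.HH X L 0) := by
    have : (0 : ℤ) < (Module.finrank k (Coh.HH X L 0) : ℤ) := by
      rw [heL] at hdeg'
      have hd' : (0 : ℤ) < d := by exact_mod_cast hd
      push_cast at hdeg'
      linarith [Int.natCast_nonneg (Module.finrank k (Coh.HH X L 1))]
    exact_mod_cast this
  haveI : Nontrivial (Coh.HH X L 0) := Module.nontrivial_of_finrank_pos (R := k) hpos
  obtain ⟨s, hs⟩ := exists_section_ne_zero L inferInstance
  haveI := mono_of_ne_zero L s hL hs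
  have hQ := isCoh_cokernel_sec k X L s hL
  have hSE := Groth.Agent.H67.Dev.shortExact_cokernel s
  have hd1 := dim_support_cokernel_lt k X L s hdim hL hs
  have hQ1 : Subsingleton (Coh.HH X (cokernel s) 1) :=
    HH_subsingleton_of_dim_support _ hQ hd1 1 le_rfl
  haveI : Module.Finite k (Coh.HH X (Coh.structureModule X) 1) :=
    Groth.Agent.S0002.result k X _ hO 1
  have hO1 : Subsingleton (Coh.HH X (Coh.structureModule X) 1) := Module.finrank_zero_iff.mp hg'
  have hL1 : Subsingleton (Coh.HH X L 1) := by
    refine ⟨fun a b => ?_⟩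
    have key : ∀ x : Coh.HH X L 1, x = 0 := by
      intro x
      have hx : x ∈ LinearMap.ker (HHmap (ShortComplex.mk s (cokernel.π s)
          (cokernel.condition s)).g 1) := by
        rw [LinearMap.mem_ker]
        exact Subsingleton.elim _ _
      rw [ker_HHmap_g _ hSE 1] at hx
      obtain ⟨y, rfl⟩ := hx
      rw [Subsingleton.elim y 0, map_zero]
    rw [key a, key b]
  refine ⟨?_, hL1⟩
  have h1 : Module.finrank k (Coh.HH X L 1) = 0 := by
    haveI := hL1
    exact Module.finrank_zero_of_subsingleton
  rw [heL, h1] at hdeg'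
  push_cast at hdeg'
  have : (Module.finrank k (Coh.HH X L 0) : ℤ) = d + 1 := by linarith
  exact_mod_cast this

end Groth.Agent.H67.CurveSec
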