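import Groth.Agent.H67.CurveSec4
import Groth.Agent.H67.K0Tensor

/-!
# Additivity of the degree on short exact sequences of finite locally free modules
-/

set_option autoImplicit false
set_option linter.style.haveILetI false
set_option linter.unusedSectionVars false
set_option linter.unusedVariables false
universe u
open CategoryTheory CategoryTheory.Limits AlgebraicGeometry Opposite TopologicalSpace

namespace Groth.Agent.H67.DegAdd

open Groth.Agent.H5.Stalk (stalkFunctor)

theorem card_add_of_exact {R : Type u} [CommRing R] [Nontrivial R] {M N P : Type u}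
    [AddCommGroup M] [AddCommGroup N] [AddCommGroup P] [Module R M] [Module R N] [Module R P]
    (f : M →ₗ[R] N) (g : N →ₗ[R] P) (hf : Function.Injective f) (hg : Function.Surjective g)
    (hex : Function.Exact f g) {a b c : ℕ} (bM : Module.Basis (Fin a) R M)
    (bN : Module.Basis (Fin b) R N) (bP : Module.Basis (Fin c) R P) : b = a + c := by
  haveI := Module.Free.of_basis bM
  haveI := Module.Free.of_basis bP
  haveI := Module.Finite.of_basis bM
  haveI := Module.Finite.of_basis bP
  obtain ⟨l, hl⟩ := Module.projective_lifting_property g LinearMap.id hg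
  obtain ⟨e, -⟩ := hex.splitSurjectiveEquiv hf ⟨l, hl⟩
  have h1 : Module.finrank R N = Module.finrank R (M × P) := e.finrank_eq
  rw [Module.finrank_prod, Module.finrank_eq_card_basis bM, Module.finrank_eq_card_basis bN,
    Module.finrank_eq_card_basis bP] at h1
  simpa using h1

variable {X : Scheme.{u}}

/-- ranks are additive in short exact sequences of finite locally free modules on a nonempty
scheme -/
theorem rank_add_of_shortExact (S : ShortComplex X.Modules) (hS : S.ShortExact)
    (n₁ n₂ n₃ : ℕ) (h₁ : FlatMod.IsFinLocFreeOfRank n₁ S.X₁)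
    (h₂ : FlatMod.IsFinLocFreeOfRank n₂ S.X₂) (h₃ : FlatMod.IsFinLocFreeOfRank n₃ S.X₃) (x : X) :
    n₂ = n₁ + n₃ := by
  obtain ⟨b₁⟩ := Groth.Agent.H67.K0Tensor.nonempty_basis_stalk S.X₁ h₁ x
  obtain ⟨b₂⟩ := Groth.Agent.H67.K0Tensor.nonempty_basis_stalk S.X₂ h₂ x
  obtain ⟨b₃⟩ := Groth.Agent.H67.K0Tensor.nonempty_basis_stalk S.X₃ h₃ x
  have h := Groth.Agent.H5.Stalk.stalkFunctor_map_shortExact x _ hS
  have hinj : Function.Injective ((stalkFunctor x).map S.f).hom :=
    (ModuleCat.mono_iff_injective _).mp h.mono_f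
  have hsurj : Function.Surjective ((stalkFunctor x).map S.g).hom :=
    (ModuleCat.epi_iff_surjective _).mp h.epi_g
  have hex : Function.Exact ((stalkFunctor x).map S.f).hom ((stalkFunctor x).map S.g).hom :=
    (ShortComplex.ShortExact.moduleCat_exact_iff_function_exact _).mp h.exact
  exact card_add_of_exact _ _ hinj hsurj hex b₁ b₂ b₃

/-- on an empty scheme all Euler characteristics vanish -/
theorem euler_eq_zero_of_isEmpty (k : Type u) [Field k] (X : Scheme.{u})
    [X.Over (Spec (CommRingCat.of k))] [IsEmpty X] (F : X.Modules) : Curv2.euler k X F = 0 := by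
  unfold Curv2.euler
  refine finsum_eq_zero_of_forall_eq_zero (fun i => ?_)
  have hE : IsEmpty X.toTopCat := ‹IsEmpty X›
  haveI : Subsingleton (Coh.HH X F i) :=
    Sheaf.subsingleton_H_of_isZero
      (@Groth.Agent.H86.GV.isZero_of_isEmpty X.toTopCat hE (Coh.toAb F)) i
  rw [Module.finrank_zero_of_subsingleton]
  simp

theorem deg_add (k : Type u) [Field k] (X : Scheme.{u}) [X.Over (Spec (CommRingCat.of k))]
    [IsProper (X ↘ (Spec (CommRingCat.of k)))]
    (S : ShortComplex X.Modules) (hS : S.ShortExact)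
    (n₁ n₂ n₃ : ℕ) (h₁ : FlatMod.IsFinLocFreeOfRank n₁ S.X₁)
    (h₂ : FlatMod.IsFinLocFreeOfRank n₂ S.X₂) (h₃ : FlatMod.IsFinLocFreeOfRank n₃ S.X₃) :
    Curv2.deg k X S.X₂ n₂ = Curv2.deg k X S.X₁ n₁ + Curv2.deg k X S.X₃ n₃ := by
  haveI := Groth.Agent.H67.CurveSec.isNoetherian_of_proper k X
  unfold Curv2.deg
  by_cases hX : IsEmpty X
  · simp [euler_eq_zero_of_isEmpty k X]
  · rw [not_isEmpty_iff] at hX
    obtain ⟨x⟩ := hX
    have hn := rank_add_of_shortExact S hS n₁ n₂ n₃ h₁ h₂ h₃ x
    have c₁ := Groth.Agent.H67.K0Tensor.isCoh_of_rank S.X₁ h₁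
    have c₂ := Groth.Agent.H67.K0Tensor.isCoh_of_rank S.X₂ h₂
    have c₃ := Groth.Agent.H67.K0Tensor.isCoh_of_rank S.X₃ h₃
    have hadd := Groth.Agent.H38.EulerAdd.euler_additive_of_finite_qcqs k X S hS c₁.1 c₂.1 c₃.1
      (fun n => Groth.Agent.S0002.result k X _ c₁ n)
      (fun n => Groth.Agent.S0002.result k X _ c₂ n)
      (fun n => Groth.Agent.S0002.result k X _ c₃ n)
    rw [hadd, hn]
    push_cast
    ring

end Groth.Agent.H67.DegAdd
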