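import Mathlib

/-!
# Algebra for the dévissage lemma (Stacks 01YE)

`B` Noetherian, `q` prime, `M` finite with `M_q` killed by `q B_q` (phrased without localization).
Then there are `x_1, …, x_r ∈ M` killed by `q`, linearly independent modulo `q`, generating `M`
up to one element `t ∉ q`.  `transfer` moves this to the localization at `t`.
-/

set_option autoImplicit false

namespace Groth.Agent.H67.DevAlg

universe u

open Finset

section Gen

variable {B : Type u} [CommRing B] (q : Ideal B) {M : Type u} [AddCommGroup M] [Module B M]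

/-- `x` generates `M` up to elements outside `q` -/
def SGen {r : ℕ} (x : Fin r → M) : Prop :=
  ∀ m : M, ∃ s : B, s ∉ q ∧ s • m ∈ Submodule.span B (Set.range x)

theorem exists_sGen [Module.Finite B M] (hq : q ≠ ⊤) : ∃ (r : ℕ) (x : Fin r → M), SGen q x := by
  obtain ⟨n, s, hs⟩ := Module.Finite.exists_fin (R := B) (M := M)
  refine ⟨n, s, fun m => ⟨1, ?_, ?_⟩⟩
  · exact fun h => hq ((Ideal.eq_top_iff_one q).mpr h)
  · rw [one_smul, hs]; exact Submodule.mem_top

variable [q.IsPrime]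

theorem SGen.smul {r : ℕ} {x : Fin r → M} (h : SGen q x) {σ : B} (hσ : σ ∉ q) :
    SGen q (fun j => σ • x j) := by
  intro m
  obtain ⟨s, hs, hm⟩ := h m
  refine ⟨σ * s, fun h => (Ideal.IsPrime.mem_or_mem ‹_› h).elim hσ hs, ?_⟩
  obtain ⟨b, hb⟩ := (Submodule.mem_span_range_iff_exists_fun B).mp hm
  rw [mul_smul, ← hb, Finset.smul_sum]
  refine Submodule.sum_mem _ (fun j _ => ?_)
  rw [smul_comm]
  exact Submodule.smul_mem _ _ (Submodule.subset_span ⟨j, rfl⟩)

theorem SGen.drop {r : ℕ} {x : Fin (r + 1) → M} (h : SGen q x) (c : Fin (r + 1) → B)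
    (hc : ∑ j, c j • x j = 0) (j0 : Fin (r + 1)) (hj0 : c j0 ∉ q) :
    SGen q (fun j => x (j0.succAbove j)) := by
  intro m
  obtain ⟨s, hs, hm⟩ := h m
  refine ⟨c j0 * s, fun h => (Ideal.IsPrime.mem_or_mem ‹_› h).elim hj0 hs, ?_⟩
  obtain ⟨b, hb⟩ := (Submodule.mem_span_range_iff_exists_fun B).mp hm
  rw [Fin.sum_univ_succAbove _ j0] at hc hb
  have h1 : c j0 • x j0 = - ∑ j, c (j0.succAbove j) • x (j0.succAbove j) :=
    eq_neg_of_add_eq_zero_left hc
  have h2 : (c j0 * s) • m = ∑ j, (c j0 * b (j0.succAbove j) - b j0 * c (j0.succAbove j)) •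
      x (j0.succAbove j) := by
    rw [mul_smul, ← hb, smul_add, smul_smul, mul_comm (c j0) (b j0), ← smul_smul, h1, smul_neg,
      Finset.smul_sum, Finset.smul_sum, ← sub_eq_neg_add, ← Finset.sum_sub_distrib]
    refine Finset.sum_congr rfl (fun j _ => ?_)
    rw [sub_smul, smul_smul, smul_smul]
  rw [h2]
  exact Submodule.sum_mem _ (fun j _ => Submodule.smul_mem _ _ (Submodule.subset_span ⟨j, rfl⟩))

/-- minimal families are independent modulo `q` -/
theorem SGen.indep_of_minimal : ∀ {r : ℕ} {x : Fin r → M}, SGen q x →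
    (∀ r' < r, ¬ ∃ x' : Fin r' → M, SGen q x') →
    ∀ c : Fin r → B, ∑ j, c j • x j = 0 → ∀ j, c j ∈ q
  | 0, _, _, _, _, _, j => j.elim0
  | (r + 1), x, h, hmin, c, hc, j => by
    by_contra hj
    exact hmin r (Nat.lt_succ_self r) ⟨_, h.drop q c hc j hj⟩

end Gen

section Main

variable {B : Type u} [CommRing B] [IsNoetherianRing B] (q : Ideal B) [q.IsPrime]
  {M : Type u} [AddCommGroup M] [Module B M] [Module.Finite B M]

theorem exists_killing {r : ℕ} (x : Fin r → M)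
    (H : ∀ a ∈ q, ∀ m : M, ∃ s : B, s ∉ q ∧ s • a • m = 0) :
    ∃ σ : B, σ ∉ q ∧ ∀ j, ∀ a ∈ q, a • σ • x j = 0 := by
  classical
  obtain ⟨T, hT⟩ := (isNoetherianRing_iff_ideal_fg B).mp ‹_› q
  have hTq : ∀ a ∈ T, a ∈ q := fun a ha => hT ▸ Ideal.subset_span ha
  choose! s hs hs0 using fun (p : Fin r × B) (hp : p.2 ∈ T) => H p.2 (hTq _ hp) (x p.1)
  let σ : B := ∏ j : Fin r, ∏ a ∈ T, s (j, a)
  have hσ : σ ∉ q := by
    change σ ∈ q.primeCompl
    refine Submonoid.prod_mem _ (fun j _ => Submonoid.prod_mem _ (fun a ha => ?_))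
    exact hs (j, a) ha
  refine ⟨σ, hσ, fun j => ?_⟩
  have hgen : ∀ a ∈ T, a • σ • x j = 0 := by
    intro a ha
    have hdvd : s (j, a) ∣ σ :=
      (Finset.dvd_prod_of_mem _ ha).trans (Finset.dvd_prod_of_mem (fun j => ∏ a ∈ T, s (j, a))
        (Finset.mem_univ j))
    obtain ⟨w, hw⟩ := hdvd
    have h3 : a • σ • x j = w • (s (j, a) • a • x j) := by
      rw [hw]
      simp only [smul_smul]
      congr 1
      ring
    rw [h3, hs0 (j, a) ha, smul_zero]
  intro a ha
  rw [← hT] at ha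
  refine Submodule.span_induction (p := fun a _ => a • σ • x j = 0) (fun a ha => hgen a ha)
    (by simp) (fun a b _ _ ha hb => by rw [add_smul, ha, hb, add_zero])
    (fun c a _ ha => by rw [smul_eq_mul, mul_smul, ha, smul_zero]) ha

/-- the main algebraic input -/
theorem exists_generic_basis
    (H : ∀ a ∈ q, ∀ m : M, ∃ s : B, s ∉ q ∧ s • a • m = 0) :
    ∃ (r : ℕ) (x : Fin r → M) (t : B), t ∉ q ∧ (∀ j, ∀ a ∈ q, a • x j = 0) ∧
      (∀ c : Fin r → B, ∑ j, c j • x j = 0 → ∀ j, c j ∈ q) ∧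
      (∀ m : M, ∃ c : Fin r → B, t • m = ∑ j, c j • x j) := by
  classical
  have hq : q ≠ ⊤ := Ideal.IsPrime.ne_top ‹_›
  have hex : ∃ r : ℕ, ∃ x : Fin r → M, SGen q x := exists_sGen q hq
  obtain ⟨x0, hx0⟩ := Nat.find_spec hex
  have hmin : ∀ r' < Nat.find hex, ¬ ∃ x' : Fin r' → M, SGen q x' := fun r' hr' =>
    Nat.find_min hex hr'
  obtain ⟨σ, hσ, hkill⟩ := exists_killing q x0 H
  let x : Fin (Nat.find hex) → M := fun j => σ • x0 j
  have hx : SGen q x := hx0.smul q hσ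
  -- uniform denominator
  obtain ⟨n, g, hg⟩ := Module.Finite.exists_fin (R := B) (M := M)
  choose s hs hsm using fun k : Fin n => hx (g k)
  let t : B := ∏ k, s k
  have ht : t ∉ q := by
    change t ∈ q.primeCompl
    exact Submonoid.prod_mem _ (fun k _ => hs k)
  refine ⟨Nat.find hex, x, t, ht, hkill, hx.indep_of_minimal q hmin, fun m => ?_⟩
  have hall : ∀ m : M, t • m ∈ Submodule.span B (Set.range x) := by
    intro m
    have hm : m ∈ Submodule.span B (Set.range g) := hg ▸ Submodule.mem_top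
    refine Submodule.span_induction (p := fun m _ => t • m ∈ Submodule.span B (Set.range x))
      ?_ (by simp) (fun a b _ _ ha hb => by rw [smul_add]; exact Submodule.add_mem _ ha hb)
      (fun c a _ ha => by rw [smul_comm]; exact Submodule.smul_mem _ _ ha) hm
    rintro _ ⟨k, rfl⟩
    obtain ⟨w, hw⟩ : s k ∣ t := Finset.dvd_prod_of_mem _ (Finset.mem_univ k)
    rw [hw, mul_comm, mul_smul]
    exact Submodule.smul_mem _ _ (hsm k)
  obtain ⟨c, hc⟩ := (Submodule.mem_span_range_iff_exists_fun B).mp (hall m)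
  exact ⟨c, hc.symm⟩

end Main

section Transfer

variable {B B' : Type u} [CommRing B] [CommRing B'] (f : B →+* B') (t : B)
  {M M' : Type u} [AddCommGroup M] [Module B M] [AddCommGroup M'] [Module B' M']
  (ρ : M →+ M') (q : Ideal B) (q' : Ideal B') {r : ℕ} (x : Fin r → M)

include f t ρ q q' x in
/-- transfer of the generic basis to the localization at `t` -/
theorem transfer (ht : IsUnit (f t))
    (hB : ∀ a' : B', ∃ (k : ℕ) (b : B), f (t ^ k) * a' = f b)
    (hρ : ∀ (b : B) (m : M), ρ (b • m) = f b • ρ m)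
    (hρ1 : ∀ y : M', ∃ (k : ℕ) (m : M), f (t ^ k) • y = ρ m)
    (hρ2 : ∀ m : M, ρ m = 0 → ∃ k : ℕ, t ^ k • m = 0)
    [q.IsPrime] (htq : t ∉ q) (hq' : ∀ b : B, f b ∈ q' ↔ b ∈ q)
    (P1 : ∀ j, ∀ a ∈ q, a • x j = 0)
    (P2 : ∀ c : Fin r → B, ∑ j, c j • x j = 0 → ∀ j, c j ∈ q)
    (P3 : ∀ m : M, ∃ c : Fin r → B, t • m = ∑ j, c j • x j) :
    (∀ j, ∀ a' ∈ q', a' • ρ (x j) = 0) ∧
    (∀ c' : Fin r → B', ∑ j, c' j • ρ (x j) = 0 → ∀ j, c' j ∈ q') ∧
    (∀ y : M', ∃ c' : Fin r → B', y = ∑ j, c' j • ρ (x j)) := by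
  classical
  have htk : ∀ k : ℕ, IsUnit (f (t ^ k)) := fun k => by rw [map_pow]; exact ht.pow k
  have hcancel : ∀ (k : ℕ) (z : M'), f (t ^ k) • z = 0 → z = 0 := by
    intro k z hz
    obtain ⟨u, hu⟩ := htk k
    have := congrArg (fun w => (↑u⁻¹ : B') • w) hz
    simpa [← hu, smul_smul] using this
  have htq' : ∀ k : ℕ, t ^ k ∉ q := fun k h => htq (Ideal.IsPrime.mem_of_pow_mem ‹_› k h)
  refine ⟨?_, ?_, ?_⟩
  · intro j a' ha'
    obtain ⟨k, b, hb⟩ := hB a'
    have hbq : b ∈ q := (hq' b).mp (hb ▸ Ideal.mul_mem_left _ _ ha')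
    apply hcancel k
    rw [smul_smul, hb, ← hρ, P1 j b hbq, map_zero]
  · intro c' hc' j
    choose k b hb using fun j => hB (c' j)
    let K : ℕ := ∑ j, k j
    have hk : ∀ j, k j ≤ K := fun j => Finset.single_le_sum (fun _ _ => Nat.zero_le _)
      (Finset.mem_univ j)
    let d : Fin r → B := fun j => t ^ (K - k j) * b j
    have hd : ∀ j, f (t ^ K) * c' j = f (d j) := by
      intro j
      have : t ^ K = t ^ (K - k j) * t ^ (k j) := by
        rw [← pow_add, Nat.sub_add_cancel (hk j)]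
      rw [this, map_mul, mul_assoc, hb j, ← map_mul]
    have h0 : ρ (∑ j, d j • x j) = 0 := by
      rw [map_sum]
      have : ∀ j, ρ (d j • x j) = f (t ^ K) • (c' j • ρ (x j)) := by
        intro j
        rw [hρ, ← hd j, mul_smul]
      rw [Finset.sum_congr rfl (fun j _ => this j), ← Finset.smul_sum, hc', smul_zero]
    obtain ⟨l, hl⟩ := hρ2 _ h0
    rw [Finset.smul_sum] at hl
    have hl' : ∑ j, (t ^ l * d j) • x j = 0 := by
      rw [← hl]
      exact Finset.sum_congr rfl (fun j _ => mul_smul _ _ _)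
    have hdq : d j ∈ q := ((Ideal.IsPrime.mem_or_mem ‹_› (P2 _ hl' j)).resolve_left (htq' l))
    have h1 : f (t ^ K) * c' j ∈ q' := by rw [hd j]; exact (hq' _).mpr hdq
    obtain ⟨u, hu⟩ := htk K
    have h2 : c' j = (↑u⁻¹ : B') * (f (t ^ K) * c' j) := by
      rw [← mul_assoc, ← hu]; simp
    rw [h2]
    exact Ideal.mul_mem_left _ _ h1
  · intro y
    obtain ⟨k, m, hm⟩ := hρ1 y
    obtain ⟨c, hc⟩ := P3 m
    obtain ⟨u, hu⟩ := htk (k + 1)
    refine ⟨fun j => (↑u⁻¹ : B') * f (c j), ?_⟩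
    have h1 : f (t ^ (k + 1)) • y = ∑ j, f (c j) • ρ (x j) := by
      rw [pow_succ, map_mul, mul_comm, mul_smul, hm, ← hρ, hc, map_sum]
      exact Finset.sum_congr rfl (fun j _ => hρ _ _)
    have h2 : y = (↑u⁻¹ : B') • (f (t ^ (k + 1)) • y) := by
      rw [smul_smul, ← hu]; simp
    rw [h2, h1, Finset.smul_sum]
    exact Finset.sum_congr rfl (fun j _ => (mul_smul _ _ _).symm)

end Transfer

end Groth.Agent.H67.DevAlg
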