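import Groth.Agent.H67.DevPush
import Groth.Agent.H67.DevAlg

set_option autoImplicit false
set_option linter.style.haveILetI false
set_option linter.unusedSectionVars false
set_option linter.unusedVariables false
universe u
open CategoryTheory Limits AlgebraicGeometry TopologicalSpace Opposite

namespace Groth.Agent.H67.Dev

variable {X Z : Scheme.{u}} (i : Z ⟶ X)

/-- sections `x_j` of `F` over `V` forming a "basis modulo the ideal of `Z`" -/
structure GoodOn (F : X.Modules) (V : X.Opens) {r : ℕ} (x : Fin r → Γ(F, V)) : Prop where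
  kill : ∀ j, ∀ a ∈ kerI i V, a • x j = 0
  indep : ∀ c : Fin r → Γ(X, V), ∑ j, c j • x j = 0 → ∀ j, c j ∈ kerI i V
  span : ∀ y : Γ(F, V), ∃ c : Fin r → Γ(X, V), y = ∑ j, c j • x j

theorem exists_goodOn [IsNoetherian X] [IsClosedImmersion i] [IsIntegral Z] (F : X.Modules)
    [F.IsQuasicoherent] [SheafOfModules.IsFiniteType (R := X.ringCatSheaf) F]
    (hann : ∀ a ∈ IsLocalRing.maximalIdeal (X.presheaf.stalk (i (genericPoint Z))),
      ∀ m : ↑(F.presheaf.stalk (i (genericPoint Z))), a • m = 0) :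
    ∃ (W : X.Opens) (_ : IsAffineOpen W) (_ : i (genericPoint Z) ∈ W) (r : ℕ)
      (x : Fin r → Γ(F, W)), GoodOn i F W x := by
  obtain ⟨_, ⟨W₀, hW₀ : IsAffineOpen W₀, rfl⟩, hξ₀, -⟩ :=
    X.isBasis_affineOpens.exists_subset_of_mem_open (Set.mem_univ (i (genericPoint Z)))
      isOpen_univ
  haveI : IsNoetherianRing Γ(X, W₀) := IsLocallyNoetherian.component_noetherian ⟨W₀, hW₀⟩
  haveI := Groth.Agent.H44.finite_sections_of_isFiniteType F hW₀
  haveI := kerI_isPrime i hξ₀
  obtain ⟨r, x, t, ht, P1, P2, P3⟩ := DevAlg.exists_generic_basis (kerI i W₀) (M := Γ(F, W₀))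
    (fun a ha m => exists_smul_smul_eq_zero i F hW₀ hξ₀ hann a ha m)
  have hξ : i (genericPoint Z) ∈ X.basicOpen t := mem_basicOpen_of_notMem_kerI i hξ₀ t ht
  have hle : X.basicOpen t ≤ W₀ := X.basicOpen_le t
  refine ⟨X.basicOpen t, hW₀.basicOpen t, hξ, r,
    fun j => F.presheaf.map (homOfLE hle).op (x j), ?_⟩
  haveI := hW₀.isLocalization_basicOpen t
  obtain ⟨S1, S2, S3⟩ := DevAlg.transfer (X.presheaf.map (homOfLE hle).op).hom t
    (F.presheaf.map (homOfLE hle).op).hom (kerI i W₀) (kerI i (X.basicOpen t)) x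
    (RingedSpace.isUnit_res_basicOpen _ t)
    (fun a' => by
      obtain ⟨n, b, hb⟩ := IsLocalization.Away.surj t a'
      refine ⟨n, b, ?_⟩
      rw [map_pow, mul_comm]
      exact hb)
    (fun b m => Scheme.Modules.map_smul F (homOfLE hle) b m)
    (fun y => by
      obtain ⟨n, s, hs⟩ := Groth.Agent.H8.exists_res_eq_pow_smul F hW₀ t y
      refine ⟨n, s, ?_⟩
      rw [map_pow]
      exact hs.symm)
    (fun m hm => Groth.Agent.H8.exists_pow_smul_eq_zero_of_res_basicOpen_eq_zero F hW₀ t m hm)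
    ht (fun b => res_mem_kerI_iff i hle hξ b) P1 P2 P3
  exact ⟨S1, S2, S3⟩

end Groth.Agent.H67.Dev
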