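import Groth.Agent.H67.DevLocal
import Groth.Agent.H12.AffHomCrit
import Groth.Agent.H18.RestrictUnit
import Groth.Agent.Lead.Coh.IdealMul

set_option autoImplicit false
set_option linter.style.haveILetI false
set_option linter.unusedSectionVars false
set_option linter.unusedVariables false
universe u
open CategoryTheory Limits AlgebraicGeometry TopologicalSpace Opposite
open Groth.Agent.H18 (mres mres_mres mres_self mres_smul)
open Groth.Agent.H12.AffHomCrit (sproj sum_sproj_ι)

namespace Groth.Agent.H67.Dev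

variable {X Z : Scheme.{u}} (i : Z ⟶ X)

section SecHom

variable (W : X.Opens)

lemma image_le (V' : (W : Scheme.{u}).Opens) : W.ι ''ᵁ V' ≤ W := by
  intro x hx
  obtain ⟨y, -, rfl⟩ := hx
  exact y.2

/-- the restriction functor to the open subscheme `W` -/
noncomputable abbrev Rw : X.Modules ⥤ (W : Scheme.{u}).Modules :=
  Scheme.Modules.restrictFunctor W.ι

example (M : X.Modules) (V' : (W : Scheme.{u}).Opens) :
    (Γ((Rw W).obj M, V') : Type u) = Γ(M, W.ι ''ᵁ V') := rfl

/-- the morphism `O_W ⟶ M|_W` defined by a section of `M` over `W` -/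
noncomputable def secHomW (M : X.Modules) (σ : Γ(M, W)) :
    Coh.structureModule (W : Scheme.{u}) ⟶ (Rw W).obj M :=
  let σ' : ((Rw W).obj M).sections := PresheafOfModules.sectionsMk
    (fun V => (mres M (image_le W V.unop) σ : Γ(M, W.ι ''ᵁ V.unop))) (by
      intro V V' g
      have hVV' : W.ι ''ᵁ V'.unop ≤ W.ι ''ᵁ V.unop := W.ι.image_mono (leOfHom g.unop)
      have h1 : ∀ y : Γ(M, W.ι ''ᵁ V.unop), ((Rw W).obj M).val.map g y = mres M hVV' y :=
        fun _ => rfl
      rw [h1]
      exact mres_mres M _ _ σ)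
  (SheafOfModules.unitHomEquiv (R := (W : Scheme.{u}).ringCatSheaf) ((Rw W).obj M)).symm σ'

theorem secHomW_app (M : X.Modules) (σ : Γ(M, W)) (V : (W : Scheme.{u}).Opens)
    (r : Γ(Coh.structureModule (W : Scheme.{u}), V)) :
    ((secHomW W M σ).app V r : Γ(M, W.ι ''ᵁ V)) =
      ((W.ι.appIso V).inv (secO V r) : Γ(X, W.ι ''ᵁ V)) • mres M (image_le W V) σ := by
  have hφ1 : (secHomW W M σ).val.app (op V) (1 : Γ(W, V)) = mres M (image_le W V) σ := by
    have := SheafOfModules.unitHomEquiv_apply_coe (R := (W : Scheme.{u}).ringCatSheaf)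
      ((Rw W).obj M) (secHomW W M σ) (op V)
    unfold secHomW at this
    rw [Equiv.apply_symm_apply] at this
    exact this.symm
  have h1 : (secHomW W M σ).app V ((secO V r) • ((secO V).symm (1 : Γ(W, V)))) =
      (secO V r) • (secHomW W M σ).app V ((secO V).symm (1 : Γ(W, V))) :=
    Scheme.Modules.Hom.app_smul (secHomW W M σ) (secO V r) _
  have h2 : (secO V r) • ((secO V).symm (1 : Γ(W, V))) = r := by
    apply (secO V).injective
    rw [secO_smul, AddEquiv.apply_symm_apply, mul_one]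
  rw [h2] at h1
  rw [h1]
  have h3 : (secHomW W M σ).app V ((secO V).symm (1 : Γ(W, V))) = mres M (image_le W V) σ := hφ1
  rw [h3]
  rfl

end SecHom

section Desc

variable [IsClosedImmersion i] (W : X.Opens)

/-- `O_W ⟶ (i_* O_Z)|_W` -/
noncomputable def unitW : Coh.structureModule (W : Scheme.{u}) ⟶ (Rw W).obj (pushO i) :=
  secHomW W (pushO i) ((secE i W).symm 1)

lemma unitW_app (V' : (W : Scheme.{u}).Opens) (r : Γ(Coh.structureModule (W : Scheme.{u}), V')) :
    secE i (W.ι ''ᵁ V') ((unitW i W).app V' r) =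
      (i.app (W.ι ''ᵁ V')).hom ((W.ι.appIso V').inv (secO V' r)) := by
  unfold unitW
  rw [secHomW_app, secE_smul]
  have : secE i (W.ι ''ᵁ V') (mres (pushO i) (image_le W V') ((secE i W).symm 1)) = 1 := by
    change secE i (W.ι ''ᵁ V') ((pushO i).presheaf.map (homOfLE (image_le W V')).op
      ((secE i W).symm 1)) = 1
    rw [secE_map, AddEquiv.apply_symm_apply, map_one]
  rw [this, mul_one]

instance epi_unitW : Epi (unitW i W) := by
  refine Groth.Agent.H71.QCoh.epi_of_app_surjective_cover (unitW i W)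
    (fun V' : (W : Scheme.{u}).affineOpens => V'.1) (fun x => ?_) (fun V' => V'.2) (fun V' n => ?_)
  · obtain ⟨_, ⟨V', hV', rfl⟩, hx, -⟩ :=
      (W : Scheme.{u}).isBasis_affineOpens.exists_subset_of_mem_open (Set.mem_univ x) isOpen_univ
    exact ⟨⟨V', hV'⟩, hx⟩
  · have hV : IsAffineOpen (W.ι ''ᵁ V'.1) := V'.2.image_of_isOpenImmersion W.ι
    obtain ⟨a, ha⟩ := i.app_surjective _ hV (secE i _ n)
    refine ⟨(secO V'.1).symm ((W.ι.appIso V'.1).hom a), ?_⟩
    apply (secE i (W.ι ''ᵁ V'.1)).injective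
    rw [unitW_app, AddEquiv.apply_symm_apply, ← ha]
    congr 1
    exact congr($((W.ι.appIso V'.1).hom_inv_id) a)

variable {W}

/-- sections killed by the ideal of `Z` over an affine open stay killed on smaller affine opens -/
theorem smul_res_eq_zero (F : X.Modules) (hW : IsAffineOpen W) {V : X.Opens} (hV : IsAffineOpen V)
    (hVW : V ≤ W) (x : Γ(F, W)) (hx : ∀ b ∈ kerI i W, b • x = 0) (a : Γ(X, V))
    (ha : a ∈ kerI i V) : a • mres F hVW x = 0 := by
  have h1 : kerI i V = (kerI i W).map (X.presheaf.map (homOfLE hVW).op).hom := by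
    have := i.ker.map_ideal (U := ⟨V, hV⟩) (V := ⟨W, hW⟩) hVW
    rw [Scheme.Hom.ker_apply, Scheme.Hom.ker_apply] at this
    exact this.symm
  rw [h1] at ha
  refine Submodule.span_induction (p := fun a _ => a • mres F hVW x = 0) ?_ (by simp)
    (fun a b _ _ ha hb => by rw [add_smul, ha, hb, add_zero])
    (fun c a _ ha => by rw [smul_eq_mul, mul_smul, ha, smul_zero]) ha
  rintro _ ⟨b, hb, rfl⟩
  rw [← mres_smul, hx b hb, map_zero]

theorem kernel_ι_unitW_comp (F : X.Modules) (hW : IsAffineOpen W) (x : Γ(F, W))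
    (hx : ∀ b ∈ kerI i W, b • x = 0) : kernel.ι (unitW i W) ≫ secHomW W F x = 0 := by
  refine Groth.Agent.Lead.IdealMul.hom_ext_affine _ _ (fun V' hV' k => ?_)
  have hV : IsAffineOpen (W.ι ''ᵁ V') := hV'.image_of_isOpenImmersion W.ι
  set r := (kernel.ι (unitW i W)).app V' k with hr
  have h0 : (unitW i W).app V' r = 0 := by
    have h := kernel.condition (unitW i W)
    have h2 := congrArg (fun φ => Scheme.Modules.Hom.app φ V') h
    simp only [Scheme.Modules.Hom.comp_app] at h2
    have h3 := ConcreteCategory.congr_hom h2 k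
    rw [ConcreteCategory.comp_apply] at h3
    exact h3
  have h1 : (W.ι.appIso V').inv (secO V' r) ∈ kerI i (W.ι ''ᵁ V') := by
    rw [mem_kerI_iff, ← unitW_app]
    have h0' : ((unitW i W).app V' r : Γ(pushO i, W.ι ''ᵁ V')) = 0 := h0
    rw [h0']
    exact (secE i (W.ι ''ᵁ V')).map_zero
  rw [Scheme.Modules.Hom.comp_app, ConcreteCategory.comp_apply]
  change (secHomW W F x).app V' r = 0
  rw [secHomW_app]
  exact smul_res_eq_zero i F hW hV (image_le W V') x hx _ h1

/-- the morphism `(i_* O_Z)|_W ⟶ F|_W` defined by a section of `F` over `W` killed by the ideal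
of `Z` -/
noncomputable def descW (F : X.Modules) (hW : IsAffineOpen W) (x : Γ(F, W))
    (hx : ∀ b ∈ kerI i W, b • x = 0) : (Rw W).obj (pushO i) ⟶ (Rw W).obj F :=
  Abelian.epiDesc (unitW i W) (secHomW W F x) (kernel_ι_unitW_comp i F hW x hx)

theorem unitW_descW (F : X.Modules) (hW : IsAffineOpen W) (x : Γ(F, W))
    (hx : ∀ b ∈ kerI i W, b • x = 0) : unitW i W ≫ descW i F hW x hx = secHomW W F x :=
  Abelian.comp_epiDesc _ _ _

end Desc

section Sigma

variable {Y : Scheme.{u}}

/-- evaluation of morphisms at a section, as an additive map -/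
noncomputable def evalApp {M N : Y.Modules} (U : Y.Opens) (m : Γ(M, U)) : (M ⟶ N) →+ Γ(N, U) where
  toFun φ := φ.app U m
  map_zero' := rfl
  map_add' _ _ := rfl

lemma sum_app {M N : Y.Modules} {ι : Type*} (s : Finset ι) (f : ι → (M ⟶ N)) (U : Y.Opens)
    (m : Γ(M, U)) : (∑ k ∈ s, f k).app U m = ∑ k ∈ s, (f k).app U m :=
  map_sum (evalApp U m) f s

lemma comp_app_apply {M N K : Y.Modules} (φ : M ⟶ N) (ψ : N ⟶ K) (U : Y.Opens) (m : Γ(M, U)) :
    (φ ≫ ψ).app U m = ψ.app U (φ.app U m) := rfl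

lemma sigma_section_eq {n : ℕ} (J : Fin n → Y.Modules) (U : Y.Opens) (s : Γ(∐ J, U)) :
    s = ∑ k, (Sigma.ι J k).app U ((sproj J k).app U s) := by
  have h := congrArg (fun φ : (∐ J) ⟶ (∐ J) => φ.app U s) (sum_sproj_ι J)
  simp only [sum_app, comp_app_apply] at h
  exact h.symm

lemma sigma_desc_app {n : ℕ} (J : Fin n → Y.Modules) {N : Y.Modules} (f : ∀ k, J k ⟶ N)
    (U : Y.Opens) (s : Γ(∐ J, U)) :
    (Sigma.desc f).app U s = ∑ k, (f k).app U ((sproj J k).app U s) := by
  conv_lhs => rw [sigma_section_eq J U s]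
  rw [map_sum]
  refine Finset.sum_congr rfl (fun k _ => ?_)
  rw [← comp_app_apply, Sigma.ι_desc]


end Sigma

section LocalIso

variable [IsClosedImmersion i] {W : X.Opens} (hW : IsAffineOpen W) (F : X.Modules)
  [F.IsQuasicoherent] {r : ℕ} (x : Fin r → Γ(F, W)) (hg : GoodOn i F W x)

theorem GoodOn.of_eq {F : X.Modules} {r : ℕ} {V W : X.Opens} (h : V = W) {x : Fin r → Γ(F, W)}
    (hg : GoodOn i F W x) : GoodOn i F V (fun j => mres F h.le (x j)) := by
  subst h
  have : (fun j => mres F (le_refl V) (x j)) = x := funext (fun j => mres_self F _ _)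
  rw [this]
  exact hg

/-- the local comparison map `(i_* O_Z)^r|_W ⟶ F|_W` -/
noncomputable def PhiW : (∐ fun _ : Fin r => (Rw W).obj (pushO i)) ⟶ (Rw W).obj F :=
  Sigma.desc (fun j => descW i F hW (x j) (hg.kill j))

theorem descW_unitW_app (j : Fin r) (V' : (W : Scheme.{u}).Opens)
    (r₀ : Γ(Coh.structureModule (W : Scheme.{u}), V')) :
    ((descW i F hW (x j) (hg.kill j)).app V' ((unitW i W).app V' r₀) : Γ(F, W.ι ''ᵁ V')) =
      ((W.ι.appIso V').inv (secO V' r₀) : Γ(X, W.ι ''ᵁ V')) • mres F (image_le W V') (x j) := by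
  rw [← comp_app_apply, unitW_descW, secHomW_app]

include hg in
theorem isIso_PhiW : IsIso (PhiW i hW F x hg) := by
  haveI : IsAffine (W : Scheme.{u}) := hW
  have hV₀ : W.ι ''ᵁ (⊤ : (W : Scheme.{u}).Opens) = W := Scheme.Opens.ι_image_top W
  have hg₀ := hg.of_eq i hV₀
  let J : Fin r → (W : Scheme.{u}).Modules := fun _ => (Rw W).obj (pushO i)
  have hsurjU := Groth.Agent.H71.QCoh.app_surjective_of_epi (unitW i W)
    (isAffineOpen_top (W : Scheme.{u}))
  haveI : Mono (PhiW i hW F x hg) := by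
    refine Groth.Agent.H71.QCoh.mono_of_app_injective_cover _
      (fun _ : Unit => (⊤ : (W : Scheme.{u}).Opens)) (fun _ => ⟨(), trivial⟩)
      (fun _ => isAffineOpen_top _) (fun _ => ?_)
    rw [injective_iff_map_eq_zero]
    intro s hs
    choose r₀ hr₀ using fun k => hsurjU ((sproj J k).app ⊤ s)
    have h1 : ∑ k, ((W.ι.appIso ⊤).inv (secO ⊤ (r₀ k)) : Γ(X, W.ι ''ᵁ ⊤)) •
        mres F (image_le W ⊤) (x k) = 0 := by
      have h2 := sigma_desc_app J (fun j => descW i F hW (x j) (hg.kill j)) ⊤ s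
      rw [show Sigma.desc (fun j => descW i F hW (x j) (hg.kill j)) = PhiW i hW F x hg from rfl,
        hs] at h2
      refine Eq.trans ?_ h2.symm
      refine Finset.sum_congr rfl (fun k _ => ?_)
      rw [← hr₀ k, descW_unitW_app i hW F x hg]
    have h3 := hg₀.indep _ h1
    rw [sigma_section_eq J ⊤ s]
    refine Finset.sum_eq_zero (fun k _ => ?_)
    have h4 : (sproj J k).app ⊤ s = 0 := by
      rw [← hr₀ k]
      apply (secE i (W.ι ''ᵁ ⊤)).injective
      rw [unitW_app, (mem_kerI_iff i _).mp (h3 k)]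
      exact (secE i (W.ι ''ᵁ ⊤)).map_zero.symm
    rw [h4, map_zero]
  haveI : Epi (PhiW i hW F x hg) := by
    refine Groth.Agent.H71.QCoh.epi_of_app_surjective_cover _
      (fun _ : Unit => (⊤ : (W : Scheme.{u}).Opens)) (fun _ => ⟨(), trivial⟩)
      (fun _ => isAffineOpen_top _) (fun _ y => ?_)
    obtain ⟨c, hc⟩ := hg₀.span y
    refine ⟨∑ k, (Sigma.ι J k).app ⊤ ((unitW i W).app ⊤
      ((secO ⊤).symm ((W.ι.appIso ⊤).hom (c k)))), ?_⟩
    rw [map_sum, hc]
    refine Finset.sum_congr rfl (fun k _ => ?_)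
    rw [← comp_app_apply]
    unfold PhiW
    rw [Sigma.ι_desc, descW_unitW_app i hW F x hg, AddEquiv.apply_symm_apply]
    congr 1
    exact congr($((W.ι.appIso ⊤).hom_inv_id) (c k))
  exact isIso_of_mono_of_epi _

end LocalIso

end Groth.Agent.H67.Dev
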