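import Mathlib
import Groth.Prelude.Def_Coh
import Groth.Agent.H71.QCoh.ClosedPush
import Groth.Agent.H71.QCoh.ExactSections
import Groth.Agent.H71.QCoh.StalkLocal
import Groth.Agent.H8.QCohStalk
import Groth.Agent.H44.FiniteSections
import Groth.Agent.H44.PushUnit

/-!
# `i_* O_Z` for a closed immersion `i : Z ⟶ X` (towards Stacks 01YE)

* `pushO i = i_* O_Z`, `toPushO i : O_X ⟶ i_* O_Z`, explicit sections (`secE`, `secO`).
* `toPushO_app_surjective`, quasi-coherence and finite type of `pushO i`.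
* integrality: `res_injective` (restriction of sections of `i_* O_Z` is injective for `Z`
  integral), `ker_isPrime`.
* `exists_smul_smul_eq_zero` : the stalk hypothesis of 01YE in terms of sections over an affine
  open.
-/

set_option autoImplicit false
set_option linter.style.haveILetI false
set_option linter.unusedSectionVars false
set_option linter.unusedVariables false
universe u
open CategoryTheory Limits AlgebraicGeometry TopologicalSpace Opposite

namespace Groth.Agent.H67.Dev

variable {X Z : Scheme.{u}} (i : Z ⟶ X)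

/-- `i_* O_Z` -/
noncomputable abbrev pushO : X.Modules :=
  (Scheme.Modules.pushforward i).obj (Coh.structureModule Z)

/-- the canonical map `O_X ⟶ i_* O_Z` -/
noncomputable def toPushO : Coh.structureModule X ⟶ pushO i :=
  SheafOfModules.unitToPushforwardObjUnit i.toRingCatSheafHom

/-- sections of `i_* O_Z` are functions on `Z` -/
noncomputable def secE (V : X.Opens) : Γ(pushO i, V) ≃+ Γ(Z, i ⁻¹ᵁ V) := AddEquiv.refl _

/-- sections of `O_X` are functions on `X` -/
noncomputable def secO (V : X.Opens) : Γ(Coh.structureModule X, V) ≃+ Γ(X, V) := AddEquiv.refl _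

lemma secE_toPushO_app (V : X.Opens) (a : Γ(Coh.structureModule X, V)) :
    secE i V ((toPushO i).app V a) = (i.app V).hom (secO V a) := rfl

lemma secE_smul (V : X.Opens) (a : Γ(X, V)) (n : Γ(pushO i, V)) :
    secE i V (a • n) = (i.app V).hom a * secE i V n := rfl

lemma secO_smul (V : X.Opens) (a : Γ(X, V)) (n : Γ(Coh.structureModule X, V)) :
    secO V (a • n) = a * secO V n := rfl

lemma secE_map {V V' : X.Opens} (h : V' ≤ V) (n : Γ(pushO i, V)) :
    secE i V' ((pushO i).presheaf.map (homOfLE h).op n) =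
      Z.presheaf.map (homOfLE (show i ⁻¹ᵁ V' ≤ i ⁻¹ᵁ V from fun _ hx => h hx)).op
        (secE i V n) := rfl

theorem toPushO_app_surjective [IsClosedImmersion i] {V : X.Opens} (hV : IsAffineOpen V) :
    Function.Surjective ((toPushO i).app V) := by
  intro n
  obtain ⟨a, ha⟩ := i.app_surjective V hV (secE i V n)
  exact ⟨(secO V).symm a, ha⟩

instance isQuasicoherent_pushO [IsClosedImmersion i] : (pushO i).IsQuasicoherent :=
  Groth.Agent.H8.isQuasicoherent_pushforward_of_isAffineHom i _

theorem toPushO_app_eq_smul_one (V : X.Opens) (a : Γ(X, V)) :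
    (toPushO i).app V ((secO V).symm a) = a • (secE i V).symm 1 := by
  apply (secE i V).injective
  rw [secE_toPushO_app, secE_smul, AddEquiv.apply_symm_apply, AddEquiv.apply_symm_apply, mul_one]

instance isFiniteType_pushO [IsClosedImmersion i] :
    SheafOfModules.IsFiniteType (R := X.ringCatSheaf) (pushO i) := by
  refine Groth.Agent.H71.QCoh.isFiniteType_of_finite_sections _ (fun V => ?_)
  refine Module.Finite.of_fg_top ?_
  rw [Submodule.fg_def]
  refine ⟨{(secE i V.1).symm 1}, Set.finite_singleton _, ?_⟩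
  rw [eq_top_iff]
  rintro n -
  obtain ⟨a, rfl⟩ := toPushO_app_surjective i V.2 n
  obtain ⟨a, rfl⟩ := (secO V.1).symm.surjective a
  rw [toPushO_app_eq_smul_one]
  exact Submodule.smul_mem _ _ (Submodule.subset_span rfl)

/-- the kernel of `O_X(V) → O_Z(i⁻¹V)` -/
noncomputable abbrev kerI (V : X.Opens) : Ideal Γ(X, V) := RingHom.ker (i.app V).hom

lemma mem_kerI_iff {V : X.Opens} (a : Γ(X, V)) : a ∈ kerI i V ↔ (i.app V).hom a = 0 :=
  RingHom.mem_ker

section Integral

variable [IsIntegral Z]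

lemma nonempty_preimage {V : X.Opens} (h : i (genericPoint Z) ∈ V) : Nonempty (i ⁻¹ᵁ V) :=
  ⟨⟨genericPoint Z, h⟩⟩

lemma kerI_isPrime {V : X.Opens} (h : i (genericPoint Z) ∈ V) : (kerI i V).IsPrime := by
  haveI := nonempty_preimage i h
  exact RingHom.ker_isPrime _

lemma app_res {V V' : X.Opens} (h : V' ≤ V) (a : Γ(X, V)) :
    (i.app V').hom (X.presheaf.map (homOfLE h).op a) =
      Z.presheaf.map (homOfLE (show i ⁻¹ᵁ V' ≤ i ⁻¹ᵁ V from fun _ hx => h hx)).op
        ((i.app V).hom a) := by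
  have := i.naturality (homOfLE h).op
  exact congr($this a)

lemma res_mem_kerI_iff {V V' : X.Opens} (h : V' ≤ V) (hξ : i (genericPoint Z) ∈ V')
    (a : Γ(X, V)) : X.presheaf.map (homOfLE h).op a ∈ kerI i V' ↔ a ∈ kerI i V := by
  haveI := nonempty_preimage i hξ
  rw [mem_kerI_iff, mem_kerI_iff, app_res]
  have hinj := map_injective_of_isIntegral Z
    (homOfLE (show i ⁻¹ᵁ V' ≤ i ⁻¹ᵁ V from fun _ hx => h hx))
  constructor
  · intro h0
    apply hinj
    rw [h0, map_zero]
  · intro h0
    rw [h0, map_zero]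

lemma notMem_basicOpen_of_mem_kerI {V : X.Opens} (a : Γ(X, V)) (ha : a ∈ kerI i V) :
    i (genericPoint Z) ∉ X.basicOpen a := by
  intro h
  have h1 : genericPoint Z ∈ i ⁻¹ᵁ X.basicOpen a := h
  rw [Scheme.preimage_basicOpen, (mem_kerI_iff i a).mp ha, Scheme.basicOpen_zero] at h1
  exact h1

lemma mem_basicOpen_of_notMem_kerI {V : X.Opens} (hξ : i (genericPoint Z) ∈ V) (a : Γ(X, V))
    (ha : a ∉ kerI i V) : i (genericPoint Z) ∈ X.basicOpen a := by
  change genericPoint Z ∈ i ⁻¹ᵁ X.basicOpen a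
  rw [Scheme.preimage_basicOpen]
  have hne : (i.app V).hom a ≠ 0 := fun h => ha ((mem_kerI_iff i a).mpr h)
  have h2 : Z.basicOpen ((i.app V).hom a) ≠ ⊥ := fun h => hne ((basicOpen_eq_bot_iff _).mp h)
  have h3 : ((Z.basicOpen ((i.app V).hom a) : Z.Opens) : Set Z).Nonempty := by
    rw [Set.nonempty_iff_ne_empty]
    intro h
    apply h2
    ext1
    exact h
  have := ((genericPoint_spec Z).mem_open_set_iff (Z.basicOpen ((i.app V).hom a)).2).mpr
    (by simpa using h3)
  exact this


theorem exists_smul_smul_eq_zero (F : X.Modules) [F.IsQuasicoherent] {V : X.Opens}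
    (hV : IsAffineOpen V) (hξ : i (genericPoint Z) ∈ V)
    (hann : ∀ a ∈ IsLocalRing.maximalIdeal (X.presheaf.stalk (i (genericPoint Z))),
      ∀ m : ↑(F.presheaf.stalk (i (genericPoint Z))), a • m = 0)
    (a : Γ(X, V)) (ha : a ∈ kerI i V) (m : Γ(F, V)) :
    ∃ s : Γ(X, V), s ∉ kerI i V ∧ s • a • m = 0 := by
  have h1 : X.presheaf.germ V _ hξ a ∈
      IsLocalRing.maximalIdeal (X.presheaf.stalk (i (genericPoint Z))) := by
    rw [IsLocalRing.mem_maximalIdeal, mem_nonunits_iff, ← X.mem_basicOpen a _ hξ]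
    exact notMem_basicOpen_of_mem_kerI i a ha
  have h2 : F.presheaf.germ V _ hξ (a • m) = 0 := by
    rw [Groth.Agent.H8.germ_smul]
    exact hann _ h1 _
  letI := Groth.Agent.H8.stalkModule F hξ
  haveI := Groth.Agent.H8.isLocalizedModule_germₗ F hV hξ
  have h3 : Groth.Agent.H8.germₗ F hξ (a • m) = 0 := h2
  obtain ⟨⟨s, hs⟩, hs0⟩ := (IsLocalizedModule.eq_zero_iff
    (hV.primeIdealOf ⟨_, hξ⟩).asIdeal.primeCompl (Groth.Agent.H8.germₗ F hξ)).mp h3
  refine ⟨s, fun hsk => ?_, hs0⟩
  have h4 := (Groth.Agent.H8.notMem_primeIdealOf_iff hV hξ s).mp hs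
  exact notMem_basicOpen_of_mem_kerI i s hsk h4

end Integral


end Groth.Agent.H67.Dev
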