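import Groth.Agent.H67.DevExt

/-!
# Extensions of coherent modules, and left exactness of pushforward (towards S10866)
-/

set_option autoImplicit false
set_option linter.style.haveILetI false
set_option linter.unusedSectionVars false
set_option linter.unusedVariables false
universe u
open CategoryTheory Limits AlgebraicGeometry TopologicalSpace Opposite
open Groth.Agent.Lead.SubRange (appLin appLin_apply)

namespace Groth.Agent.H67.Dev

variable {X Y : Scheme.{u}}

/-- an extension of coherent modules (with quasi-coherent middle term) is coherent -/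
theorem isCoh_of_shortExact (S : ShortComplex X.Modules) (hS : S.ShortExact)
    (h1 : Coh.IsCoh S.X₁) (h3 : Coh.IsCoh S.X₃) (h2 : Coh.IsQCoh S.X₂) : Coh.IsCoh S.X₂ := by
  haveI : S.X₁.IsQuasicoherent := h1.1
  haveI : S.X₂.IsQuasicoherent := h2
  haveI : S.X₃.IsQuasicoherent := h3.1
  haveI : SheafOfModules.IsFiniteType (R := X.ringCatSheaf) S.X₁ := h1.2
  haveI : SheafOfModules.IsFiniteType (R := X.ringCatSheaf) S.X₃ := h3.2
  haveI := hS.mono_f
  haveI := hS.epi_g
  refine ⟨h2, Groth.Agent.H71.QCoh.isFiniteType_of_finite_sections _ (fun V => ?_)⟩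
  haveI := Groth.Agent.H44.finite_sections_of_isFiniteType S.X₁ V.2
  haveI := Groth.Agent.H44.finite_sections_of_isFiniteType S.X₃ V.2
  refine Module.Finite.of_fg_top ?_
  refine Submodule.fg_of_fg_map_of_fg_inf_ker (appLin S.g V.1) ?_ ?_
  · have hsurj : Function.Surjective (appLin S.g V.1) :=
      Groth.Agent.H71.QCoh.app_surjective_of_epi S.g V.2
    rw [Submodule.map_top, LinearMap.range_eq_top.mpr hsurj]
    exact Module.Finite.fg_top
  · rw [top_inf_eq]
    have hker : LinearMap.ker (appLin S.g V.1) = LinearMap.range (appLin S.f V.1) := by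
      ext s
      constructor
      · intro hs
        obtain ⟨t, ht⟩ := Groth.Agent.H12.QCohAbelian.app_exact_of_exact_of_mono S hS.exact V.1 s hs
        exact ⟨t, ht⟩
      · rintro ⟨t, rfl⟩
        change S.g.app V.1 (S.f.app V.1 t) = 0
        rw [← comp_app_apply, S.zero]
        rfl
    rw [hker, ← Submodule.map_top]
    exact Submodule.FG.map _ Module.Finite.fg_top

/-- pushforward is left exact -/
noncomputable def pushKernelIso (f : X ⟶ Y) (S : ShortComplex X.Modules) (hS : S.ShortExact) :
    (Scheme.Modules.pushforward f).obj S.X₁ ≅ kernel ((Scheme.Modules.pushforward f).map S.g) :=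
  have h := (Functor.preservesFiniteLimits_iff_forall_exact_map_and_mono
    (Scheme.Modules.pushforward f)).1 inferInstance S hS
  haveI : Mono (S.map (Scheme.Modules.pushforward f)).f := h.2
  IsLimit.conePointUniqueUpToIso h.1.fIsKernel (limit.isLimit _)

end Groth.Agent.H67.Dev
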