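import Groth.Agent.H67.DevPushCoh
import Groth.Agent.S10865

/-!
# Coherence of direct images from witnesses on integral closed subschemes (S10866)
-/

set_option autoImplicit false
set_option linter.style.haveILetI false
set_option linter.unusedSectionVars false
set_option linter.unusedVariables false
universe u
open CategoryTheory Limits AlgebraicGeometry TopologicalSpace Opposite

namespace Groth.Agent.H67.Dev

theorem isCoh_pushforward_of_witness {X Y : Scheme.{u}} [IsNoetherian X] [IsNoetherian Y]
    (f : X ⟶ Y)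
    (hgen : ∀ (Z : Scheme.{u}) (i : Z ⟶ X) [IsClosedImmersion i] [IsIntegral Z],
      ∃ H : Z.Modules, Coh.IsCoh H ∧ Nontrivial (H.presheaf.stalk (genericPoint Z)) ∧
        Coh.IsCoh ((Scheme.Modules.pushforward (i ≫ f)).obj H))
    (F : X.Modules) (hF : Coh.IsCoh F) : Coh.IsCoh ((Scheme.Modules.pushforward f).obj F) := by
  classical
  -- the empty case
  by_cases hne : Nonempty X
  swap
  · have hz : IsZero F := by
      rw [Groth.Agent.H71.QCoh.isZero_iff_support_eq_empty, Set.eq_empty_iff_forall_notMem]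
      intro x _
      exact hne ⟨x⟩
    exact Groth.Agent.H67.Dev.isCoh_of_isZero ((Scheme.Modules.pushforward f).map_isZero hz)
  haveI := hne
  let K : ObjectProperty X.Modules := fun F => Coh.IsCoh ((Scheme.Modules.pushforward f).obj F)
  haveI : K.IsClosedUnderIsomorphisms :=
    ⟨fun {A B} e (h : Coh.IsCoh ((Scheme.Modules.pushforward f).obj A)) =>
      Groth.Agent.S0026.isCoh_iso _ _ ((Scheme.Modules.pushforward f).mapIso e) h⟩
  have hq : ∀ A : X.Modules, Coh.IsCoh A →
      ((Scheme.Modules.pushforward f).obj A).IsQuasicoherent := by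
    intro A hA
    haveI : A.IsQuasicoherent := hA.1
    exact Groth.Agent.H8.isQuasicoherent_pushforward_of_qcqs f A
  refine Groth.Agent.S10865.result X K ?_ ?_ ?_ F hF
  · intro S hS c1 c2 c3
    have hk : K S.X₂ → K S.X₃ → K S.X₁ := by
      intro (k2 : Coh.IsCoh ((Scheme.Modules.pushforward f).obj S.X₂))
        (k3 : Coh.IsCoh ((Scheme.Modules.pushforward f).obj S.X₃))
      exact Groth.Agent.S0026.isCoh_iso _ _ (Groth.Agent.H67.Dev.pushKernelIso f S hS).symm
        (Groth.Agent.H67.Dev.isCoh_kernel ((Scheme.Modules.pushforward f).map S.g) k2 k3.1)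
    refine ⟨hk, ?_⟩
    intro (k1 : Coh.IsCoh ((Scheme.Modules.pushforward f).obj S.X₁))
      (k3 : Coh.IsCoh ((Scheme.Modules.pushforward f).obj S.X₃))
    have hq2 := hq S.X₂ c2
    haveI := hq2
    haveI : ((Scheme.Modules.pushforward f).obj S.X₃).IsQuasicoherent := k3.1
    haveI : SheafOfModules.IsFiniteType (R := Y.ringCatSheaf)
      ((Scheme.Modules.pushforward f).obj S.X₃) := k3.2
    let g' := (Scheme.Modules.pushforward f).map S.g
    have hKc : Coh.IsCoh (kernel g') :=
      Groth.Agent.S0026.isCoh_iso _ _ (Groth.Agent.H67.Dev.pushKernelIso f S hS) k1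
    haveI : (kernel g').IsQuasicoherent := hKc.1
    haveI hCq : (cokernel (kernel.ι g')).IsQuasicoherent :=
      Groth.Agent.H12.QCohAbelian.isQuasicoherent_cokernel _
    have hCc : Coh.IsCoh (cokernel (kernel.ι g')) :=
      ⟨hCq, Groth.Agent.H71.QCoh.isFiniteType_of_mono (Abelian.factorThruCoimage g')⟩
    exact Groth.Agent.H67.Dev.isCoh_of_shortExact _
      (Groth.Agent.H67.Dev.shortExact_cokernel (kernel.ι g')) hKc hCc hq2
  · intro A d hd hA (hk : Coh.IsCoh ((Scheme.Modules.pushforward f).obj (∐ fun _ : Fin d => A)))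
    have hq1 := hq A hA
    haveI := hq1
    haveI : ((Scheme.Modules.pushforward f).obj (∐ fun _ : Fin d => A)).IsQuasicoherent := hk.1
    haveI : SheafOfModules.IsFiniteType (R := Y.ringCatSheaf)
      ((Scheme.Modules.pushforward f).obj (∐ fun _ : Fin d => A)) := hk.2
    have hret : (Scheme.Modules.pushforward f).map (Sigma.ι (fun _ : Fin d => A) ⟨0, hd⟩) ≫
        (Scheme.Modules.pushforward f).map
          (Groth.Agent.H12.AffHomCrit.sproj (fun _ : Fin d => A) ⟨0, hd⟩) = 𝟙 _ := by
      rw [← Functor.map_comp, Groth.Agent.H12.AffHomCrit.ι_sproj_self,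
        CategoryTheory.Functor.map_id]
    haveI : Mono ((Scheme.Modules.pushforward f).map (Sigma.ι (fun _ : Fin d => A) ⟨0, hd⟩)) :=
      mono_of_mono_fac hret
    exact ⟨hq1, Groth.Agent.H71.QCoh.isFiniteType_of_mono
      ((Scheme.Modules.pushforward f).map (Sigma.ι (fun _ : Fin d => A) ⟨0, hd⟩))⟩
  · intro Z i _ _
    obtain ⟨H, hH, hnt, hc⟩ := hgen Z i
    refine ⟨H, hH, hnt, ?_⟩
    exact Groth.Agent.S0026.isCoh_iso _ _
      ((Scheme.Modules.pushforwardComp i f).app H).symm hc


end Groth.Agent.H67.Dev
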