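import Groth.Agent.H67.DevGlobal
import Groth.Agent.H71.QCoh.SupportProper
import Groth.Agent.H71.QCoh.EpiLocus
import Groth.Agent.H5.Stalk.Exact
import Groth.Agent.H33.LocCoh.Conservative

/-!
# Supports and generic points (towards the dévissage lemmas Stacks 01YI, 01YL, 01YM)
-/

set_option autoImplicit false
set_option linter.style.haveILetI false
set_option linter.unusedSectionVars false
set_option linter.unusedVariables false
universe u
open CategoryTheory Limits AlgebraicGeometry TopologicalSpace Opposite
open Groth.Agent.H18 (mres mres_mres mres_self mres_smul)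
open Groth.Agent.H5.Stalk (stalkFunctor)

namespace Groth.Agent.H67.Dev

variable {X Z : Scheme.{u}} (i : Z ⟶ X)

section Supp

theorem support_subset_of_mono {A B : X.Modules} (f : A ⟶ B) [Mono f] :
    CohB1.support A ⊆ CohB1.support B := by
  intro x hx hB
  apply hx
  haveI : Subsingleton ((stalkFunctor x).obj B) := hB
  exact (Groth.Agent.H5.Stalk.stalkFunctor_map_injective_of_mono x f).subsingleton

theorem support_subset_of_epi {A B : X.Modules} (f : A ⟶ B) [Epi f] :
    CohB1.support B ⊆ CohB1.support A := by
  intro x hx hA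
  apply hx
  haveI : Subsingleton ((stalkFunctor x).obj A) := hA
  have h1 : Epi ((stalkFunctor x).map f) := inferInstance
  have h2 : Function.Surjective ((stalkFunctor x).map f).hom :=
    (ModuleCat.epi_iff_surjective _).mp h1
  exact h2.subsingleton

theorem support_eq_of_iso {A B : X.Modules} (e : A ≅ B) : CohB1.support A = CohB1.support B :=
  Set.Subset.antisymm (support_subset_of_mono e.hom) (support_subset_of_mono e.inv)

end Supp

section Generic

variable [IsClosedImmersion i] [IsIntegral Z]

theorem closure_singleton_gen : closure {i (genericPoint Z)} = Set.range i := by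
  have h1 : closure (i '' {genericPoint Z}) = i '' closure {genericPoint Z} :=
    i.isClosedEmbedding.closure_image_eq _
  rw [Set.image_singleton] at h1
  rw [h1, (genericPoint_spec Z).def, Set.image_univ]

theorem eq_gen_of_closure_eq {ξ : X} (h : closure {ξ} = Set.range i) :
    ξ = i (genericPoint Z) := by
  have h1 : closure {ξ} = closure {i (genericPoint Z)} := h.trans (closure_singleton_gen i).symm
  exact (inseparable_iff_closure_eq.mpr h1).eq

theorem range_subset_of_gen_mem {T : Set X} (hT : IsClosed T) (h : i (genericPoint Z) ∈ T) :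
    Set.range i ⊆ T := by
  rw [← closure_singleton_gen i]
  exact hT.closure_subset_iff.mpr (Set.singleton_subset_iff.mpr h)

end Generic

section SubPushO

variable [IsIntegral Z]

/-- a subsheaf of `i_* O_Z` with vanishing stalk at the generic point is zero -/
theorem isZero_of_mono_pushO {N : X.Modules} (κ : N ⟶ pushO i) [Mono κ]
    (h : i (genericPoint Z) ∉ CohB1.support N) : IsZero N := by
  have hs : Subsingleton (N.presheaf.stalk (i (genericPoint Z))) := not_not.mp h
  have h0 : ∀ (V : X.Opens) (s : Γ(N, V)), s = 0 := by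
    intro V s
    apply Groth.Agent.H12.QCohAbelian.app_injective_of_mono κ V
    rw [map_zero]
    by_cases hξ : i (genericPoint Z) ∈ V
    · have hg : N.presheaf.germ V _ hξ s = N.presheaf.germ V _ hξ 0 := Subsingleton.elim _ _
      obtain ⟨V', hξ', i₁, i₂, he⟩ := TopCat.Presheaf.germ_eq N.presheaf _ hξ hξ s 0 hg
      have hle : V' ≤ V := leOfHom i₁
      have he' : mres N hle s = 0 := by
        have h2 : N.presheaf.map i₂.op (0 : Γ(N, V)) = 0 := map_zero _
        exact he.trans h2
      apply pushO_res_injective i hle hξ'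
      rw [map_zero, Groth.Agent.H12.QCohExt.app_mres, he', map_zero]
    · haveI := subsingleton_pushO_of_notMem i hξ
      exact Subsingleton.elim _ _
  rw [Groth.Agent.H71.QCoh.isZero_iff_support_eq_empty, Set.eq_empty_iff_forall_notMem]
  intro x hx
  apply hx
  refine Groth.Agent.H71.QCoh.subsingleton_stalk_of_subsingleton_sections N ⊤
    (fun W _ => ⟨fun a b => (h0 W a).trans (h0 W b).symm⟩) (show x ∈ (⊤ : X.Opens) from trivial)

variable [IsClosedImmersion i]

theorem mem_support_push {I : Z.Modules} (ι : I ⟶ Coh.structureModule Z) [Mono ι]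
    (hI : ¬ IsZero I) :
    i (genericPoint Z) ∈ CohB1.support ((Scheme.Modules.pushforward i).obj I) := by
  by_contra h
  apply hI
  haveI : Mono ((Scheme.Modules.pushforward i).map ι) := inferInstance
  have hz := isZero_of_mono_pushO i ((Scheme.Modules.pushforward i).map ι) h
  rw [IsZero.iff_id_eq_zero] at hz ⊢
  apply (Scheme.Modules.pushforward i).map_injective
  rw [CategoryTheory.Functor.map_id, Functor.map_zero]
  exact hz

end SubPushO

section StalkPushO

variable [IsIntegral Z]

theorem maximalIdeal_smul_stalk_pushO (c : X.presheaf.stalk (i (genericPoint Z)))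
    (hc : c ∈ IsLocalRing.maximalIdeal (X.presheaf.stalk (i (genericPoint Z))))
    (z : (pushO i).presheaf.stalk (i (genericPoint Z))) : c • z = 0 := by
  obtain ⟨U, hx, c', z', rfl, rfl⟩ :=
    Groth.Agent.H5.Stalk.exists_germ_eq₂ (pushO i) (i (genericPoint Z)) c z
  rw [← Groth.Agent.H5.Stalk.germ_smul]
  have hc' : c' ∈ kerI i U := by
    by_contra hn
    have h1 := mem_basicOpen_of_notMem_kerI i hx c' hn
    rw [X.mem_basicOpen c' _ hx] at h1
    exact (IsLocalRing.mem_maximalIdeal _).mp hc h1
  have h0 : c' • z' = 0 := by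
    apply (secE i U).injective
    rw [secE_smul, (mem_kerI_iff i c').mp hc', zero_mul]
    exact (secE i U).map_zero.symm
  rw [h0, map_zero]

/-- the germ of the unit section of `i_* O_Z` -/
noncomputable def germOne : (pushO i).presheaf.stalk (i (genericPoint Z)) :=
  (pushO i).presheaf.germ ⊤ (i (genericPoint Z)) trivial ((secE i ⊤).symm 1)

variable [IsClosedImmersion i]

theorem stalk_pushO_cyclic (z : (pushO i).presheaf.stalk (i (genericPoint Z))) :
    ∃ c : X.presheaf.stalk (i (genericPoint Z)), z = c • germOne i := by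
  obtain ⟨U, hξU, z', rfl⟩ := (pushO i).presheaf.exists_germ_eq z
  obtain ⟨_, ⟨V, hV : IsAffineOpen V, rfl⟩, hξV, hVU⟩ :=
    X.isBasis_affineOpens.exists_subset_of_mem_open hξU U.2
  have hVU' : V ≤ U := hVU
  obtain ⟨a, ha⟩ := toPushO_app_surjective i hV (mres (pushO i) hVU' z')
  obtain ⟨a, rfl⟩ := (secO V).symm.surjective a
  rw [toPushO_app_eq_smul_one] at ha
  refine ⟨X.presheaf.germ V _ hξV a, ?_⟩
  have h1 : (pushO i).presheaf.germ U _ hξU z' =
      (pushO i).presheaf.germ V _ hξV (mres (pushO i) hVU' z') :=
    (TopCat.Presheaf.germ_res_apply _ (homOfLE hVU') _ hξV z').symm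
  have h2 : germOne i = (pushO i).presheaf.germ V _ hξV ((secE i V).symm 1) := by
    unfold germOne
    have h3 : (secE i V).symm 1 = mres (pushO i) (le_top : V ≤ ⊤) ((secE i ⊤).symm 1) := by
      apply (secE i V).injective
      have h4 : secE i V (mres (pushO i) (le_top : V ≤ ⊤) ((secE i ⊤).symm 1)) =
          Z.presheaf.map (homOfLE (show i ⁻¹ᵁ V ≤ i ⁻¹ᵁ ⊤ from fun _ _ => trivial)).op
            (secE i ⊤ ((secE i ⊤).symm 1)) := secE_map i (le_top : V ≤ ⊤) _
      rw [h4, AddEquiv.apply_symm_apply, AddEquiv.apply_symm_apply]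
      exact (map_one _).symm
    rw [h3]
    exact (TopCat.Presheaf.germ_res_apply _ (homOfLE (le_top : V ≤ ⊤)) _ hξV _).symm
  rw [h1, ← ha, h2, ← Groth.Agent.H5.Stalk.germ_smul]

/-- a nonzero subsheaf of `i_* O_Z` is everything near the generic point -/
theorem notMem_support_cokernel_of_mono_pushO {N : X.Modules} (b : N ⟶ pushO i) [Mono b]
    (h : i (genericPoint Z) ∈ CohB1.support N) :
    i (genericPoint Z) ∉ CohB1.support (cokernel b) := by
  intro hcok
  apply hcok
  have hnt : Nontrivial ((stalkFunctor (i (genericPoint Z))).obj N) :=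
    not_subsingleton_iff_nontrivial.mp h
  obtain ⟨n, hn⟩ := exists_ne (0 : (stalkFunctor (i (genericPoint Z))).obj N)
  let β := ((stalkFunctor (i (genericPoint Z))).map b).hom
  have hβ : Function.Injective β :=
    Groth.Agent.H5.Stalk.stalkFunctor_map_injective_of_mono _ b
  have hβn : β n ≠ 0 := fun h0 => hn (hβ (h0.trans (map_zero β).symm))
  obtain ⟨c, hc⟩ := stalk_pushO_cyclic i (β n)
  have hcu : IsUnit c := by
    by_contra hnu
    apply hβn
    rw [hc]
    exact maximalIdeal_smul_stalk_pushO i c ((IsLocalRing.mem_maximalIdeal c).mpr hnu) _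
  obtain ⟨u, rfl⟩ := hcu
  have hsurj : Function.Surjective β := by
    intro z
    obtain ⟨c', hc'⟩ := stalk_pushO_cyclic i z
    have hcalc : (c' * ↑u⁻¹) • ((↑u : X.presheaf.stalk (i (genericPoint Z))) • germOne i) =
        c' • germOne i := by
      rw [smul_smul, mul_assoc, Units.inv_mul, mul_one]
    refine ⟨(c' * ↑u⁻¹) • n, ?_⟩
    rw [map_smul, hc, hc']
    exact hcalc
  -- the cokernel has zero stalk
  let S : ShortComplex X.Modules := ShortComplex.mk b (cokernel.π b) (cokernel.condition b)
  have hS : S.ShortExact :=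
    { exact := ShortComplex.exact_cokernel b
      mono_f := (inferInstance : Mono b)
      epi_g := (inferInstance : Epi (cokernel.π b)) }
  have hS' := Groth.Agent.H5.Stalk.stalkFunctor_map_shortExact (i (genericPoint Z)) S hS
  have hπ : Function.Surjective ((stalkFunctor (i (genericPoint Z))).map (cokernel.π b)).hom :=
    (ModuleCat.epi_iff_surjective _).mp hS'.epi_g
  have h0 : ∀ y : (cokernel b).presheaf.stalk (i (genericPoint Z)), y = 0 := by
    intro y
    obtain ⟨z, rfl⟩ := hπ y
    obtain ⟨m, rfl⟩ := hsurj z
    have h1 : (stalkFunctor (i (genericPoint Z))).map b ≫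
        (stalkFunctor (i (genericPoint Z))).map (cokernel.π b) = 0 := by
      rw [← Functor.map_comp, cokernel.condition, Functor.map_zero]
    exact congr($(h1).hom m)
  exact ⟨fun a b => (h0 a).trans (h0 b).symm⟩

end StalkPushO

end Groth.Agent.H67.Dev
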