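import Groth.Agent.H67.DoubleInvol
import Groth.Agent.H67.NormFinLocFree
import Groth.Agent.H18.AffAlgBij
import Groth.Agent.H12.AlgGen
import Groth.Prelude.Def_SGA1

/-!
# A double cover with `2` invertible is the quotient by an involution (helper67)
-/

set_option autoImplicit false
set_option linter.style.haveILetI false
universe u
open CategoryTheory AlgebraicGeometry TopologicalSpace Opposite

namespace Groth.Agent.H67.DoubleCoverQuot

open Groth.Agent.H67.NormFLF

variable {X Y : Scheme.{u}} (f : X ⟶ Y)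

attribute [local instance] algApp

/-- the direct image algebra of a cover of degree `d` is locally free of rank `d` -/
theorem isFinLocFreeOfRank_directImage [IsFinite f] {d : ℕ} (hf : Mor2.IsFinLocFreeOfDeg d f) :
    FlatMod.IsFinLocFreeOfRank d (RelSpec.QCAlg.directImage f).toModule := by
  intro y
  obtain ⟨_, ⟨⟨W, hW⟩, rfl⟩, hyW, -⟩ := (Opens.isBasis_iff_nbhd.1 (isBasis_good hf.1))
    (show y ∈ (⊤ : Y.Opens) from trivial)
  haveI : Nontrivial Γ(Y, W) := (hW.1.primeIdealOf ⟨y, hyW⟩).nontrivial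
  have hr := finrank_eq_of_good hf hW
  obtain ⟨hWa, hfree, hfinite⟩ := hW
  let b := Module.finBasisOfFinrankEq Γ(Y, W) Γ(X, f ⁻¹ᵁ W) hr
  haveI := Groth.Agent.H12.AlgGen.isQuasicoherent_toModule (RelSpec.QCAlg.directImage f)
  obtain ⟨e⟩ := Groth.Agent.H44.nonempty_iso_freeMod_of_basis
    (RelSpec.QCAlg.directImage f).toModule hWa b
  exact ⟨W, hyW, ⟨e⟩⟩

theorem appLE_eq_of_eq {X Y : Scheme.{u}} {h f : X ⟶ Y} (e : h = f) (U : Y.Opens) (V : X.Opens)
    (hV : V ≤ h ⁻¹ᵁ U) : h.appLE U V hV = f.appLE U V (e ▸ hV) := by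
  subst e; rfl

/-- the automorphisms of `X` over `Y` -/
def autOver : Subgroup (Aut X) where
  carrier := {g | g.hom ≫ f = f}
  mul_mem' := by
    intro a b ha hb
    have ha' : Iso.hom (a : X ≅ X) ≫ f = f := ha
    have hb' : Iso.hom (b : X ≅ X) ≫ f = f := hb
    change (Iso.hom (b : X ≅ X) ≫ Iso.hom (a : X ≅ X)) ≫ f = f
    rw [Category.assoc, ha', hb']
  one_mem' := Category.id_comp f
  inv_mem' := by
    intro a ha
    have ha' : Iso.hom (a : X ≅ X) ≫ f = f := ha
    change Iso.inv (a : X ≅ X) ≫ f = f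
    exact (Iso.inv_comp_eq (a : X ≅ X)).2 ha'.symm

open Groth.Agent.H67.DoubleInvol in
/-- a double cover of a scheme on which `2` is invertible is the quotient by an involution -/
theorem exists_invol [IsFinite f] [Flat f] [LocallyOfFinitePresentation f]
    (hrk : ∀ y : Y, f.finrank y = 2) (h2 : IsUnit (2 : Γ(Y, ⊤))) :
    ∃ σ : Aut X, σ.hom ≫ f = f ∧ σ * σ = 1 ∧ SGA1.IsQuot (Subgroup.zpowers σ).subtype f := by
  have hf : Mor2.IsFinLocFreeOfDeg 2 f := ⟨⟨inferInstance, inferInstance, inferInstance⟩, hrk⟩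
  have hA := isFinLocFreeOfRank_directImage f hf
  obtain ⟨u, hu⟩ := h2.exists_right_inv
  have hω : f.c ≫ invHom hA u hu = f.c := str_invHom hA u hu
  obtain ⟨⟨σ, w⟩, hσ⟩ := Groth.Agent.H18.algOf_surjective f f ⟨invHom hA u hu, hω⟩
  have hσ' : AffAlg.algHom f f σ w = invHom hA u hu := congrArg Subtype.val hσ
  have hle : ∀ U : Y.Opens, f ⁻¹ᵁ U ≤ σ ⁻¹ᵁ (f ⁻¹ᵁ U) := fun U => by
    rw [← Scheme.Hom.comp_preimage, w]
  have key : ∀ U : Y.Opens, σ.appLE (f ⁻¹ᵁ U) (f ⁻¹ᵁ U) (hle U) = (invHom hA u hu).app (op U) :=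
    fun U => by rw [← Groth.Agent.H18.algHom_app_eq_appLE f f σ w U, hσ']
  have hσσ : σ ≫ σ = 𝟙 X := by
    have w2 : (σ ≫ σ) ≫ f = f := by rw [Category.assoc, w, w]
    have w1 : 𝟙 X ≫ f = f := Category.id_comp f
    have h3 : AffAlg.algOf f f ⟨σ ≫ σ, w2⟩ = AffAlg.algOf f f ⟨𝟙 X, w1⟩ := by
      apply Subtype.ext
      change AffAlg.algHom f f (σ ≫ σ) w2 = AffAlg.algHom f f (𝟙 X) w1
      apply NatTrans.ext
      funext U
      obtain ⟨U⟩ := U
      rw [Groth.Agent.H18.algHom_app_eq_appLE, Groth.Agent.H18.algHom_app_eq_appLE,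
        ← Scheme.Hom.appLE_comp_appLE σ σ (f ⁻¹ᵁ U) (f ⁻¹ᵁ U) (f ⁻¹ᵁ U) (hle U) (hle U), key]
      have h7 : (invHom hA u hu).app (op U) ≫ (invHom hA u hu).app (op U) = 𝟙 _ := by
        ext a
        exact inv_inv hA U a
      refine h7.trans ?_
      simp only [Scheme.Hom.appLE, Scheme.Hom.id_app]
      exact (X.presheaf.map_id _).symm
    exact congrArg Subtype.val (Groth.Agent.H18.algOf_injective f f h3)
  let σ' : Aut X := ⟨σ, σ, hσσ, hσσ⟩
  refine ⟨σ', w, ?_, ?_⟩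
  · apply Iso.ext
    change σ ≫ σ = 𝟙 X
    exact hσσ
  have hmem : ∀ g : Subgroup.zpowers σ', (g.1).hom ≫ f = f := fun g =>
    (Subgroup.zpowers_le (H := autOver f)).2 (show σ' ∈ autOver f from w) g.2
  refine ⟨inferInstance, hmem, ?_, ?_⟩
  · intro U
    exact str_injective hA u hu U
  · intro U s
    constructor
    · rintro ⟨r, rfl⟩ g
      have h4 := Scheme.Hom.appLE_comp_appLE (g.1).hom f U (f ⁻¹ᵁ U) (f ⁻¹ᵁ U) le_rfl
        (SGA1.preimage_le_of_inv (Subgroup.zpowers σ').subtype f hmem g U)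
      rw [appLE_eq_of_eq (hmem g), Scheme.Hom.appLE_eq_app] at h4
      exact congrArg (fun φ => φ.hom r) h4
    · intro h
      have h5 := h ⟨σ', Subgroup.mem_zpowers σ'⟩
      have h6 : inv hA U s = s := by
        have := congrArg (fun φ => φ.hom s) (key U)
        exact this.symm.trans h5
      exact ⟨_, (eq_str_of_inv_eq hA u hu U s h6).symm⟩

end Groth.Agent.H67.DoubleCoverQuot
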