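import Mathlib

set_option autoImplicit false

namespace Groth.Agent.H67.RankTwo

open Polynomial

/-- Cayley–Hamilton in a free algebra of rank two -/
theorem sq_eq {R B : Type*} [CommRing R] [CommRing B] [Algebra R B]
    (b : Module.Basis (Fin 2) R B) (x : B) :
    x ^ 2 = Algebra.trace R B x • x - algebraMap R B (Algebra.norm R x) := by
  rcases subsingleton_or_nontrivial R with hR | hR
  · have : Subsingleton B := Module.subsingleton R B
    exact Subsingleton.elim _ _
  have h1 := Matrix.aeval_self_charpoly (Algebra.leftMulMatrix b x)
  rw [Matrix.charpoly_fin_two] at h1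
  simp only [map_add, map_sub, map_mul, map_pow, aeval_X, aeval_C] at h1
  rw [← Algebra.trace_eq_matrix_trace b, ← Algebra.norm_eq_matrix_det b] at h1
  have h2 : (Algebra.leftMulMatrix b) (x ^ 2 - (algebraMap R B (Algebra.trace R B x)) * x +
      algebraMap R B (Algebra.norm R x)) = 0 := by
    rw [map_add, map_sub, map_mul, map_pow]
    have h3 : ∀ r : R, Algebra.leftMulMatrix b (algebraMap R B r) =
        algebraMap R (Matrix (Fin 2) (Fin 2) R) r := fun r => AlgHom.commutes _ r
    rw [h3, h3]
    exact h1
  have h4 := (Algebra.leftMulMatrix_injective b) (h2.trans (map_zero _).symm)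
  rw [Algebra.smul_def]
  linear_combination h4

/-- in a free algebra of rank two over a ring where `2` is invertible, the product of two
trace-zero elements is a scalar -/
theorem mul_eq_of_trace_eq_zero {R B : Type*} [CommRing R] [CommRing B] [Algebra R B]
    (b : Module.Basis (Fin 2) R B) (u : R) (hu : 2 * u = 1) (x y : B)
    (hx : Algebra.trace R B x = 0) (hy : Algebra.trace R B y = 0) :
    x * y = algebraMap R B (u * Algebra.trace R B (x * y)) := by
  have hxy : Algebra.trace R B (x + y) = 0 := by rw [map_add, hx, hy, add_zero]
  have h1 := sq_eq b x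
  have h2 := sq_eq b y
  have h3 := sq_eq b (x + y)
  rw [hx, zero_smul, zero_sub] at h1
  rw [hy, zero_smul, zero_sub] at h2
  rw [hxy, zero_smul, zero_sub] at h3
  set c : R := u * (Algebra.norm R x + Algebra.norm R y - Algebra.norm R (x + y)) with hc
  have h4 : x * y = algebraMap R B c := by
    have h5 : (2 : B) * (x * y) = algebraMap R B (Algebra.norm R x + Algebra.norm R y -
        Algebra.norm R (x + y)) := by
      rw [map_sub, map_add]
      linear_combination h3 - h1 - h2
    have h6 : algebraMap R B u * 2 = 1 := by
      have := congrArg (algebraMap R B) hu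
      rw [map_mul, map_one, map_ofNat] at this
      rw [mul_comm]; exact this
    calc x * y = (algebraMap R B u * 2) * (x * y) := by rw [h6, one_mul]
      _ = algebraMap R B u * ((2 : B) * (x * y)) := by ring
      _ = algebraMap R B c := by rw [h5, hc, map_mul]
  have h7 : Algebra.trace R B (x * y) = 2 * c := by
    rw [h4, Algebra.trace_algebraMap_of_basis b, Fintype.card_fin, nsmul_eq_mul]
    norm_num
  rw [h7]
  rw [h4]
  congr 1
  calc c = (2 * u) * c := by rw [hu, one_mul]
    _ = u * (2 * c) := by ring

end Groth.Agent.H67.RankTwo
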