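import Groth.Agent.H67.TraceSplit
import Groth.Agent.H67.RankTwo
import Groth.Agent.H18.STL.Basic

set_option autoImplicit false
set_option linter.style.haveILetI false
universe u
open CategoryTheory CategoryTheory.Limits AlgebraicGeometry TopologicalSpace Opposite TensorProduct

/-!
# Rank two algebras as double algebras `O ⊕ ker τ` (helper67)

For `A` locally free of rank `2` with trace `τ` and `2` invertible: the pairing
`(l, l') ↦ τ(l l') / 2` on `ker τ` (`pairHom`) and `FinCov.IsDblAlg (kernel τ) (pairHom τ u) A (kernel.ι τ)`.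
-/

namespace Groth.Agent.H67.TraceDouble

open Groth.Agent.H67.TraceGlue Groth.Agent.H67.TraceSplit Groth.Agent.H92.LocFreeRank
  Groth.Agent.H18

variable {X : Scheme.{u}} (A : RelSpec.QCAlg X)

/-- product of two sections of the underlying module of `A` -/
noncomputable def mulSec (U : X.Opens) (a b : Γ(A.toModule, U)) : Γ(A.toModule, U) :=
  (show A.presheaf.obj (op U) from a) * (show A.presheaf.obj (op U) from b)

theorem mulSec_add_left (U : X.Opens) (a a' b : Γ(A.toModule, U)) :
    mulSec A U (a + a') b = mulSec A U a b + mulSec A U a' b :=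
  add_mul (show A.presheaf.obj (op U) from a) (show A.presheaf.obj (op U) from a')
    (show A.presheaf.obj (op U) from b)

theorem mulSec_add_right (U : X.Opens) (a b b' : Γ(A.toModule, U)) :
    mulSec A U a (b + b') = mulSec A U a b + mulSec A U a b' :=
  mul_add (show A.presheaf.obj (op U) from a) (show A.presheaf.obj (op U) from b)
    (show A.presheaf.obj (op U) from b')

theorem mulSec_smul_left (U : X.Opens) (r : Γ(X, U)) (a b : Γ(A.toModule, U)) :
    mulSec A U (r • a) b = r • mulSec A U a b :=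
  mul_assoc ((A.str.app (op U)).hom r) (show A.presheaf.obj (op U) from a)
    (show A.presheaf.obj (op U) from b)

theorem mulSec_smul_right (U : X.Opens) (r : Γ(X, U)) (a b : Γ(A.toModule, U)) :
    mulSec A U a (r • b) = r • mulSec A U a b :=
  mul_left_comm (show A.presheaf.obj (op U) from a) ((A.str.app (op U)).hom r)
    (show A.presheaf.obj (op U) from b)

theorem mres_mulSec {U V : X.Opens} (h : V ≤ U) (a b : Γ(A.toModule, U)) :
    mres A.toModule h (mulSec A U a b) = mulSec A V (mres A.toModule h a) (mres A.toModule h b) :=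
  map_mul (rA A h) (show A.presheaf.obj (op U) from a) (show A.presheaf.obj (op U) from b)

theorem app_mres {M N : X.Modules} (φ : M ⟶ N) {W W' : X.Opens} (h : W' ≤ W) (x : Γ(M, W)) :
    mres N h (φ.app W x) = φ.app W' (mres M h x) := by
  have := φ.mapPresheaf.naturality (homOfLE h).op
  exact (congrArg (fun k => k.hom x) this).symm

variable {A} (τ : A.toModule ⟶ Coh.structureModule X) (u : Γ(X, ⊤))

/-- the pairing on the kernel of the trace: `(l, l') ↦ u τ(l l')` -/
noncomputable def pair (U : X.Opens) (l l' : Γ(kernel τ, U)) : Γ(Coh.structureModule X, U) :=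
  (NormGlue.rY X (le_top : U ≤ ⊤) u) •
    τ.app U (mulSec A U ((kernel.ι τ).app U l) ((kernel.ι τ).app U l'))

theorem pair_add_left (U : X.Opens) (l₁ l₂ l' : Γ(kernel τ, U)) :
    pair τ u U (l₁ + l₂) l' = pair τ u U l₁ l' + pair τ u U l₂ l' := by
  unfold pair
  rw [map_add, mulSec_add_left, map_add, smul_add]

theorem pair_add_right (U : X.Opens) (l l₁ l₂ : Γ(kernel τ, U)) :
    pair τ u U l (l₁ + l₂) = pair τ u U l l₁ + pair τ u U l l₂ := by
  unfold pair
  rw [map_add, mulSec_add_right, map_add, smul_add]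

theorem pair_smul_left (U : X.Opens) (r : Γ(X, U)) (l l' : Γ(kernel τ, U)) :
    pair τ u U (r • l) l' = r • pair τ u U l l' := by
  unfold pair
  rw [Scheme.Modules.Hom.app_smul, mulSec_smul_left, Scheme.Modules.Hom.app_smul, smul_comm]

theorem pair_smul_right (U : X.Opens) (r : Γ(X, U)) (l l' : Γ(kernel τ, U)) :
    pair τ u U l (r • l') = r • pair τ u U l l' := by
  unfold pair
  rw [Scheme.Modules.Hom.app_smul, mulSec_smul_right, Scheme.Modules.Hom.app_smul, smul_comm]

theorem mres_pair {U V : X.Opens} (h : V ≤ U) (l l' : Γ(kernel τ, U)) :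
    mres (Coh.structureModule X) h (pair τ u U l l') =
      pair τ u V (mres (kernel τ) h l) (mres (kernel τ) h l') := by
  unfold pair
  rw [mres_smul, app_mres, mres_mulSec, app_mres, app_mres]
  congr 1
  exact NormGlue.rY_rY (le_top : U ≤ ⊤) h u

/-- the pairing on the presheaf tensor product -/
noncomputable def pairPre :
    CohB1.tensorPre (kernel τ) (kernel τ) ⟶ CohB1.toPMod (Coh.structureModule X) where
  app U := ModuleCat.MonoidalCategory.tensorLift
    (fun (l l' : Γ(kernel τ, U.unop)) => (pair τ u U.unop l l' : Γ(Coh.structureModule X, U.unop)))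
    (fun l₁ l₂ l' => pair_add_left τ u U.unop l₁ l₂ l')
    (fun r l l' => pair_smul_left τ u U.unop r l l')
    (fun l l₁ l₂ => pair_add_right τ u U.unop l l₁ l₂)
    (fun r l l' => pair_smul_right τ u U.unop r l l')
  naturality {_ _} f := ModuleCat.MonoidalCategory.tensor_ext (fun l l' =>
    (mres_pair τ u (leOfHom f.unop) l l').symm)

theorem pairPre_app_tmul (V : X.Opens) (l l' : (kernel τ).val.obj (op V)) :
    ((pairPre τ u).app (op V)).hom (l ⊗ₜ l') = pair τ u V l l' := rfl

/-- the pairing `ker τ ⊗ ker τ ⟶ O_X` -/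
noncomputable def pairHom : CohB1.tensorMod (kernel τ) (kernel τ) ⟶ Coh.structureModule X :=
  (PresheafOfModules.sheafificationHomEquiv (R := X.ringCatSheaf) (𝟙 X.ringCatSheaf.obj)
    (P := (CohB1.tensorPre (kernel τ) (kernel τ) : X.PresheafOfModules))
    (F := Coh.structureModule X)).symm (pairPre τ u)

theorem pairHom_tmul (U : X.Opens) (l l' : Γ(kernel τ, U)) :
    (pairHom τ u).app U (SecTwist.tmul (kernel τ) (kernel τ) U l l') = pair τ u U l l' := by
  have h0 : PresheafOfModules.sheafificationHomEquiv (R := X.ringCatSheaf) (𝟙 X.ringCatSheaf.obj)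
      (P := (CohB1.tensorPre (kernel τ) (kernel τ) : X.PresheafOfModules))
      (F := Coh.structureModule X) (pairHom τ u) = pairPre τ u := Equiv.apply_symm_apply _ _
  have h1 := PresheafOfModules.toPresheaf_map_sheafificationHomEquiv_def (R := X.ringCatSheaf)
    (𝟙 X.ringCatSheaf.obj) (P := (CohB1.tensorPre (kernel τ) (kernel τ) : X.PresheafOfModules))
    (pairHom τ u)
  rw [h0] at h1
  have h3 := h1.trans (congrArg (fun ψ => ψ ≫ (PresheafOfModules.toPresheaf
    X.ringCatSheaf.obj).map (pairHom τ u).val)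
    (STL.toPresheaf_map_toTensor (kernel τ) (kernel τ)).symm)
  have h2 := congrArg (fun φ => (φ.app (op U)) (l ⊗ₜ l')) h3
  exact h2.symm

theorem eq_of_basisA {ι : Type u} {B : ι → X.Opens} (hB : Opens.IsBasis (Set.range B))
    {U : X.Opens} (a b : A.presheaf.obj (op U))
    (h : ∀ i (hi : B i ≤ U), rA A hi a = rA A hi b) : a = b := by
  refine TopCat.Sheaf.eq_of_locally_eq' (⟨A.presheaf, A.isSheaf⟩ : TopCat.Sheaf CommRingCat X)
    (fun j : {i // B i ≤ U} => B j.1) U (fun j => homOfLE j.2) ?_ a b (fun j => h j.1 j.2)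
  intro x hx
  obtain ⟨i, hxi, hiU⟩ := NormGlue.exists_basis_mem hB hx
  exact Opens.mem_iSup.mpr ⟨⟨i, hiU⟩, hxi⟩

attribute [local instance] algSec

theorem mulSec_kernel_good (hτ : FinCov.IsTrace A τ) (hu : (2 : Γ(X, ⊤)) * u = 1)
    {W : X.Opens} (hW : GoodOfRank A 2 W) (l l' : Γ(kernel τ, W)) :
    mulSec A W ((kernel.ι τ).app W l) ((kernel.ι τ).app W l') =
      (A.str.app (op W)).hom (pair τ u W l l') := by
  obtain ⟨hWa, ⟨b⟩⟩ := hW
  have htr : ∀ a : A.presheaf.obj (op W),
      τ.app W a = Algebra.trace Γ(X, W) (A.presheaf.obj (op W)) a :=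
    fun a => hτ W hWa (Module.Free.of_basis b) (Module.Finite.of_basis b) a
  have hker : ∀ l : Γ(kernel τ, W), τ.app W ((kernel.ι τ).app W l) = 0 := by
    intro l
    have := congrArg (fun φ => Scheme.Modules.Hom.app φ W l) (kernel.condition τ)
    exact this
  have hu' : (2 : Γ(X, W)) * NormGlue.rY X (le_top : W ≤ ⊤) u = 1 := by
    rw [← map_ofNat (NormGlue.rY X (le_top : W ≤ ⊤)) 2, ← map_mul, hu, map_one]
  have key := RankTwo.mul_eq_of_trace_eq_zero b (NormGlue.rY X (le_top : W ≤ ⊤) u) hu'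
    ((kernel.ι τ).app W l) ((kernel.ι τ).app W l')
    ((htr _).symm.trans (hker l)) ((htr _).symm.trans (hker l'))
  rw [← htr] at key
  exact key

theorem mulSec_kernel (hA : FlatMod.IsFinLocFreeOfRank 2 A.toModule) (hτ : FinCov.IsTrace A τ)
    (hu : (2 : Γ(X, ⊤)) * u = 1) (U : X.Opens) (l l' : Γ(kernel τ, U)) :
    mulSec A U ((kernel.ι τ).app U l) ((kernel.ι τ).app U l') =
      (A.str.app (op U)).hom (pair τ u U l l') := by
  refine eq_of_basisA (isBasis_goodOfRank hA) _ _ (fun W hW => ?_)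
  have h1 : rA A hW (mulSec A U ((kernel.ι τ).app U l) ((kernel.ι τ).app U l')) =
      mulSec A W.1 ((kernel.ι τ).app W.1 (mres (kernel τ) hW l))
        ((kernel.ι τ).app W.1 (mres (kernel τ) hW l')) := by
    have := mres_mulSec A hW ((kernel.ι τ).app U l) ((kernel.ι τ).app U l')
    rw [app_mres, app_mres] at this
    exact this
  have h2 : rA A hW ((A.str.app (op U)).hom (pair τ u U l l')) =
      (A.str.app (op W.1)).hom (pair τ u W.1 (mres (kernel τ) hW l) (mres (kernel τ) hW l')) := by
    rw [← mres_pair]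
    exact (str_rY A hW (pair τ u U l l')).symm
  rw [h1, h2]
  exact mulSec_kernel_good τ u hτ hu W.2 _ _

/-- a ring section of `A` as a section of the underlying module -/
abbrev toM (A : RelSpec.QCAlg X) (U : X.Opens) (t : A.presheaf.obj (op U)) : Γ(A.toModule, U) := t

/-- a section of the structure module as a function -/
abbrev toO (U : X.Opens) (t : Γ(Coh.structureModule X, U)) : Γ(X, U) := t

theorem isDblAlg (hA : FlatMod.IsFinLocFreeOfRank 2 A.toModule) (hτ : FinCov.IsTrace A τ)
    (hu : (2 : Γ(X, ⊤)) * u = 1) :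
    FinCov.IsDblAlg (kernel τ) (pairHom τ u) A (kernel.ι τ) := by
  have hu2 : ((2 : ℕ) : Γ(X, ⊤)) * u = 1 := by rw [Nat.cast_ofNat]; exact hu
  set σ := traceSection A u with hσdef
  have hστ : σ ≫ τ = 𝟙 _ := traceSection_comp hA τ hτ u hu2
  let q : A.toModule ⟶ kernel τ := kernel.lift τ (𝟙 _ - τ ≫ σ) (by
    rw [Preadditive.sub_comp, Category.assoc, hστ, Category.id_comp, Category.comp_id, sub_self])
  have hq2 : q ≫ kernel.ι τ + τ ≫ σ = 𝟙 _ := by
    rw [kernel.lift_ι, sub_add_cancel]
  have hker : ∀ (U : X.Opens) (l : Γ(kernel τ, U)), τ.app U ((kernel.ι τ).app U l) = 0 := by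
    intro U l
    have := congrArg (fun φ => Scheme.Modules.Hom.app φ U l) (kernel.condition τ)
    exact this
  have hstr : ∀ (U : X.Opens) (s : Γ(X, U)),
      τ.app U ((A.str.app (op U)).hom s) = (2 : ℕ) • s := by
    intro U s
    have h0 := strMod_comp_trace hA τ hτ
    have := nsmul_val_app 2 (𝟙 (Coh.structureModule X)) U s
    rw [← h0] at this
    exact this
  have hru : ∀ U : X.Opens, (2 : Γ(X, U)) * NormGlue.rY X (le_top : U ≤ ⊤) u = 1 := by
    intro U
    rw [← map_ofNat (NormGlue.rY X (le_top : U ≤ ⊤)) 2, ← map_mul, hu, map_one]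
  have hσapp : ∀ (U : X.Opens) (r : Γ(X, U)),
      σ.app U r = (A.str.app (op U)).hom (r * NormGlue.rY X (le_top : U ≤ ⊤) u) := by
    intro U r
    have h1 : σ.app U r =
        r • Groth.Agent.H18.mres A.toModule (le_top : U ≤ ⊤) ((A.str.app (op ⊤)).hom u) :=
      Groth.Agent.H18.sectionHom_app A.toModule _ U r
    have h2 : Groth.Agent.H18.mres A.toModule (le_top : U ≤ ⊤) ((A.str.app (op ⊤)).hom u) =
        (A.str.app (op U)).hom (NormGlue.rY X (le_top : U ≤ ⊤) u) :=
      (str_rY A (le_top : U ≤ ⊤) u).symm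
    rw [h1, h2, map_mul]
    rfl
  refine ⟨fun U => ⟨?_, ?_⟩, fun U l l' => ?_⟩
  · rintro ⟨s, (l : Γ(kernel τ, U))⟩ ⟨s', (l' : Γ(kernel τ, U))⟩ h
    have h' : toM A U ((A.str.app (op U)).hom s) + (kernel.ι τ).app U l =
        toM A U ((A.str.app (op U)).hom s') + (kernel.ι τ).app U l' := h
    have h1 := congrArg (τ.app U) h'
    rw [map_add, map_add, hker, hker, add_zero, add_zero] at h1
    have h1' : (2 : ℕ) • s = (2 : ℕ) • s' := (hstr U s).symm.trans (h1.trans (hstr U s'))
    have h2 : s = s' := by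
      have e1 : ∀ t : Γ(X, U), t = NormGlue.rY X (le_top : U ≤ ⊤) u * ((2 : ℕ) • t) := by
        intro t
        rw [nsmul_eq_mul, Nat.cast_ofNat, ← mul_assoc, mul_comm _ (2 : Γ(X, U)), hru, one_mul]
      rw [e1 s, e1 s']
      exact congrArg _ h1'
    subst h2
    have h3 : (kernel.ι τ).app U l = (kernel.ι τ).app U l' := add_left_cancel h'
    have hinj := (mono_iff_app_injective (kernel.ι τ)).mp inferInstance U
    rw [hinj h3]
  · intro a
    refine ⟨⟨NormGlue.rY X (le_top : U ≤ ⊤) u * toO U (τ.app U (toM A U a)),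
      q.app U (toM A U a)⟩, ?_⟩
    have h1 := congrArg (fun φ => Scheme.Modules.Hom.app φ U (toM A U a)) hq2
    have h2 : (kernel.ι τ).app U (q.app U (toM A U a)) +
        σ.app U (τ.app U (toM A U a)) = toM A U a := h1
    have h3 := hσapp U (toO U (τ.app U (toM A U a)))
    rw [mul_comm] at h3
    change toM A U ((A.str.app (op U)).hom
        (NormGlue.rY X (le_top : U ≤ ⊤) u * toO U (τ.app U (toM A U a)))) +
      (kernel.ι τ).app U (q.app U (toM A U a)) = toM A U a
    rw [add_comm, ← h3]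
    exact h2
  · have h1 := pairHom_tmul τ u U l l'
    have h2 := mulSec_kernel τ u hA hτ hu U l l'
    rw [← h1] at h2
    exact h2

theorem exists_isDblAlg (hA : FlatMod.IsFinLocFreeOfRank 2 A.toModule)
    (hτ : FinCov.IsTrace A τ) (h2 : IsUnit (2 : Γ(X, ⊤))) :
    ∃ m : CohB1.tensorMod (kernel τ) (kernel τ) ⟶ Coh.structureModule X,
      FinCov.IsDblAlg (kernel τ) m A (kernel.ι τ) := by
  obtain ⟨u, hu⟩ := h2.exists_right_inv
  exact ⟨pairHom τ u, isDblAlg τ u hA hτ hu⟩

end Groth.Agent.H67.TraceDouble
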