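import Groth.Agent.H67.RankTwoInvol
import Groth.Agent.H67.TraceDouble
import Groth.Prelude.Def_SGA1

/-!
# The involution of a quasi-coherent algebra locally free of rank two (helper67)

For `A : RelSpec.QCAlg X` locally free of rank two with `2` invertible on `X`, the map
`a ↦ tr(a) - a` is an involutive automorphism of `A` over `O_X` whose invariants are `O_X`.
-/

set_option autoImplicit false
set_option linter.style.haveILetI false
universe u
open CategoryTheory AlgebraicGeometry TopologicalSpace Opposite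

namespace Groth.Agent.H67.DoubleInvol

open Groth.Agent.H67.NormGlue Groth.Agent.H67.TraceGlue Groth.Agent.H67.TraceDouble

variable {X : Scheme.{u}} {A : RelSpec.QCAlg X}

attribute [local instance] algSec

theorem isFinLocFree_of_rank {d : ℕ} (hA : FlatMod.IsFinLocFreeOfRank d A.toModule) :
    FlatMod.IsFinLocFree A.toModule := fun x => by
  obtain ⟨U, hxU, e⟩ := hA x
  exact ⟨U, d, hxU, e⟩

variable (hA : FlatMod.IsFinLocFreeOfRank 2 A.toModule)

/-- the trace as a function on sections -/
noncomputable abbrev tr (U : X.Opens) (a : A.presheaf.obj (op U)) : Γ(X, U) :=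
  trFun (isFinLocFree_of_rank hA) U a

/-- the involution on sections -/
noncomputable def inv (U : X.Opens) (a : A.presheaf.obj (op U)) : A.presheaf.obj (op U) :=
  (A.str.app (op U)).hom (tr hA U a) - a

theorem inv_res {U V : X.Opens} (h : V ≤ U) (a : A.presheaf.obj (op U)) :
    rA A h (inv hA U a) = inv hA V (rA A h a) := by
  unfold inv tr
  rw [map_sub, ← str_rY, ← trFun_res]

theorem inv_good {W : X.Opens} (hW : GoodOfRank A 2 W) (a : A.presheaf.obj (op W)) :
    inv hA W a = algebraMap Γ(X, W) (A.presheaf.obj (op W))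
      (Algebra.trace Γ(X, W) (A.presheaf.obj (op W)) a) - a := by
  unfold inv tr
  rw [trFun_good _ hW.good]
  rfl

theorem inv_add (U : X.Opens) (a b : A.presheaf.obj (op U)) :
    inv hA U (a + b) = inv hA U a + inv hA U b := by
  unfold inv tr
  rw [trFun_add, map_add]
  ring

theorem inv_one (U : X.Opens) : inv hA U 1 = 1 := by
  refine eq_of_basisA (isBasis_goodOfRank hA) _ _ (fun W hW => ?_)
  rw [inv_res, map_one, inv_good hA W.2]
  obtain ⟨-, ⟨b⟩⟩ := W.2
  rw [RankTwo.trace_one_eq_two b, map_ofNat]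
  ring

theorem inv_mul (u : Γ(X, ⊤)) (hu : 2 * u = 1) (U : X.Opens) (a b : A.presheaf.obj (op U)) :
    inv hA U (a * b) = inv hA U a * inv hA U b := by
  refine eq_of_basisA (isBasis_goodOfRank hA) _ _ (fun W hW => ?_)
  rw [inv_res, map_mul, map_mul, inv_res, inv_res, inv_good hA W.2, inv_good hA W.2,
    inv_good hA W.2]
  obtain ⟨-, ⟨b'⟩⟩ := W.2
  have hu' : 2 * rY X (le_top : W.1 ≤ ⊤) u = 1 := by
    have := congrArg (rY X (le_top : W.1 ≤ ⊤)) hu
    rwa [map_mul, map_one, map_ofNat] at this
  exact RankTwo.invol_mul b' _ hu' _ _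

theorem tr_str (U : X.Opens) (r : Γ(X, U)) : tr hA U ((A.str.app (op U)).hom r) = 2 * r := by
  have h1 := trFun_smul (isFinLocFree_of_rank hA) U r 1
  rw [mul_one] at h1
  have h2 : tr hA U 1 = 2 := by
    refine eq_of_basis (isBasis_goodOfRank hA) _ _ (fun W hW => ?_)
    rw [← trFun_res, map_one, map_ofNat, trFun_good _ W.2.good]
    obtain ⟨-, ⟨b⟩⟩ := W.2
    exact RankTwo.trace_one_eq_two b
  unfold tr
  rw [h1]
  change r * tr hA U 1 = 2 * r
  rw [h2, mul_comm]

theorem inv_str (U : X.Opens) (r : Γ(X, U)) :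
    inv hA U ((A.str.app (op U)).hom r) = (A.str.app (op U)).hom r := by
  unfold inv
  rw [tr_str, map_mul, map_ofNat]
  ring

theorem tr_inv (U : X.Opens) (a : A.presheaf.obj (op U)) : tr hA U (inv hA U a) = tr hA U a := by
  unfold inv
  have h : ∀ x y : A.presheaf.obj (op U), tr hA U (x - y) = tr hA U x - tr hA U y := by
    intro x y
    have := trFun_add (isFinLocFree_of_rank hA) U (x - y) y
    rw [sub_add_cancel] at this
    exact eq_sub_of_add_eq this.symm
  rw [h, tr_str]
  ring

theorem inv_inv (U : X.Opens) (a : A.presheaf.obj (op U)) : inv hA U (inv hA U a) = a := by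
  have h : inv hA U (inv hA U a) =
      (A.str.app (op U)).hom (tr hA U (inv hA U a)) - inv hA U a := rfl
  rw [h, tr_inv]
  unfold inv
  ring

/-- an invariant section comes from `O_X` -/
theorem eq_str_of_inv_eq (u : Γ(X, ⊤)) (hu : 2 * u = 1) (U : X.Opens) (a : A.presheaf.obj (op U))
    (h : inv hA U a = a) :
    a = (A.str.app (op U)).hom (rY X (le_top : U ≤ ⊤) u * tr hA U a) := by
  have hu' : 2 * rY X (le_top : U ≤ ⊤) u = 1 := by
    have := congrArg (rY X (le_top : U ≤ ⊤)) hu
    rwa [map_mul, map_one, map_ofNat] at this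
  unfold inv at h
  have h2 : (A.str.app (op U)).hom (tr hA U a) = 2 * a := by
    rw [two_mul]; exact sub_eq_iff_eq_add.mp h
  rw [map_mul, h2]
  have h3 : (A.str.app (op U)).hom (rY X (le_top : U ≤ ⊤) u) * 2 = 1 := by
    have := congrArg (A.str.app (op U)).hom hu'
    rw [map_mul, map_one, map_ofNat] at this
    rw [mul_comm]; exact this
  calc a = ((A.str.app (op U)).hom (rY X (le_top : U ≤ ⊤) u) * 2) * a := by rw [h3, one_mul]
    _ = _ := by ring

include hA in
/-- the structure map is injective on every open -/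
theorem str_injective (u : Γ(X, ⊤)) (hu : 2 * u = 1) (U : X.Opens) :
    Function.Injective (A.str.app (op U)).hom := by
  intro r r' h
  have hu' : 2 * rY X (le_top : U ≤ ⊤) u = 1 := by
    have := congrArg (rY X (le_top : U ≤ ⊤)) hu
    rwa [map_mul, map_one, map_ofNat] at this
  have h1 := congrArg (tr hA U) h
  rw [tr_str, tr_str] at h1
  calc r = (2 * rY X (le_top : U ≤ ⊤) u) * r := by rw [hu', one_mul]
    _ = rY X (le_top : U ≤ ⊤) u * (2 * r) := by ring
    _ = rY X (le_top : U ≤ ⊤) u * (2 * r') := by rw [h1]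
    _ = (2 * rY X (le_top : U ≤ ⊤) u) * r' := by ring
    _ = r' := by rw [hu', one_mul]

/-- the involution as a ring homomorphism on sections -/
noncomputable def invRingHom (u : Γ(X, ⊤)) (hu : 2 * u = 1) (U : X.Opens) :
    A.presheaf.obj (op U) →+* A.presheaf.obj (op U) where
  toFun := inv hA U
  map_one' := inv_one hA U
  map_mul' := inv_mul hA u hu U
  map_zero' := by
    have := inv_add hA U 0 0
    rw [add_zero] at this
    exact left_eq_add.mp this
  map_add' := inv_add hA U

/-- the involution as a morphism of presheaves of rings -/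
noncomputable def invHom (u : Γ(X, ⊤)) (hu : 2 * u = 1) : A.presheaf ⟶ A.presheaf where
  app U := CommRingCat.ofHom (invRingHom hA u hu U.unop)
  naturality U V i := by
    ext a
    exact (inv_res hA (leOfHom i.unop) a).symm

theorem invHom_app (u : Γ(X, ⊤)) (hu : 2 * u = 1) (U : X.Opens) (a : A.presheaf.obj (op U)) :
    ((invHom hA u hu).app (op U)).hom a = inv hA U a := rfl

theorem str_invHom (u : Γ(X, ⊤)) (hu : 2 * u = 1) : A.str ≫ invHom hA u hu = A.str := by
  ext U r
  exact inv_str hA U r

theorem invHom_invHom (u : Γ(X, ⊤)) (hu : 2 * u = 1) :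
    invHom hA u hu ≫ invHom hA u hu = 𝟙 A.presheaf := by
  ext U a
  exact inv_inv hA U a

end Groth.Agent.H67.DoubleInvol
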