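import Mathlib.RingTheory.DividedPowerAlgebra.Init
import Mathlib.LinearAlgebra.Vandermonde
import Mathlib.LinearAlgebra.Matrix.NonsingularInverse

set_option autoImplicit false

universe u

namespace Groth.Agent.H67

open DividedPowerAlgebra Finset

variable {A M : Type u} [CommRing A] [AddCommGroup M] [Module A M]

/-- Inverting a Vandermonde system in a module. -/
theorem mem_span_of_vandermonde {N : Type*} [AddCommGroup N] [Module A N] {n : ℕ}
    (v : Fin n → A) (hv : IsUnit (Matrix.vandermonde v).det) (Z W : Fin n → N)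
    (hW : ∀ j, W j = ∑ b : Fin n, (v j) ^ (b : ℕ) • Z b) (S : Submodule A N) (hS : ∀ j, W j ∈ S)
    (b₀ : Fin n) : Z b₀ ∈ S := by
  classical
  set V := Matrix.vandermonde v with hV
  have hPV : V⁻¹ * V = 1 := Matrix.nonsing_inv_mul V hv
  have key : Z b₀ = ∑ j, V⁻¹ b₀ j • W j := by
    calc Z b₀ = ∑ b, (1 : Matrix (Fin n) (Fin n) A) b₀ b • Z b := by
          simp [Matrix.one_apply]
      _ = ∑ b, (∑ j, V⁻¹ b₀ j * V j b) • Z b := by
          rw [← hPV]; rfl
      _ = ∑ b, ∑ j, V⁻¹ b₀ j • (V j b • Z b) := by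
          refine Finset.sum_congr rfl (fun b _ => ?_)
          rw [Finset.sum_smul]
          refine Finset.sum_congr rfl (fun j _ => ?_)
          rw [mul_smul]
      _ = ∑ j, ∑ b, V⁻¹ b₀ j • (V j b • Z b) := Finset.sum_comm
      _ = ∑ j, V⁻¹ b₀ j • W j := by
          refine Finset.sum_congr rfl (fun j _ => ?_)
          rw [hW j, Finset.smul_sum]
          rfl
  rw [key]
  exact S.sum_mem (fun j _ => S.smul_mem _ (hS j))

variable (t : A) (d : ℕ) (ht : ∀ i j : ℕ, i < j → j ≤ d → IsUnit (t ^ i - t ^ j))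

include ht in
theorem isUnit_det_vandermonde_pow (n : ℕ) (hn : n ≤ d) :
    IsUnit (Matrix.vandermonde (fun j : Fin (n + 1) => t ^ (j : ℕ))).det := by
  rw [Matrix.det_vandermonde]
  refine (IsUnit.prod_iff).2 (fun i _ => (IsUnit.prod_iff).2 (fun j hj => ?_))
  have hij : i < j := Finset.mem_Ioi.1 hj
  have h1 := ht i j hij (le_trans (Nat.lt_succ_iff.1 j.2) hn)
  have : t ^ (j : ℕ) - t ^ (i : ℕ) = -(t ^ (i : ℕ) - t ^ (j : ℕ)) := by ring
  rw [this]
  exact h1.neg

include ht in
theorem dp_mul_dp_mem_span (e f : ℕ) (hef : e + f ≤ d) (x y : M) :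
    dp A e x * dp A f y ∈ Submodule.span A (Set.range (dp A (e + f) : M → DividedPowerAlgebra A M)) := by
  set n := e + f with hn
  have hu := isUnit_det_vandermonde_pow t d ht n hef
  let Z : Fin (n + 1) → DividedPowerAlgebra A M := fun b => dp A b y * dp A (n - b) x
  let W : Fin (n + 1) → DividedPowerAlgebra A M := fun j => dp A n (t ^ (j : ℕ) • y + x)
  have hW : ∀ j, W j = ∑ b : Fin (n + 1), (t ^ (j : ℕ)) ^ (b : ℕ) • Z b := by
    intro j
    change dp A n (t ^ (j : ℕ) • y + x) = _
    rw [dp_add, Finset.Nat.sum_antidiagonal_eq_sum_range_succ_mk, Finset.sum_range]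
    refine Finset.sum_congr rfl (fun b _ => ?_)
    rw [dp_smul, smul_mul_assoc]
  have := mem_span_of_vandermonde (fun j : Fin (n + 1) => t ^ (j : ℕ)) hu Z W hW
    (Submodule.span A (Set.range (dp A n : M → DividedPowerAlgebra A M)))
    (fun j => Submodule.subset_span ⟨_, rfl⟩) ⟨f, by omega⟩
  have h2 : Z ⟨f, by omega⟩ = dp A e x * dp A f y := by
    change dp A f y * dp A (n - f) x = _
    rw [mul_comm]
    congr 2
    omega
  rwa [h2] at this

include ht in
theorem prod_dp_mem_span : ∀ (n : ℕ) (k : Fin n → ℕ) (m : Fin n → M), (∑ i, k i) ≤ d →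
    ∏ i, dp A (k i) (m i) ∈
      Submodule.span A (Set.range (dp A (∑ i, k i) : M → DividedPowerAlgebra A M)) := by
  intro n
  induction n with
  | zero =>
    intro k m _
    simp only [Finset.univ_eq_empty, Finset.prod_empty, Finset.sum_empty]
    exact Submodule.subset_span ⟨0, dp_zero⟩
  | succ n ih =>
    intro k m hk
    rw [Fin.prod_univ_castSucc, Fin.sum_univ_castSucc]
    rw [Fin.sum_univ_castSucc] at hk
    have h1 := ih (fun i => k i.castSucc) (fun i => m i.castSucc) (by omega)
    set e := ∑ i : Fin n, k i.castSucc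
    set f := k (Fin.last n)
    set u := ∏ i : Fin n, dp A (k i.castSucc) (m i.castSucc)
    clear_value u
    induction h1 using Submodule.span_induction with
    | mem u hu =>
      obtain ⟨x, rfl⟩ := hu
      exact dp_mul_dp_mem_span t d ht e f hk x _
    | zero => rw [zero_mul]; exact Submodule.zero_mem _
    | add u u' _ _ h h' => rw [add_mul]; exact Submodule.add_mem _ h h'
    | smul a u _ h => rw [smul_mul_assoc]; exact Submodule.smul_mem _ a h

end Groth.Agent.H67
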