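import Mathlib.RingTheory.DiscreteValuationRing.Basic
import Mathlib.Algebra.CharP.Defs
import Mathlib.RingTheory.Valuation.Basic

set_option autoImplicit false
set_option linter.unusedSectionVars false

universe u

namespace Groth.Agent.H67.DvrP

open IsDiscreteValuationRing

variable {R : Type u} [CommRing R] [IsDomain R] [IsDiscreteValuationRing R]
  (p : ℕ) [hp : Fact p.Prime] {π : R} (hπ : Irreducible π)

include hπ in
theorem addVal_term (i : ℕ) (b : R) :
    addVal R (π ^ i * b ^ p) = (i : ℕ∞) + p • addVal R b := by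
  rw [addVal_mul, addVal_pow, addVal_pow, addVal_uniformizer hπ]
  simp

include hπ in
/-- The valuation of `∑ π^i b_i^p` is the minimum of the valuations of the terms. -/
theorem exists_addVal_sum (b : Fin p → R) :
    ∃ i₀ : Fin p, addVal R (∑ j : Fin p, π ^ (j : ℕ) * b j ^ p) = ((i₀ : ℕ) : ℕ∞) + p • addVal R (b i₀) ∧
      ∀ i : Fin p, ((i₀ : ℕ) : ℕ∞) + p • addVal R (b i₀) ≤ ((i : ℕ) : ℕ∞) + p • addVal R (b i) := by
  have : NeZero p := ⟨hp.out.ne_zero⟩
  let w : Fin p → ℕ∞ := fun i => ((i : ℕ) : ℕ∞) + p • addVal R (b i)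
  obtain ⟨i₀, -, hmin⟩ := Finset.exists_min_image Finset.univ w ⟨0, Finset.mem_univ _⟩
  refine ⟨i₀, ?_, fun i => hmin i (Finset.mem_univ i)⟩
  have hterm : ∀ i : Fin p, addVal R (π ^ (i : ℕ) * b i ^ p) = w i := fun i =>
    addVal_term p hπ i (b i)
  by_cases htop : w i₀ = ⊤
  · have hall : ∀ i, b i = 0 := by
      intro i
      have h1 : w i = ⊤ := top_le_iff.1 (htop ▸ hmin i (Finset.mem_univ i))
      simp only [w] at h1
      rw [← addVal_eq_top_iff]
      by_contra hne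
      obtain ⟨n, hn⟩ := ENat.ne_top_iff_exists.1 hne
      rw [← hn] at h1
      have : ((i : ℕ) : ℕ∞) + p • (n : ℕ∞) = ((i + p * n : ℕ) : ℕ∞) := by
        push_cast; simp [nsmul_eq_mul]
      rw [this] at h1
      exact ENat.natCast_ne_top _ h1
    have : (∑ j : Fin p, π ^ (j : ℕ) * b j ^ p) = 0 := by
      refine Finset.sum_eq_zero fun j _ => ?_
      rw [hall j, zero_pow hp.out.ne_zero, mul_zero]
    rw [this, addVal_zero]
    exact htop.symm
  · rw [← Finset.add_sum_erase Finset.univ _ (Finset.mem_univ i₀)]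
    have hlt : w i₀ < addVal R (∑ j ∈ Finset.univ.erase i₀, π ^ (j : ℕ) * b j ^ p) := by
      refine AddValuation.map_lt_sum _ htop fun i hi => ?_
      rw [hterm i]
      have hne : i ≠ i₀ := Finset.ne_of_mem_erase hi
      refine lt_of_le_of_ne (hmin i (Finset.mem_univ i)) fun heq => hne ?_
      -- equal finite values force i = i₀
      have h0 : w i₀ ≠ ⊤ := htop
      have hi' : w i ≠ ⊤ := heq ▸ h0
      have ha0 : addVal R (b i₀) ≠ ⊤ := by
        intro h; apply h0; simp only [w]; rw [h]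
        simp [hp.out.ne_zero]
      have hai : addVal R (b i) ≠ ⊤ := by
        intro h; apply hi'; simp only [w]; rw [h]
        simp [hp.out.ne_zero]
      obtain ⟨n, hn⟩ := ENat.ne_top_iff_exists.1 ha0
      obtain ⟨m, hm⟩ := ENat.ne_top_iff_exists.1 hai
      simp only [w] at heq
      rw [← hn, ← hm] at heq
      have e1 : ((i₀ : ℕ) : ℕ∞) + p • (n : ℕ∞) = (((i₀ : ℕ) + p * n : ℕ) : ℕ∞) := by
        push_cast; simp [nsmul_eq_mul]
      have e2 : ((i : ℕ) : ℕ∞) + p • (m : ℕ∞) = (((i : ℕ) + p * m : ℕ) : ℕ∞) := by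
        push_cast; simp [nsmul_eq_mul]
      rw [e1, e2, Nat.cast_inj] at heq
      have h3 : ((i₀ : ℕ) + p * n) % p = ((i : ℕ) + p * m) % p := by rw [heq]
      rw [Nat.add_mul_mod_self_left, Nat.add_mul_mod_self_left, Nat.mod_eq_of_lt i₀.2,
        Nat.mod_eq_of_lt i.2] at h3
      exact Fin.ext h3.symm
    rw [← hterm i₀] at hlt
    rw [AddValuation.map_add_eq_of_lt_left _ hlt, hterm i₀]

include hπ in
theorem eq_zero_of_sum_eq_zero (b : Fin p → R) (h : ∑ j : Fin p, π ^ (j : ℕ) * b j ^ p = 0) :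
    ∀ i, b i = 0 := by
  obtain ⟨i₀, h1, h2⟩ := exists_addVal_sum p hπ b
  rw [h, addVal_zero] at h1
  intro i
  have h3 := h2 i
  rw [← h1, top_le_iff] at h3
  rw [← addVal_eq_top_iff]
  by_contra hne
  obtain ⟨n, hn⟩ := ENat.ne_top_iff_exists.1 hne
  rw [← hn] at h3
  have : ((i : ℕ) : ℕ∞) + p • (n : ℕ∞) = (((i : ℕ) + p * n : ℕ) : ℕ∞) := by
    push_cast; simp [nsmul_eq_mul]
  rw [this] at h3
  exact ENat.natCast_ne_top _ h3

include hπ in
theorem dvd_of_pow_dvd_sum (b : Fin p → R) (h : π ^ p ∣ ∑ j : Fin p, π ^ (j : ℕ) * b j ^ p) :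
    ∀ i, π ∣ b i := by
  obtain ⟨i₀, h1, h2⟩ := exists_addVal_sum p hπ b
  rw [← addVal_le_iff_dvd, addVal_pow, addVal_uniformizer hπ, h1] at h
  intro i
  have h3 := le_trans h (h2 i)
  rw [← addVal_le_iff_dvd, addVal_uniformizer hπ]
  by_contra hlt
  have h0 : addVal R (b i) = 0 := by
    have := not_le.1 hlt
    exact Order.lt_one_iff.1 this
  rw [h0] at h3
  simp only [smul_zero, add_zero, nsmul_eq_mul, mul_one] at h3
  have : (p : ℕ∞) ≤ ((i : ℕ) : ℕ∞) := h3
  rw [Nat.cast_le] at this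
  exact absurd i.2 (not_lt.2 this)

end Groth.Agent.H67.DvrP
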