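import Groth.Agent.H67.DvrP
import Mathlib.Algebra.CharP.Lemmas
import Mathlib.RingTheory.Localization.FractionRing
import Mathlib.LinearAlgebra.FiniteDimensional.Lemmas
import Mathlib.Algebra.Field.Subfield.Basic

set_option autoImplicit false
set_option linter.unusedSectionVars false

universe u

namespace Groth.Agent.H67.DvrP

open IsDiscreteValuationRing

variable {R : Type u} [CommRing R] [IsDomain R] [IsDiscreteValuationRing R]
  (p : ℕ) [hp : Fact p.Prime] [CharP R p] {π : R} (hπ : Irreducible π)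

include hπ in
theorem unique_coeffs (c c' : Fin p → R)
    (h : ∑ j : Fin p, π ^ (j : ℕ) * c j ^ p = ∑ j : Fin p, π ^ (j : ℕ) * c' j ^ p) : c = c' := by
  funext i
  have h1 : ∑ j : Fin p, π ^ (j : ℕ) * (c j - c' j) ^ p = 0 := by
    simp only [sub_pow_char, mul_sub, Finset.sum_sub_distrib]
    rw [h, sub_self]
  exact sub_eq_zero.1 (eq_zero_of_sum_eq_zero p hπ _ h1 i)

include hπ in
/-- Descent on the power of `π`. -/
theorem exists_coeffs_of_pow_mul (N : ℕ) (r : R) (b : Fin p → R)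
    (h : π ^ (N * p) * r = ∑ j : Fin p, π ^ (j : ℕ) * b j ^ p) :
    ∃ c : Fin p → R, r = ∑ j : Fin p, π ^ (j : ℕ) * c j ^ p := by
  induction N generalizing b with
  | zero => exact ⟨b, by simpa using h⟩
  | succ N ih =>
    have hdvd : π ^ p ∣ ∑ j : Fin p, π ^ (j : ℕ) * b j ^ p := by
      rw [← h]
      exact ⟨π ^ (N * p) * r, by rw [Nat.succ_mul, pow_add]; ring⟩
    have hb := dvd_of_pow_dvd_sum p hπ b hdvd
    choose b' hb' using hb
    apply ih b'
    have hπ0 : π ^ p ≠ 0 := pow_ne_zero _ hπ.ne_zero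
    apply mul_left_cancel₀ hπ0
    rw [← mul_assoc, ← pow_add, add_comm, ← Nat.succ_mul, h, Finset.mul_sum]
    refine Finset.sum_congr rfl fun j _ => ?_
    rw [hb' j, mul_pow]
    ring

variable (K : Type u) [Field K] [Algebra R K] [IsFractionRing R K]

include hπ in
theorem exists_pow_mul_eq (y : K) :
    ∃ (n : ℕ) (b : R), algebraMap R K b = algebraMap R K π ^ n * y := by
  obtain ⟨a, s, hs, rfl⟩ := IsFractionRing.div_surjective (A := R) y
  have hs0 : s ≠ 0 := nonZeroDivisors.ne_zero hs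
  obtain ⟨n, u, hu⟩ := eq_unit_mul_pow_irreducible hs0 hπ
  refine ⟨n, a * ((u⁻¹ : Rˣ) : R), ?_⟩
  have hsK : algebraMap R K s ≠ 0 := by
    rwa [Ne, map_eq_zero_iff _ (IsFractionRing.injective R K)]
  have hU : algebraMap R K ((u⁻¹ : Rˣ) : R) * algebraMap R K (u : R) = 1 := by
    rw [← map_mul, Units.inv_mul, map_one]
  rw [eq_comm, mul_div_assoc', div_eq_iff hsK, hu, map_mul, map_mul, map_pow]
  linear_combination (-(algebraMap R K a * algebraMap R K π ^ n)) * hU

include hπ in
theorem exists_pow_mul_eq_family (y : Fin p → K) :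
    ∃ (N : ℕ) (b : Fin p → R), ∀ i, algebraMap R K (b i) = algebraMap R K π ^ N * y i := by
  choose n b hb using fun i => exists_pow_mul_eq hπ K (y i)
  refine ⟨∑ i, n i, fun i => π ^ ((∑ j, n j) - n i) * b i, fun i => ?_⟩
  have hle : n i ≤ ∑ j, n j :=
    Finset.single_le_sum (fun _ _ => Nat.zero_le _) (Finset.mem_univ i)
  rw [map_mul, map_pow, hb i, ← mul_assoc, ← pow_add, Nat.sub_add_cancel hle]

include hπ in
theorem eq_zero_of_sum_eq_zero_field (y : Fin p → K)
    (h : ∑ j : Fin p, y j ^ p * algebraMap R K π ^ (j : ℕ) = 0) : ∀ i, y i = 0 := by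
  obtain ⟨N, b, hb⟩ := exists_pow_mul_eq_family p hπ K y
  have hϖ : algebraMap R K π ≠ 0 := by
    rw [Ne, map_eq_zero_iff _ (IsFractionRing.injective R K)]; exact hπ.ne_zero
  have h1 : algebraMap R K (∑ j : Fin p, π ^ (j : ℕ) * b j ^ p) = 0 := by
    rw [map_sum]
    have : ∀ j : Fin p, algebraMap R K (π ^ (j : ℕ) * b j ^ p) =
        algebraMap R K π ^ (N * p) * (y j ^ p * algebraMap R K π ^ (j : ℕ)) := by
      intro j
      rw [map_mul, map_pow, map_pow, hb j, mul_pow, ← pow_mul]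
      ring
    simp only [this]
    rw [← Finset.mul_sum, h, mul_zero]
  have h2 := (map_eq_zero_iff _ (IsFractionRing.injective R K)).1 h1
  intro i
  have h3 := eq_zero_of_sum_eq_zero p hπ b h2 i
  have h4 := hb i
  rw [h3, map_zero] at h4
  exact (mul_eq_zero.1 h4.symm).resolve_left (pow_ne_zero _ hϖ)

include hπ in
theorem exists_coeffs_field (kp : Subfield K) (hkp : ∀ x : K, x ∈ kp ↔ ∃ y : K, y ^ p = x)
    (hdeg : Module.finrank kp K = p) (x : K) :
    ∃ y : Fin p → K, x = ∑ j : Fin p, y j ^ p * algebraMap R K π ^ (j : ℕ) := by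
  have : NeZero p := ⟨hp.out.ne_zero⟩
  have li : LinearIndependent kp (fun i : Fin p => algebraMap R K π ^ (i : ℕ)) := by
    rw [Fintype.linearIndependent_iff]
    intro g hg i
    have hmem : ∀ j, ∃ y : K, y ^ p = (g j : K) := fun j => (hkp _).1 (g j).2
    choose y hy using hmem
    have h1 : ∑ j : Fin p, y j ^ p * algebraMap R K π ^ (j : ℕ) = 0 := by
      rw [← hg]
      refine Finset.sum_congr rfl fun j _ => ?_
      rw [hy j, Subfield.smul_def, smul_eq_mul]
    have h2 := eq_zero_of_sum_eq_zero_field p hπ K y h1 i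
    apply Subtype.ext
    rw [← hy i, h2, zero_pow hp.out.ne_zero]
    rfl
  let B := basisOfLinearIndependentOfCardEqFinrank li (by rw [Fintype.card_fin, hdeg])
  have hB : ∀ i, B i = algebraMap R K π ^ (i : ℕ) := fun i => by
    simp only [B, coe_basisOfLinearIndependentOfCardEqFinrank]
  have hmem : ∀ j, ∃ y : K, y ^ p = (B.repr x j : K) := fun j => (hkp _).1 (B.repr x j).2
  choose y hy using hmem
  refine ⟨y, ?_⟩
  conv_lhs => rw [← B.sum_repr x]
  refine Finset.sum_congr rfl fun j _ => ?_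
  rw [hy j, hB j, Subfield.smul_def, smul_eq_mul]

include hπ in
theorem existsUnique_coeffs (kp : Subfield K) (hkp : ∀ x : K, x ∈ kp ↔ ∃ y : K, y ^ p = x)
    (hdeg : Module.finrank kp K = p) (r : R) :
    ∃! c : Fin p → R, r = ∑ i : Fin p, π ^ (i : ℕ) * c i ^ p := by
  obtain ⟨y, hy⟩ := exists_coeffs_field p hπ K kp hkp hdeg (algebraMap R K r)
  obtain ⟨N, b, hb⟩ := exists_pow_mul_eq_family p hπ K y
  have h1 : π ^ (N * p) * r = ∑ j : Fin p, π ^ (j : ℕ) * b j ^ p := by
    apply IsFractionRing.injective R K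
    rw [map_mul, map_pow, hy, map_sum, Finset.mul_sum]
    refine Finset.sum_congr rfl fun j _ => ?_
    rw [map_mul, map_pow, map_pow, hb j, mul_pow, ← pow_mul]
    ring
  obtain ⟨c, hc⟩ := exists_coeffs_of_pow_mul p hπ N r b h1
  refine ⟨c, hc, fun c' hc' => ?_⟩
  exact unique_coeffs p hπ c' c (hc'.symm.trans hc)

end Groth.Agent.H67.DvrP
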