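import Groth.Agent.H67.DvrP2
import Mathlib.RingTheory.Kaehler.Basic
import Mathlib.Algebra.Polynomial.Derivative
import Mathlib.Algebra.Polynomial.Div
import Mathlib.Algebra.CharP.Frobenius

set_option autoImplicit false
set_option linter.unusedSectionVars false

universe u

namespace Groth.Agent.H67.DvrP

open Polynomial

variable {R : Type u} [CommRing R] [IsDomain R]
  (p : ℕ) [hp : Fact p.Prime] [CharP R p] (π : R)

/-- Evaluation at `π` twisted by Frobenius on coefficients. -/
noncomputable def ev : R[X] →+* R := Polynomial.eval₂RingHom (frobenius R p) π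

theorem ev_monomial (i : ℕ) (a : R) : ev p π (monomial i a) = a ^ p * π ^ i := by
  simp [ev, eval₂_monomial, frobenius_def]

theorem ev_C (a : R) : ev p π (C a) = a ^ p := by
  simp [ev, frobenius_def]

theorem ev_X : ev p π X = π := by
  simp [ev]

variable (hexu : ∀ r : R, ∃! c : Fin p → R, r = ∑ i : Fin p, π ^ (i : ℕ) * c i ^ p)

/-- The canonical polynomial lift of `r`. -/
noncomputable def lift (r : R) : R[X] :=
  ∑ i : Fin p, monomial (i : ℕ) ((hexu r).exists.choose i)

theorem ev_lift (r : R) : ev p π (lift p π hexu r) = r := by
  have h := (hexu r).exists.choose_spec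
  rw [lift, map_sum]
  conv_rhs => rw [h]
  refine Finset.sum_congr rfl fun i _ => ?_
  rw [ev_monomial, mul_comm]

include hexu in
theorem ev_derivative_eq_zero (f : R[X]) (hf : ev p π f = 0) :
    ev p π (derivative f) = 0 := by
  have hq : (X ^ p - C π : R[X]).Monic := monic_X_pow_sub_C π hp.out.ne_zero
  have hq1 : (X ^ p - C π : R[X]) ≠ 1 := by
    intro h
    have := congrArg natDegree h
    rw [natDegree_X_pow_sub_C, natDegree_one] at this
    exact hp.out.ne_zero this
  have hevq : ev p π (X ^ p - C π) = 0 := by
    rw [map_sub, map_pow, ev_X, ev_C, sub_self]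
  have hdiv := modByMonic_add_div f (X ^ p - C π)
  set g := f %ₘ (X ^ p - C π) with hg
  have hdeg : g.natDegree < p := by
    have := natDegree_modByMonic_lt f hq hq1
    rwa [natDegree_X_pow_sub_C] at this
  have hevg : ev p π g = 0 := by
    have := congrArg (ev p π) hdiv
    rw [map_add, map_mul, hevq, zero_mul, add_zero, hf] at this
    exact this
  have hsum := as_sum_range' g p hdeg
  have hg0 : g = 0 := by
    have h1 : (0 : R) = ∑ i : Fin p, π ^ (i : ℕ) * (fun i : Fin p => g.coeff i) i ^ p := by
      rw [← hevg]
      conv_lhs => rw [hsum]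
      rw [map_sum, Fin.sum_univ_eq_sum_range (fun i => π ^ i * g.coeff i ^ p) p]
      refine Finset.sum_congr rfl fun i _ => ?_
      rw [ev_monomial, mul_comm]
    have h2 : (0 : R) = ∑ i : Fin p, π ^ (i : ℕ) * (fun _ : Fin p => (0 : R)) i ^ p := by
      simp [hp.out.ne_zero]
    have h3 := (hexu 0).unique h1 h2
    rw [hsum]
    refine Finset.sum_eq_zero fun i hi => ?_
    have := congrFun h3 ⟨i, Finset.mem_range.1 hi⟩
    simp only at this
    rw [this, monomial_zero_right]
  rw [hg0, zero_add] at hdiv
  rw [← hdiv, derivative_mul, map_add, map_mul, map_mul, hevq, zero_mul, add_zero,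
    derivative_sub, derivative_X_pow, derivative_C, sub_zero, map_mul, ev_C,
    CharP.cast_eq_zero R p, zero_pow hp.out.ne_zero, zero_mul, zero_mul]

/-- The derivation `d/dπ`. -/
noncomputable def delta (r : R) : R := ev p π (derivative (lift p π hexu r))

theorem delta_ev (f : R[X]) : delta p π hexu (ev p π f) = ev p π (derivative f) := by
  have h : ev p π (lift p π hexu (ev p π f) - f) = 0 := by
    rw [map_sub, ev_lift, sub_self]
  have h2 := ev_derivative_eq_zero p π hexu _ h
  rw [derivative_sub, map_sub, sub_eq_zero] at h2
  exact h2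

/-- `delta` as a derivation. -/
noncomputable def deltaDer : Derivation ℤ R R where
  toFun := delta p π hexu
  map_add' r s := by
    have : r + s = ev p π (lift p π hexu r + lift p π hexu s) := by
      rw [map_add, ev_lift, ev_lift]
    rw [this, delta_ev, derivative_add, map_add]
    rfl
  map_smul' n r := by
    have : n • r = ev p π (n • lift p π hexu r) := by
      rw [map_zsmul, ev_lift]
    rw [this, delta_ev, derivative_smul, map_zsmul]
    rfl
  map_one_eq_zero' := by
    change delta p π hexu 1 = 0
    have : (1 : R) = ev p π 1 := by rw [map_one]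
    rw [this, delta_ev, derivative_one, map_zero]
  leibniz' r s := by
    change delta p π hexu (r * s) = r • delta p π hexu s + s • delta p π hexu r
    have : r * s = ev p π (lift p π hexu r * lift p π hexu s) := by
      rw [map_mul, ev_lift, ev_lift]
    rw [this, delta_ev, derivative_mul, map_add, map_mul, map_mul, ev_lift, ev_lift]
    simp only [smul_eq_mul, delta]
    ring

theorem deltaDer_pi : deltaDer p π hexu π = 1 := by
  change delta p π hexu π = 1
  have h := delta_ev p π hexu X
  rw [ev_X] at h
  rw [h, derivative_X, map_one]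

include hexu in
theorem bijective_smul_D :
    Function.Bijective (fun r : R => r • KaehlerDifferential.D ℤ R π) := by
  constructor
  · intro r s h
    have := congrArg (deltaDer p π hexu).liftKaehlerDifferential h
    simp only [map_smul, Derivation.liftKaehlerDifferential_comp_D, deltaDer_pi, smul_eq_mul,
      mul_one] at this
    exact this
  · have hspan : Submodule.span R {KaehlerDifferential.D ℤ R π} = ⊤ := by
      rw [eq_top_iff, ← KaehlerDifferential.span_range_derivation, Submodule.span_le]
      rintro _ ⟨x, rfl⟩
      obtain ⟨c, hc, -⟩ := hexu x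
      rw [hc, map_sum]
      refine Submodule.sum_mem _ fun i _ => ?_
      rw [Derivation.leibniz, Derivation.leibniz_pow, Derivation.leibniz_pow,
        ← Nat.cast_smul_eq_nsmul R p, CharP.cast_eq_zero R p, zero_smul, smul_zero, zero_add]
      exact Submodule.smul_mem _ _ (nsmul_mem (Submodule.smul_mem _ _
        (Submodule.mem_span_singleton_self _)) _)
    intro ω
    have : ω ∈ Submodule.span R {KaehlerDifferential.D ℤ R π} := hspan ▸ Submodule.mem_top
    obtain ⟨r, hr⟩ := Submodule.mem_span_singleton.1 this
    exact ⟨r, hr⟩

end Groth.Agent.H67.DvrP
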