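import Groth.Agent.S4599
import Mathlib

/-!
# The equalizer of two `S`-morphisms into a locally finite type `S`-scheme is locally of finite
presentation over the source
-/

universe u
open CategoryTheory CategoryTheory.Limits AlgebraicGeometry

namespace Groth.Agent.H67.EqLfp

set_option backward.isDefEq.respectTransparency false in
theorem lfp_equalizer_ι_left {S : Scheme.{u}} {X Y : Over S} [LocallyOfFiniteType Y.hom]
    (f g : X ⟶ Y) : LocallyOfFinitePresentation (equalizer.ι f g).left := by
  refine MorphismProperty.of_isPullback (P := @LocallyOfFinitePresentation)
    ((Limits.isPullback_equalizer_prod f g).map (Over.forget _)).flip ?_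
  rw [← MorphismProperty.cancel_right_of_respectsIso @LocallyOfFinitePresentation _
    (Over.prodLeftIsoPullback Y Y).hom]
  convert! (Groth.Agent.S4599.result Y.hom :
    LocallyOfFinitePresentation (Limits.pullback.diagonal Y.hom))
  ext1 <;> simp [← Over.comp_left]

end Groth.Agent.H67.EqLfp
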