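import Mathlib.Algebra.Homology.ShortComplex.HomologicalComplex
import Mathlib.CategoryTheory.Abelian.Refinements
import Mathlib.CategoryTheory.Preadditive.Injective.Basic
import Mathlib.Algebra.Homology.ShortComplex.Exact

set_option autoImplicit false

universe u v

namespace Groth.Agent.H67.ExtLemma

open CategoryTheory Limits

variable {V : Type u} [Category.{v} V] [Abelian V]

variable {K S C I : CochainComplex V ℕ} (k : K ⟶ S) (s : S ⟶ C) (φ : S ⟶ I)

/-- Replacing an element whose boundary dies in `C` by a cycle, modulo the kernel `K`. -/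
theorem cycle_replacement
    (hkm : ∀ n, Mono (k.f n)) (hks : ∀ n, k.f n ≫ s.f n = 0)
    (hex : ∀ n, (ShortComplex.mk (k.f n) (s.f n) (hks n)).Exact)
    (hK : ∀ n, 0 < n → K.ExactAt n)
    (n : ℕ) {T : V} (x : T ⟶ S.X n) (hx : (x ≫ S.d n (n + 1)) ≫ s.f (n + 1) = 0) :
    ∃ (T' : V) (π : T' ⟶ T) (_ : Epi π) (x₁ : T' ⟶ S.X n) (y₁ : T' ⟶ K.X n),
      π ≫ x = x₁ + y₁ ≫ k.f n ∧ x₁ ≫ S.d n (n + 1) = 0 := by
  obtain ⟨T₁, π₁, hπ₁, y, hy⟩ := (hex (n + 1)).exact_up_to_refinements (x ≫ S.d n (n + 1)) hx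
  dsimp at y hy
  have hyd : y ≫ K.d (n + 1) (n + 2) = 0 := by
    have := hkm (n + 2)
    rw [← cancel_mono (k.f (n + 2)), Category.assoc, ← k.comm, ← Category.assoc, ← hy, zero_comp]
    simp
  have hKex : (K.sc' n (n + 1) (n + 2)).Exact := by
    rw [← K.exactAt_iff' n (n + 1) (n + 2) (by simp) (by simp)]
    exact hK (n + 1) (Nat.succ_pos n)
  obtain ⟨T₂, π₂, hπ₂, y₁, hy₁⟩ := hKex.exact_up_to_refinements y hyd
  change T₂ ⟶ K.X n at y₁
  change π₂ ≫ y = y₁ ≫ K.d n (n + 1) at hy₁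
  refine ⟨T₂, π₂ ≫ π₁, epi_comp _ _, π₂ ≫ π₁ ≫ x - y₁ ≫ k.f n, y₁, ?_, ?_⟩
  · simp
  · rw [Preadditive.sub_comp, Category.assoc, Category.assoc, Category.assoc, hy, k.comm,
      ← Category.assoc, ← Category.assoc, ← Preadditive.sub_comp, hy₁, sub_self, zero_comp]

variable (hkm : ∀ n, Mono (k.f n)) (hks : ∀ n, k.f n ≫ s.f n = 0)
  (hex : ∀ n, (ShortComplex.mk (k.f n) (s.f n) (hks n)).Exact)
  (hK : ∀ n, 0 < n → K.ExactAt n) (hS : ∀ n, 0 < n → S.ExactAt n)
  (hkφ : ∀ n, k.f n ≫ φ.f n = 0)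

include hkm hex hK hS hkφ in
/-- The consistency of the two prescriptions for the next component of the chain map. -/
theorem consistency (n : ℕ) (fn : C.X n ⟶ I.X n) (hfs : s.f n ≫ fn = φ.f n)
    (hcyc : ∀ {T : V} (c : T ⟶ C.X n), c ≫ C.d n (n + 1) = 0 → c ≫ fn ≫ I.d n (n + 1) = 0)
    {T : V} (c : T ⟶ C.X n) (x : T ⟶ S.X (n + 1))
    (h : c ≫ C.d n (n + 1) + x ≫ s.f (n + 1) = 0) :
    c ≫ fn ≫ I.d n (n + 1) + x ≫ φ.f (n + 1) = 0 := by
  have hx : (x ≫ S.d (n + 1) (n + 2)) ≫ s.f (n + 2) = 0 := by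
    rw [Category.assoc, ← s.comm, ← Category.assoc]
    have : x ≫ s.f (n + 1) = -(c ≫ C.d n (n + 1)) := eq_neg_of_add_eq_zero_right h
    rw [this]
    simp
  obtain ⟨T', π, hπ, x₁, y₁, hx₁, hx₁d⟩ := cycle_replacement k s hkm hks hex hK (n + 1) x hx
  have hSex : (S.sc' n (n + 1) (n + 2)).Exact := by
    rw [← S.exactAt_iff' n (n + 1) (n + 2) (by simp) (by simp)]
    exact hS (n + 1) (Nat.succ_pos n)
  obtain ⟨T₃, π₃, hπ₃, s₁, hs₁⟩ := hSex.exact_up_to_refinements x₁ hx₁d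
  change T₃ ⟶ S.X n at s₁
  change π₃ ≫ x₁ = s₁ ≫ S.d n (n + 1) at hs₁
  have hx₁s : x₁ ≫ s.f (n + 1) = π ≫ x ≫ s.f (n + 1) := by
    rw [← Category.assoc, hx₁, Preadditive.add_comp, Category.assoc, hks, comp_zero, add_zero]
  have hc₁ : (π₃ ≫ π ≫ c + s₁ ≫ s.f n) ≫ C.d n (n + 1) = 0 := by
    rw [Preadditive.add_comp, Category.assoc, Category.assoc, Category.assoc, s.comm,
      ← Category.assoc s₁, ← hs₁, Category.assoc, hx₁s, ← Preadditive.comp_add,
      ← Preadditive.comp_add, h, comp_zero, comp_zero]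
  have h1 := hcyc _ hc₁
  rw [Preadditive.add_comp, Category.assoc, Category.assoc, Category.assoc,
    ← Category.assoc (s.f n), hfs] at h1
  have hx₁φ : π ≫ x ≫ φ.f (n + 1) = x₁ ≫ φ.f (n + 1) := by
    rw [← Category.assoc, hx₁, Preadditive.add_comp, Category.assoc, hkφ, comp_zero, add_zero]
  rw [← cancel_epi π, ← cancel_epi π₃, comp_zero, comp_zero, Preadditive.comp_add,
    Preadditive.comp_add, hx₁φ, ← Category.assoc π₃ x₁, hs₁, Category.assoc, ← φ.comm]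
  exact h1

include hkm hex hK hS hkφ in
/-- The inductive step: extending a good component to the next degree. -/
theorem step (hC : ∀ n, 0 < n → C.ExactAt n) (hI : ∀ n, Injective (I.X n))
    (n : ℕ) (fn : C.X n ⟶ I.X n) (hfs : s.f n ≫ fn = φ.f n)
    (hcyc : ∀ {T : V} (c : T ⟶ C.X n), c ≫ C.d n (n + 1) = 0 → c ≫ fn ≫ I.d n (n + 1) = 0) :
    ∃ fn1 : C.X (n + 1) ⟶ I.X (n + 1),
      (s.f (n + 1) ≫ fn1 = φ.f (n + 1) ∧
        ∀ {T : V} (c : T ⟶ C.X (n + 1)), c ≫ C.d (n + 1) (n + 2) = 0 →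
          c ≫ fn1 ≫ I.d (n + 1) (n + 2) = 0) ∧
      C.d n (n + 1) ≫ fn1 = fn ≫ I.d n (n + 1) := by
  let m : C.X n ⊞ S.X (n + 1) ⟶ C.X (n + 1) := biprod.desc (C.d n (n + 1)) (s.f (n + 1))
  let ψ : C.X n ⊞ S.X (n + 1) ⟶ I.X (n + 1) := biprod.desc (fn ≫ I.d n (n + 1)) (φ.f (n + 1))
  have hSex : (ShortComplex.mk (kernel.ι m) m (kernel.condition m)).Exact :=
    ShortComplex.exact_of_f_is_kernel _ (kernelIsKernel m)
  have hκ : kernel.ι m ≫ ψ = 0 := by
    have h0 : (kernel.ι m ≫ biprod.fst) ≫ C.d n (n + 1) +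
        (kernel.ι m ≫ biprod.snd) ≫ s.f (n + 1) = 0 := by
      have := kernel.condition m
      rw [Category.assoc, Category.assoc, ← Preadditive.comp_add, ← biprod.desc_eq]
      exact this
    have h := consistency k s φ hkm hks hex hK hS hkφ n fn hfs hcyc _ _ h0
    rw [Category.assoc, Category.assoc, ← Preadditive.comp_add, ← biprod.desc_eq] at h
    exact h
  have := hI (n + 1)
  have hm : m ≫ hSex.descToInjective ψ hκ = ψ := hSex.comp_descToInjective ψ hκ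
  have h1 : C.d n (n + 1) ≫ hSex.descToInjective ψ hκ = fn ≫ I.d n (n + 1) := by
    have := congrArg (fun t => biprod.inl ≫ t) hm
    simpa [m, ψ] using this
  have h2 : s.f (n + 1) ≫ hSex.descToInjective ψ hκ = φ.f (n + 1) := by
    have := congrArg (fun t => biprod.inr ≫ t) hm
    simpa [m, ψ] using this
  refine ⟨hSex.descToInjective ψ hκ, ⟨h2, ?_⟩, h1⟩
  intro T c hc
  have hCex : (C.sc' n (n + 1) (n + 2)).Exact := by
    rw [← C.exactAt_iff' n (n + 1) (n + 2) (by simp) (by simp)]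
    exact hC (n + 1) (Nat.succ_pos n)
  obtain ⟨T', π, hπ, c₀, hc₀⟩ := hCex.exact_up_to_refinements c hc
  change T' ⟶ C.X n at c₀
  change π ≫ c = c₀ ≫ C.d n (n + 1) at hc₀
  rw [← cancel_epi π, comp_zero, ← Category.assoc, hc₀, Category.assoc, ← Category.assoc (C.d _ _),
    h1, Category.assoc, I.d_comp_d, comp_zero, comp_zero]

include hkm hex hK hkφ in
/-- The base case: a good degree-zero component inducing `g` on `H⁰`. -/
theorem base (hI : ∀ n, Injective (I.X n))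
    (g : C.homology 0 ⟶ I.homology 0)
    (hg : HomologicalComplex.homologyMap s 0 ≫ g = HomologicalComplex.homologyMap φ 0) :
    ∃ f0 : C.X 0 ⟶ I.X 0,
      (s.f 0 ≫ f0 = φ.f 0 ∧
        ∀ {T : V} (c : T ⟶ C.X 0), c ≫ C.d 0 1 = 0 → c ≫ f0 ≫ I.d 0 1 = 0) ∧
      C.iCycles 0 ≫ f0 = (C.isoHomologyπ₀.hom ≫ g ≫ I.isoHomologyπ₀.inv) ≫ I.iCycles 0 := by
  set γ : C.cycles 0 ⟶ I.cycles 0 := C.isoHomologyπ₀.hom ≫ g ≫ I.isoHomologyπ₀.inv with hγ
  have hsγ : HomologicalComplex.cyclesMap s 0 ≫ γ = HomologicalComplex.cyclesMap φ 0 := by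
    rw [hγ, HomologicalComplex.isoHomologyπ_hom, ← Category.assoc,
      ← HomologicalComplex.homologyπ_naturality, Category.assoc, ← Category.assoc _ g, hg,
      CochainComplex.isoHomologyπ₀_inv_naturality, ← Category.assoc,
      HomologicalComplex.isoHomologyπ_hom_inv_id, Category.id_comp]
  let m : C.cycles 0 ⊞ S.X 0 ⟶ C.X 0 := biprod.desc (C.iCycles 0) (s.f 0)
  let ψ : C.cycles 0 ⊞ S.X 0 ⟶ I.X 0 := biprod.desc (γ ≫ I.iCycles 0) (φ.f 0)
  have hSex : (ShortComplex.mk (kernel.ι m) m (kernel.condition m)).Exact :=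
    ShortComplex.exact_of_f_is_kernel _ (kernelIsKernel m)
  have key : ∀ {T : V} (z : T ⟶ C.cycles 0) (x : T ⟶ S.X 0),
      z ≫ C.iCycles 0 + x ≫ s.f 0 = 0 → z ≫ γ ≫ I.iCycles 0 + x ≫ φ.f 0 = 0 := by
    intro T z x h
    have hxs : x ≫ s.f 0 = -(z ≫ C.iCycles 0) := eq_neg_of_add_eq_zero_right h
    have hx : (x ≫ S.d 0 (0 + 1)) ≫ s.f (0 + 1) = 0 := by
      rw [Category.assoc, ← s.comm, ← Category.assoc, hxs]
      simp
    obtain ⟨T', π, hπ, x₁, y₁, hx₁, hx₁d⟩ := cycle_replacement k s hkm hks hex hK 0 x hx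
    have hx₁s : x₁ ≫ s.f 0 = π ≫ x ≫ s.f 0 := by
      rw [← Category.assoc, hx₁, Preadditive.add_comp, Category.assoc, hks, comp_zero, add_zero]
    have hx₁φ : π ≫ x ≫ φ.f 0 = x₁ ≫ φ.f 0 := by
      rw [← Category.assoc, hx₁, Preadditive.add_comp, Category.assoc, hkφ, comp_zero, add_zero]
    let w : T' ⟶ S.cycles 0 := S.liftCycles x₁ (0 + 1) (by simp) hx₁d
    have hw : w ≫ HomologicalComplex.cyclesMap s 0 = -(π ≫ z) := by
      rw [← cancel_mono (C.iCycles 0), Category.assoc, HomologicalComplex.cyclesMap_i,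
        ← Category.assoc, HomologicalComplex.liftCycles_i, hx₁s, hxs]
      simp
    have hw2 : π ≫ z ≫ γ ≫ I.iCycles 0 = -(x₁ ≫ φ.f 0) := by
      have : π ≫ z = -(w ≫ HomologicalComplex.cyclesMap s 0) := by rw [hw, neg_neg]
      rw [← Category.assoc, this, Preadditive.neg_comp, Category.assoc, ← Category.assoc _ γ, hsγ,
        HomologicalComplex.cyclesMap_i, ← Category.assoc, HomologicalComplex.liftCycles_i]
    rw [← cancel_epi π, comp_zero, Preadditive.comp_add, hw2, hx₁φ, neg_add_cancel]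
  have hκ : kernel.ι m ≫ ψ = 0 := by
    have h0 : (kernel.ι m ≫ biprod.fst) ≫ C.iCycles 0 +
        (kernel.ι m ≫ biprod.snd) ≫ s.f 0 = 0 := by
      have := kernel.condition m
      rw [Category.assoc, Category.assoc, ← Preadditive.comp_add, ← biprod.desc_eq]
      exact this
    have h : (kernel.ι m ≫ biprod.fst) ≫ γ ≫ I.iCycles 0 +
        (kernel.ι m ≫ biprod.snd) ≫ φ.f 0 = 0 := key _ _ h0
    rw [show ψ = biprod.fst ≫ (γ ≫ I.iCycles 0) + biprod.snd ≫ φ.f 0 from biprod.desc_eq,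
      Preadditive.comp_add, ← Category.assoc, ← Category.assoc (kernel.ι m) biprod.snd]
    exact h
  have := hI 0
  have hm : m ≫ hSex.descToInjective ψ hκ = ψ := hSex.comp_descToInjective ψ hκ
  have h1 : C.iCycles 0 ≫ hSex.descToInjective ψ hκ = γ ≫ I.iCycles 0 := by
    have := congrArg (fun t => biprod.inl ≫ t) hm
    simpa [m, ψ] using this
  have h2 : s.f 0 ≫ hSex.descToInjective ψ hκ = φ.f 0 := by
    have := congrArg (fun t => biprod.inr ≫ t) hm
    simpa [m, ψ] using this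
  refine ⟨hSex.descToInjective ψ hκ, ⟨h2, ?_⟩, h1⟩
  intro T c hc
  have : c = C.liftCycles c 1 (by simp) hc ≫ C.iCycles 0 := by simp
  rw [this, Category.assoc, ← Category.assoc (C.iCycles 0), h1]
  simp

/-- Dependent choice along `ℕ`. -/
theorem exists_seq {α : ℕ → Type*} (P : ∀ n, α n → Prop) (R : ∀ n, α n → α (n + 1) → Prop)
    (a0 : α 0) (h0 : P 0 a0) (hstep : ∀ n a, P n a → ∃ b, P (n + 1) b ∧ R n a b) :
    ∃ f : ∀ n, α n, f 0 = a0 ∧ (∀ n, P n (f n)) ∧ ∀ n, R n (f n) (f (n + 1)) := by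
  classical
  let G : ∀ n, {a : α n // P n a} := fun n =>
    Nat.rec (motive := fun n => {a : α n // P n a}) ⟨a0, h0⟩
      (fun n p => ⟨Classical.choose (hstep n p.1 p.2),
        (Classical.choose_spec (hstep n p.1 p.2)).1⟩) n
  refine ⟨fun n => (G n).1, rfl, fun n => (G n).2, fun n => ?_⟩
  exact (Classical.choose_spec (hstep n (G n).1 (G n).2)).2

include hkm hex hK hS hkφ in
/-- **General extension lemma**. -/
theorem exists_extension (hC : ∀ n, 0 < n → C.ExactAt n) (hI : ∀ n, Injective (I.X n))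
    (g : C.homology 0 ⟶ I.homology 0)
    (hg : HomologicalComplex.homologyMap s 0 ≫ g = HomologicalComplex.homologyMap φ 0) :
    ∃ f : C ⟶ I, s ≫ f = φ ∧ HomologicalComplex.homologyMap f 0 = g := by
  obtain ⟨f0, hf0, hf0γ⟩ := base k s φ hkm hks hex hK hkφ hI g hg
  obtain ⟨F, hF0, hFP, hFR⟩ := exists_seq (α := fun n => C.X n ⟶ I.X n)
    (fun n fn => s.f n ≫ fn = φ.f n ∧
      ∀ {T : V} (c : T ⟶ C.X n), c ≫ C.d n (n + 1) = 0 → c ≫ fn ≫ I.d n (n + 1) = 0)
    (fun n fn fn1 => C.d n (n + 1) ≫ fn1 = fn ≫ I.d n (n + 1)) f0 hf0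
    (fun n fn hfn => step k s φ hkm hks hex hK hS hkφ hC hI n fn hfn.1 hfn.2)
  let f : C ⟶ I :=
    { f := F
      comm' := fun i j hij => by
        obtain rfl : i + 1 = j := hij
        exact (hFR i).symm }
  refine ⟨f, ?_, ?_⟩
  · ext n
    exact (hFP n).1
  · rw [← cancel_epi (C.homologyπ 0), HomologicalComplex.homologyπ_naturality]
    have : HomologicalComplex.cyclesMap f 0 = C.isoHomologyπ₀.hom ≫ g ≫ I.isoHomologyπ₀.inv := by
      rw [← cancel_mono (I.iCycles 0), HomologicalComplex.cyclesMap_i]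
      change C.iCycles 0 ≫ F 0 = _
      rw [hF0, hf0γ]
    rw [this]
    simp

end Groth.Agent.H67.ExtLemma
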