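import Mathlib.CategoryTheory.Extensive
import Mathlib.CategoryTheory.Limits.Preserves.Finite
import Mathlib.CategoryTheory.Limits.Constructions.LimitsOfProductsAndEqualizers
import Mathlib.CategoryTheory.Limits.Constructions.FiniteProductsOfBinaryProducts

set_option autoImplicit false

universe v₁ v₂ v₃ u₁ u₂ u₃

namespace Groth.Agent.H67

open CategoryTheory CategoryTheory.Limits

section PP

variable {C : Type u₁} [Category.{v₁} C]
  {A₀ A₁ A₂ Q B₀ B₁ B₂ BP : C}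
  {a₁ : A₁ ⟶ A₀} {a₂ : A₂ ⟶ A₀} {q₁ : Q ⟶ A₁} {q₂ : Q ⟶ A₂}
  {m₀ : B₀ ⟶ A₀} {m₁ : B₁ ⟶ A₁} {m₂ : B₂ ⟶ A₂} {f₁ : B₁ ⟶ B₀} {f₂ : B₂ ⟶ B₀}
  {n : BP ⟶ Q} {g₁ : BP ⟶ B₁} {g₂ : BP ⟶ B₂}

/-- A pullback of pullbacks, computed over the base. -/
theorem isPullback_of_isPullback_base
    (hQ : IsPullback q₁ q₂ a₁ a₂)
    (h₁ : IsPullback m₁ f₁ a₁ m₀) (h₂ : IsPullback m₂ f₂ a₂ m₀)
    (c₁ : g₁ ≫ m₁ = n ≫ q₁) (c₂ : g₂ ≫ m₂ = n ≫ q₂) (c₀ : g₁ ≫ f₁ = g₂ ≫ f₂)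
    (hP : IsPullback n (g₁ ≫ f₁) (q₁ ≫ a₁) m₀) : IsPullback g₁ g₂ f₁ f₂ := by
  refine ⟨⟨c₀⟩, ⟨PullbackCone.IsLimit.mk _ (fun s => hP.lift
    (hQ.lift (s.fst ≫ m₁) (s.snd ≫ m₂) (by
      rw [Category.assoc, Category.assoc, h₁.w, h₂.w, ← Category.assoc, ← Category.assoc,
        s.condition]))
    (s.fst ≫ f₁) (by
      rw [← Category.assoc, hQ.lift_fst, Category.assoc, Category.assoc, h₁.w])) ?_ ?_ ?_⟩⟩
  · intro s
    apply h₁.hom_ext
    · rw [Category.assoc, c₁, ← Category.assoc, hP.lift_fst, hQ.lift_fst]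
    · rw [Category.assoc, hP.lift_snd]
  · intro s
    apply h₂.hom_ext
    · rw [Category.assoc, c₂, ← Category.assoc, hP.lift_fst, hQ.lift_snd]
    · rw [Category.assoc, ← c₀, hP.lift_snd, s.condition]
  · intro s m hm1 hm2
    apply hP.hom_ext
    · rw [hP.lift_fst]
      apply hQ.hom_ext
      · rw [hQ.lift_fst, Category.assoc, ← c₁, ← Category.assoc, hm1]
      · rw [hQ.lift_snd, Category.assoc, ← c₂, ← Category.assoc, hm2]
    · rw [hP.lift_snd, ← Category.assoc, hm1]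

/-- The converse direction. -/
theorem isPullback_base_of_isPullback
    (hQ : IsPullback q₁ q₂ a₁ a₂)
    (h₁ : IsPullback m₁ f₁ a₁ m₀) (h₂ : IsPullback m₂ f₂ a₂ m₀)
    (c₁ : g₁ ≫ m₁ = n ≫ q₁) (c₂ : g₂ ≫ m₂ = n ≫ q₂)
    (hP : IsPullback g₁ g₂ f₁ f₂) : IsPullback n (g₁ ≫ f₁) (q₁ ≫ a₁) m₀ := by
  have w : n ≫ q₁ ≫ a₁ = (g₁ ≫ f₁) ≫ m₀ := by
    rw [← Category.assoc, ← c₁, Category.assoc, h₁.w, Category.assoc]
  refine ⟨⟨w⟩, ⟨PullbackCone.IsLimit.mk _ (fun s => hP.lift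
    (h₁.lift (s.fst ≫ q₁) s.snd (by rw [Category.assoc, s.condition]))
    (h₂.lift (s.fst ≫ q₂) s.snd (by rw [Category.assoc, ← hQ.w, s.condition]))
    (by rw [h₁.lift_snd, h₂.lift_snd])) ?_ ?_ ?_⟩⟩
  · intro s
    apply hQ.hom_ext
    · rw [Category.assoc, ← c₁, ← Category.assoc, hP.lift_fst, h₁.lift_fst]
    · rw [Category.assoc, ← c₂, ← Category.assoc, hP.lift_snd, h₂.lift_fst]
  · intro s
    rw [← Category.assoc, hP.lift_fst, h₁.lift_snd]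
  · intro s m hm1 hm2
    apply hP.hom_ext
    · rw [hP.lift_fst]
      apply h₁.hom_ext
      · rw [h₁.lift_fst, Category.assoc, c₁, ← Category.assoc, hm1]
      · rw [h₁.lift_snd, Category.assoc, hm2]
    · rw [hP.lift_snd]
      apply h₂.hom_ext
      · rw [h₂.lift_fst, Category.assoc, c₂, ← Category.assoc, hm1]
      · rw [h₂.lift_snd, Category.assoc, ← hP.w, hm2]

end PP

section Y

variable {𝒜 : Type u₁} [Category.{v₁} 𝒜] {ℬ : Type u₂} [Category.{v₂} ℬ]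
  [FinitaryExtensive 𝒜] [HasPullbacks 𝒜] [FinitaryExtensive ℬ]
  (Φ : 𝒜 ⥤ ℬ) [PreservesColimitsOfShape (Discrete WalkingPair) Φ]

/-- A functor between finitary extensive categories which preserves binary coproducts preserves
pullbacks along coproduct injections. -/
theorem map_isPullback_of_isColimit_binaryCofan {X₁ X A₁ A₂ A : 𝒜} {t : X₁ ⟶ X} {l : X₁ ⟶ A₁}
    {m : X ⟶ A} {i₁ : A₁ ⟶ A} {i₂ : A₂ ⟶ A} (hc : IsColimit (BinaryCofan.mk i₁ i₂))
    (h : IsPullback t l m i₁) : IsPullback (Φ.map t) (Φ.map l) (Φ.map m) (Φ.map i₁) := by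
  have hX₂ := IsPullback.of_hasPullback m i₂
  obtain ⟨hc'⟩ : Nonempty (IsColimit (BinaryCofan.mk t (pullback.fst m i₂))) :=
    ((BinaryCofan.isVanKampen_iff _).1 (FinitaryExtensive.vanKampen _ hc)
      (BinaryCofan.mk t (pullback.fst m i₂)) l (pullback.snd m i₂) m h.w.symm hX₂.w.symm).2
      ⟨h, hX₂⟩
  have e1 : IsColimit (BinaryCofan.mk (Φ.map t) (Φ.map (pullback.fst m i₂))) :=
    (isColimitMapCoconeBinaryCofanEquiv Φ t (pullback.fst m i₂)) (isColimitOfPreserves Φ hc')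
  have e2 : IsColimit (BinaryCofan.mk (Φ.map i₁) (Φ.map i₂)) :=
    (isColimitMapCoconeBinaryCofanEquiv Φ i₁ i₂) (isColimitOfPreserves Φ hc)
  exact (((BinaryCofan.isVanKampen_iff _).1 (FinitaryExtensive.vanKampen _ e2)
    (BinaryCofan.mk (Φ.map t) (Φ.map (pullback.fst m i₂))) (Φ.map l)
    (Φ.map (pullback.snd m i₂)) (Φ.map m)
    (by
      change Φ.map l ≫ Φ.map i₁ = Φ.map t ≫ Φ.map m
      rw [← Φ.map_comp, ← Φ.map_comp, h.w])
    (by
      change Φ.map (pullback.snd m i₂) ≫ Φ.map i₂ = Φ.map (pullback.fst m i₂) ≫ Φ.map m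
      rw [← Φ.map_comp, ← Φ.map_comp, hX₂.w])).1 ⟨e1⟩).1

end Y

section Z

variable {𝒜 : Type u₁} [Category.{v₁} 𝒜] {𝒳 : Type u₃} [Category.{v₃} 𝒳]
  {ℬ : Type u₂} [Category.{v₂} ℬ]
  [FinitaryExtensive 𝒜] [HasFiniteLimits 𝒜] [HasFiniteLimits 𝒳] [FinitaryExtensive ℬ]
  [HasFiniteLimits ℬ]
  (e : 𝒜 ⥤ 𝒳) (r : 𝒳 ⥤ 𝒜) (η : 𝟭 𝒜 ⟶ e ⋙ r) (Φ : 𝒜 ⥤ ℬ)
  [PreservesFiniteLimits r] [PreservesFiniteLimits (r ⋙ Φ)]
  [PreservesColimitsOfShape (Discrete WalkingPair) Φ]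

include η in
theorem map_isPullback_of_cartesian_complemented
    (hcart : ∀ {b b' : 𝒜} (u : b ⟶ b'), IsPullback (η.app b) u (r.map (e.map u)) (η.app b'))
    (hcompl : ∀ b : 𝒜, ∃ (c : 𝒜) (j : c ⟶ r.obj (e.obj b)),
      Nonempty (IsColimit (BinaryCofan.mk (η.app b) j)))
    {b₀ b₁ b₂ : 𝒜} (f : b₁ ⟶ b₀) (g : b₂ ⟶ b₀) :
    IsPullback (Φ.map (pullback.fst f g)) (Φ.map (pullback.snd f g)) (Φ.map f) (Φ.map g) := by
  have hP' := IsPullback.of_hasPullback (e.map f) (e.map g)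
  have hrP' := hP'.map r
  have hΦrP' := hP'.map (r ⋙ Φ)
  have hP := IsPullback.of_hasPullback f g
  have h₁ := hcart f
  have h₂ := hcart g
  have wk : (pullback.fst f g ≫ η.app b₁) ≫ r.map (e.map f) =
      (pullback.snd f g ≫ η.app b₂) ≫ r.map (e.map g) := by
    rw [Category.assoc, Category.assoc, h₁.w, h₂.w, ← Category.assoc, ← Category.assoc,
      pullback.condition]
  have c₁ : pullback.fst f g ≫ η.app b₁ = hrP'.lift _ _ wk ≫ r.map (pullback.fst _ _) :=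
    (hrP'.lift_fst _ _ wk).symm
  have c₂ : pullback.snd f g ≫ η.app b₂ = hrP'.lift _ _ wk ≫ r.map (pullback.snd _ _) :=
    (hrP'.lift_snd _ _ wk).symm
  have hbase := isPullback_base_of_isPullback hrP' h₁ h₂ c₁ c₂ hP
  obtain ⟨c, j, ⟨hc⟩⟩ := hcompl b₀
  have Y₁ := map_isPullback_of_isColimit_binaryCofan Φ hc h₁
  have Y₂ := map_isPullback_of_isColimit_binaryCofan Φ hc h₂
  have YP := map_isPullback_of_isColimit_binaryCofan Φ hc hbase
  rw [Φ.map_comp, Φ.map_comp] at YP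
  refine isPullback_of_isPullback_base (n := Φ.map (hrP'.lift _ _ wk)) hΦrP' Y₁ Y₂ ?_ ?_ ?_ YP
  · exact (Φ.map_comp _ _).symm.trans ((congrArg Φ.map c₁).trans (Φ.map_comp _ _))
  · exact (Φ.map_comp _ _).symm.trans ((congrArg Φ.map c₂).trans (Φ.map_comp _ _))
  · rw [← Φ.map_comp, ← Φ.map_comp, pullback.condition]

include η in
/-- A criterion for left exactness. -/
theorem preservesFiniteLimits_of_cartesian_complemented
    (hcart : ∀ {b b' : 𝒜} (u : b ⟶ b'), IsPullback (η.app b) u (r.map (e.map u)) (η.app b'))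
    (hcompl : ∀ b : 𝒜, ∃ (c : 𝒜) (j : c ⟶ r.obj (e.obj b)),
      Nonempty (IsColimit (BinaryCofan.mk (η.app b) j))) :
    PreservesFiniteLimits Φ := by
  have : PreservesLimit (Functor.empty.{0} 𝒜) Φ :=
    preservesTerminal_of_iso Φ
      (Φ.mapIso (PreservesTerminal.iso r).symm ≪≫ PreservesTerminal.iso (r ⋙ Φ))
  have : PreservesLimitsOfShape (Discrete.{0} PEmpty) Φ :=
    preservesLimitsOfShape_pempty_of_preservesTerminal Φ
  have core : ∀ {b₀ b₁ b₂ : 𝒜} (f : b₁ ⟶ b₀) (g : b₂ ⟶ b₀), PreservesLimit (cospan f g) Φ :=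
    fun f g => preservesLimit_of_preserves_limit_cone (IsPullback.of_hasPullback f g).isLimit
      ((isLimitMapConePullbackConeEquiv Φ pullback.condition).symm
        (map_isPullback_of_cartesian_complemented e r η Φ hcart hcompl f g).isLimit)
  have : PreservesLimitsOfShape WalkingCospan Φ := by
    refine ⟨fun {K} => ?_⟩
    have := core (K.map WalkingCospan.Hom.inl) (K.map WalkingCospan.Hom.inr)
    exact preservesLimit_of_iso_diagram Φ (diagramIsoCospan K).symm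
  exact preservesFiniteLimits_of_preservesTerminal_and_pullbacks Φ

end Z

end Groth.Agent.H67
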