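import Groth.Prelude.Def_FibSite

set_option autoImplicit false
set_option backward.isDefEq.respectTransparency false
set_option backward.isDefEq.respectTransparency.types false
set_option backward.defeqAttrib.useBackward true

universe v₃ u₃ v₂ u₂ v₁ u₁

namespace Groth.Agent.H67

open CategoryTheory CategoryTheory.Limits Opposite Pseudofunctor Pseudofunctor.CoGrothendieck FibSite
open CategoryTheory.Functor Bicategory

variable {𝒮 : Type u₁} [Category.{v₁} 𝒮]
variable (F : Pseudofunctor (LocallyDiscrete 𝒮ᵒᵖ) Cat.{v₂, u₂})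

attribute [local simp] PrelaxFunctor.map₂_eqToHom Strict.leftUnitor_eqToIso Strict.rightUnitor_eqToIso
  Strict.associator_eqToIso

/-- Every morphism of the total category is a vertical morphism followed by a cartesian lift. -/
theorem fs_fac {X Y : ∫ᶜ F} (f : Y ⟶ X) :
    (ι F Y.base).map f.fiber ≫ cartesianLift X.fiber f.base = f := by
  ext
  · simp
  · simp [F.mapComp_id_right_inv_app, ← Cat.Hom₂.comp_app]

/-- Cartesian lifts are natural in the object of the fibre. -/
theorem fs_nat {R S : 𝒮} (g : R ⟶ S) {W U : F.obj ⟨op S⟩} (w : W ⟶ U) :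
    (ι F R).map ((FibSite.invImage F g).map w) ≫ cartesianLift U g =
      cartesianLift W g ≫ (ι F S).map w := by
  ext
  · simp
  · simp [F.mapComp_id_right_inv_app, F.mapComp_id_left_inv_app, ← Cat.Hom₂.comp_app]
    simp [FibSite.invImage, ← Functor.map_comp_assoc, ← Cat.Hom₂.comp_app]

variable (J : FibSite.Topologies F)

/-- The pushforward of a sieve of a fibre along the fibre inclusion, as a sieve on an object of the
total category (using eta for the structure `∫ᶜ F`). -/
abbrev fsPush (X : ∫ᶜ F) (R : Sieve X.fiber) : Sieve X :=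
  Sieve.functorPushforward (ι F X.base) R

variable {F}

theorem fsPush_mem_iff (X : ∫ᶜ F) (R : Sieve X.fiber) {Z : ∫ᶜ F} (h : Z ⟶ X) :
    fsPush F X R h ↔ ∃ (V : F.obj ⟨op X.base⟩) (v : V ⟶ X.fiber) (k : Z ⟶ (ι F X.base).obj V),
      R v ∧ h = k ≫ (ι F X.base).map v := Iff.rfl

theorem fsPush_le_iff (X : ∫ᶜ F) (R : Sieve X.fiber) (S : Sieve X) :
    fsPush F X R ≤ S ↔ ∀ ⦃V : F.obj ⟨op X.base⟩⦄ (v : V ⟶ X.fiber), R v → S ((ι F X.base).map v) := by
  constructor
  · intro h V v hv
    exact h _ ⟨V, v, 𝟙 _, hv, (Category.id_comp _).symm⟩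
  · rintro h Z f ⟨V, v, k, hv, rfl⟩
    exact S.downward_closed (h v hv) k

/-- Pullback of a pushed-forward sieve along an arbitrary morphism of the total category contains a
pushed-forward sieve. -/
theorem fsPush_pullback (hF : FibSite.IsPreFibSite F J) {X Y : ∫ᶜ F} (f : Y ⟶ X)
    (R : Sieve X.fiber) (hR : R ∈ J X.base X.fiber) :
    ∃ R' ∈ J Y.base Y.fiber, fsPush F Y R' ≤ (fsPush F X R).pullback f := by
  have hcont : (FibSite.invImage F f.base).IsContinuous (J X.base) (J Y.base) := hF f.base
  have hcp := CoverPreserving.of_isContinuous (FibSite.invImage F f.base) (J X.base) (J Y.base)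
  refine ⟨(R.functorPushforward (FibSite.invImage F f.base)).pullback f.fiber,
    (J Y.base).pullback_stable _ (hcp.cover_preserve hR), ?_⟩
  rw [fsPush_le_iff]
  rintro V v ⟨W, w, k', hw, hvk⟩
  change fsPush F X R ((ι F Y.base).map v ≫ f)
  have e : (ι F Y.base).map v ≫ f =
      ((ι F Y.base).map k' ≫ cartesianLift W f.base) ≫ (ι F X.base).map w := by
    conv_lhs => rw [← fs_fac F f]
    rw [← Category.assoc, ← Functor.map_comp, hvk, Functor.map_comp, Category.assoc, fs_nat,
      Category.assoc]
  rw [e]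
  exact ⟨W, w, _, hw, rfl⟩

variable (F)

/-- The explicit description of the total topology: sieves containing the image of a covering
sieve of the fibre. -/
def fsTop (hF : FibSite.IsPreFibSite F J) : GrothendieckTopology (∫ᶜ F) where
  sieves X := {S | ∃ R ∈ J X.base X.fiber, fsPush F X R ≤ S}
  top_mem' X := ⟨⊤, (J X.base).top_mem _, le_top⟩
  pullback_stable' := by
    rintro X Y S f ⟨R, hR, hRS⟩
    obtain ⟨R', hR', h⟩ := fsPush_pullback J hF f R hR
    exact ⟨R', hR', h.trans (Sieve.pullback_monotone f hRS)⟩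
  transitive' := by
    rintro X S ⟨R, hR, hRS⟩ S' hS'
    have hRS' := (fsPush_le_iff X R S).1 hRS
    choose R₂ hR₂ hR₂' using fun (V : F.obj ⟨op X.base⟩) (v : V ⟶ X.fiber) (hv : R v) =>
      hS' (hRS' v hv)
    refine ⟨Sieve.bind R fun V v hv => R₂ V v hv, (J X.base).bind_covering hR
      (fun V v hv => hR₂ V v hv), ?_⟩
    rw [fsPush_le_iff]
    rintro V _ ⟨W, u, v, hv, hu, rfl⟩
    have := (fsPush_le_iff ((ι F X.base).obj W) (R₂ _ v hv) _).1 (hR₂' W v hv) u hu
    simpa using this

theorem fsTop_eq (hF : FibSite.IsPreFibSite F J) : fsTop F J hF = FibSite.totalTopology F J := by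
  apply le_antisymm
  · rintro X S ⟨R, hR, hRS⟩
    exact (FibSite.totalTopology F J).superset_covering hRS
      (FibSite.functorPushforward_mem_totalTopology hR)
  · apply FibSite.totalTopology_le
    intro S U R hR
    exact ⟨R, hR, le_rfl⟩

theorem mem_totalTopology_iff (hF : FibSite.IsPreFibSite F J) (X : ∫ᶜ F) (S : Sieve X) :
    S ∈ FibSite.totalTopology F J X ↔
      ∃ R ∈ J X.base X.fiber, Sieve.functorPushforward (ι F X.base) R ≤ S := by
  rw [← fsTop_eq F J hF]
  rfl

end Groth.Agent.H67
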