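import Mathlib.CategoryTheory.Sites.ConcreteSheafification
import Mathlib.CategoryTheory.Sites.LocallyInjective
import Mathlib.CategoryTheory.Limits.Types.Colimits
import Mathlib.CategoryTheory.Limits.Types.Limits

set_option autoImplicit false

universe w v u

namespace Groth.Agent.H67

open CategoryTheory Opposite Limits

variable {C : Type u} [Category.{v} C] (J : GrothendieckTopology C)

/-- A separated presheaf of types (in any universe) embeds into a sheaf of types (the plus
construction, after lifting the universe). -/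
theorem exists_sheaf_of_separated (Q : Cᵒᵖ ⥤ Type w) (hQ : Presieve.IsSeparated J Q) :
    ∃ (Q' : Cᵒᵖ ⥤ Type (max u v w)) (η : ∀ X : Cᵒᵖ, Q.obj X → Q'.obj X),
      Presieve.IsSheaf J Q' ∧ (∀ X, Function.Injective (η X)) ∧
      ∀ {X Y : Cᵒᵖ} (f : X ⟶ Y) (x : Q.obj X), η Y (Q.map f x) = Q'.map f (η X x) := by
  let Q₁ : Cᵒᵖ ⥤ Type (max u v w) := Q ⋙ uliftFunctor.{max u v, w}
  have hsep : ∀ (X : C) (S : J.Cover X) (x y : ToType (Q₁.obj (op X))),
        (∀ I : S.Arrow, Q₁.map I.f.op x = Q₁.map I.f.op y) → x = y := by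
    intro X S x y h
    apply ULift.ext
    refine (hQ S.1 S.2).ext (fun Y f hf => ?_)
    exact congrArg ULift.down (h ⟨Y, f, hf⟩)
  refine ⟨J.plusObj Q₁, fun X x => (J.toPlus Q₁).app X ⟨x⟩, ?_, ?_, ?_⟩
  · exact (isSheaf_iff_isSheaf_of_type _ _).1 (GrothendieckTopology.Plus.isSheaf_of_sep Q₁ hsep)
  · intro X x y h
    have := GrothendieckTopology.Plus.inj_of_sep Q₁ hsep X.unop h
    exact congrArg ULift.down this
  · intro X Y f x
    have := (J.toPlus Q₁).naturality f
    have h2 := congrArg (fun φ => φ (ULift.up x : Q₁.obj X)) this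
    exact h2

end Groth.Agent.H67
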