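import Groth.Agent.H67.FibSite
import Groth.Agent.H67.SepEmbed

set_option autoImplicit false
set_option backward.isDefEq.respectTransparency false
set_option backward.isDefEq.respectTransparency.types false
set_option backward.defeqAttrib.useBackward true

universe w v₃ u₃ v₂ u₂ v₁ u₁

namespace Groth.Agent.H67

open CategoryTheory CategoryTheory.Limits Opposite Pseudofunctor Pseudofunctor.CoGrothendieck FibSite
open CategoryTheory.Functor Bicategory

variable {𝒮 : Type u₁} [Category.{v₁} 𝒮]
variable {F : Pseudofunctor (LocallyDiscrete 𝒮ᵒᵖ) Cat.{v₂, u₂}}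

/-- Cancellation of a cartesian lift against vertical morphisms. -/
theorem fs_cancel {b S : 𝒮} (g : b ⟶ S) {z : F.obj ⟨op b⟩} {U : F.obj ⟨op S⟩}
    (α β : z ⟶ (FibSite.invImage F g).obj U)
    (h : (ι F b).map α ≫ cartesianLift U g = (ι F b).map β ≫ cartesianLift U g) : α = β := by
  have hα := fs_fac F (X := ⟨S, U⟩) (Y := ⟨b, z⟩) ⟨g, α⟩
  have hβ := fs_fac F (X := ⟨S, U⟩) (Y := ⟨b, z⟩) ⟨g, β⟩
  dsimp only at hα hβ
  rw [hα, hβ] at h
  injection h

variable (J : FibSite.Topologies F)

/-- The restriction of a separated presheaf on the total site to a fibre is separated. -/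
theorem fs_separated (P : (∫ᶜ F)ᵒᵖ ⥤ Type w)
    (hP : Presieve.IsSeparated (FibSite.totalTopology F J) P) (b : 𝒮) :
    Presieve.IsSeparated (J b) ((ι F b).op ⋙ P) := by
  intro V R hR x t₁ t₂ h₁ h₂
  have hcov : Sieve.functorPushforward (ι F b) R ∈ FibSite.totalTopology F J ((ι F b).obj V) :=
    FibSite.functorPushforward_mem_totalTopology hR
  refine (hP _ hcov).ext ?_
  rintro Z h ⟨W, w, k, hw, rfl⟩
  have e₁ : P.map ((ι F b).map w).op t₁ = x w hw := h₁ w hw
  have e₂ : P.map ((ι F b).map w).op t₂ = x w hw := h₂ w hw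
  rw [op_comp, Functor.map_comp_apply, Functor.map_comp_apply, e₁, e₂]

/-- Key lemma: a compatible family on a covering sieve of a fibre, for the restriction of a
separated presheaf on the total site, is compatible with all inverse images. -/
theorem fs_key (hF : FibSite.IsPreFibSite F J) (P : (∫ᶜ F)ᵒᵖ ⥤ Type w)
    (hP : Presieve.IsSeparated (FibSite.totalTopology F J) P)
    {b S : 𝒮} (g : b ⟶ S) {U : F.obj ⟨op S⟩} (R : Sieve U) (hR : R ∈ J S U)
    (y : Presieve.FamilyOfElements ((ι F S).op ⋙ P) R.arrows) (hy : y.Compatible)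
    {z : F.obj ⟨op b⟩} {W W' : F.obj ⟨op S⟩} (w : W ⟶ U) (w' : W' ⟶ U) (hw : R w) (hw' : R w')
    (φ : z ⟶ (FibSite.invImage F g).obj W) (φ' : z ⟶ (FibSite.invImage F g).obj W')
    (h : φ ≫ (FibSite.invImage F g).map w = φ' ≫ (FibSite.invImage F g).map w') :
    P.map ((ι F b).map φ ≫ cartesianLift W g).op (y w hw) =
      P.map ((ι F b).map φ' ≫ cartesianLift W' g).op (y w' hw') := by
  obtain ⟨Q', η, hQ', hinj, hnat⟩ :=
    exists_sheaf_of_separated (J b) ((ι F b).op ⋙ P) (fs_separated J P hP b)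
  have : (FibSite.invImage F g).IsContinuous (J S) (J b) := hF g
  have hsh : Presieve.IsSheaf (J S) ((FibSite.invImage F g).op ⋙ Q') :=
    Functor.op_comp_isSheaf_of_isSheaf_type _ _ hQ'
  rw [Presieve.compatible_iff_sieveCompatible] at hy
  let t : Presieve.FamilyOfElements ((FibSite.invImage F g).op ⋙ Q') R.arrows :=
    fun W w hw => η (op ((FibSite.invImage F g).obj W)) (P.map (cartesianLift W g).op (y w hw))
  have ht : t.Compatible := by
    rw [Presieve.compatible_iff_sieveCompatible]
    intro W₁ W₂ w₁ a hw₁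
    change η _ (P.map (cartesianLift W₂ g).op (y (a ≫ w₁) _)) =
      Q'.map ((FibSite.invImage F g).map a).op (η _ (P.map (cartesianLift W₁ g).op (y w₁ hw₁)))
    rw [← hnat, hy w₁ a hw₁]
    congr 1
    have aux : ∀ e : P.obj (op ((ι F S).obj W₁)),
        P.map (cartesianLift W₂ g).op (P.map ((ι F S).map a).op e) =
          P.map ((ι F b).map ((FibSite.invImage F g).map a)).op
            (P.map (cartesianLift W₁ g).op e) := by
      intro e
      have := congrArg (fun m => P.map m.op e) (fs_nat F g a)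
      simp only [op_comp, Functor.map_comp_apply] at this
      exact this.symm
    exact aux _
  obtain ⟨τ, hτ, -⟩ := hsh R hR t ht
  have key : ∀ {W : F.obj ⟨op S⟩} (w : W ⟶ U) (hw : R w) (φ : z ⟶ (FibSite.invImage F g).obj W),
      η (op z) (P.map ((ι F b).map φ ≫ cartesianLift W g).op (y w hw)) =
        Q'.map (φ ≫ (FibSite.invImage F g).map w).op τ := by
    intro W w hw φ
    have e₁ : P.map ((ι F b).map φ ≫ cartesianLift W g).op (y w hw) =
        ((ι F b).op ⋙ P).map φ.op (P.map (cartesianLift W g).op (y w hw)) := by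
      rw [op_comp, Functor.map_comp_apply]
      rfl
    have e₂ : Q'.map ((FibSite.invImage F g).map w).op τ = t w hw := hτ w hw
    rw [e₁, hnat, op_comp, Functor.map_comp_apply, e₂]
  apply hinj (op z)
  rw [key w hw φ, key w' hw' φ', h]

/-- Well-definedness of the extension of a compatible family on a covering sieve of a fibre to
the pushed-forward sieve of the total category. -/
theorem fs_star (hF : FibSite.IsPreFibSite F J) (P : (∫ᶜ F)ᵒᵖ ⥤ Type w)
    (hP : Presieve.IsSeparated (FibSite.totalTopology F J) P)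
    {S : 𝒮} {U : F.obj ⟨op S⟩} (R : Sieve U) (hR : R ∈ J S U)
    (y : Presieve.FamilyOfElements ((ι F S).op ⋙ P) R.arrows) (hy : y.Compatible)
    {Z : ∫ᶜ F} {W W' : F.obj ⟨op S⟩} (w : W ⟶ U) (w' : W' ⟶ U) (hw : R w) (hw' : R w')
    (k : Z ⟶ (ι F S).obj W) (k' : Z ⟶ (ι F S).obj W')
    (h : k ≫ (ι F S).map w = k' ≫ (ι F S).map w') :
    P.map k.op (y w hw) = P.map k'.op (y w' hw') := by
  obtain ⟨b, z⟩ := Z
  obtain ⟨g, φ⟩ := k
  obtain ⟨g', φ'⟩ := k'
  have hb : g = g' := by
    have := congrArg Hom.base h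
    simpa using this
  subst hb
  have e₁ := fs_fac F (X := (ι F S).obj W) (Y := ⟨b, z⟩) ⟨g, φ⟩
  have e₂ := fs_fac F (X := (ι F S).obj W') (Y := ⟨b, z⟩) ⟨g, φ'⟩
  rw [← e₁, ← e₂]
  apply fs_key J hF P hP g R hR y hy w w' hw hw'
  apply fs_cancel g
  rw [Functor.map_comp, Functor.map_comp, Category.assoc, Category.assoc, fs_nat, fs_nat,
    ← Category.assoc, ← Category.assoc]
  rw [← e₁, ← e₂] at h
  exact h

/-- If the restriction of a presheaf along a functor is a sheaf for a sieve, the presheaf is a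
sheaf for the pushed-forward sieve. -/
theorem isSheafFor_functorPushforward_of_comp {C : Type u₁} [Category.{v₁} C] {D : Type u₂}
    [Category.{v₂} D] (G : C ⥤ D) (P : Dᵒᵖ ⥤ Type w) {U : C} (R : Sieve U)
    (h : Presieve.IsSheafFor (G.op ⋙ P) R.arrows) :
    Presieve.IsSheafFor P (Sieve.functorPushforward G R).arrows := by
  rw [← Presieve.isSeparatedFor_and_exists_isAmalgamation_iff_isSheafFor]
  constructor
  · intro x t₁ t₂ h₁ h₂
    refine h.isSeparatedFor.ext ?_
    intro W w hw
    have hm : (Sieve.functorPushforward G R).arrows (G.map w) :=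
      ⟨W, w, 𝟙 _, hw, (Category.id_comp _).symm⟩
    exact (h₁ (G.map w) hm).trans (h₂ (G.map w) hm).symm
  · intro x hx
    rw [Presieve.compatible_iff_sieveCompatible] at hx
    let y : Presieve.FamilyOfElements (G.op ⋙ P) R.arrows :=
      fun W w hw => x (G.map w) ⟨W, w, 𝟙 _, hw, (Category.id_comp _).symm⟩
    have hy : y.Compatible := by
      rw [Presieve.compatible_iff_sieveCompatible]
      intro W₁ W₂ w₁ a hw₁
      have := hx (G.map w₁) (G.map a) ⟨W₁, w₁, 𝟙 _, hw₁, (Category.id_comp _).symm⟩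
      change x (G.map (a ≫ w₁)) _ = P.map (G.map a).op (x (G.map w₁) _)
      rw [← this]
      congr 1
      exact G.map_comp a w₁
    obtain ⟨s, hs, -⟩ := h y hy
    refine ⟨s, ?_⟩
    rintro Z f ⟨W, w, k, hw, rfl⟩
    have e : P.map (G.map w).op s = x (G.map w) ⟨W, w, 𝟙 _, hw, (Category.id_comp _).symm⟩ :=
      hs w hw
    rw [op_comp, Functor.map_comp_apply, e]
    exact (hx (G.map w) k _).symm

/-- (⟸) A presheaf of types on the total category whose restrictions to all fibres are sheaves is a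
sheaf for the total topology. -/
theorem fs_isSheaf_total (hF : FibSite.IsPreFibSite F J) (P : (∫ᶜ F)ᵒᵖ ⥤ Type w)
    (h : ∀ S : 𝒮, Presieve.IsSheaf (J S) ((ι F S).op ⋙ P)) :
    Presieve.IsSheaf (FibSite.totalTopology F J) P := by
  intro X S' hS'
  obtain ⟨R, hR, hRS⟩ := (mem_totalTopology_iff F J hF X S').1 hS'
  have key : ∀ (Y : ∫ᶜ F) (R' : Sieve Y.fiber), R' ∈ J Y.base Y.fiber →
      Presieve.IsSheafFor P (fsPush F Y R').arrows := fun Y R' hR' =>
    isSheafFor_functorPushforward_of_comp (ι F Y.base) P R' (h Y.base R' hR')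
  refine Presieve.isSheafFor_subsieve_aux P (S := fsPush F X R) hRS (key X R hR) ?_
  intro Y f _
  obtain ⟨R', hR', hle⟩ := fsPush_pullback J hF f R hR
  intro x t₁ t₂ h₁ h₂
  refine (key Y R' hR').isSeparatedFor.ext ?_
  intro Z g hg
  exact (h₁ g (hle _ hg)).trans (h₂ g (hle _ hg)).symm

/-- (⟹) The restriction to a fibre of a sheaf of types for the total topology is a sheaf. -/
theorem fs_isSheaf_fibre (hF : FibSite.IsPreFibSite F J) (P : (∫ᶜ F)ᵒᵖ ⥤ Type w)
    (hP : Presieve.IsSheaf (FibSite.totalTopology F J) P) (S : 𝒮) :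
    Presieve.IsSheaf (J S) ((ι F S).op ⋙ P) := by
  have hsepT : Presieve.IsSeparated (FibSite.totalTopology F J) P :=
    fun _ R hR => (hP R hR).isSeparatedFor
  intro U R hR
  rw [← Presieve.isSeparatedFor_and_exists_isAmalgamation_iff_isSheafFor]
  refine ⟨fs_separated J P hsepT S R hR, ?_⟩
  intro y hy
  have hcov : Sieve.functorPushforward (ι F S) R ∈ FibSite.totalTopology F J ((ι F S).obj U) :=
    FibSite.functorPushforward_mem_totalTopology hR
  let x : Presieve.FamilyOfElements P (Sieve.functorPushforward (ι F S) R).arrows :=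
    fun Z f hf => P.map (Presieve.getFunctorPushforwardStructure hf).lift.op
      (y (Presieve.getFunctorPushforwardStructure hf).premap
        (Presieve.getFunctorPushforwardStructure hf).cover)
  have hx : x.Compatible := by
    rw [Presieve.compatible_iff_sieveCompatible]
    intro Z₁ Z₂ f a hf
    have hf' : (Sieve.functorPushforward (ι F S) R).arrows (a ≫ f) :=
      (Sieve.functorPushforward (ι F S) R).downward_closed hf a
    change P.map (Presieve.getFunctorPushforwardStructure hf').lift.op _ =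
      P.map a.op (P.map (Presieve.getFunctorPushforwardStructure hf).lift.op _)
    rw [← Functor.map_comp_apply, ← op_comp]
    apply fs_star J hF P hsepT R hR y hy
    rw [← (Presieve.getFunctorPushforwardStructure hf').fac, Category.assoc,
      ← (Presieve.getFunctorPushforwardStructure hf).fac]
  obtain ⟨s, hs, -⟩ := hP _ hcov x hx
  refine ⟨s, ?_⟩
  intro W w hw
  have hm : (Sieve.functorPushforward (ι F S) R).arrows ((ι F S).map w) :=
    ⟨W, w, 𝟙 _, hw, (Category.id_comp _).symm⟩
  have e : P.map ((ι F S).map w).op s = x ((ι F S).map w) hm := hs _ hm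
  change P.map ((ι F S).map w).op s = y w hw
  rw [e]
  change P.map (Presieve.getFunctorPushforwardStructure hm).lift.op _ = y w hw
  have := fs_star J hF P hsepT R hR y hy (Presieve.getFunctorPushforwardStructure hm).premap w
    (Presieve.getFunctorPushforwardStructure hm).cover hw
    (Presieve.getFunctorPushforwardStructure hm).lift (𝟙 _)
    (by rw [← (Presieve.getFunctorPushforwardStructure hm).fac, Category.id_comp])
  rw [this]
  simp

/-- The fibre inclusions are continuous for the total topology. -/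
theorem fs_ι_isContinuous (hF : FibSite.IsPreFibSite F J) (S : 𝒮) :
    (ι F S).IsContinuous (J S) (FibSite.totalTopology F J) where
  op_comp_isSheaf_of_types G :=
    fs_isSheaf_fibre J hF G.obj ((isSheaf_iff_isSheaf_of_type _ _).1 G.property) S

theorem fs_ι_faithful (S : 𝒮) {V W : F.obj ⟨op S⟩} (α β : V ⟶ W)
    (h : (ι F S).map α = (ι F S).map β) : α = β := by
  have := ((Hom.ext_iff _ _).mp h).2
  simpa [cancel_mono, ← Cat.Hom.toNatIso_hom, ← Cat.Hom.toNatIso_inv] using this

theorem fs_ι_full (S : 𝒮) {V W : F.obj ⟨op S⟩} (k : (ι F S).obj V ⟶ (ι F S).obj W)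
    (hk : k.base = 𝟙 S) : ∃ k' : V ⟶ W, (ι F S).map k' = k := by
  obtain ⟨g, φ⟩ := k
  change g = 𝟙 S at hk
  subst hk
  refine ⟨φ ≫ (F.mapId ⟨op S⟩).hom.toNatTrans.app W, ?_⟩
  ext
  · simp
  · simp [← Cat.Hom₂.comp_app]

end Groth.Agent.H67
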