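import Groth.Agent.H67.FibSite2
import Mathlib.CategoryTheory.Adjunction.Triple
import Mathlib.CategoryTheory.Sites.Pullback

set_option autoImplicit false
set_option backward.isDefEq.respectTransparency false
set_option backward.isDefEq.respectTransparency.types false
set_option backward.defeqAttrib.useBackward true

universe w v₃ u₃ v₂ u₂ v₁ u₁ u

namespace Groth.Agent.H67

open CategoryTheory CategoryTheory.Limits Opposite Pseudofunctor Pseudofunctor.CoGrothendieck FibSite
open CategoryTheory.Functor Bicategory

section General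

variable {𝒮 : Type u₁} [Category.{v₁} 𝒮]
variable {F : Pseudofunctor (LocallyDiscrete 𝒮ᵒᵖ) Cat.{v₂, u₂}}

theorem fs_ι_faithful_inst (S : 𝒮) : (ι F S).Faithful where
  map_injective {_ _} α β h := fs_ι_faithful S α β h

theorem fs_ι_full_inst (S : 𝒮) (hS : ∀ f : S ⟶ S, f = 𝟙 S) : (ι F S).Full where
  map_surjective {_ _} k := fs_ι_full S k (hS _)

variable (J : FibSite.Topologies F)

theorem fs_ι_isCocontinuous (hF : FibSite.IsPreFibSite F J) (S : 𝒮) :
    (ι F S).IsCocontinuous (J S) (FibSite.totalTopology F J) := by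
  refine ⟨?_⟩
  intro U T hT
  obtain ⟨R, hR, hRT⟩ := (mem_totalTopology_iff F J hF _ T).1 hT
  refine (J S).superset_covering ?_ hR
  intro V v hv
  exact hRT _ ⟨V, v, 𝟙 _, hv, (Category.id_comp _).symm⟩

end General

section Small

variable {𝒮 : Type u} [SmallCategory 𝒮]
variable {F : Pseudofunctor (LocallyDiscrete 𝒮ᵒᵖ) Cat.{u, u}} (J : FibSite.Topologies F)

/-- If `i` has no nontrivial endomorphisms, extension by the left adjoint of the restriction to the
fibre over `i` is fully faithful. -/
theorem fs_extend_fullyFaithful (hF : FibSite.IsPreFibSite F J) (i : 𝒮) (hi : ∀ f : i ⟶ i, f = 𝟙 i)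
    [(ι F i).IsContinuous (J i) (FibSite.totalTopology F J)]
    [((ι F i).sheafPushforwardContinuous (Type u) (J i) (FibSite.totalTopology F J)).IsRightAdjoint] :
    Nonempty (FibSite.extend F J (Type u) i).FullyFaithful := by
  have : (ι F i).IsCocontinuous (J i) (FibSite.totalTopology F J) := fs_ι_isCocontinuous J hF i
  have : (ι F i).Faithful := fs_ι_faithful_inst i
  have : (ι F i).Full := fs_ι_full_inst i hi
  let t : Adjunction.Triple (FibSite.extend F J (Type u) i) (FibSite.restr F J (Type u) i)
      (FibSite.coextend F J (Type u) i) :=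
    { adj₁ := (ι F i).sheafAdjunctionContinuous (Type u) (J i) (FibSite.totalTopology F J)
      adj₂ := (ι F i).sheafAdjunctionCocontinuous (Type u) (J i) (FibSite.totalTopology F J) }
  have hran : ((ι F i).op.ran : (_ ⥤ (∫ᶜ F)ᵒᵖ ⥤ Type u)).FullyFaithful :=
    ((ι F i).op.ranAdjunction (Type u)).fullyFaithfulROfIsIsoCounit
  have h1 : (FibSite.coextend F J (Type u) i ⋙ sheafToPresheaf _ _).FullyFaithful :=
    (fullyFaithfulSheafToPresheaf (J i) (Type u)).comp hran
  have h2 : (FibSite.coextend F J (Type u) i).FullyFaithful :=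
    Functor.FullyFaithful.ofCompFaithful (G := sheafToPresheaf _ _) h1
  exact ⟨t.fullyFaithfulEquiv.symm h2⟩

end Small

end Groth.Agent.H67
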