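import Groth.Agent.H67.FibSite3
import Mathlib.CategoryTheory.Functor.KanExtension.Pointwise
import Mathlib.CategoryTheory.Limits.Types.Limits

set_option autoImplicit false
set_option backward.isDefEq.respectTransparency false
set_option backward.isDefEq.respectTransparency.types false
set_option backward.defeqAttrib.useBackward true

universe w v₃ u₃ v₂ u₂ v₁ u₁ u

namespace Groth.Agent.H67

open CategoryTheory CategoryTheory.Limits Opposite Pseudofunctor Pseudofunctor.CoGrothendieck FibSite
open CategoryTheory.Functor Bicategory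

section General

variable {𝒮 : Type u₁} [Category.{v₁} 𝒮]
variable {F : Pseudofunctor (LocallyDiscrete 𝒮ᵒᵖ) Cat.{v₂, u₂}}
variable {i : 𝒮}

/-- The base component of a morphism out of an object of the fibre over `i`. -/
def fsBase {W : F.obj ⟨op i⟩} {Z : ∫ᶜ F} (h : (ι F i).obj W ⟶ Z) : i ⟶ Z.base := h.base

/-- The fibre component of a morphism out of an object of the fibre over `i`. -/
def fsFib {W : F.obj ⟨op i⟩} {Z : ∫ᶜ F} (h : (ι F i).obj W ⟶ Z) :
    W ⟶ (FibSite.invImage F (fsBase h)).obj Z.fiber := h.fiber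

/-- A morphism out of an object of the fibre over `i`, from its two components. -/
def fsMk {W : F.obj ⟨op i⟩} {Z : ∫ᶜ F} (f : i ⟶ Z.base)
    (φ : W ⟶ (FibSite.invImage F f).obj Z.fiber) : (ι F i).obj W ⟶ Z := ⟨f, φ⟩

/-- The cartesian lift of `f : i ⟶ Z.base` with target `Z`, with source written through the fibre
inclusion. -/
def fsCart (Z : ∫ᶜ F) (f : i ⟶ Z.base) :
    (ι F i).obj ((FibSite.invImage F f).obj Z.fiber) ⟶ Z := cartesianLift Z.fiber f

theorem fsMk_eq {W : F.obj ⟨op i⟩} {Z : ∫ᶜ F} (f : i ⟶ Z.base)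
    (φ : W ⟶ (FibSite.invImage F f).obj Z.fiber) :
    fsMk f φ = (ι F i).map φ ≫ fsCart Z f :=
  (fs_fac F (X := Z) (Y := (ι F i).obj W) ⟨f, φ⟩).symm

theorem fs_eta {W : F.obj ⟨op i⟩} {Z : ∫ᶜ F} (h : (ι F i).obj W ⟶ Z) :
    h = fsMk (fsBase h) (fsFib h) := rfl

theorem fs_fac' {W : F.obj ⟨op i⟩} {Z : ∫ᶜ F} (h : (ι F i).obj W ⟶ Z) :
    (ι F i).map (fsFib h) ≫ fsCart Z (fsBase h) = h := by
  rw [← fsMk_eq]; rfl

theorem fs_cancel' {W : F.obj ⟨op i⟩} {Z : ∫ᶜ F} (f : i ⟶ Z.base)
    (α β : W ⟶ (FibSite.invImage F f).obj Z.fiber)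
    (h : (ι F i).map α ≫ fsCart Z f = (ι F i).map β ≫ fsCart Z f) : α = β :=
  fs_cancel f α β h

variable (a : (F.obj ⟨op i⟩)ᵒᵖ ⥤ Type w)

/-- Well-definedness of the section attached to a family indexed by base morphisms. -/
theorem fs_sec_wd (Z : ∫ᶜ F)
    (σ : ∀ f : i ⟶ Z.base, a.obj (op ((FibSite.invImage F f).obj Z.fiber)))
    {W : F.obj ⟨op i⟩} (h : (ι F i).obj W ⟶ Z) (f : i ⟶ Z.base)
    (φ : W ⟶ (FibSite.invImage F f).obj Z.fiber)
    (e : h = (ι F i).map φ ≫ fsCart Z f) :
    a.map (fsFib h).op (σ (fsBase h)) = a.map φ.op (σ f) := by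
  rw [← fsMk_eq] at e
  subst e
  rfl

variable (A : (∫ᶜ F)ᵒᵖ ⥤ Type w) (ε : (ι F i).op ⋙ A ⟶ a)

/-- The projections of the value at `Z` of a right extension along the fibre inclusion of `i`,
indexed by the morphisms `i ⟶ Z.base`. -/
def fsProj (Z : ∫ᶜ F) (s : A.obj (op Z)) (f : i ⟶ Z.base) :
    a.obj (op ((FibSite.invImage F f).obj Z.fiber)) :=
  ε.app (op ((FibSite.invImage F f).obj Z.fiber)) (A.map (fsCart Z f).op s)

theorem fsProj_nat (Z : ∫ᶜ F) (s : A.obj (op Z)) {W : F.obj ⟨op i⟩} (h : (ι F i).obj W ⟶ Z) :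
    ε.app (op W) (A.map h.op s) = a.map (fsFib h).op (fsProj a A ε Z s (fsBase h)) := by
  have nat := ε.naturality (fsFib h).op
  have nat' := congrArg (fun m => m (A.map (fsCart Z (fsBase h)).op s)) nat
  dsimp only [fsProj]
  refine Eq.trans ?_ nat'
  change ε.app (op W) (A.map h.op s) =
    ε.app (op W) (A.map ((ι F i).map (fsFib h)).op (A.map (fsCart Z (fsBase h)).op s))
  rw [← Functor.map_comp_apply, ← op_comp, fs_fac']

/-- K1: the value at `Z` of a pointwise right Kan extension along the fibre inclusion of `i` is the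
product over the morphisms `f : i ⟶ Z.base` of the values at `f^* Z.fiber`. -/
theorem fsProj_bijective
    (hA : (RightExtension.mk A ε).IsPointwiseRightKanExtension) (Z : ∫ᶜ F) :
    Function.Bijective (fsProj a A ε Z) := by
  have hlim := (Types.isLimit_iff ((RightExtension.mk A ε).coneAt (op Z))).1 ⟨hA (op Z)⟩
  -- the morphism of the total category underlying an object of the structured arrow category
  let hh : ∀ x : StructuredArrow (op Z) (ι F i).op, (ι F i).obj x.right.unop ⟶ Z :=
    fun x => x.hom.unop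
  -- the section attached to a family
  let sec : (∀ f : i ⟶ Z.base, a.obj (op ((FibSite.invImage F f).obj Z.fiber))) →
      ∀ x : StructuredArrow (op Z) (ι F i).op, a.obj x.right :=
    fun σ x => a.map (fsFib (hh x)).op (σ (fsBase (hh x)))
  have hsec : ∀ σ, sec σ ∈ (StructuredArrow.proj (op Z) (ι F i).op ⋙ a).sections := by
    intro σ x x' φ
    change a.map φ.right (a.map (fsFib (hh x)).op (σ (fsBase (hh x)))) =
      a.map (fsFib (hh x')).op (σ (fsBase (hh x')))
    have hw : x.hom ≫ (ι F i).op.map φ.right = x'.hom := StructuredArrow.w φ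
    have hw' : hh x' = (ι F i).map φ.right.unop ≫ hh x := by
      change x'.hom.unop = _
      rw [← hw]; rfl
    have := fs_sec_wd a Z σ (hh x') (fsBase (hh x)) (φ.right.unop ≫ fsFib (hh x))
      (by rw [hw', Functor.map_comp, Category.assoc, fs_fac'])
    rw [this, op_comp, Functor.map_comp_apply]
    rfl
  have hcone : ∀ (s : A.obj (op Z)) (x : StructuredArrow (op Z) (ι F i).op),
      ((RightExtension.mk A ε).coneAt (op Z)).π.app x s = sec (fsProj a A ε Z s) x := by
    intro s x
    exact fsProj_nat a A ε Z s (hh x)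
  constructor
  · intro s s' hss'
    obtain ⟨t, -, ht⟩ := hlim _ (hsec (fsProj a A ε Z s'))
    rw [ht s (fun x => by rw [hcone, hss']), ht s' (fun x => hcone s' x)]
  · intro σ
    obtain ⟨t, ht, -⟩ := hlim _ (hsec σ)
    refine ⟨t, ?_⟩
    funext f
    have h1 := ht (StructuredArrow.mk (Y := op ((FibSite.invImage F f).obj Z.fiber))
      (fsCart Z f).op)
    rw [hcone] at h1
    have h2 : sec σ (StructuredArrow.mk (Y := op ((FibSite.invImage F f).obj Z.fiber))
        (fsCart Z f).op) = σ f := by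
      have := fs_sec_wd a Z σ (fsCart Z f) f (𝟙 _) (by rw [CategoryTheory.Functor.map_id, Category.id_comp])
      refine Eq.trans this ?_
      simp
    have h3 : sec (fsProj a A ε Z t) (StructuredArrow.mk
        (Y := op ((FibSite.invImage F f).obj Z.fiber)) (fsCart Z f).op) = fsProj a A ε Z t f := by
      have := fs_sec_wd a Z (fsProj a A ε Z t) (fsCart Z f) f (𝟙 _)
        (by rw [CategoryTheory.Functor.map_id, Category.id_comp])
      refine Eq.trans this ?_
      simp
    rw [← h3, h1, h2]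

variable {j : 𝒮}

theorem fs_nat' (f : i ⟶ j) {z z' : F.obj ⟨op j⟩} (ψ : z' ⟶ z) :
    (ι F i).map ((FibSite.invImage F f).map ψ) ≫ fsCart ((ι F j).obj z) f =
      fsCart ((ι F j).obj z') f ≫ (ι F j).map ψ :=
  fs_nat F f ψ

/-- The projection, as a natural transformation of presheaves on the fibre over `j`. -/
def fsProjNat (f : i ⟶ j) : (ι F j).op ⋙ A ⟶ (FibSite.invImage F f).op ⋙ a where
  app z := ↾(fun s => fsProj a A ε ((ι F j).obj z.unop) s f)
  naturality z z' ψ := by
    ext s
    change fsProj a A ε ((ι F j).obj z'.unop) (A.map ((ι F j).map ψ.unop).op s) f =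
      a.map ((FibSite.invImage F f).map ψ.unop).op (fsProj a A ε ((ι F j).obj z.unop) s f)
    have nat := congrArg (fun m => m (A.map (fsCart ((ι F j).obj z.unop) f).op s))
      (ε.naturality ((FibSite.invImage F f).map ψ.unop).op)
    dsimp only [fsProj]
    refine Eq.trans ?_ nat
    have e := congrArg (fun m => ε.app (op ((FibSite.invImage F f).obj z'.unop)) (A.map m.op s))
      (fs_nat' f ψ.unop)
    simp only [op_comp, Functor.map_comp_apply] at e
    exact e.symm

end General

section Small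

variable {𝒮 : Type u} [SmallCategory 𝒮]
variable {F : Pseudofunctor (LocallyDiscrete 𝒮ᵒᵖ) Cat.{u, u}} (J : FibSite.Topologies F)
variable (i j : 𝒮)
  [(ι F j).IsContinuous (J j) (FibSite.totalTopology F J)]
  [(ι F i).IsCocontinuous (J i) (FibSite.totalTopology F J)]
  [∀ (P : (F.obj ⟨op i⟩)ᵒᵖ ⥤ Type u), (ι F i).op.HasPointwiseRightKanExtension P]
  [∀ (R S : 𝒮) (f : R ⟶ S), (FibSite.invImage F f).IsContinuous (J S) (J R)]
  (a : Sheaf (J i) (Type u))

/-- The projection from the restriction to the fibre over `j` of the coextension from the fibre over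
`i`, to the direct image along `f^*`, as a morphism of sheaves. -/
noncomputable def fsProjSheaf (f : i ⟶ j) :
    (FibSite.restr F J (Type u) j).obj ((FibSite.coextend F J (Type u) i).obj a) ⟶
      ((FibSite.invImage F f).sheafPushforwardContinuous (Type u) (J j) (J i)).obj a :=
  ⟨fsProjNat a.obj ((ι F i).op.ran.obj a.obj) ((ι F i).op.ranCounit.app a.obj) f⟩

theorem fs_coextend_fan_isLimit :
    Nonempty (IsLimit (Fan.mk
      ((FibSite.restr F J (Type u) j).obj ((FibSite.coextend F J (Type u) i).obj a))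
      (fun f : i ⟶ j => fsProjSheaf J i j a f))) := by
  refine ⟨isLimitOfReflects (sheafToPresheaf (J j) (Type u)) ?_⟩
  refine evaluationJointlyReflectsLimits _ (fun z => ?_)
  refine ((Types.isLimit_iff_bijective_sectionOfCone _).2 ?_).some
  have hbij := fsProj_bijective a.obj ((ι F i).op.ran.obj a.obj) ((ι F i).op.ranCounit.app a.obj)
    ((ι F i).op.isPointwiseRightKanExtensionRanCounit a.obj) ((ι F j).obj z.unop)
  constructor
  · intro s s' h
    apply hbij.1
    funext f
    have := congrArg (fun t => t.1 ⟨f⟩) h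
    exact this
  · intro t
    obtain ⟨s, hs⟩ := hbij.2 (fun f => t.1 ⟨f⟩)
    refine ⟨s, ?_⟩
    apply Subtype.ext
    funext ⟨f⟩
    exact congrFun hs f

end Small

end Groth.Agent.H67
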