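import Groth.Agent.H67.FibSite4
import Mathlib.CategoryTheory.Adjunction.Mates
import Mathlib.CategoryTheory.Limits.Preserves.Limits
import Mathlib.CategoryTheory.Sites.Limits

set_option autoImplicit false
set_option backward.isDefEq.respectTransparency false
set_option backward.isDefEq.respectTransparency.types false
set_option backward.defeqAttrib.useBackward true

universe w v₃ u₃ v₂ u₂ v₁ u₁ u

namespace Groth.Agent.H67

open CategoryTheory CategoryTheory.Limits Opposite Pseudofunctor Pseudofunctor.CoGrothendieck FibSite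
open CategoryTheory.Functor Bicategory

section General

variable {𝒮 : Type u₁} [Category.{v₁} 𝒮]
variable {F : Pseudofunctor (LocallyDiscrete 𝒮ᵒᵖ) Cat.{v₂, u₂}}
variable {i : 𝒮}

/-- Compatibility of the projections with a morphism of right extensions. -/
theorem fsProj_map {a a' : (F.obj ⟨op i⟩)ᵒᵖ ⥤ Type w} {A A' : (∫ᶜ F)ᵒᵖ ⥤ Type w}
    (ε : (ι F i).op ⋙ A ⟶ a) (ε' : (ι F i).op ⋙ A' ⟶ a') (m : a ⟶ a') (M : A ⟶ A')
    (h : whiskerLeft (ι F i).op M ≫ ε' = ε ≫ m) (Z : ∫ᶜ F) (s : A.obj (op Z)) (f : i ⟶ Z.base) :
    fsProj a' A' ε' Z (M.app (op Z) s) f = m.app _ (fsProj a A ε Z s f) := by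
  dsimp only [fsProj]
  have h1 := congrArg (fun φ => φ s) (M.naturality (fsCart Z f).op)
  have h2 := congrArg (fun φ => φ.app (op ((FibSite.invImage F f).obj Z.fiber))
    (A.map (fsCart Z f).op s)) h
  simp only [NatTrans.comp_app, whiskerLeft_app] at h2
  refine Eq.trans ?_ h2
  exact congrArg (ε'.app (op ((FibSite.invImage F f).obj Z.fiber))) h1.symm

end General

section Small

variable {𝒮 : Type u} [SmallCategory 𝒮]
variable {F : Pseudofunctor (LocallyDiscrete 𝒮ᵒᵖ) Cat.{u, u}} (J : FibSite.Topologies F)
variable (i j : 𝒮)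
  [(ι F j).IsContinuous (J j) (FibSite.totalTopology F J)]
  [(ι F i).IsCocontinuous (J i) (FibSite.totalTopology F J)]
  [∀ (P : (F.obj ⟨op i⟩)ᵒᵖ ⥤ Type u), (ι F i).op.HasPointwiseRightKanExtension P]
  [∀ (R S : 𝒮) (f : R ⟶ S), (FibSite.invImage F f).IsContinuous (J S) (J R)]

/-- The projections `fsProjSheaf` are natural in the sheaf. -/
noncomputable def fsProjSheafNat (f : i ⟶ j) :
    FibSite.coextend F J (Type u) i ⋙ FibSite.restr F J (Type u) j ⟶
      (FibSite.invImage F f).sheafPushforwardContinuous (Type u) (J j) (J i) where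
  app a := fsProjSheaf J i j a f
  naturality a a' m := by
    ext z s
    exact fsProj_map ((ι F i).op.ranCounit.app a.obj) ((ι F i).op.ranCounit.app a'.obj) m.hom
      ((ι F i).op.ran.map m.hom) ((ι F i).op.ranCounit.naturality m.hom) ((ι F j).obj z.unop) s f

theorem fsProjSheaf_isIso (f : i ⟶ j) (hf : ∀ g : i ⟶ j, g = f) (a : Sheaf (J i) (Type u)) :
    IsIso (fsProjSheaf J i j a f) := by
  have : IsIso ((sheafToPresheaf _ _).map (fsProjSheaf J i j a f)) := by
    apply (config := { allowSynthFailures := true }) NatIso.isIso_of_isIso_app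
    intro z
    rw [isIso_iff_bijective]
    have hbij := fsProj_bijective a.obj ((ι F i).op.ran.obj a.obj)
      ((ι F i).op.ranCounit.app a.obj)
      ((ι F i).op.isPointwiseRightKanExtensionRanCounit a.obj) ((ι F j).obj z.unop)
    constructor
    · intro s s' h
      apply hbij.1
      funext g
      obtain rfl := hf g
      exact h
    · intro t
      obtain ⟨s, hs⟩ := hbij.2 (fun g => by obtain rfl := hf g; exact t)
      exact ⟨s, congrFun hs f⟩
  exact isIso_of_reflects_iso _ (sheafToPresheaf _ _)

/-- If `f : i ⟶ j` is the only morphism from `i` to `j`, coextension from the fibre over `i`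
followed by restriction to the fibre over `j` is the direct image along `f^*`. -/
noncomputable def fsCoextendRestrIso (f : i ⟶ j) (hf : ∀ g : i ⟶ j, g = f) :
    FibSite.coextend F J (Type u) i ⋙ FibSite.restr F J (Type u) j ≅
      (FibSite.invImage F f).sheafPushforwardContinuous (Type u) (J j) (J i) :=
  haveI : ∀ a, IsIso ((fsProjSheafNat J i j f).app a) := fun a => fsProjSheaf_isIso J i j f hf a
  NatIso.ofComponents (fun a => asIso ((fsProjSheafNat J i j f).app a))
    (fun m => (fsProjSheafNat J i j f).naturality m)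

variable [(ι F i).IsContinuous (J i) (FibSite.totalTopology F J)]
  [((ι F j).sheafPushforwardContinuous (Type u) (J j) (FibSite.totalTopology F J)).IsRightAdjoint]
  [∀ (R S : 𝒮) (f : R ⟶ S),
    ((FibSite.invImage F f).sheafPushforwardContinuous (Type u) (J S) (J R)).IsRightAdjoint]

/-- If `f : i ⟶ j` is the only morphism from `i` to `j`, extension from the fibre over `j`
followed by restriction to the fibre over `i` is the inverse image along `f^*`. -/
noncomputable def fsExtendRestrIso (f : i ⟶ j) (hf : ∀ g : i ⟶ j, g = f) :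
    FibSite.extend F J (Type u) j ⋙ FibSite.restr F J (Type u) i ≅
      (FibSite.invImage F f).sheafPullback (Type u) (J j) (J i) :=
  ((CategoryTheory.conjugateIsoEquiv
    (((ι F j).sheafAdjunctionContinuous (Type u) (J j) (FibSite.totalTopology F J)).comp
      ((ι F i).sheafAdjunctionCocontinuous (Type u) (J i) (FibSite.totalTopology F J)))
    ((FibSite.invImage F f).sheafAdjunctionContinuous (Type u) (J j) (J i))).symm
    (fsCoextendRestrIso J i j f hf)).symm

end Small

section Reflect

variable {𝒮 : Type u} [SmallCategory 𝒮]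
variable {F : Pseudofunctor (LocallyDiscrete 𝒮ᵒᵖ) Cat.{u, u}} (J : FibSite.Topologies F)
variable [∀ S : 𝒮, (ι F S).IsContinuous (J S) (FibSite.totalTopology F J)]

/-- The restrictions to the fibres jointly reflect isomorphisms of sheaves on the total site. -/
theorem fs_isIso_of_restr {X Y : FibSite.TotSh F J (Type u)} (φ : X ⟶ Y)
    (h : ∀ S : 𝒮, IsIso ((FibSite.restr F J (Type u) S).map φ)) : IsIso φ := by
  have : IsIso ((sheafToPresheaf _ _).map φ) := by
    apply (config := { allowSynthFailures := true }) NatIso.isIso_of_isIso_app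
    intro Z
    have h1 := h Z.unop.base
    have h2 : IsIso ((sheafToPresheaf _ _).map ((FibSite.restr F J (Type u) Z.unop.base).map φ)) :=
      inferInstance
    have h3 := NatIso.isIso_app_of_isIso
      ((sheafToPresheaf _ _).map ((FibSite.restr F J (Type u) Z.unop.base).map φ))
      (op Z.unop.fiber)
    exact h3
  exact isIso_of_reflects_iso _ (sheafToPresheaf _ _)

variable [∀ S : 𝒮,
  ((ι F S).sheafPushforwardContinuous (Type u) (J S) (FibSite.totalTopology F J)).IsRightAdjoint]

/-- A functor to the sheaves on the total site preserves finite limits as soon as all its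
composites with the restrictions to the fibres do. -/
theorem fs_preservesFiniteLimits_of_restr {𝒜 : Type u₃} [Category.{v₃} 𝒜] [HasFiniteLimits 𝒜]
    (L : 𝒜 ⥤ FibSite.TotSh F J (Type u))
    (h : ∀ S : 𝒮, PreservesFiniteLimits (L ⋙ FibSite.restr F J (Type u) S)) :
    PreservesFiniteLimits L := by
  refine ⟨fun K _ _ => ⟨fun {D} => ?_⟩⟩
  have : IsIso (limit.post D L) := by
    apply fs_isIso_of_restr J
    intro S
    have e := limit.post_post D L (FibSite.restr F J (Type u) S)
    have : PreservesLimit D (L ⋙ FibSite.restr F J (Type u) S) := inferInstance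
    have h1 : IsIso (limit.post D (L ⋙ FibSite.restr F J (Type u) S)) := inferInstance
    have h2 : IsIso (limit.post (D ⋙ L) (FibSite.restr F J (Type u) S)) := inferInstance
    rw [← e] at h1
    exact IsIso.of_isIso_comp_right _ (limit.post (D ⋙ L) (FibSite.restr F J (Type u) S))
  exact preservesLimit_of_isIso_post (F := D) (G := L)

end Reflect

end Groth.Agent.H67
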