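import Groth.Agent.H67.FibSite5

set_option autoImplicit false
set_option backward.isDefEq.respectTransparency false
set_option backward.isDefEq.respectTransparency.types false
set_option backward.defeqAttrib.useBackward true

universe w v₃ u₃ v₂ u₂ v₁ u₁ u

namespace Groth.Agent.H67

open CategoryTheory CategoryTheory.Limits Opposite Pseudofunctor Pseudofunctor.CoGrothendieck FibSite
open CategoryTheory.Functor Bicategory
open scoped CategoryTheory.Pseudofunctor.StrongTrans

attribute [local simp] PrelaxFunctor.map₂_eqToHom Strict.leftUnitor_eqToIso Strict.rightUnitor_eqToIso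
  Strict.associator_eqToIso

section General

variable {𝒮 : Type u₁} [Category.{v₁} 𝒮]
variable {F G : Pseudofunctor (LocallyDiscrete 𝒮ᵒᵖ) Cat.{v₂, u₂}} (α : G ⟶ F)

/-- The functor between total categories induced by a strong transformation commutes with the
fibre inclusions (on morphisms). -/
theorem fs_map_ι (S : 𝒮) {y y' : G.obj ⟨op S⟩} (φ : y ⟶ y') :
    (CoGrothendieck.map α).map ((ι G S).map φ) =
      (ι F S).map ((α.app ⟨op S⟩).toFunctor.map φ) := by
  ext
  · simp
  · simp [StrongTrans.naturality_id_hom_app, Cat.Hom.id_toFunctor]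
    simp [← Functor.map_comp_assoc, ← Cat.Hom₂.comp_app]

/-- The functor between total categories induced by a strong transformation commutes with the
fibre inclusions. -/
def fsMapιIso (S : 𝒮) :
    ι G S ⋙ CoGrothendieck.map α ≅ (α.app ⟨op S⟩).toFunctor ⋙ ι F S :=
  NatIso.ofComponents (fun _ => Iso.refl _) (fun φ => by
    simp only [Functor.comp_map, Iso.refl_hom, Category.comp_id, Category.id_comp]
    exact fs_map_ι α S φ)

/-- The functor between total categories induced by a morphism of pre-fibred sites is continuous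
for the total topologies. -/
theorem fs_map_isContinuous (J : FibSite.Topologies F) (K : FibSite.Topologies G)
    (hF : FibSite.IsPreFibSite F J) (hG : FibSite.IsPreFibSite G K)
    (hα : ∀ S : 𝒮, (α.app ⟨op S⟩).toFunctor.IsContinuous (K S) (J S)) :
    (CoGrothendieck.map α).IsContinuous (FibSite.totalTopology G K) (FibSite.totalTopology F J) := by
  refine ⟨fun P => ?_⟩
  apply fs_isSheaf_total K hG
  intro S
  have h1 := hα S
  have h2 := fs_ι_isContinuous J hF S
  have h3 : ((α.app ⟨op S⟩).toFunctor ⋙ ι F S).IsContinuous (K S) (FibSite.totalTopology F J) :=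
    Functor.isContinuous_comp _ _ (K S) (J S) _
  have h4 : (ι G S ⋙ CoGrothendieck.map α).IsContinuous (K S) (FibSite.totalTopology F J) :=
    Functor.isContinuous_of_iso (fsMapιIso α S).symm _ _
  exact Functor.op_comp_isSheaf_of_types (ι G S ⋙ CoGrothendieck.map α) (K S)
    (FibSite.totalTopology F J) P

end General

section Small

variable {𝒮 : Type u} [SmallCategory 𝒮]
variable {F G : Pseudofunctor (LocallyDiscrete 𝒮ᵒᵖ) Cat.{u, u}} (α : G ⟶ F) (S : 𝒮)

section Presheaf

variable (a : (F.obj ⟨op S⟩)ᵒᵖ ⥤ Type u)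

/-- The restriction to the fibre of `G` over `S` of the pullback of the right Kan extension of `a`
maps to the pullback of `a`. -/
noncomputable def fsBeta :
    (ι G S).op ⋙ ((CoGrothendieck.map α).op ⋙ (ι F S).op.ran.obj a) ⟶
      (α.app ⟨op S⟩).toFunctor.op ⋙ a where
  app y := ((ι F S).op.ranCounit.app a).app (op ((α.app ⟨op S⟩).toFunctor.obj y.unop))
  naturality y y' φ := by
    have h := ((ι F S).op.ranCounit.app a).naturality ((α.app ⟨op S⟩).toFunctor.map φ.unop).op
    refine Eq.trans ?_ h
    congr 1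
    change ((ι F S).op.ran.obj a).map ((CoGrothendieck.map α).map ((ι G S).map φ.unop)).op = _
    rw [fs_map_ι]
    rfl

/-- The base change morphism for right Kan extensions along the fibre inclusions. -/
noncomputable def fsBC :
    (CoGrothendieck.map α).op ⋙ (ι F S).op.ran.obj a ⟶
      (ι G S).op.ran.obj ((α.app ⟨op S⟩).toFunctor.op ⋙ a) :=
  ((ι G S).op.ran.obj ((α.app ⟨op S⟩).toFunctor.op ⋙ a)).liftOfIsRightKanExtension
    ((ι G S).op.ranCounit.app _) _ (fsBeta α S a)

theorem fsBC_fac :
    whiskerLeft (ι G S).op (fsBC α S a) ≫ (ι G S).op.ranCounit.app _ = fsBeta α S a :=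
  Functor.liftOfIsRightKanExtension_fac _ _ _ _

/-- The image under `map α` of the cartesian lift, as a morphism out of an object of the fibre. -/
def fsMapCart (Z : ∫ᶜ G) (f : S ⟶ Z.base) :
    (ι F S).obj ((α.app ⟨op S⟩).toFunctor.obj ((FibSite.invImage G f).obj Z.fiber)) ⟶
      (CoGrothendieck.map α).obj Z :=
  (CoGrothendieck.map α).map (fsCart Z f)

theorem fsMapCart_base (Z : ∫ᶜ G) (f : S ⟶ Z.base) : fsBase (fsMapCart α S Z f) = f := rfl

instance fsMapCart_fib_isIso (Z : ∫ᶜ G) (f : S ⟶ Z.base) : IsIso (fsFib (fsMapCart α S Z f)) := by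
  have : fsFib (fsMapCart α S Z f) =
      (α.naturality f.op.toLoc).hom.toNatTrans.app Z.fiber := by
    change (α.app ⟨op S⟩).toFunctor.map (𝟙 _) ≫
      (α.naturality f.op.toLoc).hom.toNatTrans.app Z.fiber = _
    rw [CategoryTheory.Functor.map_id, Category.id_comp]
  rw [this, ← Cat.Hom.toNatIso_hom]
  infer_instance

theorem fsBC_proj (Z : ∫ᶜ G) (t : ((ι F S).op.ran.obj a).obj (op ((CoGrothendieck.map α).obj Z)))
    (f : S ⟶ Z.base) :
    fsProj ((α.app ⟨op S⟩).toFunctor.op ⋙ a) ((ι G S).op.ran.obj _)
      ((ι G S).op.ranCounit.app _) Z ((fsBC α S a).app (op Z) t) f =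
    a.map (fsFib (fsMapCart α S Z f)).op
      (fsProj a ((ι F S).op.ran.obj a) ((ι F S).op.ranCounit.app a)
        ((CoGrothendieck.map α).obj Z) t f) := by
  have h1 := congrArg (fun φ => φ t) ((fsBC α S a).naturality (fsCart Z f).op)
  have h2 := congrArg (fun φ => φ.app (op ((FibSite.invImage G f).obj Z.fiber))
    (((ι F S).op.ran.obj a).map (fsMapCart α S Z f).op t)) (fsBC_fac α S a)
  have h3 := fsProj_nat a ((ι F S).op.ran.obj a) ((ι F S).op.ranCounit.app a)
    ((CoGrothendieck.map α).obj Z) t (fsMapCart α S Z f)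
  dsimp only [fsProj]
  refine Eq.trans ?_ h3
  refine Eq.trans ?_ h2
  exact congrArg (fun x => ((ι G S).op.ranCounit.app ((α.app ⟨op S⟩).toFunctor.op ⋙ a)).app
    (op ((FibSite.invImage G f).obj Z.fiber)) x) h1.symm

theorem fsBC_bijective (Z : ∫ᶜ G) : Function.Bijective ((fsBC α S a).app (op Z)) := by
  have hF := fsProj_bijective a ((ι F S).op.ran.obj a) ((ι F S).op.ranCounit.app a)
    ((ι F S).op.isPointwiseRightKanExtensionRanCounit a) ((CoGrothendieck.map α).obj Z)
  have hG := fsProj_bijective ((α.app ⟨op S⟩).toFunctor.op ⋙ a) ((ι G S).op.ran.obj _)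
    ((ι G S).op.ranCounit.app _) ((ι G S).op.isPointwiseRightKanExtensionRanCounit _) Z
  rw [← Function.Bijective.of_comp_iff' hG]
  have hΘ : Function.Bijective (fun (σ : ∀ f : S ⟶ Z.base,
      a.obj (op ((FibSite.invImage F f).obj ((CoGrothendieck.map α).obj Z).fiber)))
      (f : S ⟶ Z.base) => a.map (fsFib (fsMapCart α S Z f)).op (σ f)) := by
    have hb : ∀ f : S ⟶ Z.base, Function.Bijective (a.map (fsFib (fsMapCart α S Z f)).op) :=
      fun f => (isIso_iff_bijective _).1 inferInstance
    constructor
    · intro σ σ' h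
      funext f
      exact (hb f).1 (congrFun h f)
    · intro τ
      choose σ hσ using fun f => (hb f).2 (τ f)
      exact ⟨σ, funext hσ⟩
  have : (fsProj ((α.app ⟨op S⟩).toFunctor.op ⋙ a) ((ι G S).op.ran.obj _)
      ((ι G S).op.ranCounit.app _) Z) ∘ ((fsBC α S a).app (op Z)) =
      (fun σ f => a.map (fsFib (fsMapCart α S Z f)).op (σ f)) ∘
        (fsProj a ((ι F S).op.ran.obj a) ((ι F S).op.ranCounit.app a)
          ((CoGrothendieck.map α).obj Z)) := by
    funext t f
    exact fsBC_proj α S a Z t f
  rw [this]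
  exact hΘ.comp hF

theorem fsBC_natural {a a' : (F.obj ⟨op S⟩)ᵒᵖ ⥤ Type u} (m : a ⟶ a') :
    fsBC α S a ≫ (ι G S).op.ran.map (whiskerLeft (α.app ⟨op S⟩).toFunctor.op m) =
      whiskerLeft (CoGrothendieck.map α).op ((ι F S).op.ran.map m) ≫ fsBC α S a' := by
  apply Functor.hom_ext_of_isRightKanExtension _ ((ι G S).op.ranCounit.app _)
  have n1 := (ι G S).op.ranCounit.naturality (whiskerLeft (α.app ⟨op S⟩).toFunctor.op m)
  have n2 := (ι F S).op.ranCounit.naturality m
  rw [Functor.whiskerLeft_comp, Functor.whiskerLeft_comp, Category.assoc, Category.assoc, fsBC_fac]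
  have e1 : whiskerLeft (ι G S).op
      ((ι G S).op.ran.map (whiskerLeft (α.app ⟨op S⟩).toFunctor.op m)) ≫
      (ι G S).op.ranCounit.app ((α.app ⟨op S⟩).toFunctor.op ⋙ a') =
      (ι G S).op.ranCounit.app ((α.app ⟨op S⟩).toFunctor.op ⋙ a) ≫
        whiskerLeft (α.app ⟨op S⟩).toFunctor.op m := n1
  rw [e1, ← Category.assoc, fsBC_fac]
  ext y : 2
  have := congrArg (fun φ => φ.app (op ((α.app ⟨op S⟩).toFunctor.obj y.unop))) n2
  exact this.symm

end Presheaf

section Sheaf

variable (J : FibSite.Topologies F) (K : FibSite.Topologies G)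
  [(ι F S).IsCocontinuous (J S) (FibSite.totalTopology F J)]
  [(ι G S).IsCocontinuous (K S) (FibSite.totalTopology G K)]
  [(CoGrothendieck.map α).IsContinuous (FibSite.totalTopology G K) (FibSite.totalTopology F J)]
  [(α.app ⟨op S⟩).toFunctor.IsContinuous (K S) (J S)]

/-- The base change morphism, for sheaves. -/
noncomputable def fsBCSheaf :
    FibSite.coextend F J (Type u) S ⋙ (CoGrothendieck.map α).sheafPushforwardContinuous (Type u)
        (FibSite.totalTopology G K) (FibSite.totalTopology F J) ⟶
      (α.app ⟨op S⟩).toFunctor.sheafPushforwardContinuous (Type u) (K S) (J S) ⋙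
        FibSite.coextend G K (Type u) S where
  app a := ⟨fsBC α S a.obj⟩
  naturality a a' m := by
    ext : 1
    exact (fsBC_natural α S m.hom).symm

instance fsBCSheaf_isIso : IsIso (fsBCSheaf α S J K) := by
  apply (config := { allowSynthFailures := true }) NatIso.isIso_of_isIso_app
  intro a
  have : IsIso ((sheafToPresheaf _ _).map ((fsBCSheaf α S J K).app a)) := by
    apply (config := { allowSynthFailures := true }) NatIso.isIso_of_isIso_app
    intro Z
    rw [isIso_iff_bijective]
    exact fsBC_bijective α S a.obj Z.unop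
  exact isIso_of_reflects_iso _ (sheafToPresheaf _ _)

end Sheaf

section Main

variable (J : FibSite.Topologies F) (K : FibSite.Topologies G)

/-- The inverse image of sheaves of sets along the functor between total sites induced by a
morphism of fibred sites is left exact. -/
theorem fs_map_sheafPullback_preservesFiniteLimits
    (hF : FibSite.IsPreFibSite F J) (hG : FibSite.IsPreFibSite G K)
    [(CoGrothendieck.map α).IsContinuous (FibSite.totalTopology G K) (FibSite.totalTopology F J)]
    [((CoGrothendieck.map α).sheafPushforwardContinuous (Type u)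
      (FibSite.totalTopology G K) (FibSite.totalTopology F J)).IsRightAdjoint]
    (hα : ∀ S : 𝒮, ∃ (_ : (α.app ⟨op S⟩).toFunctor.IsContinuous (K S) (J S))
      (_ : ((α.app ⟨op S⟩).toFunctor.sheafPushforwardContinuous (Type u) (K S) (J S)).IsRightAdjoint),
      PreservesFiniteLimits ((α.app ⟨op S⟩).toFunctor.sheafPullback (Type u) (K S) (J S))) :
    PreservesFiniteLimits ((CoGrothendieck.map α).sheafPullback (Type u)
      (FibSite.totalTopology G K) (FibSite.totalTopology F J)) := by
  have hcF : ∀ S : 𝒮, (ι F S).IsContinuous (J S) (FibSite.totalTopology F J) :=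
    fun S => fs_ι_isContinuous J hF S
  have hcG : ∀ S : 𝒮, (ι G S).IsContinuous (K S) (FibSite.totalTopology G K) :=
    fun S => fs_ι_isContinuous K hG S
  have hccF : ∀ S : 𝒮, (ι F S).IsCocontinuous (J S) (FibSite.totalTopology F J) :=
    fun S => fs_ι_isCocontinuous J hF S
  have hccG : ∀ S : 𝒮, (ι G S).IsCocontinuous (K S) (FibSite.totalTopology G K) :=
    fun S => fs_ι_isCocontinuous K hG S
  apply fs_preservesFiniteLimits_of_restr J
  intro S
  obtain ⟨h1, h2, h3⟩ := hα S
  let A₁ := ((CoGrothendieck.map α).sheafAdjunctionContinuous (Type u)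
      (FibSite.totalTopology G K) (FibSite.totalTopology F J)).comp
    ((ι F S).sheafAdjunctionCocontinuous (Type u) (J S) (FibSite.totalTopology F J))
  let A₂ := ((ι G S).sheafAdjunctionCocontinuous (Type u) (K S) (FibSite.totalTopology G K)).comp
    ((α.app ⟨op S⟩).toFunctor.sheafAdjunctionContinuous (Type u) (K S) (J S))
  have e := (CategoryTheory.conjugateIsoEquiv A₁ A₂).symm (asIso (fsBCSheaf α S J K))
  have : PreservesFiniteLimits (FibSite.restr G K (Type u) S) := by
    have : (FibSite.restr G K (Type u) S).IsRightAdjoint :=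
      ((ι G S).sheafAdjunctionContinuous (Type u) (K S) (FibSite.totalTopology G K)).isRightAdjoint
    infer_instance
  have : PreservesFiniteLimits (FibSite.restr G K (Type u) S ⋙
      (α.app ⟨op S⟩).toFunctor.sheafPullback (Type u) (K S) (J S)) :=
    comp_preservesFiniteLimits _ _
  exact preservesFiniteLimits_of_natIso e

end Main

end Small

end Groth.Agent.H67
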