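import Groth.Agent.H67.FibSite5
import Mathlib.CategoryTheory.Sites.LocallyBijective
import Mathlib.CategoryTheory.Limits.Types.Colimits

set_option autoImplicit false
set_option backward.isDefEq.respectTransparency false
set_option backward.isDefEq.respectTransparency.types false
set_option backward.defeqAttrib.useBackward true

universe w v₃ u₃ v₂ u₂ v₁ u₁ u

namespace Groth.Agent.H67

open CategoryTheory CategoryTheory.Limits Opposite Pseudofunctor Pseudofunctor.CoGrothendieck FibSite
open CategoryTheory.Functor Bicategory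

section General

variable {𝒮 : Type u₁} [Category.{v₁} 𝒮]
variable {F : Pseudofunctor (LocallyDiscrete 𝒮ᵒᵖ) Cat.{v₂, u₂}}
variable {i : 𝒮}

open Classical in
/-- The vertical morphism underlying a morphism between objects of the fibre over `i`, if its base
component is the identity. -/
noncomputable def fsVert {V W : F.obj ⟨op i⟩} (h : (ι F i).obj V ⟶ (ι F i).obj W) :
    Option (V ⟶ W) :=
  if hx : h.base = 𝟙 i then some (Classical.choose (fs_ι_full i h hx)) else none

theorem fsVert_eq_some {V W : F.obj ⟨op i⟩} (h : (ι F i).obj V ⟶ (ι F i).obj W) (k : V ⟶ W)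
    (hk : fsVert h = some k) : h = (ι F i).map k := by
  unfold fsVert at hk
  split_ifs at hk with hx
  · have := Classical.choose_spec (fs_ι_full i h hx)
    rw [Option.some.injEq] at hk
    rw [← hk, this]

theorem fsVert_map {V W : F.obj ⟨op i⟩} (k : V ⟶ W) : fsVert ((ι F i).map k) = some k := by
  have hx : ((ι F i).map k).base = 𝟙 i := rfl
  unfold fsVert
  rw [dif_pos hx]
  congr 1
  exact fs_ι_faithful i _ _ (Classical.choose_spec (fs_ι_full i _ hx))

theorem fsVert_comp_map {V W W' : F.obj ⟨op i⟩} (h : (ι F i).obj V ⟶ (ι F i).obj W) (w : W ⟶ W') :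
    fsVert (h ≫ (ι F i).map w) = (fsVert h).map (fun k => k ≫ w) := by
  by_cases hx : h.base = 𝟙 i
  · obtain ⟨k, rfl⟩ := fs_ι_full i h hx
    rw [← Functor.map_comp, fsVert_map, fsVert_map]
    rfl
  · have h1 : fsVert h = none := by unfold fsVert; rw [dif_neg hx]
    have hx' : ¬ (h ≫ (ι F i).map w).base = 𝟙 i := by
      intro h2
      apply hx
      have h3 : h.base ≫ 𝟙 i = 𝟙 i := h2
      exact (Category.comp_id h.base).symm.trans h3
    have h2 : fsVert (h ≫ (ι F i).map w) = none := by unfold fsVert; rw [dif_neg hx']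
    rw [h1, h2]
    rfl

end General

section Small

variable {𝒮 : Type u} [SmallCategory 𝒮]
variable {F : Pseudofunctor (LocallyDiscrete 𝒮ᵒᵖ) Cat.{u, u}} (i : 𝒮)
variable (R : (F.obj ⟨op i⟩)ᵒᵖ ⥤ Type u)

/-- The unit of the left Kan extension along the fibre inclusion, on sections. -/
noncomputable def fsEta (V : F.obj ⟨op i⟩) (r : R.obj (op V)) :
    ((ι F i).op.lan.obj R).obj (op ((ι F i).obj V)) :=
  ((ι F i).op.lanUnit.app R).app (op V) r

theorem fsEta_nat {V V' : F.obj ⟨op i⟩} (v : V' ⟶ V) (r : R.obj (op V)) :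
    ((ι F i).op.lan.obj R).map ((ι F i).map v).op (fsEta i R V r) =
      fsEta i R V' (R.map v.op r) := by
  have := congrArg (fun m => m r) (((ι F i).op.lanUnit.app R).naturality v.op)
  exact this.symm

theorem fsEta_map {R R' : (F.obj ⟨op i⟩)ᵒᵖ ⥤ Type u} (u : R ⟶ R') (V : F.obj ⟨op i⟩)
    (r : R.obj (op V)) :
    ((ι F i).op.lan.map u).app (op ((ι F i).obj V)) (fsEta i R V r) =
      fsEta i R' V (u.app (op V) r) := by
  have := congrArg (fun m => m.app (op V) r) ((ι F i).op.lanUnit.naturality u)
  exact this.symm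

/-- The cocone defining the retraction of the unit. -/
noncomputable def fsRhoCocone (V : F.obj ⟨op i⟩) :
    Cocone (CostructuredArrow.proj (ι F i).op (op ((ι F i).obj V)) ⋙ R) where
  pt := Option (R.obj (op V))
  ι :=
    { app := fun x => ↾(fun r₀ => (fsVert (V := V) (W := x.left.unop) x.hom.unop).map
        (fun k => R.map k.op r₀))
      naturality := fun x x' φ => by
        ext r₀
        have hw : x.hom.unop = x'.hom.unop ≫ (ι F i).map φ.left.unop := by
          rw [← CostructuredArrow.w φ]; rfl
        change (fsVert (V := V) (W := x'.left.unop) x'.hom.unop).map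
            (fun k => R.map k.op (R.map φ.left r₀)) =
          (fsVert (V := V) (W := x.left.unop) x.hom.unop).map (fun k => R.map k.op r₀)
        rw [hw, fsVert_comp_map, Option.map_map]
        congr 1
        funext k
        change R.map k.op (R.map φ.left r₀) = R.map (k ≫ φ.left.unop).op r₀
        rw [op_comp, Functor.map_comp_apply]
        rfl }

/-- The colimit cocone computing the left Kan extension at an object of the fibre. -/
noncomputable def fsLanColim (V : F.obj ⟨op i⟩) :
    IsColimit ((LeftExtension.mk _ ((ι F i).op.lanUnit.app R)).coconeAt (op ((ι F i).obj V))) :=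
  Functor.isPointwiseLeftKanExtensionOfIsLeftKanExtension _ ((ι F i).op.lanUnit.app R)
    (op ((ι F i).obj V))

/-- The retraction (with values in `Option`) of the unit. -/
noncomputable def fsRho (V : F.obj ⟨op i⟩) :
    ((ι F i).op.lan.obj R).obj (op ((ι F i).obj V)) → Option (R.obj (op V)) :=
  (fsLanColim i R V).desc (fsRhoCocone i R V)

theorem fsRho_leg (V W : F.obj ⟨op i⟩) (h : (ι F i).obj V ⟶ (ι F i).obj W) (r₀ : R.obj (op W)) :
    fsRho i R V (((ι F i).op.lan.obj R).map h.op (fsEta i R W r₀)) =
      (fsVert h).map (fun k => R.map k.op r₀) := by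
  have := congrArg (fun m => m r₀)
    ((fsLanColim i R V).fac (fsRhoCocone i R V) (CostructuredArrow.mk (Y := op W) h.op))
  exact this

theorem fsRho_eta (V : F.obj ⟨op i⟩) (r : R.obj (op V)) : fsRho i R V (fsEta i R V r) = some r := by
  have := fsRho_leg i R V V (𝟙 _) r
  rw [op_id, CategoryTheory.Functor.map_id] at this
  refine Eq.trans this ?_
  have h1 : fsVert (𝟙 ((ι F i).obj V)) = some (𝟙 V) := by
    rw [← CategoryTheory.Functor.map_id, fsVert_map]
  rw [h1]
  simp

theorem fsEta_injective (V : F.obj ⟨op i⟩) : Function.Injective (fsEta i R V) := by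
  intro r r' h
  have := congrArg (fsRho i R V) h
  rw [fsRho_eta, fsRho_eta] at this
  exact Option.some.inj this

theorem fs_lan_rep (V : F.obj ⟨op i⟩) (r' : ((ι F i).op.lan.obj R).obj (op ((ι F i).obj V))) :
    ∃ (W : F.obj ⟨op i⟩) (h : (ι F i).obj V ⟶ (ι F i).obj W) (r₀ : R.obj (op W)),
      r' = ((ι F i).op.lan.obj R).map h.op (fsEta i R W r₀) := by
  obtain ⟨x, r₀, hx⟩ := Types.jointly_surjective_of_isColimit (fsLanColim i R V) r'
  exact ⟨x.left.unop, x.hom.unop, r₀, hx.symm⟩

/-- The unit is cartesian. -/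
theorem fs_lan_cartesian {R R' : (F.obj ⟨op i⟩)ᵒᵖ ⥤ Type u} (u : R ⟶ R') (V : F.obj ⟨op i⟩)
    (r' : ((ι F i).op.lan.obj R).obj (op ((ι F i).obj V))) (s : R'.obj (op V))
    (hs : ((ι F i).op.lan.map u).app (op ((ι F i).obj V)) r' = fsEta i R' V s) :
    ∃ r : R.obj (op V), r' = fsEta i R V r ∧ u.app (op V) r = s := by
  obtain ⟨W, h, r₀, rfl⟩ := fs_lan_rep i R V r'
  have e1 : ((ι F i).op.lan.map u).app (op ((ι F i).obj V))
      (((ι F i).op.lan.obj R).map h.op (fsEta i R W r₀)) =
      ((ι F i).op.lan.obj R').map h.op (fsEta i R' W (u.app (op W) r₀)) := by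
    have := congrArg (fun m => m (fsEta i R W r₀)) (((ι F i).op.lan.map u).naturality h.op)
    refine Eq.trans this ?_
    exact congrArg (((ι F i).op.lan.obj R').map h.op) (fsEta_map i u W r₀)
  rw [e1] at hs
  have e2 := congrArg (fsRho i R' V) hs
  rw [fsRho_leg, fsRho_eta] at e2
  cases hk : fsVert h with
  | none => rw [hk] at e2; simp at e2
  | some k =>
    rw [hk] at e2
    have e3 : R'.map k.op (u.app (op W) r₀) = s := by simpa using e2
    have hh := fsVert_eq_some h k hk
    subst hh
    refine ⟨R.map k.op r₀, fsEta_nat i R k r₀, ?_⟩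
    have := congrArg (fun m => m r₀) (u.naturality k.op)
    exact this.trans e3

variable (J : FibSite.Topologies F)

/-- A morphism of presheaves on a fibre is bicovering as soon as its left Kan extension to the total
category is. -/
theorem fs_W_of_W_lan (hF : FibSite.IsPreFibSite F J) {R R' : (F.obj ⟨op i⟩)ᵒᵖ ⥤ Type u}
    (u : R ⟶ R') (hu : (FibSite.totalTopology F J).W ((ι F i).op.lan.map u)) : (J i).W u := by
  have hcc : (ι F i).IsCocontinuous (J i) (FibSite.totalTopology F J) := fs_ι_isCocontinuous J hF i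
  rw [GrothendieckTopology.W_iff_isLocallyBijective] at hu ⊢
  obtain ⟨hinj, hsurj⟩ := hu
  refine ⟨⟨?_⟩, ⟨?_⟩⟩
  · intro X r₁ r₂ h
    obtain ⟨V⟩ := X
    have h1 : ((ι F i).op.lan.map u).app (op ((ι F i).obj V)) (fsEta i R V r₁) =
        ((ι F i).op.lan.map u).app (op ((ι F i).obj V)) (fsEta i R V r₂) := by
      rw [fsEta_map, fsEta_map]
      exact congrArg (fsEta i R' V) h
    have h2 := Presheaf.equalizerSieve_mem (FibSite.totalTopology F J) ((ι F i).op.lan.map u)
      (X := op ((ι F i).obj V)) (fsEta i R V r₁) (fsEta i R V r₂) h1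
    have h3 := (ι F i).cover_lift (J i) (FibSite.totalTopology F J) h2
    refine (J i).superset_covering ?_ h3
    intro V' v hv
    have hv' : ((ι F i).op.lan.obj R).map ((ι F i).map v).op (fsEta i R V r₁) =
        ((ι F i).op.lan.obj R).map ((ι F i).map v).op (fsEta i R V r₂) := hv
    rw [fsEta_nat, fsEta_nat] at hv'
    exact fsEta_injective i R V' hv'
  · intro V s
    have h2 := Presheaf.imageSieve_mem (FibSite.totalTopology F J) ((ι F i).op.lan.map u)
      (U := op ((ι F i).obj V)) (fsEta i R' V s)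
    have h3 := (ι F i).cover_lift (J i) (FibSite.totalTopology F J) h2
    refine (J i).superset_covering ?_ h3
    intro V' v hv
    obtain ⟨t, ht⟩ := hv
    have ht' : ((ι F i).op.lan.map u).app (op ((ι F i).obj V')) t =
        ((ι F i).op.lan.obj R').map ((ι F i).map v).op (fsEta i R' V s) := ht
    rw [fsEta_nat] at ht'
    obtain ⟨r, -, hr⟩ := fs_lan_cartesian i u V' t _ ht'
    exact ⟨r, hr⟩

/-- The converse: the left Kan extension along the fibre inclusion of a bicovering morphism is
bicovering. -/
theorem fs_W_lan_of_W (hF : FibSite.IsPreFibSite F J) {R R' : (F.obj ⟨op i⟩)ᵒᵖ ⥤ Type u}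
    (u : R ⟶ R') (hu : (J i).W u) : (FibSite.totalTopology F J).W ((ι F i).op.lan.map u) := by
  have hc : (ι F i).IsContinuous (J i) (FibSite.totalTopology F J) := fs_ι_isContinuous J hF i
  exact Functor.W_map_of_adjunction_of_isContinuous (J i) (FibSite.totalTopology F J) (ι F i)
    (ι F i).op.lan ((ι F i).op.lanAdjunction (Type u)) u hu

end Small

end Groth.Agent.H67
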