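import Groth.Agent.H67.FibSite6
import Groth.Agent.H67.FibSite7
import Groth.Agent.H67.ExtLex
import Mathlib.CategoryTheory.Sites.InducedTopology
import Mathlib.CategoryTheory.Subfunctor.Basic
import Mathlib.CategoryTheory.Limits.Types.Pullbacks
import Mathlib.CategoryTheory.Limits.Types.Coproducts

set_option autoImplicit false
set_option backward.isDefEq.respectTransparency false
set_option backward.isDefEq.respectTransparency.types false
set_option backward.defeqAttrib.useBackward true

universe w v₃ u₃ v₂ u₂ v₁ u₁ u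

namespace Groth.Agent.H67

open CategoryTheory CategoryTheory.Limits Opposite Pseudofunctor Pseudofunctor.CoGrothendieck FibSite
open CategoryTheory.Functor Bicategory
open scoped CategoryTheory.Pseudofunctor.StrongTrans

section Continuity

variable {𝒮 : Type u} [SmallCategory 𝒮]
variable {F G : Pseudofunctor (LocallyDiscrete 𝒮ᵒᵖ) Cat.{u, u}} (α : G ⟶ F) (S : 𝒮)
variable (J : FibSite.Topologies F) (K : FibSite.Topologies G)

/-- If the functor between total categories induced by a strong transformation is continuous for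
the total topologies, the fibre functors are continuous. -/
theorem fs_fibre_isContinuous_of_map
    (hF : FibSite.IsPreFibSite F J) (hG : FibSite.IsPreFibSite G K)
    [(CoGrothendieck.map α).IsContinuous (FibSite.totalTopology G K) (FibSite.totalTopology F J)] :
    (α.app ⟨op S⟩).toFunctor.IsContinuous (K S) (J S) := by
  rw [← Functor.le_inducedTopology_iff]
  intro y R hR
  rw [Functor.mem_inducedTopology_iff y R (α.app ⟨op S⟩).toFunctor.op.lan
    ((α.app ⟨op S⟩).toFunctor.op.lanAdjunction (Type u))]
  intro y' f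
  have hW : (K S).W (Sieve.shrinkFunctor.{u} (R.pullback f)).ι :=
    Sieve.W_shrinkFunctor_ι_of_mem (K S) (Sieve.pullback f R) ((K S).pullback_stable f hR)
  have hcG : (ι G S).IsContinuous (K S) (FibSite.totalTopology G K) := fs_ι_isContinuous K hG S
  have hc : (ι G S ⋙ CoGrothendieck.map α).IsContinuous (K S) (FibSite.totalTopology F J) :=
    Functor.isContinuous_comp _ _ (K S) (FibSite.totalTopology G K) _
  have hc' : ((α.app ⟨op S⟩).toFunctor ⋙ ι F S).IsContinuous (K S) (FibSite.totalTopology F J) :=
    Functor.isContinuous_of_iso (fsMapιIso α S) _ _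
  let adj : (α.app ⟨op S⟩).toFunctor.op.lan ⋙ (ι F S).op.lan ⊣
      (Functor.whiskeringLeft _ _ (Type u)).obj ((α.app ⟨op S⟩).toFunctor ⋙ ι F S).op :=
    ((α.app ⟨op S⟩).toFunctor.op.lanAdjunction (Type u)).comp ((ι F S).op.lanAdjunction (Type u))
  have h1 := Functor.W_map_of_adjunction_of_isContinuous (K S) (FibSite.totalTopology F J)
    ((α.app ⟨op S⟩).toFunctor ⋙ ι F S) _ adj _ hW
  exact fs_W_of_W_lan S J hF _ h1

end Continuity

section LanUnit

variable {𝒮 : Type u} [SmallCategory 𝒮]
variable {F : Pseudofunctor (LocallyDiscrete 𝒮ᵒᵖ) Cat.{u, u}} (i : 𝒮)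

/-- The unit of the left Kan extension along a fibre inclusion is a cartesian natural
transformation. -/
theorem fs_lanUnit_isPullback {R R' : (F.obj ⟨op i⟩)ᵒᵖ ⥤ Type u} (u : R ⟶ R') :
    IsPullback ((ι F i).op.lanUnit.app R) u
      (((Functor.whiskeringLeft _ _ (Type u)).obj (ι F i).op).map ((ι F i).op.lan.map u))
      ((ι F i).op.lanUnit.app R') := by
  apply IsPullback.of_forall_isPullback_app
  intro X
  rw [Types.isPullback_iff]
  refine ⟨?_, ?_, ?_⟩
  · exact congrArg (fun m => m.app X) ((ι F i).op.lanUnit.naturality u).symm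
  · rintro x₁ y₁ ⟨h1, -⟩
    exact fsEta_injective i R X.unop h1
  · intro x₂ x₃ h
    obtain ⟨r, hr1, hr2⟩ := fs_lan_cartesian i u X.unop x₂ x₃ h
    exact ⟨r, hr1.symm, hr2⟩

/-- An element of the left Kan extension whose restriction along a vertical morphism is in the
image of the unit is in the image of the unit. -/
theorem fs_mem_range_eta_of_map (R : (F.obj ⟨op i⟩)ᵒᵖ ⥤ Type u) {V V' : F.obj ⟨op i⟩} (v : V' ⟶ V)
    (x : ((ι F i).op.lan.obj R).obj (op ((ι F i).obj V)))
    (hx : ((ι F i).op.lan.obj R).map ((ι F i).map v).op x ∈ Set.range (fsEta i R V')) :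
    x ∈ Set.range (fsEta i R V) := by
  obtain ⟨r, hr⟩ := hx
  obtain ⟨W, h, r₀, rfl⟩ := fs_lan_rep i R V x
  have e1 : ((ι F i).op.lan.obj R).map ((ι F i).map v).op
      (((ι F i).op.lan.obj R).map h.op (fsEta i R W r₀)) =
      ((ι F i).op.lan.obj R).map ((ι F i).map v ≫ h).op (fsEta i R W r₀) := by
    rw [op_comp, Functor.map_comp_apply]
  rw [e1] at hr
  have e2 := congrArg (fsRho i R V') hr
  rw [fsRho_eta, fsRho_leg] at e2
  cases hk : fsVert ((ι F i).map v ≫ h) with
  | none => rw [hk] at e2; simp at e2
  | some k =>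
    have hh := fsVert_eq_some _ k hk
    have hb : h.base = 𝟙 i := by
      have h3 : ((ι F i).map v ≫ h).base = 𝟙 i := by rw [hh]; rfl
      have h4 : 𝟙 i ≫ h.base = 𝟙 i := h3
      exact (Category.id_comp h.base).symm.trans h4
    obtain ⟨k', rfl⟩ := fs_ι_full i h hb
    exact ⟨R.map k'.op r₀, (fsEta_nat i R k' r₀).symm⟩

/-- The complement of the image of the unit. -/
def fsCompl (R : (F.obj ⟨op i⟩)ᵒᵖ ⥤ Type u) :
    Subfunctor ((ι F i).op ⋙ (ι F i).op.lan.obj R) where
  obj X := (Set.range (((ι F i).op.lanUnit.app R).app X))ᶜ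
  map {X Y} v x hx := by
    intro hx'
    exact hx (fs_mem_range_eta_of_map i R v.unop x hx')

/-- The unit of the left Kan extension along a fibre inclusion is a coproduct injection. -/
noncomputable def fs_lanUnit_isColimit (R : (F.obj ⟨op i⟩)ᵒᵖ ⥤ Type u) :
    IsColimit (BinaryCofan.mk ((ι F i).op.lanUnit.app R) (fsCompl i R).ι) := by
  apply evaluationJointlyReflectsColimits
  intro X
  refine (isColimitMapCoconeBinaryCofanEquiv _ _ _).symm ?_
  have : Mono (((ι F i).op.lanUnit.app R).app X) := by
    rw [mono_iff_injective]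
    exact fsEta_injective i R X.unop
  exact Types.isCoprodOfMono (((ι F i).op.lanUnit.app R).app X)

end LanUnit

section Main

variable {𝒮 : Type u} [SmallCategory 𝒮]
variable {F G : Pseudofunctor (LocallyDiscrete 𝒮ᵒᵖ) Cat.{u, u}} (α : G ⟶ F) (S : 𝒮)
variable (J : FibSite.Topologies F) (K : FibSite.Topologies G)

/-- If the functor between total sites induced by a strong transformation is a morphism of sites,
the inverse image functors along the fibre functors are left exact. -/
theorem fs_fibre_sheafPullback_preservesFiniteLimits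
    (hF : FibSite.IsPreFibSite F J) (hG : FibSite.IsPreFibSite G K)
    [(CoGrothendieck.map α).IsContinuous (FibSite.totalTopology G K) (FibSite.totalTopology F J)]
    [((CoGrothendieck.map α).sheafPushforwardContinuous (Type u)
      (FibSite.totalTopology G K) (FibSite.totalTopology F J)).IsRightAdjoint]
    [PreservesFiniteLimits ((CoGrothendieck.map α).sheafPullback (Type u)
      (FibSite.totalTopology G K) (FibSite.totalTopology F J))]
    [(α.app ⟨op S⟩).toFunctor.IsContinuous (K S) (J S)]
    [((α.app ⟨op S⟩).toFunctor.sheafPushforwardContinuous (Type u) (K S) (J S)).IsRightAdjoint] :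
    PreservesFiniteLimits ((α.app ⟨op S⟩).toFunctor.sheafPullback (Type u) (K S) (J S)) := by
  have hcF : (ι F S).IsContinuous (J S) (FibSite.totalTopology F J) := fs_ι_isContinuous J hF S
  have hcG : (ι G S).IsContinuous (K S) (FibSite.totalTopology G K) := fs_ι_isContinuous K hG S
  have hccF : (ι F S).IsCocontinuous (J S) (FibSite.totalTopology F J) :=
    fs_ι_isCocontinuous J hF S
  have hccG : (ι G S).IsCocontinuous (K S) (FibSite.totalTopology G K) :=
    fs_ι_isCocontinuous K hG S
  -- the base change isomorphism, for sheaves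
  let A₁ := ((CoGrothendieck.map α).sheafAdjunctionContinuous (Type u)
      (FibSite.totalTopology G K) (FibSite.totalTopology F J)).comp
    ((ι F S).sheafAdjunctionCocontinuous (Type u) (J S) (FibSite.totalTopology F J))
  let A₂ := ((ι G S).sheafAdjunctionCocontinuous (Type u) (K S) (FibSite.totalTopology G K)).comp
    ((α.app ⟨op S⟩).toFunctor.sheafAdjunctionContinuous (Type u) (K S) (J S))
  have e := (CategoryTheory.conjugateIsoEquiv A₁ A₂).symm (asIso (fsBCSheaf α S J K))
  have : PreservesFiniteLimits (FibSite.restr F J (Type u) S) := by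
    have : (FibSite.restr F J (Type u) S).IsRightAdjoint :=
      ((ι F S).sheafAdjunctionContinuous (Type u) (J S) (FibSite.totalTopology F J)).isRightAdjoint
    infer_instance
  have : PreservesFiniteLimits ((CoGrothendieck.map α).sheafPullback (Type u)
      (FibSite.totalTopology G K) (FibSite.totalTopology F J) ⋙ FibSite.restr F J (Type u) S) :=
    comp_preservesFiniteLimits _ _
  have h1 : PreservesFiniteLimits (FibSite.restr G K (Type u) S ⋙
      (α.app ⟨op S⟩).toFunctor.sheafPullback (Type u) (K S) (J S)) :=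
    preservesFiniteLimits_of_natIso e.symm
  -- passage to presheaves
  let adj1 := ((ι G S).op.ranAdjunction (Type u)).comp
    (((α.app ⟨op S⟩).toFunctor.op.lanAdjunction (Type u)).comp
      (sheafificationAdjunction (J S) (Type u)))
  let adj2 := (sheafificationAdjunction (FibSite.totalTopology G K) (Type u)).comp
    (((ι G S).sheafAdjunctionCocontinuous (Type u) (K S) (FibSite.totalTopology G K)).comp
      ((α.app ⟨op S⟩).toFunctor.sheafAdjunctionContinuous (Type u) (K S) (J S)))
  have isoL := (CategoryTheory.conjugateIsoEquiv adj2 adj1).symm (Iso.refl _)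
  have h2 : PreservesFiniteLimits ((Functor.whiskeringLeft _ _ (Type u)).obj (ι G S).op ⋙
      (α.app ⟨op S⟩).toFunctor.op.lan ⋙ presheafToSheaf (J S) (Type u)) := by
    have : PreservesFiniteLimits (presheafToSheaf (FibSite.totalTopology G K) (Type u) ⋙
        FibSite.restr G K (Type u) S ⋙
          (α.app ⟨op S⟩).toFunctor.sheafPullback (Type u) (K S) (J S)) :=
      comp_preservesFiniteLimits _ _
    exact preservesFiniteLimits_of_natIso isoL.symm
  have : ((α.app ⟨op S⟩).toFunctor.op.lan (H := Type u)).IsLeftAdjoint :=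
    ((α.app ⟨op S⟩).toFunctor.op.lanAdjunction (Type u)).isLeftAdjoint
  have h3 : PreservesFiniteLimits
      ((α.app ⟨op S⟩).toFunctor.op.lan ⋙ presheafToSheaf (J S) (Type u)) :=
    preservesFiniteLimits_of_cartesian_complemented (ι G S).op.lan
      ((Functor.whiskeringLeft _ _ (Type u)).obj (ι G S).op) (ι G S).op.lanUnit _
      (fun u => fs_lanUnit_isPullback S u)
      (fun b => ⟨_, _, ⟨fs_lanUnit_isColimit S b⟩⟩)
  have h4 : PreservesFiniteLimits (sheafToPresheaf (K S) (Type u) ⋙
      (α.app ⟨op S⟩).toFunctor.op.lan ⋙ presheafToSheaf (J S) (Type u)) :=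
    comp_preservesFiniteLimits _ _
  have h5 : PreservesFiniteLimits (Functor.sheafPullbackConstruction.sheafPullback
      (α.app ⟨op S⟩).toFunctor (Type u) (K S) (J S)) := h4
  exact preservesFiniteLimits_of_natIso
    (Functor.sheafPullbackConstruction.sheafPullbackIso (α.app ⟨op S⟩).toFunctor (Type u)
      (K S) (J S)).symm

end Main

end Groth.Agent.H67
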