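import Mathlib.Algebra.Module.CharacterModule
import Mathlib.GroupTheory.Index
import Mathlib.GroupTheory.OrderOfElement
import Mathlib.Topology.Instances.AddCircle.Defs

set_option autoImplicit false
universe u

namespace Groth.Agent.H67

/-- In a commutative group `Q` of exponent dividing `n > 0`, every nontrivial element is excluded by
some subgroup of finite index. -/
theorem exists_finiteIndex_not_mem_of_exponent {Q : Type u} [CommGroup Q] (n : ℕ) (hn : 0 < n)
    (hexp : ∀ x : Q, x ^ n = 1) (x : Q) (hx : x ≠ 1) :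
    ∃ K : Subgroup Q, K.FiniteIndex ∧ x ∉ K := by
  have hx' : Additive.ofMul x ≠ 0 := fun h => hx (by simpa using h)
  obtain ⟨c, hc⟩ := CharacterModule.exists_character_apply_ne_zero_of_ne_zero hx'
  let c' : Additive Q →+ AddCircle (1 : ℚ) := c
  let f : Q →* Multiplicative (AddCircle (1 : ℚ)) := AddMonoidHom.toMultiplicativeRight c'
  have hfin : Set.Finite {y : Multiplicative (AddCircle (1 : ℚ)) | y ^ n = 1} :=
    AddCircle.finite_torsion (1 : ℚ) hn
  have hrange : (f.range : Set (Multiplicative (AddCircle (1 : ℚ)))) ⊆ {y | y ^ n = 1} := by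
    rintro _ ⟨q, rfl⟩
    change f q ^ n = 1
    rw [← map_pow, hexp, map_one]
  have : Finite f.range := (hfin.subset hrange).to_subtype
  refine ⟨f.ker, Subgroup.finiteIndex_ker f, ?_⟩
  intro hmem
  rw [MonoidHom.mem_ker] at hmem
  apply hc
  have : f x = Multiplicative.ofAdd (c (Additive.ofMul x)) := rfl
  rw [this] at hmem
  simpa using hmem

/-- Separation of a finite-index subgroup of a subgroup: if the torsion of `A / A'` is killed by a
positive integer, every finite-index subgroup `N'` of `A'` contains `N ⊓ A'` for some finite-index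
subgroup `N` of the commutative group `A`. -/
theorem exists_finiteIndex_inf_le {A : Type u} [CommGroup A] (A' : Subgroup A)
    (htors : ∃ N : ℕ, 0 < N ∧ ∀ x : A ⧸ A', IsOfFinOrder x → x ^ N = 1)
    (N' : Subgroup A') [hfi : N'.FiniteIndex] :
    ∃ N : Subgroup A, N.FiniteIndex ∧ ∀ a : A', (a : A) ∈ N → a ∈ N' := by
  obtain ⟨N₀, hN₀, htor⟩ := htors
  set m := N'.index with hm
  have hmpos : 0 < m := Nat.pos_of_ne_zero hfi.index_ne_zero
  set n := N₀ * m with hn
  have hnpos : 0 < n := Nat.mul_pos hN₀ hmpos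
  -- the subgroup generated by `N'` and the `n`-th powers
  let B : Subgroup A := (N'.map A'.subtype) ⊔ (powMonoidHom n : A →* A).range
  have hpowB : ∀ a : A, a ^ n ∈ B := fun a => Subgroup.mem_sup_right ⟨a, rfl⟩
  have hN'B : ∀ a : A', a ∈ N' → (a : A) ∈ B := fun a ha =>
    Subgroup.mem_sup_left (Subgroup.mem_map_of_mem _ ha)
  -- key: `B ⊓ A' ≤ N'`
  have key : ∀ a : A', (a : A) ∈ B → a ∈ N' := by
    intro a ha
    obtain ⟨y, hy, z, hz, hyz⟩ := Subgroup.mem_sup.1 ha
    obtain ⟨y', hy', rfl⟩ := Subgroup.mem_map.1 hy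
    obtain ⟨w, rfl⟩ := hz
    change (y' : A) * w ^ n = a at hyz
    -- `w ^ n ∈ A'`
    have hwn : w ^ n ∈ A' := by
      have : w ^ n = (y' : A)⁻¹ * a := by rw [← hyz, inv_mul_cancel_left]
      rw [this]
      exact A'.mul_mem (A'.inv_mem y'.2) a.2
    have hfin : IsOfFinOrder (QuotientGroup.mk w : A ⧸ A') := by
      rw [isOfFinOrder_iff_pow_eq_one]
      refine ⟨n, hnpos, ?_⟩
      rw [← QuotientGroup.mk_pow]
      exact (QuotientGroup.eq_one_iff _).2 hwn
    have hwN₀ : w ^ N₀ ∈ A' := by
      have := htor _ hfin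
      rw [← QuotientGroup.mk_pow] at this
      exact (QuotientGroup.eq_one_iff _).1 this
    have hwnN' : (⟨w ^ N₀, hwN₀⟩ : A') ^ m ∈ N' := Subgroup.pow_index_mem N' _
    have ha_eq : a = y' * (⟨w ^ N₀, hwN₀⟩ : A') ^ m := by
      apply Subtype.ext
      rw [← hyz]
      simp only [Subgroup.coe_mul, SubmonoidClass.coe_pow]
      rw [← pow_mul]
    rw [ha_eq]
    exact N'.mul_mem hy' hwnN'
  -- the quotient `A ⧸ B` has exponent dividing `n`
  have hexp : ∀ q : A ⧸ B, q ^ n = 1 := by
    intro q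
    obtain ⟨a, rfl⟩ := QuotientGroup.mk_surjective q
    rw [← QuotientGroup.mk_pow]
    exact (QuotientGroup.eq_one_iff _).2 (hpowB a)
  -- for each element of `A'` outside `N'` a finite-index subgroup of `A` containing `B` and avoiding it
  have hsep : ∀ a : A', a ∉ N' → ∃ K : Subgroup A, K.FiniteIndex ∧ B ≤ K ∧ (a : A) ∉ K := by
    intro a ha
    have hne : (QuotientGroup.mk (a : A) : A ⧸ B) ≠ 1 := by
      intro h
      exact ha (key a ((QuotientGroup.eq_one_iff _).1 h))
    obtain ⟨K, hK, haK⟩ := exists_finiteIndex_not_mem_of_exponent n hnpos hexp _ hne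
    refine ⟨K.comap (QuotientGroup.mk' B), ?_, ?_, ?_⟩
    · refine ⟨?_⟩
      rw [Subgroup.index_comap_of_surjective _ (QuotientGroup.mk'_surjective B)]
      exact hK.index_ne_zero
    · intro b hb
      rw [Subgroup.mem_comap, QuotientGroup.mk'_apply, (QuotientGroup.eq_one_iff b).2 hb]
      exact K.one_mem
    · exact haK
  -- choose a separating subgroup for each nontrivial class of `A' ⧸ N'`
  classical
  have : Finite (A' ⧸ N') := Subgroup.finite_quotient_of_finiteIndex
  let rep : A' ⧸ N' → A' := fun t => Quotient.out t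
  have hrep : ∀ t : A' ⧸ N', (QuotientGroup.mk (rep t) : A' ⧸ N') = t := fun t => Quotient.out_eq' t
  let Kt : A' ⧸ N' → Subgroup A := fun t =>
    if h : rep t ∈ N' then ⊤ else (hsep (rep t) h).choose
  have hKt_fi : ∀ t, (Kt t).FiniteIndex := by
    intro t
    by_cases h : rep t ∈ N'
    · simp only [Kt, dif_pos h]; infer_instance
    · simp only [Kt, dif_neg h]; exact (hsep (rep t) h).choose_spec.1
  have hKt_B : ∀ t, B ≤ Kt t := by
    intro t
    by_cases h : rep t ∈ N'
    · simp only [Kt, dif_pos h]; exact le_top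
    · simp only [Kt, dif_neg h]; exact (hsep (rep t) h).choose_spec.2.1
  have hKt_not : ∀ t, rep t ∉ N' → ((rep t : A') : A) ∉ Kt t := by
    intro t h
    simp only [Kt, dif_neg h]; exact (hsep (rep t) h).choose_spec.2.2
  refine ⟨⨅ t, Kt t, Subgroup.finiteIndex_iInf hKt_fi, ?_⟩
  intro a ha
  by_contra haN'
  set t : A' ⧸ N' := QuotientGroup.mk a with ht
  have hrt : rep t ∉ N' := by
    intro h
    apply haN'
    have h1 : (QuotientGroup.mk (rep t) : A' ⧸ N') = 1 := (QuotientGroup.eq_one_iff _).2 h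
    rw [hrep t] at h1
    exact (QuotientGroup.eq_one_iff _).1 h1
  have hdiff : a⁻¹ * rep t ∈ N' := QuotientGroup.eq.1 (hrep t).symm
  have haKt : (a : A) ∈ Kt t := (Subgroup.mem_iInf.1 ha) t
  have : ((rep t : A') : A) ∈ Kt t := by
    have h1 : ((a⁻¹ * rep t : A') : A) ∈ Kt t := hKt_B t (hN'B _ hdiff)
    have h2 : ((rep t : A') : A) = (a : A) * ((a⁻¹ * rep t : A') : A) := by
      simp
    rw [h2]
    exact (Kt t).mul_mem haKt h1
  exact hKt_not t hrt this

end Groth.Agent.H67
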