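import Groth.Agent.H67.FreeNearFinite
import Groth.Agent.H92.LocFreeRank
import Mathlib.AlgebraicGeometry.Morphisms.QuasiFinite
import Mathlib.AlgebraicGeometry.Morphisms.Finite
import Mathlib.AlgebraicGeometry.Morphisms.Proper

/-!
# A locally free module of rank `r` upstairs of a finite morphism is free over the preimage of a
neighbourhood of any point downstairs
-/

set_option autoImplicit false
universe u
open CategoryTheory CategoryTheory.Limits AlgebraicGeometry TopologicalSpace Opposite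

namespace Groth.Agent.H67.FreeNearFibre

open Scheme.Modules

theorem exists_free_preimage {X' X : Scheme.{u}} (f : X' ⟶ X) [IsFinite f] (r : ℕ)
    (F : X'.Modules) (hF : FlatMod.IsFinLocFreeOfRank r F) (x : X) :
    ∃ U : X.Opens, x ∈ U ∧
      Nonempty (F.restrict (f ⁻¹ᵁ U).ι ≅ FlatMod.freeMod (↑(f ⁻¹ᵁ U)) r) := by
  obtain ⟨V, hVaff, hxV, -⟩ := Opens.isBasis_iff_nbhd.1 X.isBasis_affineOpens (Opens.mem_top x)
  have hV' : IsAffineOpen (f ⁻¹ᵁ V) := IsAffineOpen.preimage hVaff f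
  have hfin : (f ⁻¹' {x}).Finite := f.finite_preimage_singleton x
  have hsub : f ⁻¹' {x} ⊆ ((f ⁻¹ᵁ V : X'.Opens) : Set X') := by
    intro z hz
    have hz' : f z = x := hz
    show f z ∈ V
    rw [hz']
    exact hxV
  obtain ⟨U', hZU', hU'V, ⟨e⟩⟩ :=
    FreeNearFinite.exists_free_nhds r F hF (f ⁻¹' {x}) hfin (f ⁻¹ᵁ V) hV' hsub
  have hclosed : IsClosed (f '' (U' : Set X')ᶜ) := f.isClosedMap _ U'.isOpen.isClosed_compl
  let U : X.Opens := ⟨(f '' (U' : Set X')ᶜ)ᶜ, hclosed.isOpen_compl⟩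
  have hxU : x ∈ U := by
    rintro ⟨z, hz, hzx⟩
    exact hz (hZU' hzx)
  have hle : f ⁻¹ᵁ U ≤ U' := by
    intro z hz
    by_contra hcon
    exact hz ⟨z, hcon, rfl⟩
  exact ⟨U, hxU, ⟨Groth.Agent.H92.LocFreeRank.restrictTriv hle r e⟩⟩

end Groth.Agent.H67.FreeNearFibre
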