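import Mathlib.FieldTheory.IsSepClosed
import Mathlib.FieldTheory.Finite.GaloisField
import Mathlib.LinearAlgebra.Dimension.Finrank
import Mathlib.LinearAlgebra.FiniteDimensional.Lemmas
import Mathlib.Algebra.CharP.Frobenius
import Mathlib.SetTheory.Cardinal.Finite
import Mathlib.LinearAlgebra.Dimension.OrzechProperty
import Mathlib.LinearAlgebra.Dimension.Constructions
import Mathlib.LinearAlgebra.Dimension.Free
import Mathlib.LinearAlgebra.Quotient.Basic

/-!
# Fixed points of Frobenius-semilinear maps over separably closed fields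

`κ` separably closed of characteristic `p`, `V` finite dimensional, `T : V → V` a
Frobenius-semilinear map whose image spans `V`.  Then `V` has a basis of `T`-fixed vectors;
consequently `T - 1` is surjective and has exactly `p ^ dim V` fixed points.
-/

set_option autoImplicit false

namespace Groth.Agent.H67.FrobFix

open Polynomial Module Submodule

universe u v

section field

variable {κ : Type u} [Field κ] (p : ℕ) [hp : Fact p.Prime] [CharP κ p]

/-- coordinates of `T v` -/
theorem map_sum_repr {V : Type v} [AddCommGroup V] [Module κ V] {ι : Type*} [Fintype ι]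
    (T : V →ₛₗ[frobenius κ p] V) (b : Basis ι κ V) (x : V) :
    T x = ∑ i, (b.repr x i) ^ p • T (b i) := by
  conv_lhs => rw [← b.sum_repr x]
  rw [map_sum]
  refine Finset.sum_congr rfl fun i _ => ?_
  rw [LinearMap.map_smulₛₗ, frobenius_def]

theorem injective_of_span {V : Type v} [AddCommGroup V] [Module κ V] [FiniteDimensional κ V]
    (T : V →ₛₗ[frobenius κ p] V) (hT : span κ (Set.range T) = ⊤) : Function.Injective T := by
  classical
  let b := Module.finBasis κ V
  have hspan : ⊤ ≤ span κ (Set.range (fun i => T (b i))) := by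
    rw [← hT]
    refine span_le.mpr ?_
    rintro _ ⟨x, rfl⟩
    rw [map_sum_repr p T b x]
    exact Submodule.sum_mem _ fun i _ => Submodule.smul_mem _ _ (subset_span ⟨i, rfl⟩)
  have hli : LinearIndependent κ (fun i => T (b i)) :=
    linearIndependent_of_top_le_span_of_card_eq_finrank hspan (by simp)
  rw [injective_iff_map_eq_zero]
  intro x hx
  rw [map_sum_repr p T b x] at hx
  have h0 := Fintype.linearIndependent_iff.mp hli _ hx
  have : b.repr x = 0 := by
    ext i
    exact pow_eq_zero_iff (hp.out.ne_zero) |>.mp (h0 i)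
  simpa using this

/-- the recursively defined polynomials computing the coordinates of a fixed vector -/
noncomputable def Y (a : ℕ → κ) : ℕ → κ[X]
  | 0 => C (a 0) * X ^ p
  | (i + 1) => (Y a i) ^ p + C (a (i + 1)) * X ^ p

theorem Y_zero (a : ℕ → κ) : Y p a 0 = C (a 0) * X ^ p := rfl

theorem Y_succ (a : ℕ → κ) (i : ℕ) : Y p a (i + 1) = (Y p a i) ^ p + C (a (i + 1)) * X ^ p := rfl

theorem derivative_Y (a : ℕ → κ) (i : ℕ) : derivative (Y p a i) = 0 := by
  have hp0 : (p : κ) = 0 := CharP.cast_eq_zero κ p
  cases i with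
  | zero => simp [Y_zero, derivative_X_pow, hp0]
  | succ i => simp [Y_succ, derivative_pow, derivative_X_pow, hp0]

theorem eval_zero_Y (a : ℕ → κ) (i : ℕ) : (Y p a i).eval 0 = 0 := by
  induction i with
  | zero => simp [Y_zero, hp.out.ne_zero]
  | succ i ih => simp [Y_succ, ih, hp.out.ne_zero]

theorem Y_dichotomy (a : ℕ → κ) (i : ℕ) :
    (Y p a i = 0 ∧ ∀ j ≤ i, a j = 0) ∨ p ≤ (Y p a i).natDegree := by
  have hp2 : 2 ≤ p := hp.out.two_le
  induction i with
  | zero =>
    by_cases h : a 0 = 0
    · left
      refine ⟨by simp [Y_zero, h], fun j hj => ?_⟩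
      obtain rfl : j = 0 := Nat.le_zero.mp hj
      exact h
    · right
      rw [Y_zero, natDegree_C_mul_X_pow p (a 0) h]
  | succ i ih =>
    rcases ih with ⟨h0, hall⟩ | hdeg
    · have hY : Y p a (i + 1) = C (a (i + 1)) * X ^ p := by
        rw [Y_succ, h0, zero_pow hp.out.ne_zero, zero_add]
      by_cases h : a (i + 1) = 0
      · left
        refine ⟨by simp [hY, h], fun j hj => ?_⟩
        rcases Nat.of_le_succ hj with hj | rfl
        · exact hall j hj
        · exact h
      · right
        rw [hY, natDegree_C_mul_X_pow p _ h]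
    · right
      have h1 : ((Y p a i) ^ p).natDegree = p * (Y p a i).natDegree := natDegree_pow _ _
      have h2 : (C (a (i + 1)) * X ^ p : κ[X]).natDegree ≤ p := natDegree_C_mul_X_pow_le _ _
      have h3 : p < p * (Y p a i).natDegree := by nlinarith
      rw [Y_succ, natDegree_add_eq_left_of_natDegree_lt (by omega), h1]
      nlinarith

theorem exists_fixed_ne_zero [IsSepClosed κ] {V : Type v} [AddCommGroup V] [Module κ V]
    [FiniteDimensional κ V] [Nontrivial V]
    (T : V →ₛₗ[frobenius κ p] V) (hT : span κ (Set.range T) = ⊤) :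
    ∃ w : V, w ≠ 0 ∧ T w = w := by
  classical
  have hp2 : 2 ≤ p := hp.out.two_le
  obtain ⟨v, hv⟩ := exists_ne (0 : V)
  have hinj := injective_of_span p T hT
  let u : ℕ → V := fun i => T^[i] v
  have hu_succ : ∀ i, T (u i) = u (i + 1) := fun i => (Function.iterate_succ_apply' T i v).symm
  have hu_ne : ∀ i, u i ≠ 0 := by
    intro i
    induction i with
    | zero => exact hv
    | succ i ih =>
      rw [← hu_succ]
      intro h
      exact ih (hinj (h.trans (map_zero T).symm))
  have hex : ∃ k, ¬ LinearIndependent κ (fun i : Fin (k + 1) => u i) := by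
    refine ⟨finrank κ V, fun h => ?_⟩
    have := h.fintype_card_le_finrank
    simp at this
  obtain ⟨k, hk, hmin⟩ : ∃ k, (¬ LinearIndependent κ (fun i : Fin (k + 1) => u i)) ∧
      ∀ j < k, LinearIndependent κ (fun i : Fin (j + 1) => u i) :=
    ⟨Nat.find hex, Nat.find_spec hex, fun j hj => not_not.mp (Nat.find_min hex hj)⟩
  have hk0 : k ≠ 0 := by
    rintro rfl
    apply hk
    haveI : Unique (Fin (0 + 1)) := inferInstanceAs (Unique (Fin 1))
    rw [linearIndependent_unique_iff]
    exact hu_ne _
  obtain ⟨k', rfl⟩ := Nat.exists_eq_succ_of_ne_zero hk0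
  have hLI : LinearIndependent κ (fun i : Fin (k' + 1) => u i) := hmin k' (Nat.lt_succ_self _)
  have hsnoc : (fun i : Fin (k' + 1 + 1) => u i) =
      Fin.snoc (fun i : Fin (k' + 1) => u i) (u (k' + 1)) := by
    ext i
    refine Fin.lastCases ?_ (fun j => ?_) i <;> simp
  rw [hsnoc, linearIndependent_finSnoc, not_and, not_not] at hk
  obtain ⟨c, hc⟩ := (Submodule.mem_span_range_iff_exists_fun κ).mp (hk hLI)
  let a : ℕ → κ := fun i => if h : i < k' + 1 then c ⟨i, h⟩ else 0
  have ha : ∑ i ∈ Finset.range (k' + 1), a i • u i = u (k' + 1) := by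
    rw [← hc, ← Fin.sum_univ_eq_sum_range (fun i => a i • u i)]
    refine Finset.sum_congr rfl fun i _ => ?_
    have hi : (i : ℕ) < k' + 1 := i.2
    simp only [a, dif_pos hi]
  -- the polynomial
  have hdeg : p ≤ (Y p a k').natDegree := by
    rcases Y_dichotomy p a k' with ⟨-, hall⟩ | h
    · exfalso
      apply hu_ne (k' + 1)
      rw [← ha]
      refine Finset.sum_eq_zero fun i hi => ?_
      rw [hall i (Nat.lt_succ_iff.mp (Finset.mem_range.mp hi)), zero_smul]
    · exact h
  set P : κ[X] := Y p a k' - X with hP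
  have hder : derivative P = -1 := by
    rw [hP, derivative_sub, derivative_Y, derivative_X, zero_sub]
  have hPsep : P.Separable := by
    rw [separable_def, hder]
    exact ⟨0, -1, by ring⟩
  obtain ⟨Q, hQ⟩ : X ∣ P := by
    rw [X_dvd_iff, coeff_zero_eq_eval_zero, hP, eval_sub, eval_zero_Y, eval_X, sub_zero]
  have hQ0 : Q.eval 0 = -1 := by
    have h1 : derivative P = Q + X * derivative Q := by
      rw [hQ, derivative_mul, derivative_X, one_mul]
    have h2 := congrArg (eval 0) h1
    rw [hder] at h2
    simpa using h2.symm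
  have hQne : Q ≠ 0 := by
    rintro rfl
    simp at hQ0
  have hQsep : Q.Separable := by
    rw [hQ] at hPsep
    exact hPsep.of_mul_right
  have hdegQ : Q.degree ≠ 0 := by
    apply degree_ne_of_natDegree_ne (n := 0)
    have h1 : P.natDegree = (Y p a k').natDegree := by
      rw [hP]
      apply natDegree_sub_eq_left_of_natDegree_lt
      rw [natDegree_X]
      exact lt_of_lt_of_le (show 1 < p by omega) hdeg
    have h2 : P.natDegree = Q.natDegree + 1 := by
      rw [hQ, natDegree_X_mul hQne]
    omega
  obtain ⟨t, ht⟩ := IsSepClosed.exists_root Q hdegQ hQsep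
  have ht0 : t ≠ 0 := by
    rintro rfl
    rw [IsRoot.def, hQ0] at ht
    simp at ht
  have hPt : (Y p a k').eval t = t := by
    have h1 : P.eval t = 0 := by rw [hQ, eval_mul, ht.eq_zero, mul_zero]
    rw [hP, eval_sub, eval_X, sub_eq_zero] at h1
    exact h1
  let x : ℕ → κ := fun i => (Y p a i).eval t
  have hx0 : x 0 = a 0 * t ^ p := by simp [x, Y_zero]
  have hxs : ∀ i, x (i + 1) = (x i) ^ p + a (i + 1) * t ^ p := fun i => by simp [x, Y_succ]
  have hxk : x k' = t := hPt
  refine ⟨∑ i ∈ Finset.range (k' + 1), x i • u i, ?_, ?_⟩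
  · intro hw
    rw [← Fin.sum_univ_eq_sum_range (fun i => x i • u i)] at hw
    have := Fintype.linearIndependent_iff.mp hLI (fun i => x i) hw (Fin.last k')
    simp only [Fin.val_last] at this
    exact ht0 (hxk ▸ this)
  · rw [map_sum]
    have h1 : ∀ i ∈ Finset.range (k' + 1), T (x i • u i) = (x i) ^ p • u (i + 1) := by
      intro i _
      rw [LinearMap.map_smulₛₗ, frobenius_def, hu_succ]
    rw [Finset.sum_congr rfl h1, Finset.sum_range_succ, hxk, ← ha, Finset.sum_range_succ',
      Finset.sum_range_succ' (fun i => x i • u i), hx0, smul_add, Finset.smul_sum, ← add_assoc,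
      ← Finset.sum_add_distrib]
    congr 1
    · refine Finset.sum_congr rfl fun i _ => ?_
      rw [hxs, add_smul, smul_smul, mul_comm]
    · rw [smul_smul, mul_comm]

theorem exists_fixed_family [IsSepClosed κ] (n : ℕ) :
    ∀ (V : Type v) [AddCommGroup V] [Module κ V] [FiniteDimensional κ V]
      (T : V →ₛₗ[frobenius κ p] V), span κ (Set.range T) = ⊤ → finrank κ V = n →
      ∃ e : Fin n → V, LinearIndependent κ e ∧ ∀ i, T (e i) = e i := by
  classical
  have hp2 : 2 ≤ p := hp.out.two_le
  induction n with
  | zero =>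
    intro V _ _ _ T _ _
    exact ⟨fun i => i.elim0, linearIndependent_empty_type, fun i => i.elim0⟩
  | succ n ih =>
    intro V _ _ _ T hT hn
    haveI : Nontrivial V := Module.nontrivial_of_finrank_pos (R := κ) (by omega)
    obtain ⟨w, hw0, hw⟩ := exists_fixed_ne_zero p T hT
    let S : Submodule κ V := κ ∙ w
    have hwS : w ∈ S := Submodule.mem_span_singleton_self w
    have hS : S ≤ S.comap T := by
      intro x hx
      obtain ⟨c, rfl⟩ := Submodule.mem_span_singleton.mp hx
      rw [Submodule.mem_comap, LinearMap.map_smulₛₗ, hw]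
      exact Submodule.smul_mem _ _ hwS
    let T' : (V ⧸ S) →ₛₗ[frobenius κ p] (V ⧸ S) := S.mapQ S T hS
    have hT'mk : ∀ x, T' (Submodule.Quotient.mk x) = Submodule.Quotient.mk (T x) :=
      fun x => Submodule.mapQ_apply _ _ _ _
    have hT' : span κ (Set.range T') = ⊤ := by
      have key : ∀ x ∈ span κ (Set.range T),
          (Submodule.Quotient.mk x : V ⧸ S) ∈ span κ (Set.range T') := by
        intro x hx
        induction hx using Submodule.span_induction with
        | mem x hx =>
          obtain ⟨z, rfl⟩ := hx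
          exact subset_span ⟨Submodule.Quotient.mk z, hT'mk z⟩
        | zero => exact Submodule.zero_mem _
        | add x y _ _ hx hy =>
          rw [Submodule.Quotient.mk_add]
          exact Submodule.add_mem _ hx hy
        | smul c x _ hx =>
          rw [Submodule.Quotient.mk_smul]
          exact Submodule.smul_mem _ _ hx
      rw [eq_top_iff]
      intro y _
      obtain ⟨x, rfl⟩ := Submodule.Quotient.mk_surjective S y
      exact key x (hT ▸ Submodule.mem_top)
    have hfin : finrank κ (V ⧸ S) = n := by
      have h1 := Submodule.finrank_quotient_add_finrank S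
      have h2 : finrank κ S = 1 := finrank_span_singleton hw0
      omega
    obtain ⟨ē, hēli, hēfix⟩ := ih (V ⧸ S) T' hT' hfin
    have hlift : ∀ i, ∃ e : V, T e = e ∧ Submodule.Quotient.mk e = ē i := by
      intro i
      obtain ⟨x, hx⟩ := Submodule.Quotient.mk_surjective S (ē i)
      have hmem : T x - x ∈ S := by
        rw [← Submodule.Quotient.mk_eq_zero, Submodule.Quotient.mk_sub, ← hT'mk, hx, hēfix i,
          sub_self]
      obtain ⟨c, hc⟩ := Submodule.mem_span_singleton.mp hmem
      obtain ⟨s, hs⟩ := IsSepClosed.exists_root_C_mul_X_pow_add_C_mul_X_add_C' p p (1 : κ) (-1) c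
        (dvd_refl p) hp2 (by simp)
      have hs' : s ^ p + c = s := by linear_combination hs
      have hTx : T x = x + c • w := by rw [hc]; abel
      refine ⟨x + s • w, ?_, ?_⟩
      · rw [map_add, LinearMap.map_smulₛₗ, frobenius_def, hw, hTx, add_assoc, ← add_smul,
          add_comm c, hs']
      · rw [Submodule.Quotient.mk_add, Submodule.Quotient.mk_smul,
          (Submodule.Quotient.mk_eq_zero S).mpr hwS, smul_zero, add_zero, hx]
    choose e he_fix he_mk using hlift
    refine ⟨Fin.cons w e, ?_, ?_⟩
    · rw [linearIndependent_finCons]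
      constructor
      · apply LinearIndependent.of_comp S.mkQ
        have : (S.mkQ ∘ e) = ē := funext he_mk
        rw [this]
        exact hēli
      · intro hmem
        obtain ⟨c, hc⟩ := (Submodule.mem_span_range_iff_exists_fun κ).mp hmem
        have h1 : ∑ i, c i • ē i = 0 := by
          have := congrArg S.mkQ hc
          rw [map_sum] at this
          simp only [map_smul, Submodule.mkQ_apply, he_mk,
            (Submodule.Quotient.mk_eq_zero S).mpr hwS] at this
          exact this
        have h2 := Fintype.linearIndependent_iff.mp hēli c h1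
        apply hw0
        rw [← hc]
        exact Finset.sum_eq_zero fun i _ => by rw [h2 i, zero_smul]
    · intro i
      refine Fin.cases ?_ (fun j => ?_) i
      · simpa using hw
      · simpa using he_fix j

theorem exists_fixed_basis [IsSepClosed κ] {V : Type v} [AddCommGroup V] [Module κ V]
    [FiniteDimensional κ V] (T : V →ₛₗ[frobenius κ p] V) (hT : span κ (Set.range T) = ⊤) :
    ∃ e : Basis (Fin (finrank κ V)) κ V, ∀ i, T (e i) = e i := by
  obtain ⟨e, hli, hfix⟩ := exists_fixed_family p (finrank κ V) V T hT rfl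
  have hsp : span κ (Set.range e) = ⊤ := hli.span_eq_top_of_card_eq_finrank' (by simp)
  refine ⟨Basis.mk hli hsp.ge, fun i => ?_⟩
  rw [Basis.mk_apply]
  exact hfix i

theorem repr_map_of_fixed {V : Type v} [AddCommGroup V] [Module κ V] {ι : Type*} [Fintype ι]
    (T : V →ₛₗ[frobenius κ p] V) (e : Basis ι κ V) (hfix : ∀ i, T (e i) = e i) (x : V) (i : ι) :
    e.repr (T x) i = (e.repr x i) ^ p := by
  classical
  rw [map_sum_repr p T e x]
  simp only [hfix]
  rw [e.repr_sum_self]

theorem surjective_sub_id [IsSepClosed κ] {V : Type v} [AddCommGroup V] [Module κ V]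
    [FiniteDimensional κ V] (T : V →ₛₗ[frobenius κ p] V) (hT : span κ (Set.range T) = ⊤) :
    Function.Surjective (fun x => T x - x) := by
  classical
  have hp2 : 2 ≤ p := hp.out.two_le
  obtain ⟨e, hfix⟩ := exists_fixed_basis p T hT
  intro c
  have hs : ∀ i, ∃ s : κ, s ^ p - s = e.repr c i := by
    intro i
    obtain ⟨s, hs⟩ := IsSepClosed.exists_root_C_mul_X_pow_add_C_mul_X_add_C' p p (1 : κ) (-1)
      (-(e.repr c i)) (dvd_refl p) hp2 (by simp)
    exact ⟨s, by linear_combination hs⟩
  choose s hs using hs
  refine ⟨∑ i, s i • e i, ?_⟩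
  apply e.repr.injective
  ext i
  simp only [map_sub, Finsupp.coe_sub, Pi.sub_apply]
  rw [repr_map_of_fixed p T e hfix, e.repr_sum_self, hs]

theorem card_frobenius_fixed [IsSepClosed κ] : Nat.card {a : κ // a ^ p = a} = p := by
  classical
  have hp1 : 1 < p := hp.out.one_lt
  have hdeg : (X ^ p - X : κ[X]).natDegree = p := FiniteField.X_pow_card_sub_X_natDegree_eq κ hp1
  have hf0 : (X ^ p - X : κ[X]) ≠ 0 := FiniteField.X_pow_card_sub_X_ne_zero κ hp1
  have hsep : (X ^ p - X : κ[X]).Separable := galois_poly_separable p p (dvd_refl p)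
  have hsplit : ((X ^ p - X : κ[X]).map (algebraMap κ κ)).Splits :=
    IsSepClosed.splits_domain _ hsep
  have hcard := card_rootSet_eq_natDegree hsep hsplit
  rw [hdeg] at hcard
  have h1 : Nat.card {a : κ // a ^ p = a} = Fintype.card ((X ^ p - X : κ[X]).rootSet κ) := by
    rw [← Nat.card_eq_fintype_card]
    refine Nat.card_congr (Equiv.subtypeEquivRight fun a => ?_)
    rw [mem_rootSet]
    simp [hf0, sub_eq_zero]
  rw [h1, hcard]

theorem card_fixed [IsSepClosed κ] {V : Type v} [AddCommGroup V] [Module κ V]
    [FiniteDimensional κ V] (T : V →ₛₗ[frobenius κ p] V) (hT : span κ (Set.range T) = ⊤) :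
    Nat.card {x : V // T x = x} = p ^ finrank κ V := by
  classical
  obtain ⟨e, hfix⟩ := exists_fixed_basis p T hT
  have h1 : ∀ x : V, T x = x ↔ ∀ i, (e.equivFun x i) ^ p = e.equivFun x i := by
    intro x
    constructor
    · intro h i
      rw [Basis.equivFun_apply, ← repr_map_of_fixed p T e hfix, h]
    · intro h
      apply e.repr.injective
      ext i
      rw [repr_map_of_fixed p T e hfix]
      exact h i
  have e1 : {x : V // T x = x} ≃ {y : Fin (finrank κ V) → κ // ∀ i, y i ^ p = y i} :=
    Equiv.subtypeEquiv e.equivFun.toEquiv h1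
  have e2 : {y : Fin (finrank κ V) → κ // ∀ i, y i ^ p = y i} ≃
      (Fin (finrank κ V) → {a : κ // a ^ p = a}) :=
    Equiv.subtypePiEquivPi (β := fun _ => κ) (p := fun _ a => a ^ p = a)
  rw [Nat.card_congr (e1.trans e2), Nat.card_fun, card_frobenius_fixed p, Nat.card_eq_fintype_card,
    Fintype.card_fin]

end field

end Groth.Agent.H67.FrobFix
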