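import Groth.Agent.H67.FrobFix
import Groth.Agent.H3.MultiHensel
import Mathlib.RingTheory.Nakayama
import Mathlib.RingTheory.Jacobson.Ideal
import Mathlib.LinearAlgebra.Matrix.Determinant.Basic

/-!
# Frobenius-semilinear maps on free modules over strictly henselian local rings
-/

set_option autoImplicit false

namespace Groth.Agent.H67.FrobFix

open Module Submodule IsLocalRing

universe u v

section coord

variable {S : Type u} [CommRing S] (p : ℕ) {n : ℕ}

/-- the Frobenius-semilinear map `x ↦ A x^(p)` in coordinates -/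
def F (A : Matrix (Fin n) (Fin n) S) (x : Fin n → S) : Fin n → S :=
  fun j => ∑ i, A j i * x i ^ p

theorem F_apply (A : Matrix (Fin n) (Fin n) S) (x : Fin n → S) (j : Fin n) :
    F p A x j = ∑ i, A j i * x i ^ p := rfl

theorem F_sub [hp : Fact p.Prime] [CharP S p] (A : Matrix (Fin n) (Fin n) S) (x y : Fin n → S) :
    F p A (x - y) = F p A x - F p A y := by
  ext j
  simp only [F_apply, Pi.sub_apply, sub_pow_char, mul_sub, Finset.sum_sub_distrib]

theorem F_add [hp : Fact p.Prime] [CharP S p] (A : Matrix (Fin n) (Fin n) S) (x y : Fin n → S) :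
    F p A (x + y) = F p A x + F p A y := by
  ext j
  simp only [F_apply, Pi.add_apply, add_pow_char, mul_add, Finset.sum_add_distrib]

theorem F_map {S' : Type*} [CommRing S'] (r : S →+* S') (A : Matrix (Fin n) (Fin n) S)
    (x : Fin n → S) (j : Fin n) : r (F p A x j) = F p (A.map r) (fun i => r (x i)) j := by
  simp [F_apply, map_sum]

/-- the semilinear map over a field -/
def Fₛ {κ : Type u} [Field κ] [hp : Fact p.Prime] [CharP κ p] (B : Matrix (Fin n) (Fin n) κ) :
    (Fin n → κ) →ₛₗ[frobenius κ p] (Fin n → κ) where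
  toFun := F p B
  map_add' := F_add p B
  map_smul' c x := by
    ext j
    simp only [F_apply, Pi.smul_apply, smul_eq_mul, mul_pow, frobenius_def, Finset.mul_sum]
    refine Finset.sum_congr rfl fun i _ => ?_
    ring

theorem Fₛ_apply {κ : Type u} [Field κ] [hp : Fact p.Prime] [CharP κ p]
    (B : Matrix (Fin n) (Fin n) κ) (x : Fin n → κ) : Fₛ p B x = F p B x := rfl

end coord

section henselian

variable {R : Type u} [CommRing R] [HenselianLocalRing R] (p : ℕ) [hp : Fact p.Prime] [CharP R p]
  {n : ℕ}

/-- the lifting step, via the multidimensional Hensel lemma -/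
theorem lift_solution (A : Matrix (Fin n) (Fin n) R) (c a₀ : Fin n → R)
    (h₀ : ∀ j, F p A a₀ j - a₀ j - c j ∈ maximalIdeal R) :
    ∃ a : Fin n → R, (∀ j, F p A a j - a j = c j) ∧ ∀ j, a j - a₀ j ∈ maximalIdeal R := by
  classical
  let P : Fin n → MvPolynomial (Fin n) R := fun j =>
    ∑ i, MvPolynomial.C (A j i) * MvPolynomial.X i ^ p - MvPolynomial.X j - MvPolynomial.C (c j)
  have hev : ∀ (a : Fin n → R) (j : Fin n),
      MvPolynomial.eval a (P j) = F p A a j - a j - c j := by
    intro a j
    simp [P, F_apply]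
  have hp0 : ((p : ℕ) : MvPolynomial (Fin n) R) = 0 := CharP.cast_eq_zero _ p
  have hpd : ∀ i j, MvPolynomial.pderiv j (P i) =
      -(if i = j then 1 else 0 : MvPolynomial (Fin n) R) := by
    intro i j
    simp only [P, map_sub, map_sum, MvPolynomial.pderiv_C_mul, MvPolynomial.pderiv_pow, hp0,
      zero_mul, mul_zero, Finset.sum_const_zero, MvPolynomial.pderiv_C, sub_zero, zero_sub]
    congr 1
    by_cases h : i = j
    · subst h; simp
    · simp [h, Ne.symm h]
  have hJ : IsUnit (Matrix.of (fun i j =>
      MvPolynomial.eval a₀ (MvPolynomial.pderiv j (P i)))).det := by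
    have h1 : (Matrix.of (fun i j => MvPolynomial.eval a₀ (MvPolynomial.pderiv j (P i)))) =
        -(1 : Matrix (Fin n) (Fin n) R) := by
      ext i j
      rw [Matrix.of_apply, hpd, Matrix.neg_apply, Matrix.one_apply, map_neg]
      by_cases h : i = j
      · subst h; simp
      · simp [h]
    rw [h1, Matrix.det_neg, Matrix.det_one, mul_one]
    exact (isUnit_one.neg).pow _
  obtain ⟨a, ha, ha'⟩ := Groth.Agent.H3.multi_hensel P a₀ (fun i => by rw [hev]; exact h₀ i) hJ
  refine ⟨a, fun j => ?_, ha'⟩
  have := ha j
  rw [hev, sub_eq_zero] at this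
  exact this

end henselian

section main

variable {R : Type u} [CommRing R] [HenselianLocalRing R] (p : ℕ) [hp : Fact p.Prime] [CharP R p]
  {n : ℕ}

theorem charP_residueField : CharP (ResidueField R) p :=
  (CharP.charP_iff_prime_eq_zero hp.out).mpr
    (by rw [← map_natCast (residue R) p, CharP.cast_eq_zero, map_zero])

omit [HenselianLocalRing R] [CharP R p] hp in
theorem exists_lift [IsLocalRing R] (xb : Fin n → ResidueField R) :
    ∃ y : Fin n → R, ∀ j, residue R (y j) = xb j :=
  ⟨fun j => (residue_surjective (xb j)).choose, fun j => (residue_surjective (xb j)).choose_spec⟩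

theorem coord_main [IsSepClosed (ResidueField R)] (A : Matrix (Fin n) (Fin n) R)
    (hA : ∀ y : Fin n → R, ∃ z : Fin n → R, ∀ j, y j = ∑ i, A j i * z i) :
    (∀ c : Fin n → R, ∃ x : Fin n → R, F p A x - x = c) ∧
    Nat.card {x : Fin n → R // F p A x = x} = p ^ n := by
  classical
  haveI : CharP (ResidueField R) p := charP_residueField p
  let κ := ResidueField R
  let r : R →+* κ := residue R
  let B : Matrix (Fin n) (Fin n) κ := A.map r
  have hspan : span κ (Set.range (Fₛ p B)) = ⊤ := by
    rw [eq_top_iff]
    intro yb _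
    obtain ⟨y, hy⟩ := exists_lift yb
    obtain ⟨z, hz⟩ := hA y
    have : yb = ∑ i, r (z i) • Fₛ p B (Pi.single i 1) := by
      ext j
      rw [← hy, hz, map_sum, Finset.sum_apply]
      refine Finset.sum_congr rfl fun i _ => ?_
      rw [Pi.smul_apply, Fₛ_apply, F_apply, smul_eq_mul, map_mul]
      rw [Finset.sum_eq_single i]
      · simp [B, mul_comm, r]
      · intro l _ hl
        simp [Pi.single_eq_of_ne hl, hp.out.ne_zero]
      · simp
    rw [this]
    exact Submodule.sum_mem _ fun i _ => Submodule.smul_mem _ _ (subset_span ⟨_, rfl⟩)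
  have hsurj := surjective_sub_id p (Fₛ p B) hspan
  have hcard := card_fixed p (Fₛ p B) hspan
  rw [Module.finrank_fin_fun] at hcard
  have hred : ∀ (x : Fin n → R) (j), r (F p A x j) = F p B (fun i => r (x i)) j :=
    fun x j => F_map p r A x j
  constructor
  · intro c
    obtain ⟨xb, hxb⟩ := hsurj (fun j => r (c j))
    obtain ⟨a₀, ha₀⟩ := exists_lift xb
    have h₀ : ∀ j, F p A a₀ j - a₀ j - c j ∈ maximalIdeal R := by
      intro j
      rw [← residue_eq_zero_iff]
      change r _ = 0
      rw [map_sub, map_sub, hred]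
      have h1 : (fun i => r (a₀ i)) = xb := funext ha₀
      rw [h1]
      have h2 := congrFun hxb j
      simp only [Pi.sub_apply, Fₛ_apply] at h2
      have ha₀j : r (a₀ j) = xb j := ha₀ j
      rw [ha₀j, h2, sub_self]
    obtain ⟨a, ha, -⟩ := lift_solution p A c a₀ h₀
    exact ⟨a, funext fun j => by simpa using ha j⟩
  · rw [← hcard]
    let red : {x : Fin n → R // F p A x = x} → {xb : Fin n → κ // Fₛ p B xb = xb} :=
      fun x => ⟨fun i => r (x.1 i), by
        ext j
        rw [Fₛ_apply, ← hred, x.2]⟩
    apply Nat.card_congr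
    refine Equiv.ofBijective red ⟨?_, ?_⟩
    · intro x y hxy
      have hxy' : ∀ i, r (x.1 i) = r (y.1 i) := fun i => congrFun (congrArg Subtype.val hxy) i
      let z : Fin n → R := x.1 - y.1
      have hz : F p A z = z := by rw [F_sub, x.2, y.2]
      have hzm : ∀ i, z i ∈ maximalIdeal R := fun i => by
        rw [← residue_eq_zero_iff]
        change r (x.1 i - y.1 i) = 0
        rw [map_sub, hxy' i, sub_self]
      let N : Ideal R := Ideal.span (Set.range z)
      have hN : N = ⊥ := by
        apply Submodule.eq_bot_of_le_smul_of_le_jacobson_bot (maximalIdeal R) N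
        · exact Submodule.fg_span (Set.finite_range z)
        · refine Ideal.span_le.mpr ?_
          rintro _ ⟨j, rfl⟩
          have : z j = ∑ i, (A j i * z i ^ (p - 1)) • z i := by
            conv_lhs => rw [← hz, F_apply]
            refine Finset.sum_congr rfl fun i _ => ?_
            rw [smul_eq_mul, mul_assoc, ← pow_succ, Nat.sub_add_cancel hp.out.one_le]
          rw [this]
          refine Submodule.sum_mem _ fun i _ =>
            Submodule.smul_mem_smul ?_ (Ideal.subset_span ⟨i, rfl⟩)
          exact Ideal.mul_mem_left _ _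
            (Ideal.pow_mem_of_mem _ (hzm i) _ (Nat.sub_pos_of_lt hp.out.one_lt))
        · exact (jacobson_eq_maximalIdeal ⊥ bot_ne_top).ge
      apply Subtype.ext
      funext i
      have : z i ∈ N := Ideal.subset_span ⟨i, rfl⟩
      rw [hN, Ideal.mem_bot] at this
      exact sub_eq_zero.mp this
    · rintro ⟨xb, hxb⟩
      obtain ⟨a₀, ha₀⟩ := exists_lift xb
      have h₀ : ∀ j, F p A a₀ j - a₀ j - (0 : Fin n → R) j ∈ maximalIdeal R := by
        intro j
        rw [← residue_eq_zero_iff]
        change r _ = 0
        rw [Pi.zero_apply, sub_zero, map_sub, hred]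
        have h1 : (fun i => r (a₀ i)) = xb := funext ha₀
        rw [h1, ← Fₛ_apply, hxb]
        have ha₀j : r (a₀ j) = xb j := ha₀ j
        rw [ha₀j, sub_self]
      obtain ⟨a, ha, ha'⟩ := lift_solution p A 0 a₀ h₀
      refine ⟨⟨a, funext fun j => sub_eq_zero.mp (by simpa using ha j)⟩, ?_⟩
      apply Subtype.ext
      funext j
      change r (a j) = xb j
      rw [← ha₀ j, ← sub_eq_zero]
      change r (a j) - r (a₀ j) = 0
      rw [← map_sub]
      exact (residue_eq_zero_iff _).mpr (ha' j)

theorem main_free [IsSepClosed (ResidueField R)] {M : Type v} [AddCommGroup M] [Module R M]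
    [Module.Free R M] [Module.Finite R M]
    (T : M →+ M) (hT : ∀ (r : R) (m : M), T (r • m) = r ^ p • T m)
    (hspan : Submodule.span R (Set.range T) = ⊤) :
    Function.Surjective (fun m => T m - m) ∧
      Nat.card {m : M // T m = m} = p ^ Module.finrank R M := by
  classical
  let b := Module.finBasis R M
  let A : Matrix (Fin (finrank R M)) (Fin (finrank R M)) R := fun j i => b.repr (T (b i)) j
  have hTsum : ∀ m, T m = ∑ i, (b.repr m i) ^ p • T (b i) := by
    intro m
    conv_lhs => rw [← b.sum_repr m]
    rw [map_sum]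
    exact Finset.sum_congr rfl fun i _ => hT _ _
  have hφ : ∀ m, b.equivFun (T m) = F p A (b.equivFun m) := by
    intro m
    ext j
    rw [hTsum m, map_sum, Finset.sum_apply, F_apply]
    refine Finset.sum_congr rfl fun i _ => ?_
    simp [A, mul_comm]
  have hA : ∀ y : Fin (finrank R M) → R, ∃ z : Fin (finrank R M) → R,
      ∀ j, y j = ∑ i, A j i * z i := by
    have key : ∀ m ∈ span R (Set.range T),
        ∃ z : Fin (finrank R M) → R, m = ∑ i, z i • T (b i) := by
      intro m hm
      induction hm using Submodule.span_induction with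
      | mem m hm =>
        obtain ⟨m', rfl⟩ := hm
        exact ⟨_, hTsum m'⟩
      | zero => exact ⟨0, by simp⟩
      | add x y _ _ hx hy =>
        obtain ⟨z, hz⟩ := hx
        obtain ⟨z', hz'⟩ := hy
        exact ⟨z + z', by rw [hz, hz']; simp [add_smul, Finset.sum_add_distrib]⟩
      | smul c x _ hx =>
        obtain ⟨z, hz⟩ := hx
        exact ⟨c • z, by rw [hz, Finset.smul_sum]; simp [smul_smul]⟩
    intro y
    obtain ⟨z, hz⟩ := key (b.equivFun.symm y) (hspan ▸ mem_top)
    refine ⟨z, fun j => ?_⟩
    have h1 := congrArg (fun m => b.equivFun m j) hz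
    simp only [LinearEquiv.apply_symm_apply, map_sum, Finset.sum_apply] at h1
    rw [h1]
    refine Finset.sum_congr rfl fun i _ => ?_
    simp [A, mul_comm]
  obtain ⟨h1, h2⟩ := coord_main p A hA
  constructor
  · intro c
    obtain ⟨x, hx⟩ := h1 (b.equivFun c)
    refine ⟨b.equivFun.symm x, ?_⟩
    apply b.equivFun.injective
    change b.equivFun (T (b.equivFun.symm x) - b.equivFun.symm x) = _
    rw [map_sub, hφ, LinearEquiv.apply_symm_apply]
    exact hx
  · rw [← h2]
    refine Nat.card_congr (Equiv.subtypeEquiv b.equivFun.toEquiv (fun m => ?_))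
    change T m = m ↔ F p A (b.equivFun m) = b.equivFun m
    constructor
    · intro h
      rw [← hφ, h]
    · intro h
      apply b.equivFun.injective
      rw [hφ]
      exact h

end main

end Groth.Agent.H67.FrobFix
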