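import Groth.Agent.H67.FrobFix
import Mathlib.RingTheory.Nakayama
import Mathlib.RingTheory.Jacobson.Ideal
import Mathlib.LinearAlgebra.TensorProduct.Quotient
import Mathlib.RingTheory.LocalRing.ResidueField.Basic
import Mathlib.RingTheory.TensorProduct.Basic
import Mathlib.RingTheory.Noetherian.Basic
import Mathlib.RingTheory.TensorProduct.Finite

/-!
# Bijective Frobenius-semilinear maps on finite modules over noetherian local rings
-/

set_option autoImplicit false

namespace Groth.Agent.H67.FrobFix

open Module Submodule IsLocalRing TensorProduct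

universe u v

section

variable {R : Type u} [CommRing R] [IsLocalRing R] (p : ℕ) [hp : Fact p.Prime] [CharP R p]
  {M : Type v} [AddCommGroup M] [Module R M]

theorem charP_residueField' : CharP (ResidueField R) p :=
  (CharP.charP_iff_prime_eq_zero hp.out).mpr
    (by rw [← map_natCast (residue R) p, CharP.cast_eq_zero, map_zero])

/-- the bi-additive map `(a, m) ↦ a ^ p ⊗ T m` -/
noncomputable def tbarAux [CharP (ResidueField R) p] (T : M →+ M) :
    ResidueField R →+ M →+ ResidueField R ⊗[R] M where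
  toFun a :=
    { toFun := fun m => (a ^ p) ⊗ₜ[R] (T m)
      map_zero' := by simp
      map_add' := fun x y => by rw [map_add, tmul_add] }
  map_zero' := by
    ext m
    simp [zero_pow hp.out.ne_zero]
  map_add' a b := by
    ext m
    simp [add_pow_char, add_tmul]

/-- the induced map on `κ ⊗ M` -/
noncomputable def tbarAdd [CharP (ResidueField R) p] (T : M →+ M)
    (hT : ∀ (r : R) (m : M), T (r • m) = r ^ p • T m) :
    ResidueField R ⊗[R] M →+ ResidueField R ⊗[R] M :=
  liftAddHom (tbarAux p T) (by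
    intro r a m
    change ((r • a) ^ p) ⊗ₜ[R] (T m) = (a ^ p) ⊗ₜ[R] (T (r • m))
    rw [hT, tmul_smul, smul_pow, smul_tmul'])

theorem tbarAdd_tmul [CharP (ResidueField R) p] (T : M →+ M)
    (hT : ∀ (r : R) (m : M), T (r • m) = r ^ p • T m) (a : ResidueField R) (m : M) :
    tbarAdd p T hT (a ⊗ₜ m) = (a ^ p) ⊗ₜ[R] (T m) := rfl

/-- the induced semilinear map on `κ ⊗ M` -/
noncomputable def tbar [CharP (ResidueField R) p] (T : M →+ M)
    (hT : ∀ (r : R) (m : M), T (r • m) = r ^ p • T m) :
    ResidueField R ⊗[R] M →ₛₗ[frobenius (ResidueField R) p] ResidueField R ⊗[R] M where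
  toFun := tbarAdd p T hT
  map_add' := map_add _
  map_smul' c z := by
    induction z using TensorProduct.induction_on with
    | zero => simp
    | tmul a m =>
      rw [smul_tmul', tbarAdd_tmul, tbarAdd_tmul, smul_eq_mul, mul_pow, frobenius_def,
        smul_tmul', smul_eq_mul]
    | add x y hx hy => rw [smul_add, map_add, hx, hy, map_add, smul_add]

theorem tbar_tmul [CharP (ResidueField R) p] (T : M →+ M)
    (hT : ∀ (r : R) (m : M), T (r • m) = r ^ p • T m) (a : ResidueField R) (m : M) :
    tbar p T hT (a ⊗ₜ m) = (a ^ p) ⊗ₜ[R] (T m) := rfl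

omit hp [CharP R p] in
theorem one_tmul_eq_zero_iff (m : M) :
    ((1 : ResidueField R) ⊗ₜ[R] m = 0) ↔ m ∈ (maximalIdeal R) • (⊤ : Submodule R M) := by
  have h := quotTensorEquivQuotSMul_mk_one_tmul (M := M) (maximalIdeal R) m
  constructor
  · intro h0
    have h1 : quotTensorEquivQuotSMul M (maximalIdeal R) ((1 : R ⧸ maximalIdeal R) ⊗ₜ[R] m) = 0 := by
      have : ((1 : R ⧸ maximalIdeal R) ⊗ₜ[R] m) = 0 := h0
      rw [this, map_zero]
    rw [h] at h1
    exact (Submodule.Quotient.mk_eq_zero _).mp h1
  · intro hm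
    have h1 : quotTensorEquivQuotSMul M (maximalIdeal R) ((1 : R ⧸ maximalIdeal R) ⊗ₜ[R] m) = 0 := by
      rw [h]
      exact (Submodule.Quotient.mk_eq_zero _).mpr hm
    exact (quotTensorEquivQuotSMul M (maximalIdeal R)).map_eq_zero_iff.mp h1

theorem main_bijective [IsNoetherianRing R] [IsSepClosed (ResidueField R)] [Module.Finite R M]
    (T : M →+ M) (hT : ∀ (r : R) (m : M), T (r • m) = r ^ p • T m)
    (hbij : Function.Bijective T) :
    Function.Surjective (fun m => T m - m) ∧
      Nat.card {m : M // T m = m} =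
        p ^ Module.finrank (ResidueField R) (ResidueField R ⊗[R] M) := by
  classical
  haveI : CharP (ResidueField R) p := charP_residueField' p
  let κ := ResidueField R
  let Tκ := tbar p T hT
  let ψ : M → κ ⊗[R] M := fun m => (1 : κ) ⊗ₜ[R] m
  have hψadd : ∀ x y, ψ (x + y) = ψ x + ψ y := fun x y => tmul_add _ _ _
  have hψsub : ∀ x y, ψ (x - y) = ψ x - ψ y := fun x y => tmul_sub _ _ _
  have hψT : ∀ m, Tκ (ψ m) = ψ (T m) := fun m => by
    change tbar p T hT ((1 : κ) ⊗ₜ[R] m) = _
    rw [tbar_tmul, one_pow]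
  have hspan : span κ (Set.range Tκ) = ⊤ := by
    rw [eq_top_iff]
    rintro z -
    induction z using TensorProduct.induction_on with
    | zero => exact Submodule.zero_mem _
    | tmul a m =>
      obtain ⟨m', rfl⟩ := hbij.2 m
      have : a ⊗ₜ[R] (T m') = a • Tκ (ψ m') := by
        rw [hψT, smul_tmul', smul_eq_mul, mul_one]
      rw [this]
      exact Submodule.smul_mem _ _ (subset_span ⟨_, rfl⟩)
    | add x y hx hy => exact Submodule.add_mem _ hx hy
  have hinj := injective_of_span p Tκ hspan
  have hsurj := surjective_sub_id p Tκ hspan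
  have hcard := card_fixed p Tκ hspan
  -- `𝔪 M = 0`
  let N : Submodule R M := (maximalIdeal R) • (⊤ : Submodule R M)
  have ha : ∀ y, T y ∈ N → y ∈ N := by
    intro y hy
    rw [← one_tmul_eq_zero_iff] at hy ⊢
    have : Tκ (ψ y) = 0 := by rw [hψT]; exact hy
    exact hinj (this.trans (map_zero Tκ).symm)
  have hb : ∀ y ∈ N, T y ∈ (maximalIdeal R) • N := by
    intro y hy
    refine Submodule.smul_induction_on hy ?_ ?_
    · intro r hr n _
      rw [hT]
      have : r ^ p • T n = r ^ (p - 1) • (r • T n) := by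
        rw [smul_smul, ← pow_succ, Nat.sub_add_cancel hp.out.one_le]
      rw [this]
      exact Submodule.smul_mem_smul
        (Ideal.pow_mem_of_mem _ hr _ (Nat.sub_pos_of_lt hp.out.one_lt))
        (Submodule.smul_mem_smul hr Submodule.mem_top)
    · intro x y hx hy
      rw [map_add]
      exact Submodule.add_mem _ hx hy
  have hN : N = ⊥ := by
    apply Submodule.eq_bot_of_le_smul_of_le_jacobson_bot (maximalIdeal R) N
    · exact IsNoetherian.noetherian N
    · intro x hx
      obtain ⟨y, rfl⟩ := hbij.2 x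
      exact hb y (ha y hx)
    · exact (jacobson_eq_maximalIdeal ⊥ bot_ne_top).ge
  have hψinj : Function.Injective ψ := by
    intro x y hxy
    have h1 : ψ (x - y) = 0 := by rw [hψsub, hxy, sub_self]
    have h2 : x - y ∈ N := (one_tmul_eq_zero_iff (x - y)).mp h1
    rw [hN, Submodule.mem_bot] at h2
    exact sub_eq_zero.mp h2
  have hψsurj : Function.Surjective ψ := by
    intro z
    induction z using TensorProduct.induction_on with
    | zero => exact ⟨0, tmul_zero _ _⟩
    | tmul a m =>
      obtain ⟨r, rfl⟩ := residue_surjective a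
      refine ⟨r • m, ?_⟩
      change (1 : κ) ⊗ₜ[R] (r • m) = _
      rw [tmul_smul, smul_tmul', Algebra.smul_def, mul_one]
      rfl
    | add x y hx hy =>
      obtain ⟨x', rfl⟩ := hx
      obtain ⟨y', rfl⟩ := hy
      exact ⟨x' + y', hψadd _ _⟩
  constructor
  · intro c
    obtain ⟨z, hz⟩ := hsurj (ψ c)
    obtain ⟨m, rfl⟩ := hψsurj z
    refine ⟨m, hψinj ?_⟩
    change ψ (T m - m) = ψ c
    rw [hψsub, ← hψT]
    exact hz
  · rw [← hcard]
    refine Nat.card_congr (Equiv.subtypeEquiv (Equiv.ofBijective ψ ⟨hψinj, hψsurj⟩) (fun m => ?_))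
    change T m = m ↔ Tκ (ψ m) = ψ m
    rw [hψT]
    exact ⟨fun h => by rw [h], fun h => hψinj h⟩

end

end Groth.Agent.H67.FrobFix
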