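import Groth.Agent.H67.GaGmTaylor
import Mathlib.Algebra.MvPolynomial.Expand
import Mathlib.Algebra.Polynomial.Expand
import Mathlib.Algebra.CharP.Lemmas
import Mathlib.Algebra.CharP.Algebra
import Mathlib.RingTheory.MvPolynomial.Basic

set_option autoImplicit false

universe u

namespace Groth.Agent.H67

open MvPolynomial

variable {R : Type u} [CommRing R]

/-- Composition of evaluations, for two variables. -/
theorem aeval_aeval_fin2 {σ : Type*} {B : Type*} [CommRing B] [Algebra R B]
    (t : Fin 2 → MvPolynomial σ R) (g : σ → B) (h : MvPolynomial (Fin 2) R) :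
    aeval g (aeval t h) = aeval ![aeval g (t 0), aeval g (t 1)] h := by
  rw [MvPolynomial.comp_aeval_apply]
  have e : (fun i => aeval g (t i)) = ![aeval g (t 0), aeval g (t 1)] := by
    funext i
    fin_cases i <;> rfl
  rw [e]

/-- Normalised symmetric multiplicative 2-cocycles of the additive group (in terms of points). -/
structure IsCoc (h : MvPolynomial (Fin 2) R) : Prop where
  norm : ∀ (B : Type u) [CommRing B] [Algebra R B] (x : B), aeval ![x, 0] h = 1
  symm : ∀ (B : Type u) [CommRing B] [Algebra R B] (x y : B), aeval ![y, x] h = aeval ![x, y] h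
  coc : ∀ (B : Type u) [CommRing B] [Algebra R B] (x y z : B),
    aeval ![y, z] h * aeval ![x, y + z] h = aeval ![x + y, z] h * aeval ![x, y] h

theorem isCoc_of_univ (h : MvPolynomial (Fin 2) R)
    (h0 : aeval ![(X 0 : MvPolynomial (Fin 2) R), 0] h = 1)
    (hsymm : aeval ![(X 1 : MvPolynomial (Fin 2) R), X 0] h = h)
    (hcoc : aeval ![(X 1 : MvPolynomial (Fin 3) R), X 2] h * aeval ![X 0, X 1 + X 2] h =
      aeval ![X 0 + X 1, X 2] h * aeval ![X 0, X 1] h) : IsCoc h := by
  refine ⟨?_, ?_, ?_⟩
  · intro B _ _ x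
    have := congrArg (aeval ![x, (0 : B)]) h0
    rw [aeval_aeval_fin2] at this
    simpa using this
  · intro B _ _ x y
    have := congrArg (aeval ![x, y]) hsymm
    rw [aeval_aeval_fin2] at this
    simpa using this
  · intro B _ _ x y z
    have := congrArg (aeval ![x, y, z]) hcoc
    rw [map_mul, map_mul, aeval_aeval_fin2, aeval_aeval_fin2, aeval_aeval_fin2,
      aeval_aeval_fin2] at this
    simpa using this

theorem aeval_X_fin2 (h : MvPolynomial (Fin 2) R) :
    aeval ![(X 0 : MvPolynomial (Fin 2) R), X 1] h = h := by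
  have : (![(X 0 : MvPolynomial (Fin 2) R), X 1] : Fin 2 → MvPolynomial (Fin 2) R) = X := by
    funext i
    fin_cases i <;> rfl
  rw [this, aeval_X_left_apply]

theorem IsCoc.univ_norm {h : MvPolynomial (Fin 2) R} (hc : IsCoc h) :
    aeval ![(X 0 : MvPolynomial (Fin 2) R), 0] h = 1 := hc.norm _ _

theorem IsCoc.univ_symm {h : MvPolynomial (Fin 2) R} (hc : IsCoc h) :
    aeval ![(X 1 : MvPolynomial (Fin 2) R), X 0] h = h := by
  rw [hc.symm, aeval_X_fin2]

theorem IsCoc.univ_coc {h : MvPolynomial (Fin 2) R} (hc : IsCoc h) :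
    aeval ![(X 1 : MvPolynomial (Fin 3) R), X 2] h * aeval ![X 0, X 1 + X 2] h =
      aeval ![X 0 + X 1, X 2] h * aeval ![X 0, X 1] h := hc.coc _ _ _ _

/-- Existence of a group theoretic section. -/
def Splits (h : MvPolynomial (Fin 2) R) : Prop :=
  ∃ f : Polynomial R, IsUnit f ∧
    Polynomial.aeval (X 0 + X 1 : MvPolynomial (Fin 2) R) f =
      Polynomial.aeval (X 0 : MvPolynomial (Fin 2) R) f *
        Polynomial.aeval (X 1 : MvPolynomial (Fin 2) R) f * h

theorem splits_one : Splits (1 : MvPolynomial (Fin 2) R) :=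
  ⟨1, isUnit_one, by simp⟩

/-- Twisting a cocycle by a coboundary. -/
noncomputable def tw (h : MvPolynomial (Fin 2) R) (u v : Polynomial R) : MvPolynomial (Fin 2) R :=
  h * Polynomial.aeval (X 0 : MvPolynomial (Fin 2) R) u *
    Polynomial.aeval (X 1 : MvPolynomial (Fin 2) R) u *
      Polynomial.aeval (X 0 + X 1 : MvPolynomial (Fin 2) R) v

theorem aeval_tw (h : MvPolynomial (Fin 2) R) (u v : Polynomial R)
    {B : Type*} [CommRing B] [Algebra R B] (x y : B) :
    aeval ![x, y] (tw h u v) =
      aeval ![x, y] h * Polynomial.aeval x u * Polynomial.aeval y u *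
        Polynomial.aeval (x + y) v := by
  unfold tw
  rw [map_mul, map_mul, map_mul, ← Polynomial.aeval_algHom_apply, ← Polynomial.aeval_algHom_apply,
    ← Polynomial.aeval_algHom_apply]
  simp

theorem paeval_mul_eq_one {u v : Polynomial R} (huv : u * v = 1)
    {B : Type*} [CommRing B] [Algebra R B] (x : B) :
    Polynomial.aeval x u * Polynomial.aeval x v = 1 := by
  rw [← map_mul, huv, map_one]

theorem IsCoc.tw {h : MvPolynomial (Fin 2) R} (hc : IsCoc h) {u v : Polynomial R}
    (huv : u * v = 1) (hu0 : u.coeff 0 = 1) : IsCoc (tw h u v) := by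
  refine ⟨?_, ?_, ?_⟩
  · intro B _ _ x
    rw [aeval_tw, hc.norm, add_zero, ← Polynomial.coeff_zero_eq_aeval_zero', hu0, map_one, one_mul,
      mul_one, paeval_mul_eq_one huv]
  · intro B _ _ x y
    rw [aeval_tw, aeval_tw, hc.symm, add_comm y x]
    ring
  · intro B _ _ x y z
    rw [aeval_tw, aeval_tw, aeval_tw, aeval_tw, add_assoc x y z]
    have E0 := hc.coc B x y z
    have E1 := paeval_mul_eq_one huv (y + z)
    have E2 := paeval_mul_eq_one huv (x + y)
    linear_combination
      (Polynomial.aeval x u * Polynomial.aeval y u * Polynomial.aeval z u *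
        Polynomial.aeval (x + (y + z)) v * (Polynomial.aeval (y + z) u *
          Polynomial.aeval (y + z) v)) * E0 +
      (aeval ![x + y, z] h * aeval ![x, y] h * Polynomial.aeval x u * Polynomial.aeval y u *
        Polynomial.aeval z u * Polynomial.aeval (x + (y + z)) v) * E1 -
      (aeval ![x + y, z] h * aeval ![x, y] h * Polynomial.aeval x u * Polynomial.aeval y u *
        Polynomial.aeval z u * Polynomial.aeval (x + (y + z)) v) * E2

theorem splits_of_tw {h : MvPolynomial (Fin 2) R} {u v : Polynomial R} (huv : u * v = 1)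
    (hs : Splits (tw h u v)) : Splits h := by
  obtain ⟨f, hf, hmul⟩ := hs
  refine ⟨f * u, hf.mul (IsUnit.of_mul_eq_one v huv), ?_⟩
  rw [map_mul, map_mul, map_mul, hmul]
  unfold tw
  have E := paeval_mul_eq_one huv (X 0 + X 1 : MvPolynomial (Fin 2) R)
  linear_combination
    (Polynomial.aeval (X 0 : MvPolynomial (Fin 2) R) f *
      Polynomial.aeval (X 1 : MvPolynomial (Fin 2) R) f * h *
      Polynomial.aeval (X 0 : MvPolynomial (Fin 2) R) u *
      Polynomial.aeval (X 1 : MvPolynomial (Fin 2) R) u) * E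

section Expand

variable (p : ℕ) [hp : Fact p.Prime] [CharP R p]

theorem expand_aeval_fin2 {σ : Type*} (t : Fin 2 → MvPolynomial σ R)
    (ht : ∀ i, expand p (t i) = t i ^ p) (h₁ : MvPolynomial (Fin 2) R) :
    expand p (aeval t h₁) = aeval t (expand p h₁) := by
  rw [MvPolynomial.comp_aeval_apply, aeval_expand]
  have e : (fun i => expand p (t i)) = t ^ p := by
    funext i
    rw [ht i]
    rfl
  rw [e]

theorem IsCoc.of_expand {h₁ : MvPolynomial (Fin 2) R} (hc : IsCoc (expand p h₁)) : IsCoc h₁ := by
  have hp0 : 0 < p := hp.out.pos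
  have hpne : p ≠ 0 := hp0.ne'
  apply isCoc_of_univ
  · apply expand_injective (σ := Fin 2) (R := R) hp0
    rw [expand_aeval_fin2 p, hc.univ_norm, map_one]
    intro i
    fin_cases i
    · simp
    · simp [hpne]
  · apply expand_injective (σ := Fin 2) (R := R) hp0
    rw [expand_aeval_fin2 p, hc.univ_symm]
    intro i
    fin_cases i <;> simp
  · apply expand_injective (σ := Fin 3) (R := R) hp0
    rw [map_mul, map_mul, expand_aeval_fin2 p, expand_aeval_fin2 p, expand_aeval_fin2 p,
      expand_aeval_fin2 p, hc.univ_coc]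
    all_goals
      intro i
      fin_cases i <;> simp [add_pow_char]

theorem splits_expand {h₁ : MvPolynomial (Fin 2) R} (hs : Splits h₁) : Splits (expand p h₁) := by
  obtain ⟨f, hf, hmul⟩ := hs
  refine ⟨Polynomial.expand R p f, hf.map (Polynomial.expand R p), ?_⟩
  have e : ∀ t : MvPolynomial (Fin 2) R, expand p t = t ^ p →
      Polynomial.aeval t (Polynomial.expand R p f) = expand p (Polynomial.aeval t f) := by
    intro t ht
    rw [Polynomial.expand_aeval, ← ht, Polynomial.aeval_algHom_apply]
  rw [e _ (by simp [add_pow_char]), e _ (by simp), e _ (by simp), hmul, map_mul, map_mul]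

end Expand

end Groth.Agent.H67
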