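import Groth.Agent.H67.GaGmDeriv
import Groth.Agent.H67.CharPChar3

set_option autoImplicit false

universe u

namespace Groth.Agent.H67

open MvPolynomial TrivSqZeroExt DualNumber

variable {R : Type u} [CommRing R]

theorem coeff_aeval_X_zero (q : MvPolynomial (Fin 2) R) (i : ℕ) :
    (aeval ![(Polynomial.X : Polynomial R), 0] q).coeff i = coeff (Finsupp.single 0 i) q := by
  classical
  induction q using MvPolynomial.induction_on' with
  | add f g hf hg => rw [map_add, Polynomial.coeff_add, hf, hg, coeff_add]
  | monomial s a =>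
    rw [aeval_monomial, Finsupp.prod_pow, Fin.prod_univ_two, coeff_monomial]
    simp only [Matrix.cons_val_zero, Matrix.cons_val_one, Polynomial.algebraMap_eq]
    by_cases h1 : s 1 = 0
    · rw [h1, pow_zero, mul_one, Polynomial.coeff_C_mul, Polynomial.coeff_X_pow]
      by_cases h0 : i = s 0
      · have : s = Finsupp.single 0 i := by
          ext k
          fin_cases k
          · simp [h0]
          · simp [h1]
        rw [if_pos h0, if_pos this, mul_one]
      · have : ¬ s = Finsupp.single 0 i := by
          intro hs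
          apply h0
          rw [hs]
          simp
        rw [if_neg h0, if_neg this, mul_zero]
    · have : ¬ s = Finsupp.single 0 i := by
        intro hs
        apply h1
        rw [hs]
        simp
      rw [zero_pow h1, mul_zero, mul_zero, Polynomial.coeff_zero, if_neg this]

theorem coeff_G (h : MvPolynomial (Fin 2) R) (i : ℕ) :
    (G h).coeff i = coeff (Finsupp.single 0 i + Finsupp.single 1 1) h := by
  unfold G
  rw [coeff_aeval_X_zero, coeff_pderiv]
  simp

theorem IsCoc.coeff_zero {h : MvPolynomial (Fin 2) R} (hc : IsCoc h) : coeff 0 h = 1 := by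
  have := hc.norm R (0 : R)
  have e : (![(0 : R), 0] : Fin 2 → R) = 0 := by
    funext i
    fin_cases i <;> rfl
  rw [e, aeval_zero, constantCoeff_eq] at this
  simpa using this

theorem IsCoc.G_coeff_zero {h : MvPolynomial (Fin 2) R} (hc : IsCoc h) : (G h).coeff 0 = 0 := by
  have E1 := hc.symm (DualNumber R) (inl 0) ε
  have E2 := hc.norm (DualNumber R) (ε : DualNumber R)
  have e0 : (inl (0 : R) : DualNumber R) = 0 := inl_zero R
  rw [e0, E2] at E1
  have E' := congrArg TrivSqZeroExt.snd E1
  rw [dn_aeval_snd] at E'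
  simp only [fst_eps, snd_eps, TrivSqZeroExt.fst_zero, TrivSqZeroExt.snd_zero, zero_mul, one_mul,
    zero_add, TrivSqZeroExt.snd_one] at E'
  rw [Polynomial.coeff_zero_eq_aeval_zero, paeval_G]
  exact E'.symm

section Coeffs

theorem coeff_X0_add_X1_pow_poly (s : Fin 2 →₀ ℕ) (d : ℕ) :
    coeff s ((X 0 + X 1 : MvPolynomial (Fin 2) R) ^ d) =
      if d = s 0 + s 1 then (((d.choose (s 0) : ℕ) : R)) else 0 := by
  rw [← MvPolynomial.coeff_coe, MvPolynomial.coe_pow, MvPolynomial.coe_add, MvPolynomial.coe_X,
    MvPolynomial.coe_X]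
  conv_lhs => rw [fin2_eq_single_add s]
  exact coeff_X0_add_X1_pow (s 0) (s 1) d

theorem coeff_paeval_add (g : Polynomial R) (s : Fin 2 →₀ ℕ) :
    coeff s (Polynomial.aeval (X 0 + X 1 : MvPolynomial (Fin 2) R) g) =
      (((s 0 + s 1).choose (s 0) : ℕ) : R) * g.coeff (s 0 + s 1) := by
  rw [Polynomial.aeval_eq_sum_range' (n := g.natDegree + s 0 + s 1 + 1) (by omega), coeff_sum]
  simp only [coeff_smul, smul_eq_mul, coeff_X0_add_X1_pow_poly]
  rw [Finset.sum_eq_single (s 0 + s 1)]
  · rw [if_pos rfl, mul_comm]
  · intro k _ hk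
    rw [if_neg hk, mul_zero]
  · intro hn
    exact absurd (Finset.mem_range.2 (by omega)) hn

theorem coeff_paeval_X (j : Fin 2) (g : Polynomial R) (s : Fin 2 →₀ ℕ) :
    coeff s (Polynomial.aeval (X j : MvPolynomial (Fin 2) R) g) =
      if Finsupp.single j (s j) = s then g.coeff (s j) else 0 := by
  classical
  rw [Polynomial.aeval_eq_sum_range' (n := g.natDegree + s j + 1) (by omega), coeff_sum]
  simp only [coeff_smul, smul_eq_mul, coeff_X_pow]
  rw [Finset.sum_eq_single (s j)]
  · split_ifs <;> simp
  · intro k _ hk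
    rw [if_neg, mul_zero]
    intro hs
    apply hk
    rw [← hs]
    simp
  · intro hn
    exact absurd (Finset.mem_range.2 (by omega)) hn

end Coeffs

end Groth.Agent.H67
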