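import Groth.Agent.H67.GaGmCoeff

set_option autoImplicit false

universe u

namespace Groth.Agent.H67

open MvPolynomial

variable {R : Type u} [CommRing R]

section A1

variable (p : ℕ) [hp : Fact p.Prime] [CharP R p]

theorem choose_pred_eq_one {m : ℕ} (hdvd : p ∣ m + 1) (hm : p ≤ m) :
    ((m.choose (m - p + 1) : ℕ) : R) = 1 := by
  have hp1 : 1 ≤ p := hp.out.one_lt.le
  have hp2 : 1 < p := hp.out.one_lt
  have e1 : m - p + 1 = m - (p - 1) := by omega
  rw [e1, Nat.choose_symm (by omega)]
  have hl := Choose.choose_modEq_choose_mod_mul_choose_div_nat (p := p) (n := m) (k := p - 1)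
  obtain ⟨r, hr⟩ := hdvd
  have hr1 : 1 ≤ r := by
    rcases Nat.eq_zero_or_pos r with h | h
    · subst h; omega
    · exact h
  have hm' : m = (p - 1) + p * (r - 1) := by
    have : p * r = p * (r - 1) + p := by
      conv_lhs => rw [← Nat.sub_add_cancel hr1]
      ring
    omega
  have e2 : m % p = p - 1 := by
    rw [hm', Nat.add_mul_mod_self_left, Nat.mod_eq_of_lt (by omega)]
  have e3 : (p - 1) % p = p - 1 := Nat.mod_eq_of_lt (by omega)
  have e4 : (p - 1) / p = 0 := Nat.div_eq_of_lt (by omega)
  rw [e2, e3, e4, Nat.choose_self, Nat.choose_zero_right, mul_one] at hl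
  have := CharP.natCast_eq_natCast' R p hl
  rw [this, Nat.cast_one]

/-- The automatic vanishing of the obstruction in degrees divisible by `p` other than `p`. -/
theorem IsCoc.G_coeff_eq_zero_of_dvd {h : MvPolynomial (Fin 2) R} (hc : IsCoc h) {m : ℕ}
    (hlow : ∀ i < m, (G h).coeff i = 0) (hdvd : p ∣ m + 1) (hm : p ≤ m) :
    (G h).coeff m = 0 := by
  classical
  have hp1 : 1 ≤ p := hp.out.one_lt.le
  set n : Fin 2 →₀ ℕ := Finsupp.single 0 (m - p + 1) + Finsupp.single 1 (p - 1) with hn
  have hn0 : n 0 = m - p + 1 := by simp [hn]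
  have hn1 : n 1 = p - 1 := by simp [hn]
  have hD := congrArg (coeff n) hc.pderiv_one
  rw [coeff_pderiv, hn1] at hD
  have hpz : (((p - 1 : ℕ) : R) + 1) = 0 := by
    rw [← Nat.cast_succ, Nat.succ_eq_add_one, Nat.sub_add_cancel hp1]
    exact CharP.cast_eq_zero R p
  rw [hpz, mul_zero, coeff_mul] at hD
  rw [Finset.sum_eq_single (0, n)] at hD
  · rw [hc.coeff_zero, one_mul, coeff_sub, coeff_paeval_add, coeff_paeval_X, hn0, hn1] at hD
    have e1 : m - p + 1 + (p - 1) = m := by omega
    rw [e1, if_neg, sub_zero, choose_pred_eq_one p hdvd hm, one_mul] at hD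
    · exact hD.symm
    · intro hs
      have := DFunLike.congr_fun hs 0
      rw [hn0] at this
      simp at this
  · rintro ⟨i, j⟩ hij hne
    rw [Finset.mem_antidiagonal] at hij
    simp only at hij
    have h0 := DFunLike.congr_fun hij 0
    have h1 := DFunLike.congr_fun hij 1
    rw [Finsupp.add_apply, hn0] at h0
    rw [Finsupp.add_apply, hn1] at h1
    have hlt : j 0 + j 1 < m := by
      by_contra hge
      apply hne
      have hi0 : i 0 = 0 := by omega
      have hi1 : i 1 = 0 := by omega
      have hi : i = 0 := by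
        ext k
        fin_cases k
        · exact hi0
        · exact hi1
      rw [hi, zero_add] at hij
      rw [hi, hij]
    have : coeff j (Polynomial.aeval (X 0 + X 1 : MvPolynomial (Fin 2) R) (G h) -
        Polynomial.aeval (X 1 : MvPolynomial (Fin 2) R) (G h)) = 0 := by
      rw [coeff_sub, coeff_paeval_add, coeff_paeval_X, hlow _ hlt, mul_zero]
      split_ifs
      · rw [hlow _ (by omega), sub_zero]
      · rw [sub_zero]
    simp only
    rw [this, mul_zero]
  · intro hn'
    exfalso
    apply hn'
    rw [Finset.mem_antidiagonal]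
    simp

end A1

section A2

variable (p : ℕ) [hp : Fact p.Prime] [CharP R p]

theorem exists_expand_of_pderiv_eq_zero {σ : Type*} (q : MvPolynomial σ R)
    (hq : ∀ i, pderiv i q = 0) : ∃ q₁ : MvPolynomial σ R, q = expand p q₁ := by
  classical
  have hdvd : ∀ s ∈ q.support, ∀ i, p ∣ s i := by
    intro s hs i
    by_contra hnd
    have hsi : s i ≠ 0 := by
      intro h0
      apply hnd
      rw [h0]
      exact dvd_zero p
    have hD := congrArg (coeff (s - Finsupp.single i 1)) (hq i)
    rw [coeff_pderiv, coeff_zero] at hD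
    have e1 : s - Finsupp.single i 1 + Finsupp.single i 1 = s := by
      ext k
      by_cases hk : k = i
      · subst hk
        simp
        omega
      · simp [Finsupp.single_apply, Ne.symm hk]
    have e2 : (((s - Finsupp.single i 1 : σ →₀ ℕ) i : ℕ) : R) + 1 = ((s i : ℕ) : R) := by
      rw [← Nat.cast_succ]
      congr 1
      simp
      omega
    rw [e1, e2] at hD
    have hu : IsUnit ((s i : ℕ) : R) := by
      rw [CharP.isUnit_natCast_iff hp.out]
      exact hnd
    have := hu.mul_left_injective (a₁ := coeff s q) (a₂ := 0) (by simpa using hD)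
    exact (mem_support_iff.1 hs) this
  refine ⟨∑ s ∈ q.support, monomial (Finsupp.mapRange (· / p) (Nat.zero_div p) s) (coeff s q), ?_⟩
  rw [map_sum]
  conv_lhs => rw [q.as_sum]
  refine Finset.sum_congr rfl (fun s hs => ?_)
  rw [expand_monomial]
  have e : p • Finsupp.mapRange (· / p) (Nat.zero_div p) s = s := by
    ext i
    simp only [Finsupp.smul_apply, Finsupp.mapRange_apply, smul_eq_mul]
    exact Nat.mul_div_cancel' (hdvd s hs i)
  rw [e]

theorem IsCoc.exists_expand {h : MvPolynomial (Fin 2) R} (hc : IsCoc h) (hG : G h = 0) :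
    ∃ h₁ : MvPolynomial (Fin 2) R, h = expand p h₁ := by
  have h1 : pderiv 1 h = 0 := by
    rw [hc.pderiv_one, hG]
    simp
  have h0 : pderiv 0 h = 0 := by
    rw [hc.pderiv_zero, h1, map_zero]
  apply exists_expand_of_pderiv_eq_zero p
  intro i
  fin_cases i
  · exact h0
  · exact h1

end A2

end Groth.Agent.H67
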