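import Groth.Agent.H67.GaGmMain
import Mathlib.Algebra.CharP.Frobenius
import Mathlib.Algebra.MvPolynomial.Nilpotent

set_option autoImplicit false

universe u

namespace Groth.Agent.H67

open MvPolynomial

section Constr

variable (p : ℕ) [hp : Fact p.Prime] {R : Type u} [CommRing R] [CharP R p]

/-- The data used to build a weight family: finitely many nilpotent elements with degrees, and
compatible systems of `p`-power roots. -/
structure RootData (ι : Type) where
  T : Finset ι
  deg : ι → ℕ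
  θ : ι → ℕ → R
  θ_succ : ∀ s n, θ s (n + 1) ^ p = θ s n
  N : ℕ
  nil : ∀ s ∈ T, θ s 0 ^ N = 0

namespace RootData

variable {p} {ι : Type} (D : RootData p (R := R) ι)

theorem θ_add (s : ι) (n k : ℕ) : D.θ s (n + k) ^ p ^ k = D.θ s n := by
  induction k with
  | zero => simp
  | succ k ih =>
    rw [← add_assoc, pow_succ', pow_mul, D.θ_succ, ih]

/-- The generators of the weight `w` component. -/
def gen (w : ℕ) : Set R :=
  {x | ∃ (n : ℕ) (e : ι → ℕ), ∑ s ∈ D.T, e s * D.deg s = w * p ^ n ∧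
    x = ∏ s ∈ D.T, D.θ s n ^ e s}

theorem gen_mul {a b : ℕ} {x y : R} (hx : x ∈ D.gen a) (hy : y ∈ D.gen b) :
    x * y ∈ D.gen (a + b) := by
  obtain ⟨n, e, he, rfl⟩ := hx
  obtain ⟨n', e', he', rfl⟩ := hy
  refine ⟨n + n', fun s => p ^ n' * e s + p ^ n * e' s, ?_, ?_⟩
  · simp only [add_mul, Finset.sum_add_distrib, mul_assoc, ← Finset.mul_sum, he, he']
    rw [pow_add]
    ring
  · rw [← Finset.prod_mul_distrib]
    refine Finset.prod_congr rfl (fun s _ => ?_)
    rw [pow_add, pow_mul, pow_mul, D.θ_add s n n', add_comm n n', D.θ_add s n' n]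

theorem gen_root {w : ℕ} {x : R} (hx : x ∈ D.gen (p * w)) :
    ∃ y ∈ D.gen w, y ^ p = x := by
  obtain ⟨n, e, he, rfl⟩ := hx
  refine ⟨∏ s ∈ D.T, D.θ s (n + 1) ^ e s, ⟨n + 1, e, ?_, rfl⟩, ?_⟩
  · rw [he, pow_succ]
    ring
  · rw [← Finset.prod_pow]
    refine Finset.prod_congr rfl (fun s _ => ?_)
    rw [← pow_mul, mul_comm, pow_mul, D.θ_succ]

theorem gen_eq_zero {w : ℕ} {x : R} (hw : 1 + ∑ s ∈ D.T, D.N * D.deg s ≤ w) (hx : x ∈ D.gen w) :
    x = 0 := by
  obtain ⟨n, e, he, rfl⟩ := hx
  have hpn : 0 < p ^ n := pow_pos hp.out.pos n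
  have hex : ∃ s ∈ D.T, D.N * p ^ n ≤ e s := by
    by_contra hcon
    push Not at hcon
    have h1 : ∑ s ∈ D.T, e s * D.deg s ≤ ∑ s ∈ D.T, (D.N * p ^ n) * D.deg s :=
      Finset.sum_le_sum (fun s hs => Nat.mul_le_mul_right _ (hcon s hs).le)
    have h2 : ∑ s ∈ D.T, (D.N * p ^ n) * D.deg s = (∑ s ∈ D.T, D.N * D.deg s) * p ^ n := by
      rw [Finset.sum_mul]
      refine Finset.sum_congr rfl (fun s _ => ?_)
      ring
    have h3 : (1 + ∑ s ∈ D.T, D.N * D.deg s) * p ^ n ≤ w * p ^ n :=
      Nat.mul_le_mul_right _ hw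
    rw [add_mul, one_mul] at h3
    rw [he, h2] at h1
    omega
  obtain ⟨s, hs, hle⟩ := hex
  apply Finset.prod_eq_zero hs
  apply pow_eq_zero_of_le hle
  have := D.θ_add s 0 n
  rw [zero_add] at this
  rw [mul_comm, pow_mul, this]
  exact D.nil s hs

/-- The weight family built from root data. -/
def fam : WeightFam p R where
  J := fun w => AddSubgroup.closure (D.gen w)
  one_mem := by
    apply AddSubgroup.subset_closure
    exact ⟨0, fun _ => 0, by simp, by simp⟩
  mul_mem := fun {a b x y} hx hy => by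
    induction hx using AddSubgroup.closure_induction with
    | zero => rw [zero_mul]; exact AddSubgroup.zero_mem _
    | add x₁ x₂ _ _ h₁ h₂ => rw [add_mul]; exact AddSubgroup.add_mem _ h₁ h₂
    | neg x₁ _ h₁ => rw [neg_mul]; exact AddSubgroup.neg_mem _ h₁
    | mem x hxg =>
      induction hy using AddSubgroup.closure_induction with
      | zero => rw [mul_zero]; exact AddSubgroup.zero_mem _
      | add y₁ y₂ _ _ h₁ h₂ => rw [mul_add]; exact AddSubgroup.add_mem _ h₁ h₂
      | neg y₁ _ h₁ => rw [mul_neg]; exact AddSubgroup.neg_mem _ h₁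
      | mem y hyg => exact AddSubgroup.subset_closure (D.gen_mul hxg hyg)
  root := fun {w x} hx => by
    induction hx using AddSubgroup.closure_induction with
    | zero => exact ⟨0, AddSubgroup.zero_mem _, zero_pow hp.out.pos.ne'⟩
    | add x₁ x₂ _ _ h₁ h₂ =>
      obtain ⟨y₁, hy₁, e₁⟩ := h₁
      obtain ⟨y₂, hy₂, e₂⟩ := h₂
      refine ⟨y₁ + y₂, AddSubgroup.add_mem _ hy₁ hy₂, ?_⟩
      rw [add_pow_char, e₁, e₂]
    | neg x₁ _ h₁ =>
      obtain ⟨y₁, hy₁, e₁⟩ := h₁
      refine ⟨-y₁, AddSubgroup.neg_mem _ hy₁, ?_⟩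
      rw [← frobenius_def, map_neg, frobenius_def, e₁]
    | mem x hxg =>
      obtain ⟨y, hy, e⟩ := D.gen_root hxg
      exact ⟨y, AddSubgroup.subset_closure hy, e⟩
  bound := 1 + ∑ s ∈ D.T, D.N * D.deg s
  eq_zero := fun {w x} hw hx => by
    induction hx using AddSubgroup.closure_induction with
    | zero => rfl
    | add x₁ x₂ _ _ h₁ h₂ => rw [h₁, h₂, add_zero]
    | neg x₁ _ h₁ => rw [h₁, neg_zero]
    | mem x hxg => exact D.gen_eq_zero hw hxg

theorem θ_zero_mem [DecidableEq ι] {s : ι} (hs : s ∈ D.T) : D.θ s 0 ∈ D.fam.J (D.deg s) := by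
  apply AddSubgroup.subset_closure
  refine ⟨0, fun t => if t = s then 1 else 0, ?_, ?_⟩
  · simp only [ite_mul, one_mul, zero_mul, pow_zero, mul_one]
    rw [Finset.sum_ite_eq' D.T s, if_pos hs]
  · rw [Finset.prod_eq_single s]
    · simp
    · intro t _ hts
      simp [hts]
    · intro h
      exact absurd hs h

end RootData

end Constr

section Final

variable (p : ℕ) [hp : Fact p.Prime] {R : Type u} [CommRing R] [CharP R p]

theorem exists_weightFam (hF : Function.Surjective (frobenius R p))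
    (h : MvPolynomial (Fin 2) R) (hu : IsUnit h) (h0 : coeff 0 h = 1) :
    ∃ F : WeightFam p R, h ∈ F.W2 := by
  classical
  choose r hr using hF
  have hnil : ∀ s ∈ h.support.erase 0, IsNilpotent (coeff s h) := by
    intro s hs
    exact ((MvPolynomial.isUnit_iff.1 hu).2 s (Finset.ne_of_mem_erase hs))
  choose! ex hex using hnil
  have hN : ∀ s ∈ h.support.erase 0, coeff s h ^ (∑ t ∈ h.support.erase 0, ex t) = 0 := by
    intro s hs
    exact pow_eq_zero_of_le (Finset.single_le_sum (fun _ _ => Nat.zero_le _) hs) (hex s hs)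
  let D : RootData p (R := R) (Fin 2 →₀ ℕ) :=
    { T := h.support.erase 0
      deg := fun s => s 0 + s 1
      θ := fun s n => r^[n] (coeff s h)
      θ_succ := fun s n => by
        rw [Function.iterate_succ_apply', ← frobenius_def, hr]
      N := ∑ t ∈ h.support.erase 0, ex t
      nil := fun s hs => by simpa using hN s hs }
  refine ⟨D.fam, ?_⟩
  intro s
  by_cases hs0 : s = 0
  · subst hs0
    rw [h0]
    exact D.fam.one_mem
  · by_cases hs : s ∈ h.support
    · have hsT : s ∈ D.T := Finset.mem_erase.2 ⟨hs0, hs⟩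
      have := D.θ_zero_mem hsT
      simpa [D] using this
    · rw [notMem_support_iff.1 hs]
      exact AddSubgroup.zero_mem _

/-- Splitting of symmetric multiplicative cocycles of the additive group over a ring of
characteristic `p` with surjective Frobenius. -/
theorem splits_of_frobenius_surjective (hF : Function.Surjective (frobenius R p))
    (h : MvPolynomial (Fin 2) R) (hu : IsUnit h) (hc : IsCoc h) : Splits h := by
  obtain ⟨F, hF'⟩ := exists_weightFam p hF h hu hc.coeff_zero
  exact splits_of_weightFam F.bound F rfl h hc hF'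

end Final

end Groth.Agent.H67
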