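import Groth.Agent.H67.GaGmCoc
import Mathlib.Algebra.Polynomial.Derivative

set_option autoImplicit false

universe u

namespace Groth.Agent.H67

open MvPolynomial TrivSqZeroExt DualNumber

variable {R : Type u} [CommRing R]

/-- The logarithmic derivative along the second variable at the origin. -/
noncomputable def G (h : MvPolynomial (Fin 2) R) : Polynomial R :=
  aeval ![(Polynomial.X : Polynomial R), 0] (pderiv 1 h)

theorem paeval_G (h : MvPolynomial (Fin 2) R) {B : Type*} [CommRing B] [Algebra R B] (x : B) :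
    Polynomial.aeval x (G h) = aeval ![x, 0] (pderiv 1 h) := by
  unfold G
  have := MvPolynomial.comp_aeval_apply (R := R) ![(Polynomial.X : Polynomial R), 0]
    (Polynomial.aeval (R := R) x) (pderiv 1 h)
  rw [this]
  have e : (fun i => Polynomial.aeval (R := R) x (![(Polynomial.X : Polynomial R), 0] i)) =
      ![x, 0] := by
    funext i
    fin_cases i <;> simp
  rw [e]

/-- The differential equation satisfied by a cocycle. -/
theorem IsCoc.pderiv_one {h : MvPolynomial (Fin 2) R} (hc : IsCoc h) :
    pderiv 1 h = h * (Polynomial.aeval (X 0 + X 1 : MvPolynomial (Fin 2) R) (G h) -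
      Polynomial.aeval (X 1 : MvPolynomial (Fin 2) R) (G h)) := by
  have E := hc.coc (DualNumber (MvPolynomial (Fin 2) R)) (inl (X 0)) (inl (X 1)) ε
  have E' := congrArg TrivSqZeroExt.snd E
  rw [DualNumber.snd_mul, DualNumber.snd_mul, dn_aeval_fst, dn_aeval_fst, dn_aeval_fst,
    dn_aeval_fst, dn_aeval_snd, dn_aeval_snd, dn_aeval_snd, dn_aeval_snd] at E'
  simp only [fst_inl, snd_inl, fst_eps, snd_eps, fst_add, snd_add, zero_mul, one_mul, zero_add,
    add_zero] at E'
  rw [hc.norm, hc.norm, aeval_X_fin2, aeval_X_fin2, ← paeval_G, ← paeval_G] at E'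
  linear_combination E'

theorem IsCoc.pderiv_zero {h : MvPolynomial (Fin 2) R} (hc : IsCoc h) :
    pderiv 0 h = aeval ![(X 1 : MvPolynomial (Fin 2) R), X 0] (pderiv 1 h) := by
  have E := hc.symm (DualNumber (MvPolynomial (Fin 2) R)) (inl (X 0) + ε) (inl (X 1))
  have E' := congrArg TrivSqZeroExt.snd E
  rw [dn_aeval_snd, dn_aeval_snd] at E'
  simp only [fst_inl, snd_inl, fst_eps, snd_eps, fst_add, snd_add, zero_mul, one_mul, zero_add,
    add_zero] at E'
  rw [aeval_X_fin2] at E'
  exact E'.symm

theorem G_tw {h : MvPolynomial (Fin 2) R} (hc : IsCoc h) {u v : Polynomial R}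
    (huv : u * v = 1) (hu0 : u.coeff 0 = 1) :
    G (tw h u v) = G h + Polynomial.C ((Polynomial.derivative u).coeff 0) -
      Polynomial.derivative u * v := by
  have E := aeval_tw h u v (B := DualNumber (Polynomial R)) (inl Polynomial.X) ε
  have E' := congrArg TrivSqZeroExt.snd E
  rw [DualNumber.snd_mul, DualNumber.snd_mul, DualNumber.snd_mul, TrivSqZeroExt.fst_mul,
    TrivSqZeroExt.fst_mul, dn_aeval_snd, dn_aeval_snd, dn_aeval_fst, dn_paeval_fst, dn_paeval_fst,
    dn_paeval_fst, dn_paeval_snd, dn_paeval_snd, dn_paeval_snd] at E'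
  simp only [fst_inl, snd_inl, fst_eps, snd_eps, fst_add, snd_add, zero_mul, one_mul, zero_add,
    add_zero, Polynomial.aeval_X_left_apply, mul_zero] at E'
  rw [hc.norm, ← Polynomial.coeff_zero_eq_aeval_zero', ← Polynomial.coeff_zero_eq_aeval_zero',
    hu0, map_one] at E'
  have e1 : aeval ![(Polynomial.X : Polynomial R), 0] (pderiv 1 (tw h u v)) = G (tw h u v) := rfl
  have e2 : aeval ![(Polynomial.X : Polynomial R), 0] (pderiv 1 h) = G h := rfl
  rw [e1, e2] at E'
  have hd : Polynomial.derivative u * v + u * Polynomial.derivative v = 0 := by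
    have := congrArg Polynomial.derivative huv
    rw [Polynomial.derivative_mul, Polynomial.derivative_one] at this
    exact this
  rw [E']
  simp only [Polynomial.algebraMap_eq]
  linear_combination (G h + Polynomial.C ((Polynomial.derivative u).coeff 0)) * huv + hd

end Groth.Agent.H67
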