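import Groth.Agent.H67.GaGmWeights
import Mathlib.Data.Int.GCD

set_option autoImplicit false

universe u

namespace Groth.Agent.H67

open MvPolynomial

section Inv

variable (p : ℕ) [hp : Fact p.Prime] (R : Type u) [CommRing R] [CharP R p]

theorem exists_natCast_mul_eq_one {n : ℕ} (hn : ¬ p ∣ n) : ∃ k : ℕ, (k : R) * (n : R) = 1 := by
  have hcop : Nat.Coprime n p := ((Nat.Prime.coprime_iff_not_dvd hp.out).2 hn).symm
  obtain ⟨m, -, hm⟩ := Nat.exists_mul_mod_eq_one_of_coprime hcop hp.out.one_lt
  refine ⟨m, ?_⟩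
  rw [mul_comm, ← Nat.cast_mul]
  have : n * m ≡ 1 [MOD p] := by
    unfold Nat.ModEq
    rw [hm, Nat.mod_eq_of_lt hp.out.one_lt]
  rw [CharP.natCast_eq_natCast' R p this, Nat.cast_one]

end Inv

namespace WeightFam

variable {p : ℕ} [hp : Fact p.Prime] {R : Type u} [CommRing R] [CharP R p] (F : WeightFam p R)

/-- The Frobenius shift of a weight family. -/
def shift : WeightFam p R where
  J := fun w => F.J (p * w)
  one_mem := by simpa using F.one_mem
  mul_mem := fun {a b x y} hx hy => by
    rw [mul_add]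
    exact F.mul_mem hx hy
  root := fun {w x} hx => F.root hx
  bound := (F.bound + (p - 1)) / p
  eq_zero := fun {w x} hw hx => by
    refine F.eq_zero ?_ hx
    have hp0 : 0 < p := hp.out.pos
    have h1 := Nat.lt_mul_div_succ (F.bound + (p - 1)) hp0
    rw [Nat.mul_succ] at h1
    have h2 : p * ((F.bound + (p - 1)) / p) ≤ p * w := Nat.mul_le_mul_left _ hw
    omega

theorem shift_bound_lt (hb : 2 ≤ F.bound) : F.shift.bound < F.bound := by
  have hp0 : 0 < p := hp.out.pos
  have hp2 : 2 ≤ p := hp.out.two_le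
  change (F.bound + (p - 1)) / p < F.bound
  rw [Nat.div_lt_iff_lt_mul hp0]
  obtain ⟨b, hb'⟩ := Nat.exists_eq_add_of_le hb
  obtain ⟨q, hq⟩ := Nat.exists_eq_add_of_le hp2
  rw [hb', hq]
  have : (2 + b) * (2 + q) = 4 + 2 * q + 2 * b + b * q := by ring
  rw [this]
  have : 0 ≤ b * q := Nat.zero_le _
  omega

theorem W2_of_expand {h₁ : MvPolynomial (Fin 2) R} (hh : expand p h₁ ∈ F.W2) :
    h₁ ∈ F.shift.W2 := by
  intro s
  have := hh (p • s)
  rw [coeff_expand_smul p hp.out.pos.ne'] at this
  change coeff s h₁ ∈ F.J (p * (s 0 + s 1))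
  simpa [mul_add] using this

end WeightFam

section Step

variable {p : ℕ} [hp : Fact p.Prime] {R : Type u} [CommRing R] [CharP R p] (F : WeightFam p R)

theorem coeff_zero_of_mul_eq_one {u v : Polynomial R} (huv : u * v = 1) (hu0 : u.coeff 0 = 1) :
    v.coeff 0 = 1 := by
  have := congrArg (fun q => Polynomial.coeff q 0) huv
  simp only [Polynomial.mul_coeff_zero, hu0, one_mul, Polynomial.coeff_one_zero] at this
  exact this

theorem step_aux {h : MvPolynomial (Fin 2) R} {u v : Polynomial R}
    (huv : u * v = 1) (hu0 : u.coeff 0 = 1) (m : ℕ)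
    (hG : G (tw h u v) = G h - Polynomial.C ((G h).coeff m) * Polynomial.X ^ m * v)
    (hlow : ∀ i < m, (G h).coeff i = 0) : ∀ i < m + 1, (G (tw h u v)).coeff i = 0 := by
  intro i hi
  rw [hG, Polynomial.coeff_sub, mul_assoc, Polynomial.coeff_C_mul, Polynomial.coeff_X_pow_mul']
  by_cases him : i < m
  · rw [if_neg (by omega), mul_zero, sub_zero, hlow i him]
  · have : i = m := by omega
    subst this
    rw [if_pos le_rfl, Nat.sub_self, coeff_zero_of_mul_eq_one huv hu0, mul_one, sub_self]

/-- The twist killing a coefficient of `G` in a degree prime to `p`. -/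
theorem step_coprime {h : MvPolynomial (Fin 2) R} (hc : IsCoc h) (hh : h ∈ F.W2) {m : ℕ}
    (hm : 1 ≤ m) (hnd : ¬ p ∣ m + 1) (hlow : ∀ i < m, (G h).coeff i = 0) :
    ∃ u v : Polynomial R, u ∈ F.W1 ∧ v ∈ F.W1 ∧ u * v = 1 ∧ u.coeff 0 = 1 ∧
      ∀ i < m + 1, (G (tw h u v)).coeff i = 0 := by
  obtain ⟨k, hk⟩ := exists_natCast_mul_eq_one p R hnd
  set α : R := (k : R) * (G h).coeff m with hα
  have hαmem : α ∈ F.J (m + 1) := F.natCast_mul_mem (F.coeff_G_mem hh m) k
  set u : Polynomial R := 1 + Polynomial.C α * Polynomial.X ^ (m + 1) with hu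
  have huW : u ∈ F.W1 := by
    intro i
    rw [hu, Polynomial.coeff_add, Polynomial.coeff_C_mul_X_pow, Polynomial.coeff_one]
    by_cases hi0 : i = 0
    · subst hi0
      rw [if_pos rfl, if_neg (by omega), add_zero]
      exact F.one_mem
    · rw [if_neg hi0, zero_add]
      split_ifs with hi
      · rw [hi]; exact hαmem
      · exact (F.J i).zero_mem
  have hu0 : u.coeff 0 = 1 := by
    rw [hu, Polynomial.coeff_add, Polynomial.coeff_C_mul_X_pow, Polynomial.coeff_one_zero,
      if_neg (by omega), add_zero]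
  obtain ⟨v, hvW, huv⟩ := F.W1_exists_inv huW hu0
  refine ⟨u, v, huW, hvW, huv, hu0, step_aux huv hu0 m ?_ hlow⟩
  rw [G_tw hc huv hu0]
  have hder : Polynomial.derivative u = Polynomial.C ((G h).coeff m) * Polynomial.X ^ m := by
    rw [hu, Polynomial.derivative_add, Polynomial.derivative_one, zero_add,
      Polynomial.derivative_C_mul_X_pow, Nat.add_sub_cancel]
    congr 2
    rw [hα]
    calc (k : R) * (G h).coeff m * ((m + 1 : ℕ) : R)
        = ((k : R) * ((m + 1 : ℕ) : R)) * (G h).coeff m := by ring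
      _ = (G h).coeff m := by rw [hk, one_mul]
  rw [hder]
  have : (Polynomial.C ((G h).coeff m) * Polynomial.X ^ m).coeff 0 = 0 := by
    rw [Polynomial.coeff_C_mul_X_pow, if_neg (by omega)]
  rw [this, map_zero, add_zero]

/-- The twist killing the coefficient of `G` in degree `p - 1`, using a `p`-th root. -/
theorem step_p {h : MvPolynomial (Fin 2) R} (hc : IsCoc h) (hh : h ∈ F.W2) {m : ℕ}
    (hmp : m + 1 = p) (hlow : ∀ i < m, (G h).coeff i = 0) :
    ∃ u v : Polynomial R, u ∈ F.W1 ∧ v ∈ F.W1 ∧ u * v = 1 ∧ u.coeff 0 = 1 ∧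
      ∀ i < m + 1, (G (tw h u v)).coeff i = 0 := by
  classical
  have hp1 : 1 < p := hp.out.one_lt
  -- inverses of factorials
  have hex : ∀ j : ℕ, ∃ k : ℕ, j < p → (k : R) * ((j.factorial : ℕ) : R) = 1 := by
    intro j
    by_cases hj : j < p
    · obtain ⟨k, hk⟩ := exists_natCast_mul_eq_one p R
        (n := j.factorial) (fun hd => absurd ((Nat.Prime.dvd_factorial hp.out).1 hd) (not_le.2 hj))
      exact ⟨k, fun _ => hk⟩
    · exact ⟨0, fun h' => absurd h' hj⟩
  choose kf hkf using hex
  -- the p-th root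
  have hgmem : -(((m.factorial : ℕ) : R) * (G h).coeff m) ∈ F.J (p * 1) := by
    have e : p * 1 = m + 1 := by omega
    rw [e]
    exact (F.J _).neg_mem (F.natCast_mul_mem (F.coeff_G_mem hh m) _)
  obtain ⟨μ, hμmem, hμ⟩ := F.root hgmem
  obtain ⟨c, hc'⟩ : ∃ c : ℕ → R, c = fun j => (kf j : R) * μ ^ j := ⟨_, rfl⟩
  set u : Polynomial R := ∑ j ∈ Finset.range p, Polynomial.C (c j) * Polynomial.X ^ j with hu
  have hucoeff : ∀ i, u.coeff i = if i < p then c i else 0 := by
    intro i
    rw [hu, Polynomial.finset_sum_coeff]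
    simp only [Polynomial.coeff_C_mul_X_pow]
    rw [Finset.sum_ite_eq]
    simp only [Finset.mem_range]
  have hc0 : c 0 = 1 := by
    have := hkf 0 (by omega)
    simp only [Nat.factorial_zero, Nat.cast_one, mul_one] at this
    simp only [hc', pow_zero, mul_one, this]
  have hc1 : c 1 = μ := by
    have := hkf 1 hp1
    simp only [Nat.factorial_one, Nat.cast_one, mul_one] at this
    simp only [hc', pow_one, this, one_mul]
  have huW : u ∈ F.W1 := by
    intro i
    rw [hucoeff]
    split_ifs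
    · have := F.natCast_mul_mem (F.pow_mem hμmem i) (kf i)
      rw [mul_one] at this
      rw [hc']
      exact this
    · exact (F.J i).zero_mem
  have hu0 : u.coeff 0 = 1 := by
    rw [hucoeff, if_pos (by omega), hc0]
  obtain ⟨v, hvW, huv⟩ := F.W1_exists_inv huW hu0
  refine ⟨u, v, huW, hvW, huv, hu0, step_aux huv hu0 m ?_ hlow⟩
  rw [G_tw hc huv hu0]
  -- the derivative of the truncated exponential
  have hkstep : ∀ i, i + 1 < p → (kf (i + 1) : R) * ((i + 1 : ℕ) : R) = (kf i : R) := by
    intro i hi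
    have h1 := hkf (i + 1) hi
    have h2 := hkf i (by omega)
    rw [Nat.factorial_succ, Nat.cast_mul] at h1
    calc (kf (i + 1) : R) * ((i + 1 : ℕ) : R)
        = ((kf (i + 1) : R) * ((i + 1 : ℕ) : R)) * ((kf i : R) * ((i.factorial : ℕ) : R)) := by
          rw [h2, mul_one]
      _ = ((kf (i + 1) : R) * (((i + 1 : ℕ) : R) * ((i.factorial : ℕ) : R))) * (kf i : R) := by
          ring
      _ = (kf i : R) := by rw [h1, one_mul]
  have hder : Polynomial.derivative u =
      Polynomial.C μ * (u - Polynomial.C (c m) * Polynomial.X ^ m) := by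
    ext i
    rw [Polynomial.coeff_derivative, Polynomial.coeff_C_mul, Polynomial.coeff_sub,
      Polynomial.coeff_C_mul_X_pow, hucoeff, hucoeff]
    by_cases hi : i + 1 < p
    · rw [if_pos hi, if_pos (by omega), if_neg (by omega), sub_zero]
      simp only [hc']
      have := hkstep i hi
      rw [← this]
      push_cast
      ring
    · rw [if_neg hi]
      by_cases hi' : i < p
      · have him : i = m := by omega
        rw [if_pos hi', if_pos him, him, sub_self, mul_zero, zero_mul]
      · rw [if_neg hi', if_neg (by omega), sub_self, mul_zero, zero_mul]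
  have hd0 : (Polynomial.derivative u).coeff 0 = μ := by
    rw [Polynomial.coeff_derivative, hucoeff, if_pos (by omega), hc1]
    simp
  have hμc : μ * c m = -(G h).coeff m := by
    simp only [hc']
    have h1 := hkf m (by omega)
    calc μ * ((kf m : R) * μ ^ m) = (kf m : R) * μ ^ (m + 1) := by ring
      _ = (kf m : R) * -(((m.factorial : ℕ) : R) * (G h).coeff m) := by rw [hmp, hμ]
      _ = -(((kf m : R) * ((m.factorial : ℕ) : R)) * (G h).coeff m) := by ring
      _ = -(G h).coeff m := by rw [h1, one_mul]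
  rw [hd0, hder]
  have e : Polynomial.C μ * (u - Polynomial.C (c m) * Polynomial.X ^ m) * v =
      Polynomial.C μ * (u * v) - Polynomial.C (μ * c m) * Polynomial.X ^ m * v := by
    rw [map_mul]
    ring
  rw [e, huv, hμc, map_neg]
  ring

/-- One step of the inner induction. -/
theorem step {h : MvPolynomial (Fin 2) R} (hc : IsCoc h) (hh : h ∈ F.W2) (m : ℕ)
    (hlow : ∀ i < m, (G h).coeff i = 0) :
    ∃ h' : MvPolynomial (Fin 2) R, IsCoc h' ∧ h' ∈ F.W2 ∧ (Splits h' → Splits h) ∧
      ∀ i < m + 1, (G h').coeff i = 0 := by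
  rcases Nat.eq_zero_or_pos m with hm0 | hm
  · subst hm0
    refine ⟨h, hc, hh, id, ?_⟩
    intro i hi
    have : i = 0 := by omega
    rw [this]
    exact hc.G_coeff_zero
  by_cases hnd : p ∣ m + 1
  · by_cases hpm : p ≤ m
    · refine ⟨h, hc, hh, id, ?_⟩
      intro i hi
      by_cases him : i < m
      · exact hlow i him
      · have : i = m := by omega
        rw [this]
        exact hc.G_coeff_eq_zero_of_dvd p hlow hnd hpm
    · have hmp : m + 1 = p := by
        have := Nat.le_of_dvd (by omega) hnd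
        omega
      obtain ⟨u, v, hu, hv, huv, hu0, hz⟩ := step_p F hc hh hmp hlow
      exact ⟨tw h u v, hc.tw huv hu0, F.W2_tw hh hu hv, splits_of_tw huv, hz⟩
  · obtain ⟨u, v, hu, hv, huv, hu0, hz⟩ := step_coprime F hc hh hm hnd hlow
    exact ⟨tw h u v, hc.tw huv hu0, F.W2_tw hh hu hv, splits_of_tw huv, hz⟩

theorem inner : ∀ (k m : ℕ) (h : MvPolynomial (Fin 2) R), IsCoc h → h ∈ F.W2 →
    m + k = F.bound → (∀ i < m, (G h).coeff i = 0) →
    ∃ h' : MvPolynomial (Fin 2) R, IsCoc h' ∧ h' ∈ F.W2 ∧ (Splits h' → Splits h) ∧ G h' = 0 := by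
  intro k
  induction k with
  | zero =>
    intro m h hc hh hmk hlow
    refine ⟨h, hc, hh, id, F.G_eq_zero_of_low hh (fun i hi => hlow i (by omega))⟩
  | succ k ih =>
    intro m h hc hh hmk hlow
    obtain ⟨h', hc', hh', hs', hz'⟩ := step F hc hh m hlow
    obtain ⟨h'', hc'', hh'', hs'', hz''⟩ := ih (m + 1) h' hc' hh' (by omega) hz'
    exact ⟨h'', hc'', hh'', fun hs => hs' (hs'' hs), hz''⟩

end Step

section Outer

variable {p : ℕ} [hp : Fact p.Prime] {R : Type u} [CommRing R] [CharP R p]

theorem splits_of_weightFam : ∀ (b : ℕ) (F : WeightFam p R), F.bound = b →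
    ∀ h : MvPolynomial (Fin 2) R, IsCoc h → h ∈ F.W2 → Splits h := by
  intro b
  induction b using Nat.strong_induction_on with
  | _ b ih =>
    intro F hb h hc hh
    by_cases hb1 : F.bound ≤ 1
    · rw [F.eq_one_of_bound_le_one hh hc.coeff_zero hb1]
      exact splits_one
    · obtain ⟨h', hc', hh', hs', hG'⟩ := inner F F.bound 0 h hc hh (by omega)
        (fun i hi => absurd hi (Nat.not_lt_zero i))
      obtain ⟨h₁, rfl⟩ := hc'.exists_expand p hG'
      apply hs'
      apply splits_expand p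
      exact ih F.shift.bound (by rw [← hb]; exact F.shift_bound_lt (by omega)) F.shift rfl h₁
        (hc'.of_expand p) (F.W2_of_expand hh')

end Outer

end Groth.Agent.H67
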