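import Mathlib.Algebra.MvPolynomial.PDeriv
import Mathlib.Algebra.MvPolynomial.CommRing
import Mathlib.Algebra.DualNumber
import Mathlib.Algebra.Polynomial.Taylor
import Mathlib.Algebra.Polynomial.AlgebraMap

set_option autoImplicit false

universe u v

namespace Groth.Agent.H67

open MvPolynomial

variable {R : Type u} [CommRing R]

/-- First order Taylor expansion of a multivariate polynomial along a square-zero element. -/
theorem mv_aeval_add_mul_eps {σ : Type*} [Fintype σ] [DecidableEq σ] (q : MvPolynomial σ R)
    {B : Type v} [CommRing B] [Algebra R B] (a b : σ → B) (ε : B) (hε : ε * ε = 0) :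
    aeval (fun i => a i + b i * ε) q =
      aeval a q + (∑ i, b i * aeval a (pderiv i q)) * ε := by
  induction q using MvPolynomial.induction_on with
  | C r => simp
  | add f g hf hg =>
    simp only [map_add, hf, hg, mul_add, Finset.sum_add_distrib, add_mul]
    ring
  | mul_X f j hf =>
    simp only [map_mul, aeval_X, hf, Derivation.leibniz, pderiv_X, smul_eq_mul, map_add]
    have h1 : ∀ x : σ, b x * ((aeval a) f * (aeval a) (Pi.single (M := fun _ => MvPolynomial σ R) x 1 j) +
        a j * (aeval a) ((pderiv x) f)) =
        (if x = j then b j * aeval a f else 0) + a j * (b x * aeval a (pderiv x f)) := by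
      intro x
      by_cases hxj : x = j
      · subst hxj
        simp
        ring
      · have : (Pi.single (M := fun _ => MvPolynomial σ R) x 1 j) = 0 := by
          simp [Pi.single_apply, Ne.symm hxj]
        rw [this, if_neg hxj]
        simp
        ring
    simp only [h1, Finset.sum_add_distrib, Finset.sum_ite_eq', Finset.mem_univ, if_true,
      ← Finset.mul_sum]
    have : (aeval a f + (∑ i, b i * aeval a (pderiv i f)) * ε) * (a j + b j * ε) =
        aeval a f * a j + (b j * aeval a f + a j * ∑ i, b i * aeval a (pderiv i f)) * ε +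
          (∑ i, b i * aeval a (pderiv i f)) * b j * (ε * ε) := by ring
    rw [this, hε, mul_zero, add_zero]

open TrivSqZeroExt DualNumber

variable {B : Type v} [CommRing B] [Algebra R B]

theorem dn_decomp (P : DualNumber B) : P = inl P.fst + inl P.snd * ε := by
  ext <;> simp

theorem dn_aeval_inl {σ : Type*} (q : MvPolynomial σ R) (a : σ → B) :
    aeval (fun i => (inl (a i) : DualNumber B)) q = inl (aeval a q) := by
  have := MvPolynomial.comp_aeval_apply (R := R) (σ := σ) a (TrivSqZeroExt.inlAlgHom R B B) q
  simpa using this.symm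

theorem dn_aeval (q : MvPolynomial (Fin 2) R) (P Q : DualNumber B) :
    aeval ![P, Q] q = inl (aeval ![P.fst, Q.fst] q) +
      inl (P.snd * aeval ![P.fst, Q.fst] (pderiv 0 q) +
        Q.snd * aeval ![P.fst, Q.fst] (pderiv 1 q)) * ε := by
  have h := mv_aeval_add_mul_eps q (B := DualNumber B)
    (fun i => inl (![P.fst, Q.fst] i)) (fun i => inl (![P.snd, Q.snd] i)) ε eps_mul_eps
  have e : (fun i => (inl (![P.fst, Q.fst] i) : DualNumber B) + inl (![P.snd, Q.snd] i) * ε) =
      ![P, Q] := by
    funext i
    fin_cases i
    · exact (dn_decomp P).symm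
    · exact (dn_decomp Q).symm
  rw [e] at h
  rw [h, dn_aeval_inl, Fin.sum_univ_two, dn_aeval_inl, dn_aeval_inl]
  simp

theorem dn_aeval_fst (q : MvPolynomial (Fin 2) R) (P Q : DualNumber B) :
    (aeval ![P, Q] q).fst = aeval ![P.fst, Q.fst] q := by
  rw [dn_aeval]; simp

theorem dn_aeval_snd (q : MvPolynomial (Fin 2) R) (P Q : DualNumber B) :
    (aeval ![P, Q] q).snd = P.snd * aeval ![P.fst, Q.fst] (pderiv 0 q) +
        Q.snd * aeval ![P.fst, Q.fst] (pderiv 1 q) := by
  rw [dn_aeval]; simp

theorem dn_paeval (u : Polynomial R) (P : DualNumber B) :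
    Polynomial.aeval P u = inl (Polynomial.aeval P.fst u) +
      inl (P.snd * Polynomial.aeval P.fst (Polynomial.derivative u)) * ε := by
  have h := Polynomial.aeval_add_of_sq_eq_zero u (inl P.fst : DualNumber B) (inl P.snd * ε)
    (by rw [mul_pow, eps_pow_two, mul_zero])
  rw [← dn_decomp] at h
  rw [h]
  have e1 : ∀ w : Polynomial R, Polynomial.aeval (inl P.fst : DualNumber B) w =
      inl (Polynomial.aeval P.fst w) := by
    intro w
    exact Polynomial.aeval_algHom_apply (TrivSqZeroExt.inlAlgHom R B B) P.fst w
  rw [e1, e1]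
  simp
  ring

theorem dn_paeval_fst (u : Polynomial R) (P : DualNumber B) :
    (Polynomial.aeval P u).fst = Polynomial.aeval P.fst u := by
  rw [dn_paeval]; simp

theorem dn_paeval_snd (u : Polynomial R) (P : DualNumber B) :
    (Polynomial.aeval P u).snd = P.snd * Polynomial.aeval P.fst (Polynomial.derivative u) := by
  rw [dn_paeval]; simp

end Groth.Agent.H67
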