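import Groth.Agent.H67.GaGmCoeff2
import Mathlib.RingTheory.Polynomial.Nilpotent
import Mathlib.Algebra.Ring.GeomSum

set_option autoImplicit false

universe u

namespace Groth.Agent.H67

open MvPolynomial

/-- A family of additive subgroups of a ring, behaving like the homogeneous components of a
graded ring of characteristic `p` concentrated in bounded degrees, with degreewise surjective
Frobenius. -/
structure WeightFam (p : ℕ) (R : Type u) [CommRing R] where
  J : ℕ → AddSubgroup R
  one_mem : (1 : R) ∈ J 0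
  mul_mem : ∀ {a b : ℕ} {x y : R}, x ∈ J a → y ∈ J b → x * y ∈ J (a + b)
  root : ∀ {w : ℕ} {x : R}, x ∈ J (p * w) → ∃ y ∈ J w, y ^ p = x
  bound : ℕ
  eq_zero : ∀ {w : ℕ} {x : R}, bound ≤ w → x ∈ J w → x = 0

namespace WeightFam

variable {p : ℕ} {R : Type u} [CommRing R] (F : WeightFam p R)

theorem pow_mem {a : ℕ} {x : R} (hx : x ∈ F.J a) (k : ℕ) : x ^ k ∈ F.J (k * a) := by
  induction k with
  | zero => simpa using F.one_mem
  | succ k ih =>
    rw [pow_succ, Nat.succ_mul]
    exact F.mul_mem ih hx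

theorem natCast_mul_mem {a : ℕ} {x : R} (hx : x ∈ F.J a) (n : ℕ) : (n : R) * x ∈ F.J a := by
  rw [← nsmul_eq_mul]
  exact AddSubgroup.nsmul_mem _ hx n

theorem isNilpotent_of_mem {a : ℕ} (ha : 0 < a) {x : R} (hx : x ∈ F.J a) : IsNilpotent x := by
  refine ⟨F.bound, F.eq_zero ?_ (F.pow_mem hx F.bound)⟩
  exact Nat.le_mul_of_pos_right _ ha

/-- Weighted polynomials in one variable. -/
def W1 : Subring (Polynomial R) where
  carrier := {q | ∀ i, q.coeff i ∈ F.J i}
  zero_mem' := fun i => by simp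
  one_mem' := fun i => by
    rw [Polynomial.coeff_one]
    split_ifs with h
    · subst h; exact F.one_mem
    · exact (F.J i).zero_mem
  add_mem' := fun {a b} ha hb i => by
    rw [Polynomial.coeff_add]
    exact (F.J i).add_mem (ha i) (hb i)
  neg_mem' := fun {a} ha i => by
    rw [Polynomial.coeff_neg]
    exact (F.J i).neg_mem (ha i)
  mul_mem' := fun {a b} ha hb i => by
    rw [Polynomial.coeff_mul]
    refine (F.J i).sum_mem (fun x hx => ?_)
    rw [Finset.mem_antidiagonal] at hx
    rw [← hx]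
    exact F.mul_mem (ha _) (hb _)

theorem mem_W1 {q : Polynomial R} : q ∈ F.W1 ↔ ∀ i, q.coeff i ∈ F.J i := Iff.rfl

/-- Weighted polynomials in two variables. -/
def W2 : Subring (MvPolynomial (Fin 2) R) where
  carrier := {q | ∀ s : Fin 2 →₀ ℕ, coeff s q ∈ F.J (s 0 + s 1)}
  zero_mem' := fun s => by simp
  one_mem' := fun s => by
    classical
    rw [MvPolynomial.coeff_one]
    split_ifs with h
    · subst h; exact F.one_mem
    · exact (F.J _).zero_mem
  add_mem' := fun {a b} ha hb s => by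
    rw [coeff_add]
    exact (F.J _).add_mem (ha s) (hb s)
  neg_mem' := fun {a} ha s => by
    rw [coeff_neg]
    exact (F.J _).neg_mem (ha s)
  mul_mem' := fun {a b} ha hb s => by
    classical
    rw [coeff_mul]
    refine (F.J _).sum_mem (fun x hx => ?_)
    rw [Finset.mem_antidiagonal] at hx
    have e : s 0 + s 1 = (x.1 0 + x.1 1) + (x.2 0 + x.2 1) := by
      rw [← hx]
      simp only [Finsupp.add_apply]
      omega
    rw [e]
    exact F.mul_mem (ha _) (hb _)

theorem mem_W2 {q : MvPolynomial (Fin 2) R} :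
    q ∈ F.W2 ↔ ∀ s : Fin 2 →₀ ℕ, coeff s q ∈ F.J (s 0 + s 1) := Iff.rfl

theorem W1_exists_inv {u : Polynomial R} (hu : u ∈ F.W1) (hu0 : u.coeff 0 = 1) :
    ∃ v ∈ F.W1, u * v = 1 := by
  have hr : 1 - u ∈ F.W1 := F.W1.sub_mem F.W1.one_mem hu
  have hnil : IsNilpotent (1 - u) := by
    rw [Polynomial.isNilpotent_iff]
    intro i
    rcases Nat.eq_zero_or_pos i with h | h
    · subst h
      rw [Polynomial.coeff_sub, Polynomial.coeff_one_zero, hu0, sub_self]
      exact IsNilpotent.zero
    · exact F.isNilpotent_of_mem h (hr i)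
  obtain ⟨M, hM⟩ := hnil
  refine ⟨∑ k ∈ Finset.range M, (1 - u) ^ k,
    F.W1.sum_mem (fun k _ => F.W1.pow_mem hr k), ?_⟩
  have := mul_neg_geom_sum (1 - u) M
  rw [hM, sub_zero, sub_sub_cancel] at this
  exact this

theorem W2_paeval_add {v : Polynomial R} (hv : v ∈ F.W1) :
    Polynomial.aeval (X 0 + X 1 : MvPolynomial (Fin 2) R) v ∈ F.W2 := by
  intro s
  rw [coeff_paeval_add]
  exact F.natCast_mul_mem (hv _) _

theorem W2_paeval_X0 {v : Polynomial R} (hv : v ∈ F.W1) :
    Polynomial.aeval (X 0 : MvPolynomial (Fin 2) R) v ∈ F.W2 := by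
  intro s
  rw [coeff_paeval_X]
  split_ifs with h
  · have h1 : s 1 = 0 := by
      have := DFunLike.congr_fun h 1
      simpa using this.symm
    rw [h1, add_zero]
    exact hv _
  · exact (F.J _).zero_mem

theorem W2_paeval_X1 {v : Polynomial R} (hv : v ∈ F.W1) :
    Polynomial.aeval (X 1 : MvPolynomial (Fin 2) R) v ∈ F.W2 := by
  intro s
  rw [coeff_paeval_X]
  split_ifs with h
  · have h0 : s 0 = 0 := by
      have := DFunLike.congr_fun h 0
      simpa using this.symm
    rw [h0, zero_add]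
    exact hv _
  · exact (F.J _).zero_mem

theorem W2_tw {h : MvPolynomial (Fin 2) R} (hh : h ∈ F.W2) {u v : Polynomial R}
    (hu : u ∈ F.W1) (hv : v ∈ F.W1) : tw h u v ∈ F.W2 := by
  unfold tw
  exact F.W2.mul_mem (F.W2.mul_mem (F.W2.mul_mem hh (F.W2_paeval_X0 hu)) (F.W2_paeval_X1 hu))
    (F.W2_paeval_add hv)

theorem coeff_G_mem {h : MvPolynomial (Fin 2) R} (hh : h ∈ F.W2) (i : ℕ) :
    (G h).coeff i ∈ F.J (i + 1) := by
  rw [coeff_G]
  have := hh (Finsupp.single 0 i + Finsupp.single 1 1)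
  simpa using this

theorem G_eq_zero_of_low {h : MvPolynomial (Fin 2) R} (hh : h ∈ F.W2)
    (hlow : ∀ i, i + 1 < F.bound → (G h).coeff i = 0) : G h = 0 := by
  ext i
  rw [Polynomial.coeff_zero]
  by_cases hi : i + 1 < F.bound
  · exact hlow i hi
  · exact F.eq_zero (not_lt.1 hi) (F.coeff_G_mem hh i)

theorem eq_one_of_bound_le_one {h : MvPolynomial (Fin 2) R} (hh : h ∈ F.W2)
    (h0 : coeff 0 h = 1) (hb : F.bound ≤ 1) : h = 1 := by
  classical
  ext s
  rw [MvPolynomial.coeff_one]
  split_ifs with hs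
  · rw [← hs, h0]
  · apply F.eq_zero _ (hh s)
    have : s 0 + s 1 ≠ 0 := by
      intro h01
      apply hs
      ext k
      fin_cases k
      · simp; omega
      · simp; omega
    omega

end WeightFam

end Groth.Agent.H67
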