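import Mathlib

/-!
# The Galois group acts transitively on the primes of `F ⊗[K] L`
-/

namespace Groth.Agent.H67.GalTensor

open TensorProduct

universe u

section action

variable (K F L : Type u) [Field K] [Field F] [Field L] [Algebra K F] [Algebra K L]

/-- the action of `Gal(L/K)` on `F ⊗[K] L` through the second factor, as a monoid hom -/
noncomputable def actHom : (L ≃ₐ[K] L) →* ((F ⊗[K] L) ≃ₐ[F] (F ⊗[K] L)) where
  toFun g := Algebra.TensorProduct.congr (AlgEquiv.refl : F ≃ₐ[F] F) g
  map_one' := by
    apply AlgEquiv.ext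
    intro x
    induction x using TensorProduct.induction_on with
    | zero => simp
    | tmul f l => simp
    | add x y hx hy => simp only [map_add, hx, hy]
  map_mul' g h := by
    apply AlgEquiv.ext
    intro x
    induction x using TensorProduct.induction_on with
    | zero => simp
    | tmul f l => simp
    | add x y hx hy => simp only [map_add, hx, hy]

@[simp]
theorem actHom_tmul (g : L ≃ₐ[K] L) (f : F) (l : L) :
    actHom K F L g (f ⊗ₜ[K] l) = f ⊗ₜ[K] g l := by
  simp [actHom]

theorem actHom_apply (g : L ≃ₐ[K] L) (t : F ⊗[K] L) :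
    actHom K F L g t =
      Algebra.TensorProduct.map (AlgHom.id K F) (g : L →ₐ[K] L) t := by
  induction t using TensorProduct.induction_on with
  | zero => simp
  | tmul f l => simp
  | add x y hx hy => simp only [map_add, hx, hy]

/-- the action of `Gal(L/K)` on `F ⊗[K] L` -/
noncomputable def act : MulSemiringAction (L ≃ₐ[K] L) (F ⊗[K] L) :=
  MulSemiringAction.compHom (F ⊗[K] L) (actHom K F L)

attribute [local instance] act

theorem smul_def (g : L ≃ₐ[K] L) (t : F ⊗[K] L) : g • t = actHom K F L g t := rfl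

theorem smul_tmul' (g : L ≃ₐ[K] L) (f : F) (l : L) :
    g • (f ⊗ₜ[K] l) = f ⊗ₜ[K] g l := by
  rw [smul_def, actHom_tmul]

instance smulCommClass : SMulCommClass (L ≃ₐ[K] L) F (F ⊗[K] L) where
  smul_comm g f t := by
    rw [smul_def, smul_def, map_smul]

theorem stabilizer_isOpen [Algebra.IsIntegral K L] (t : F ⊗[K] L) :
    IsOpen (MulAction.stabilizer (L ≃ₐ[K] L) t : Set (L ≃ₐ[K] L)) := by
  induction t using TensorProduct.induction_on with
  | zero =>
    have : MulAction.stabilizer (L ≃ₐ[K] L) (0 : F ⊗[K] L) = ⊤ := by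
      ext g
      simp [MulAction.mem_stabilizer_iff]
    rw [this]
    exact isOpen_univ
  | tmul f l =>
    refine Subgroup.isOpen_mono (H₁ := MulAction.stabilizer (L ≃ₐ[K] L) l) ?_
      (stabilizer_isOpen_of_isIntegral l)
    intro g hg
    rw [MulAction.mem_stabilizer_iff] at hg ⊢
    rw [smul_tmul']
    congr 1
  | add x y hx hy =>
    refine Subgroup.isOpen_mono (H₁ := MulAction.stabilizer (L ≃ₐ[K] L) x ⊓
      MulAction.stabilizer (L ≃ₐ[K] L) y) ?_ ?_
    · intro g hg
      rw [Subgroup.mem_inf, MulAction.mem_stabilizer_iff, MulAction.mem_stabilizer_iff] at hg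
      rw [MulAction.mem_stabilizer_iff, smul_add, hg.1, hg.2]
    · exact hx.inter hy

theorem isInvariant [IsGalois K L] :
    Algebra.IsInvariant F (F ⊗[K] L) (L ≃ₐ[K] L) := by
  classical
  constructor
  intro t ht
  let b := Module.Basis.ofVectorSpace K F
  let e := TensorProduct.equivFinsuppOfBasisLeft (N := L) b
  have hcoord : ∀ (g : L ≃ₐ[K] L) (t : F ⊗[K] L) i, e (g • t) i = g (e t i) := by
    intro g t i
    induction t using TensorProduct.induction_on with
    | zero => simp
    | tmul f l =>
      rw [smul_tmul']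
      simp only [e, TensorProduct.equivFinsuppOfBasisLeft_apply_tmul_apply]
      rw [map_smul]
    | add x y hx hy =>
      rw [smul_add, map_add, map_add, Finsupp.add_apply, Finsupp.add_apply, hx, hy, map_add]
  have hfix : ∀ i, e t i ∈ Set.range (algebraMap K L) := fun i =>
    (InfiniteGalois.mem_range_algebraMap_iff_fixed _).mpr (fun g => by rw [← hcoord, ht g])
  choose k hk using hfix
  refine ⟨∑ i ∈ (e t).support, k i • b i, ?_⟩
  have h1 : t = e.symm (e t) := (e.symm_apply_apply t).symm
  conv_rhs => rw [h1, TensorProduct.equivFinsuppOfBasisLeft_symm_apply]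
  rw [Finsupp.sum, map_sum]
  refine Finset.sum_congr rfl fun i _ => ?_
  rw [← hk i, Algebra.TensorProduct.algebraMap_apply, Algebra.algebraMap_eq_smul_one (k i),
    TensorProduct.tmul_smul, TensorProduct.smul_tmul']
  simp

open scoped Pointwise in
theorem transitive [IsGalois K L] (P Q : Ideal (F ⊗[K] L)) [P.IsPrime] [Q.IsPrime] :
    ∃ γ : L ≃ₐ[K] L,
      Q = P.comap (Algebra.TensorProduct.map (AlgHom.id K F) (γ : L →ₐ[K] L)) := by
  letI : TopologicalSpace (F ⊗[K] L) := ⊥
  haveI : DiscreteTopology (F ⊗[K] L) := ⟨rfl⟩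
  haveI : ContinuousSMul (L ≃ₐ[K] L) (F ⊗[K] L) :=
    continuousSMul_iff_stabilizer_isOpen.mpr (stabilizer_isOpen K F L)
  haveI := isInvariant K F L
  have hbot : ∀ (I : Ideal (F ⊗[K] L)) [I.IsPrime], I.under F = ⊥ := by
    intro I hI
    rcases Ideal.eq_bot_or_top (I.under F) with h | h
    · exact h
    · exfalso
      have : (1 : F) ∈ I.under F := by rw [h]; trivial
      rw [Ideal.under_def, Ideal.mem_comap, map_one] at this
      exact hI.ne_top ((Ideal.eq_top_iff_one _).mpr this)
  have hPQ : P.under F = Q.under F := by rw [hbot P, hbot Q]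
  obtain ⟨g, hg⟩ := Algebra.IsInvariant.exists_smul_of_under_eq_of_profinite
    (A := F) (G := L ≃ₐ[K] L) P Q hPQ
  refine ⟨g⁻¹, ?_⟩
  rw [hg, Ideal.pointwise_smul_eq_comap]
  ext x
  rw [Ideal.mem_comap, Ideal.mem_comap]
  have : (MulSemiringAction.toRingAut (L ≃ₐ[K] L) (F ⊗[K] L) g).symm x =
      Algebra.TensorProduct.map (AlgHom.id K F) ((g⁻¹ : L ≃ₐ[K] L) : L →ₐ[K] L) x := by
    rw [← actHom_apply]
    change g⁻¹ • x = _
    rfl
  rw [this]

end action

section finite

variable (K B L : Type u) [Field K] [CommRing B] [IsDomain B] [Algebra K B]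
  [Algebra.FiniteType K B] [Field L] [Algebra K L]

theorem isNoetherianRing_tensor : IsNoetherianRing (B ⊗[K] L) := by
  haveI : IsNoetherianRing (L ⊗[K] B) := Algebra.FiniteType.isNoetherianRing L (L ⊗[K] B)
  exact isNoetherianRing_of_ringEquiv (L ⊗[K] B) (Algebra.TensorProduct.comm K L B).toRingEquiv

theorem isNoetherianRing_fractionRing_tensor :
    IsNoetherianRing (FractionRing B ⊗[K] L) := by
  haveI := isNoetherianRing_tensor K B L
  letI : Algebra (B ⊗[K] L) (FractionRing B ⊗[K] L) :=
    (Algebra.TensorProduct.map (IsScalarTower.toAlgHom K B (FractionRing B))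
      (AlgHom.id K L)).toRingHom.toAlgebra
  haveI : IsScalarTower B (B ⊗[K] L) (FractionRing B ⊗[K] L) :=
    IsScalarTower.of_algebraMap_eq (fun b => by
      change _ = (Algebra.TensorProduct.map (IsScalarTower.toAlgHom K B (FractionRing B))
        (AlgHom.id K L)) (b ⊗ₜ[K] 1)
      simp [Algebra.TensorProduct.algebraMap_apply])
  haveI := IsLocalization.tensorProduct_tensorProduct K L (nonZeroDivisors B) (FractionRing B)
    (by
      ext l
      change (Algebra.TensorProduct.map (IsScalarTower.toAlgHom K B (FractionRing B))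
        (AlgHom.id K L)) (1 ⊗ₜ[K] l) = 1 ⊗ₜ[K] l
      simp)
  exact IsLocalization.isNoetherianRing
    (Algebra.algebraMapSubmonoid (B ⊗[K] L) (nonZeroDivisors B)) (FractionRing B ⊗[K] L)
    inferInstance

theorem finite_primeSpectrum [Algebra.IsIntegral K L] :
    Finite (PrimeSpectrum (FractionRing B ⊗[K] L)) := by
  haveI := isNoetherianRing_fractionRing_tensor K B L
  haveI : Algebra.IsIntegral (FractionRing B) (FractionRing B ⊗[K] L) :=
    Algebra.IsIntegral.tensorProduct K (FractionRing B) L
  haveI : Ring.KrullDimLE 0 (FractionRing B ⊗[K] L) := by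
    rw [Ring.krullDimLE_zero_iff]
    intro I hI
    refine Ideal.isMaximal_of_isIntegral_of_isMaximal_comap (R := FractionRing B) I ?_
    have hne : I.comap (algebraMap (FractionRing B) (FractionRing B ⊗[K] L)) ≠ ⊤ :=
      (Ideal.comap_ne_top _ hI.ne_top)
    rcases Ideal.eq_bot_or_top (I.comap (algebraMap (FractionRing B) (FractionRing B ⊗[K] L)))
      with h | h
    · rw [h]
      exact Ideal.bot_isMaximal
    · exact absurd h hne
  haveI : IsArtinianRing (FractionRing B ⊗[K] L) :=
    isArtinianRing_iff_krullDimLE_zero.mpr inferInstance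
  infer_instance

end finite

end Groth.Agent.H67.GalTensor
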