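import Groth.Agent.H67.TorsionSheaf
import Groth.Agent.H44.AffineFree
import Groth.Agent.H44.FiniteSections

/-!
# Generic freeness of a finite type quasi-coherent module on an integral scheme
-/

set_option autoImplicit false
set_option linter.style.haveILetI false
universe u
open CategoryTheory CategoryTheory.Limits AlgebraicGeometry TopologicalSpace Opposite

namespace Groth.Agent.H67.GenericFree

open Groth.Agent.H8 Groth.Agent.H67.TorsionSheaf

variable {X : Scheme.{u}}

/-- Germs of functions at `x ∈ V` (affine) are fractions of functions on `V`. -/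
lemma exists_mul_germ_eq {V : X.Opens} (hV : IsAffineOpen V) {x : X} (hx : x ∈ V)
    (a : X.presheaf.stalk x) :
    ∃ s b : Γ(X, V), x ∈ X.basicOpen s ∧ X.presheaf.germ V x hx s * a = X.presheaf.germ V x hx b := by
  letI := TopCat.Presheaf.algebra_section_stalk X.presheaf ⟨x, hx⟩
  haveI := hV.isLocalization_stalk ⟨x, hx⟩
  obtain ⟨⟨b, ⟨s, hs⟩⟩, h⟩ := IsLocalization.surj (hV.primeIdealOf ⟨x, hx⟩).asIdeal.primeCompl a
  refine ⟨s, b, (notMem_primeIdealOf_iff hV hx s).1 hs, ?_⟩
  rw [mul_comm]
  exact h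

/-- The "clearing denominators" property. -/
def P (F : X.Modules) {V : X.Opens} {x : X} (hx : x ∈ V) (N : Submodule Γ(X, V) Γ(F, V))
    (c : F.presheaf.stalk x) : Prop :=
  ∃ (g : Γ(X, V)) (n : Γ(F, V)), x ∈ X.basicOpen g ∧ n ∈ N ∧
      X.presheaf.germ V x hx g • c = F.presheaf.germ V x hx n

lemma P_zero (F : X.Modules) {V : X.Opens} {x : X} (hx : x ∈ V) (N : Submodule Γ(X, V) Γ(F, V)) :
    P F hx N 0 := by
  refine ⟨1, 0, ?_, N.zero_mem, ?_⟩
  · rw [Scheme.basicOpen_of_isUnit _ isUnit_one]; exact hx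
  · rw [smul_zero]; exact (map_zero _).symm

lemma P_add (F : X.Modules) {V : X.Opens} {x : X} (hx : x ∈ V) (N : Submodule Γ(X, V) Γ(F, V))
    {c₁ c₂ : F.presheaf.stalk x} (h₁ : P F hx N c₁) (h₂ : P F hx N c₂) : P F hx N (c₁ + c₂) := by
  obtain ⟨g₁, n₁, hg₁, hn₁, e₁⟩ := h₁
  obtain ⟨g₂, n₂, hg₂, hn₂, e₂⟩ := h₂
  refine ⟨g₁ * g₂, g₂ • n₁ + g₁ • n₂, ?_, N.add_mem (N.smul_mem _ hn₁) (N.smul_mem _ hn₂), ?_⟩
  · rw [Scheme.basicOpen_mul]; exact ⟨hg₁, hg₂⟩
  · rw [map_add, germ_smul, germ_smul, ← e₁, ← e₂, map_mul, smul_add, smul_smul, smul_smul,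
      mul_comm (X.presheaf.germ V x hx g₂)]

lemma P_smul_germ (F : X.Modules) {V : X.Opens} (hV : IsAffineOpen V) {x : X} (hx : x ∈ V)
    (N : Submodule Γ(X, V) Γ(F, V)) (a : X.presheaf.stalk x) {m : Γ(F, V)} (hm : m ∈ N) :
    P F hx N (a • F.presheaf.germ V x hx m) := by
  obtain ⟨s, b, hs, hsb⟩ := exists_mul_germ_eq hV hx a
  refine ⟨s, b • m, hs, N.smul_mem _ hm, ?_⟩
  rw [smul_smul, hsb, germ_smul]


/-- The generic stalk of a finite type quasi-coherent module is finite over the function field. -/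
lemma finite_stalk [IsIntegral X] (F : X.Modules) [F.IsQuasicoherent] {V : X.Opens}
    (hV : IsAffineOpen V) [Module.Finite Γ(X, V) Γ(F, V)] {x : X} (hx : x ∈ V) :
    Module.Finite (X.presheaf.stalk x) (F.presheaf.stalk x) := by
  obtain ⟨s, hs⟩ := (Module.Finite.fg_top : (⊤ : Submodule Γ(X, V) Γ(F, V)).FG)
  classical
  refine ⟨⟨s.image (F.presheaf.germ V x hx), ?_⟩⟩
  rw [eq_top_iff]
  rintro c -
  have key : ∀ m : Γ(F, V), m ∈ Submodule.span Γ(X, V) (s : Set Γ(F, V)) →
      F.presheaf.germ V x hx m ∈ Submodule.span (X.presheaf.stalk x)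
      ((s.image (F.presheaf.germ V x hx) : Finset _) : Set (F.presheaf.stalk x)) := by
    intro m hm'
    induction hm' using Submodule.span_induction with
    | mem m hm =>
      apply Submodule.subset_span
      rw [Finset.coe_image]
      exact ⟨m, hm, rfl⟩
    | zero => rw [map_zero]; exact Submodule.zero_mem _
    | add a b _ _ ha hb => rw [map_add]; exact Submodule.add_mem _ ha hb
    | smul r a _ ha => rw [germ_smul]; exact Submodule.smul_mem _ _ ha
  obtain ⟨t, m, ht, hm⟩ := exists_smul_eq_germ F hV hx c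
  have h1 := key m (hs ▸ Submodule.mem_top)
  have hunit : IsUnit (X.presheaf.germ V x hx t) := (X.mem_basicOpen t x hx).1 ht
  obtain ⟨w, hw⟩ := hunit
  have h2 : c = (↑w⁻¹ : X.presheaf.stalk x) • F.presheaf.germ V x hx m := by
    rw [← hm, ← hw, smul_smul, Units.inv_mul, one_smul]
  rw [h2]
  exact Submodule.smul_mem _ _ h1


theorem exists_free_open [IsIntegral X] (F : X.Modules) [F.IsQuasicoherent]
    [SheafOfModules.IsFiniteType (R := X.ringCatSheaf) F] :
    ∃ U : X.Opens, (U : Set X).Nonempty ∧ Nonempty (F.restrict U.ι ≅ FlatMod.freeMod (↑U)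
      (Module.finrank (X.presheaf.stalk (genericPoint X))
        (F.presheaf.stalk (genericPoint X)))) := by
  obtain ⟨_, ⟨V, hV : IsAffineOpen V, rfl⟩, hξ, -⟩ :=
    X.isBasis_affineOpens.exists_subset_of_mem_open (Set.mem_univ (genericPoint X)) isOpen_univ
  haveI : Module.Finite Γ(X, V) Γ(F, V) := Groth.Agent.H44.finite_sections_of_isFiniteType F hV
  letI : Field (X.presheaf.stalk (genericPoint X)) := inferInstanceAs (Field X.functionField)
  haveI := finite_stalk F hV hξ
  -- a basis of the generic stalk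
  let b := Module.finBasis (X.presheaf.stalk (genericPoint X)) (F.presheaf.stalk (genericPoint X))
  have hb : ∀ i, ∃ (t : Γ(X, V)) (m : Γ(F, V)), genericPoint X ∈ X.basicOpen t ∧
      X.presheaf.germ V (genericPoint X) hξ t • b i = F.presheaf.germ V (genericPoint X) hξ m :=
    fun i => exists_smul_eq_germ F hV hξ (b i)
  choose t m ht hm using hb
  have hunit : ∀ i, IsUnit (X.presheaf.germ V (genericPoint X) hξ (t i)) :=
    fun i => (X.mem_basicOpen (t i) (genericPoint X) hξ).1 (ht i)
  let b' := b.isUnitSMul hunit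
  have hb' : ∀ i, b' i = F.presheaf.germ V (genericPoint X) hξ (m i) := by
    intro i
    rw [Module.Basis.isUnitSMul_apply, hm i]
  -- the submodule spanned by the `m i`
  let N : Submodule Γ(X, V) Γ(F, V) := Submodule.span Γ(X, V) (Set.range m)
  have hP : ∀ c : F.presheaf.stalk (genericPoint X), P F hξ N c := by
    intro c
    rw [← b'.sum_repr c]
    apply Finset.sum_induction _ (P F hξ N) (fun _ _ => P_add F hξ N) (P_zero F hξ N)
    intro i _
    rw [hb' i]
    exact P_smul_germ F hV hξ N _ (Submodule.subset_span ⟨i, rfl⟩)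
  have hN : ∀ n : Γ(F, V), ∃ g : Γ(X, V), genericPoint X ∈ X.basicOpen g ∧ g • n ∈ N := by
    intro n
    obtain ⟨g, n', hg, hn', e⟩ := hP (F.presheaf.germ V (genericPoint X) hξ n)
    rw [← germ_smul] at e
    have e0 : F.presheaf.germ V (genericPoint X) hξ (g • n - n') = 0 := by
      rw [map_sub, e, sub_self]
    obtain ⟨u, hu, hu0⟩ := (germ_eq_zero_iff F hV hξ _).1 e0
    refine ⟨u * g, ?_, ?_⟩
    · rw [Scheme.basicOpen_mul]; exact ⟨hu, hg⟩
    · rw [smul_sub, sub_eq_zero] at hu0
      rw [mul_smul, hu0]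
      exact N.smul_mem _ hn'
  choose gN hgN hgN' using hN
  classical
  obtain ⟨s, hs⟩ := (Module.Finite.fg_top : (⊤ : Submodule Γ(X, V) Γ(F, V)).FG)
  let g : Γ(X, V) := ∏ n ∈ s, gN n
  have hξg : genericPoint X ∈ X.basicOpen g := by
    rw [X.mem_basicOpen g (genericPoint X) hξ, map_prod]
    apply Finset.prod_induction _ IsUnit (fun _ _ => IsUnit.mul) isUnit_one
    intro n _
    exact (X.mem_basicOpen (gN n) (genericPoint X) hξ).1 (hgN n)
  have hgs : ∀ n ∈ s, g • n ∈ N := by
    intro n hn
    have : g = (∏ x ∈ s.erase n, gN x) * gN n := by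
      rw [mul_comm]; exact (Finset.mul_prod_erase s gN hn).symm
    rw [this, mul_smul]
    exact N.smul_mem _ (hgN' n)
  have hgall : ∀ n : Γ(F, V), g • n ∈ N := by
    intro n
    have hn : n ∈ Submodule.span Γ(X, V) (s : Set Γ(F, V)) := hs ▸ Submodule.mem_top
    induction hn using Submodule.span_induction with
    | mem n hn => exact hgs n hn
    | zero => rw [smul_zero]; exact N.zero_mem
    | add a b _ _ ha hb => rw [smul_add]; exact N.add_mem ha hb
    | smul r a _ ha => rw [smul_comm]; exact N.smul_mem _ ha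
  -- the basic open
  have hU : IsAffineOpen (X.basicOpen g) := hV.basicOpen g
  let res : Γ(F, V) → Γ(F, X.basicOpen g) := F.presheaf.map (homOfLE (X.basicOpen_le g)).op
  let y : Fin (Module.finrank (X.presheaf.stalk (genericPoint X))
      (F.presheaf.stalk (genericPoint X))) → Γ(F, X.basicOpen g) := fun i => res (m i)
  have hy : ∀ i, F.presheaf.germ (X.basicOpen g) (genericPoint X) hξg (y i) = b' i := by
    intro i
    rw [hb' i]
    exact TopCat.Presheaf.germ_res_apply F.presheaf (homOfLE (X.basicOpen_le g)) _ hξg (m i)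
  have hli : LinearIndependent Γ(X, X.basicOpen g) y := by
    rw [Fintype.linearIndependent_iff]
    intro c hc i
    have h1 := congrArg (F.presheaf.germ (X.basicOpen g) (genericPoint X) hξg) hc
    rw [map_sum, map_zero] at h1
    simp only [germ_smul, hy] at h1
    have h2 := Fintype.linearIndependent_iff.1 b'.linearIndependent _ h1 i
    apply germ_injective_of_isIntegral X (genericPoint X) hξg
    rw [h2]; exact (map_zero _).symm
  have hresN : ∀ n ∈ N, res n ∈ Submodule.span Γ(X, X.basicOpen g) (Set.range y) := by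
    intro n hn
    induction hn using Submodule.span_induction with
    | mem n hn =>
      obtain ⟨i, rfl⟩ := hn
      exact Submodule.subset_span ⟨i, rfl⟩
    | zero =>
      have : res 0 = 0 := map_zero _
      rw [this]; exact Submodule.zero_mem _
    | add a b _ _ ha hb =>
      have : res (a + b) = res a + res b := map_add _ _ _
      rw [this]; exact Submodule.add_mem _ ha hb
    | smul r a _ ha =>
      have : res (r • a) = X.presheaf.map (homOfLE (X.basicOpen_le g)).op r • res a :=
        Scheme.Modules.map_smul F (homOfLE (X.basicOpen_le g)) r a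
      rw [this]; exact Submodule.smul_mem _ _ ha
  have hsp : ⊤ ≤ Submodule.span Γ(X, X.basicOpen g) (Set.range y) := by
    rintro tt -
    obtain ⟨k, n', hn'⟩ := exists_res_eq_pow_smul F hV g tt
    have h1 := hresN _ (hgall n')
    have h2 : res (g • n') = X.presheaf.map (homOfLE (X.basicOpen_le g)).op g • res n' :=
      Scheme.Modules.map_smul F (homOfLE (X.basicOpen_le g)) g n'
    have h3 : res n' = (X.presheaf.map (homOfLE (X.basicOpen_le g)).op g) ^ k • tt := hn'
    rw [h2, h3, smul_smul, ← pow_succ'] at h1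
    have hu : IsUnit (X.presheaf.map (homOfLE (X.basicOpen_le g)).op g) :=
      X.toRingedSpace.isUnit_res_basicOpen g
    obtain ⟨w, hw⟩ := hu.pow (k + 1)
    have h4 := Submodule.smul_mem _ (↑w⁻¹ : Γ(X, X.basicOpen g)) h1
    rw [← hw, smul_smul, Units.inv_mul, one_smul] at h4
    exact h4
  refine ⟨X.basicOpen g, ⟨genericPoint X, hξg⟩, ?_⟩
  exact Groth.Agent.H44.nonempty_iso_freeMod_of_basis F hU (Module.Basis.mk hli hsp)

end Groth.Agent.H67.GenericFree
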