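import Mathlib
import Groth.Prelude.Def_Red

/-!
# Flat base change of global functions along a field extension (helper67)
-/

set_option autoImplicit false
set_option linter.style.haveILetI false
universe u
open CategoryTheory CategoryTheory.Limits AlgebraicGeometry TopologicalSpace Opposite TensorProduct

namespace Groth.Agent.H67.GlobalBC

/-- in a pushout square of commutative rings along a faithfully flat map, the map from the base is
bijective iff its pushout is -/
theorem bijective_iff_of_isPushout {k K : Type u} [CommRing k] [CommRing K] [Algebra k K]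
    [Module.FaithfullyFlat k K] {A A' : CommRingCat.{u}} (a : CommRingCat.of k ⟶ A)
    (a' : CommRingCat.of K ⟶ A') (b' : A ⟶ A')
    (h : IsPushout a (CommRingCat.ofHom (algebraMap k K)) b' a') :
    Function.Bijective a.hom ↔ Function.Bijective a'.hom := by
  constructor
  · intro ha
    haveI : IsIso a := by
      rw [ConcreteCategory.isIso_iff_bijective]
      exact ha
    have := h.isIso_inr_of_isIso
    exact (ConcreteCategory.isIso_iff_bijective a').1 this
  · intro ha'
    letI : Algebra k A := a.hom.toAlgebra
    have h1 := CommRingCat.isPushout_tensorProduct k K A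
    have h2 : IsPushout (CommRingCat.ofHom (algebraMap k K)) (CommRingCat.ofHom (algebraMap k A))
        a' b' := h.flip
    let e := h1.isoIsPushout _ _ h2
    have he : CommRingCat.ofHom (S := K ⊗[k] A) Algebra.TensorProduct.includeLeftRingHom ≫ e.hom =
        a' := h1.inl_isoIsPushout_hom _ _ h2
    have h3 : Function.Bijective (algebraMap K (K ⊗[k] A)) := by
      have h4 : (algebraMap K (K ⊗[k] A) : K → K ⊗[k] A) = e.inv.hom ∘ a'.hom := by
        funext x
        have := congrArg (fun φ => φ.hom x) he
        simp only [CommRingCat.hom_comp, RingHom.coe_comp, Function.comp_apply] at this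
        rw [Function.comp_apply, ← this]
        change _ = (e.hom ≫ e.inv).hom _
        rw [Iso.hom_inv_id]
        rfl
      rw [h4]
      exact ((ConcreteCategory.isIso_iff_bijective e.inv).1 inferInstance).comp ha'
    exact Module.FaithfullyFlat.bijective_of_tensorProduct h3

/-- flat base change of global functions along a field extension, as a pushout square of rings -/
theorem isPushout_sections {k K : Type u} [Field k] [Field K] [Algebra k K] {X : Scheme.{u}}
    (p : X ⟶ Spec (CommRingCat.of k)) [QuasiCompact p] [LocallyOfFiniteType p] :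
    IsPushout ((Scheme.ΓSpecIso (CommRingCat.of k)).inv ≫ p.appTop)
      (CommRingCat.ofHom (algebraMap k K))
      (pullback.fst p (Spec.map (CommRingCat.ofHom (algebraMap k K)))).appTop
      ((Scheme.ΓSpecIso (CommRingCat.of K)).inv ≫
        (pullback.snd p (Spec.map (CommRingCat.ofHom (algebraMap k K)))).appTop) := by
  haveI : CompactSpace X := QuasiCompact.compactSpace_of_compactSpace p
  haveI : IsLocallyNoetherian X := LocallyOfFiniteType.isLocallyNoetherian p
  haveI : QuasiSeparatedSpace X := inferInstance
  let φ := Spec.map (CommRingCat.ofHom (algebraMap k K))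
  haveI : Flat φ := by
    rw [Flat.SpecMap_iff]
    exact RingHom.flat_algebraMap_iff.2 inferInstance
  have H : IsPullback (pullback.fst p φ) (pullback.snd p φ) p φ := IsPullback.of_hasPullback p φ
  have hUY : (⊤ : (pullback p φ).Opens) =
      (pullback.fst p φ) ⁻¹ᵁ (⊤ : X.Opens) ⊓ (pullback.snd p φ) ⁻¹ᵁ ⊤ := by simp
  have h1 := isIso_pushoutSection_of_isQuasiSeparated_of_flat_right H
    (US := ⊤) (UT := ⊤) (UX := ⊤) le_top le_top hUY (isAffineOpen_top _) (isAffineOpen_top _)
    (by simpa using isCompact_univ) (by simpa using isQuasiSeparated_univ)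
  have h2 := (isIso_pushoutSection_iff H le_top le_top hUY).1 h1
  have e : ∀ {Z W : Scheme.{u}} (q : Z ⟶ W) (hh : (⊤ : Z.Opens) ≤ q ⁻¹ᵁ ⊤),
      q.appLE ⊤ ⊤ hh = q.appTop := by
    intro Z W q hh
    simp only [Scheme.Hom.appLE, Scheme.Hom.appTop]
    exact (congrArg (q.app ⊤ ≫ ·) (Z.presheaf.map_id _)).trans (Category.comp_id _)
  have h3 : IsPushout p.appTop φ.appTop (pullback.fst p φ).appTop (pullback.snd p φ).appTop := by
    convert h2 using 1 <;> exact (e _ _).symm
  refine h3.of_iso (Scheme.ΓSpecIso (CommRingCat.of k)) (Iso.refl _)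
    (Scheme.ΓSpecIso (CommRingCat.of K)) (Iso.refl _) ?_ ?_ ?_ ?_
  · simp
  · exact Scheme.ΓSpecIso_naturality (CommRingCat.ofHom (algebraMap k K))
  · simp [φ]
  · simp [φ]

end Groth.Agent.H67.GlobalBC
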