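import Groth.Agent.H14.DimTrdeg
import Mathlib

/-!
# Graded domains of dimension one over an algebraically closed field are semigroup rings
-/

namespace Groth.Agent.H67.GradedDimOne

open Polynomial

universe u

section homog

variable {k : Type u} [Field k] {R : Type u} [CommRing R] [Algebra k R]
  (𝒜 : ℤ → Submodule k R) [GradedAlgebra 𝒜]

/-- evaluating a homogeneous binary form of degree `d` at two elements of degree `n` gives an element
of degree `d * n` -/
theorem aeval_mem_of_isHomogeneous {n : ℤ} {x y : R} (hx : x ∈ 𝒜 n) (hy : y ∈ 𝒜 n)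
    {Q : MvPolynomial (Fin 2) k} {d : ℕ} (hQ : Q.IsHomogeneous d) :
    MvPolynomial.aeval ![x, y] Q ∈ 𝒜 (d • n) := by
  classical
  rw [Q.as_sum, map_sum]
  refine Submodule.sum_mem _ fun m hm => ?_
  rw [MvPolynomial.aeval_monomial]
  have hdeg : m 0 + m 1 = d := by
    have := hQ (MvPolynomial.mem_support_iff.mp hm)
    simpa [Finsupp.weight_apply, Finsupp.sum_fintype, Fin.sum_univ_two] using this
  have h1 : (m.prod fun i e => (![x, y] i) ^ e) = x ^ (m 0) * y ^ (m 1) := by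
    rw [Finsupp.prod_fintype _ _ (by simp), Fin.prod_univ_two]
    rfl
  rw [h1, ← Algebra.smul_def]
  refine Submodule.smul_mem _ _ ?_
  have h2 : x ^ (m 0) * y ^ (m 1) ∈ 𝒜 (m 0 • n + m 1 • n) :=
    SetLike.GradedMul.mul_mem (SetLike.pow_mem_graded _ hx) (SetLike.pow_mem_graded _ hy)
  have h3 : (m 0 • n + m 1 • n : ℤ) = d • n := by
    rw [← add_smul, hdeg]
  rwa [h3] at h2

/-- components in distinct degrees of a vanishing sum vanish -/
theorem eq_zero_of_sum_eq_zero {n : ℤ} (hn : n ≠ 0) (s : Finset ℕ) (a : ℕ → R)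
    (ha : ∀ d ∈ s, a d ∈ 𝒜 (d • n)) (hsum : ∑ d ∈ s, a d = 0) :
    ∀ d ∈ s, a d = 0 := by
  classical
  intro d0 hd0
  have h1 := congrArg (GradedRing.proj 𝒜 (d0 • n)) hsum
  rw [map_sum, map_zero] at h1
  rw [Finset.sum_eq_single d0] at h1
  · rw [GradedRing.proj_apply, DirectSum.decompose_of_mem_same 𝒜 (ha d0 hd0)] at h1
    exact h1
  · intro d hd hne
    rw [GradedRing.proj_apply, DirectSum.decompose_of_mem_ne 𝒜 (ha d hd)]
    intro h
    apply hne
    have h2 : ((d : ℤ) - d0) * n = 0 := by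
      have : (d : ℤ) * n = d0 * n := by simpa [nsmul_eq_mul] using h
      rw [sub_mul, this, sub_self]
    rcases mul_eq_zero.mp h2 with h3 | h3
    · omega
    · exact absurd h3 hn
  · intro h
    exact absurd hd0 h

end homog

section algclosed

variable {k : Type u} [Field k] [IsAlgClosed k]

theorem exists_algebraMap_eq_of_isIntegral {K : Type u} [Field K] [Algebra k K] {u : K}
    (hu : IsIntegral k u) : ∃ c : k, algebraMap k K c = u := by
  obtain ⟨c, hc⟩ := (IsAlgClosed.algebraMap_bijective_of_isIntegral (k := k)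
    (K := integralClosure k K)).2 ⟨u, hu⟩
  exact ⟨c, congrArg Subtype.val hc⟩

theorem natDegree_aeval_le {Q : MvPolynomial (Fin 2) k} {d : ℕ} (hQ : Q.IsHomogeneous d) :
    (MvPolynomial.aeval ![(X : k[X]), 1] Q).natDegree ≤ d := by
  classical
  rw [Q.as_sum, map_sum]
  refine natDegree_sum_le_of_forall_le _ _ fun m hm => ?_
  rw [MvPolynomial.aeval_monomial]
  have hdeg : m 0 + m 1 = d := by
    have := hQ (MvPolynomial.mem_support_iff.mp hm)
    simpa [Finsupp.weight_apply, Finsupp.sum_fintype, Fin.sum_univ_two] using this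
  have h1 : (m.prod fun i e => (![(X : k[X]), 1] i) ^ e) = X ^ (m 0) := by
    rw [Finsupp.prod_fintype _ _ (by simp), Fin.prod_univ_two]
    simp
  rw [h1, ← C_eq_algebraMap]
  refine (natDegree_C_mul_le _ _).trans ?_
  rw [natDegree_X_pow]
  omega

end algclosed

section main

variable {k : Type u} [Field k] [IsAlgClosed k] {R : Type u} [CommRing R] [IsDomain R] [Algebra k R]
  (𝒜 : ℤ → Submodule k R) [GradedAlgebra 𝒜]

theorem exists_smul_eq_of_not_algebraicIndependent {n : ℤ} (hn : n ≠ 0)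
    {x y : R} (hx : x ∈ 𝒜 n) (hy : y ∈ 𝒜 n) (hy0 : y ≠ 0)
    (hdep : ¬ AlgebraicIndependent k ![x, y]) : ∃ c : k, x = c • y := by
  classical
  rw [algebraicIndependent_iff] at hdep
  push_neg at hdep
  obtain ⟨P, hP0, hPne⟩ := hdep
  have hsum : ∑ d ∈ Finset.range (P.totalDegree + 1),
      MvPolynomial.aeval ![x, y] (MvPolynomial.homogeneousComponent d P) = 0 := by
    rw [← map_sum, MvPolynomial.sum_homogeneousComponent, hP0]
  have hz := eq_zero_of_sum_eq_zero 𝒜 hn _
    (fun d => MvPolynomial.aeval ![x, y] (MvPolynomial.homogeneousComponent d P))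
    (fun d _ => aeval_mem_of_isHomogeneous 𝒜 hx hy
      (MvPolynomial.homogeneousComponent_isHomogeneous d P)) hsum
  obtain ⟨d0, hd0mem, hd0⟩ : ∃ d ∈ Finset.range (P.totalDegree + 1),
      MvPolynomial.homogeneousComponent d P ≠ 0 := by
    by_contra hcon
    push_neg at hcon
    apply hPne
    rw [← MvPolynomial.sum_homogeneousComponent P]
    exact Finset.sum_eq_zero hcon
  have hQ : (MvPolynomial.homogeneousComponent d0 P).IsHomogeneous d0 :=
    MvPolynomial.homogeneousComponent_isHomogeneous d0 P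
  have hQ0 : MvPolynomial.aeval ![x, y] (MvPolynomial.homogeneousComponent d0 P) = 0 :=
    hz d0 hd0mem
  generalize MvPolynomial.homogeneousComponent d0 P = Q at hd0 hQ hQ0
  -- dehomogenize
  have hQq : (MvPolynomial.aeval ![(X : k[X]), 1] Q).homogenize d0 = Q :=
    homogenize_eq_of_isHomogeneous hQ rfl
  have hqdeg := natDegree_aeval_le hQ
  generalize MvPolynomial.aeval ![(X : k[X]), 1] Q = q at hQq hqdeg
  have hq0 : q ≠ 0 := by
    intro h
    apply hd0
    rw [← hQq, h, homogenize_zero]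
  -- pass to the fraction field
  have hy' : algebraMap R (FractionRing R) y ≠ 0 := by
    rw [Ne, map_eq_zero_iff _ (IsFractionRing.injective R (FractionRing R))]
    exact hy0
  have hev : MvPolynomial.eval ![algebraMap R (FractionRing R) x, algebraMap R (FractionRing R) y]
      ((q.map (algebraMap k (FractionRing R))).homogenize d0) = 0 := by
    rw [homogenize_map, hQq]
    have h1 : MvPolynomial.eval
        ![algebraMap R (FractionRing R) x, algebraMap R (FractionRing R) y]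
        (MvPolynomial.map (algebraMap k (FractionRing R)) Q) =
        algebraMap R (FractionRing R) (MvPolynomial.aeval ![x, y] Q) := by
      rw [MvPolynomial.eval_map, ← MvPolynomial.aeval_def, ← MvPolynomial.aeval_algebraMap_apply]
      congr 2
      funext i
      fin_cases i <;> rfl
    rw [h1, hQ0, map_zero]
  rw [eval_homogenize ((natDegree_map_le).trans hqdeg) _ (by simpa using hy')] at hev
  have hroot : (q.map (algebraMap k (FractionRing R))).eval
      (algebraMap R (FractionRing R) x / algebraMap R (FractionRing R) y) = 0 := by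
    rcases mul_eq_zero.mp hev with h | h
    · simpa using h
    · exfalso
      have h2 : algebraMap R (FractionRing R) y = 0 := by
        have h3 : (algebraMap R (FractionRing R) y) ^ d0 = 0 := by simpa using h
        exact eq_zero_of_pow_eq_zero h3
      exact hy' h2
  have hint : IsIntegral k
      (algebraMap R (FractionRing R) x / algebraMap R (FractionRing R) y) := by
    rw [← isAlgebraic_iff_isIntegral]
    refine ⟨q, hq0, ?_⟩
    rw [aeval_def, ← eval_map]
    exact hroot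
  obtain ⟨c, hc⟩ := exists_algebraMap_eq_of_isIntegral hint
  refine ⟨c, ?_⟩
  apply IsFractionRing.injective R (FractionRing R)
  rw [Algebra.smul_def, map_mul, ← IsScalarTower.algebraMap_apply k R (FractionRing R), hc,
    div_mul_cancel₀ _ hy']

variable [Algebra.FiniteType k R]

include 𝒜 in
theorem exists_smul_eq (h1 : ringKrullDim R = 1) (hpos : ∀ n : ℤ, n < 0 → 𝒜 n = ⊥)
    (h0 : 𝒜 0 = Submodule.span k {(1 : R)}) {n : ℤ} {x y : R}
    (hx : x ∈ 𝒜 n) (hy : y ∈ 𝒜 n) (hy0 : y ≠ 0) : ∃ c : k, x = c • y := by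
  rcases lt_trichotomy n 0 with hn | hn | hn
  · exfalso
    rw [hpos n hn] at hy
    exact hy0 (by simpa using hy)
  · subst hn
    rw [h0] at hx hy
    obtain ⟨a, rfl⟩ := Submodule.mem_span_singleton.mp hx
    obtain ⟨b, rfl⟩ := Submodule.mem_span_singleton.mp hy
    have hb : b ≠ 0 := by
      rintro rfl
      exact hy0 (zero_smul _ _)
    refine ⟨a / b, ?_⟩
    rw [smul_smul, div_mul_cancel₀ _ hb]
  · apply exists_smul_eq_of_not_algebraicIndependent 𝒜 hn.ne' hx hy hy0
    intro hind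
    obtain ⟨m, htr, hdim, -⟩ := Groth.Agent.H14.ringKrullDim_eq_trdeg_of_finiteType_domain k R
    have hm : m = 1 := by
      rw [h1] at hdim
      exact_mod_cast hdim.symm
    have hind' := hind.map' (f := IsScalarTower.toAlgHom k R (FractionRing R))
      (IsFractionRing.injective R (FractionRing R))
    have hle := hind'.lift_cardinalMk_le_trdeg
    rw [htr, hm] at hle
    simp at hle

/-- the monoid of degrees -/
def Hmon : AddSubmonoid ℕ where
  carrier := {h | 𝒜 (h : ℤ) ≠ ⊥}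
  zero_mem' := by
    intro h
    have h1 : (1 : R) ∈ 𝒜 ((0 : ℕ) : ℤ) := by
      simpa using SetLike.GradedOne.one_mem (A := 𝒜)
    rw [h] at h1
    exact one_ne_zero (α := R) (by simpa using h1)
  add_mem' := by
    intro a b ha hb
    obtain ⟨x, hx, hx0⟩ := Submodule.exists_mem_ne_zero_of_ne_bot ha
    obtain ⟨y, hy, hy0⟩ := Submodule.exists_mem_ne_zero_of_ne_bot hb
    intro h
    have h1 : x * y ∈ 𝒜 (((a + b : ℕ)) : ℤ) := by
      have := SetLike.GradedMul.mul_mem hx hy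
      simpa using this
    rw [h] at h1
    exact mul_ne_zero hx0 hy0 (by simpa using h1)

theorem mem_Hmon {h : ℕ} : h ∈ Hmon 𝒜 ↔ 𝒜 (h : ℤ) ≠ ⊥ := Iff.rfl

theorem exists_diff (H : AddSubmonoid ℕ) (hH : ∃ h ∈ H, 0 < h) :
    ∃ a ∈ H, ∃ b ∈ H, ∃ d, 0 < d ∧ a = b + d ∧ ∀ h ∈ H, d ∣ h := by
  classical
  have hex : ∃ d, 0 < d ∧ ∃ a ∈ H, ∃ b ∈ H, a = b + d := by
    obtain ⟨h, hh, hpos⟩ := hH
    exact ⟨h, hpos, h, hh, 0, H.zero_mem, by simp⟩
  obtain ⟨hd, a, ha, b, hb, hab⟩ := Nat.find_spec hex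
  refine ⟨a, ha, b, hb, Nat.find hex, hd, hab, ?_⟩
  intro h hh
  set d := Nat.find hex with hddef
  by_contra hndvd
  have hr : 0 < h % d := Nat.pos_of_ne_zero (fun h0 => hndvd (Nat.dvd_of_mod_eq_zero h0))
  have hlt : h % d < d := Nat.mod_lt _ hd
  have hmem : 0 < h % d ∧ ∃ a' ∈ H, ∃ b' ∈ H, a' = b' + h % d := by
    refine ⟨hr, h + (h / d) • b, H.add_mem hh (H.nsmul_mem hb _), (h / d) • a,
      H.nsmul_mem ha _, ?_⟩
    have h1 := Nat.div_add_mod h d
    simp only [smul_eq_mul]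
    rw [hab]
    nlinarith [h1]
  exact Nat.find_min hex hlt hmem

include 𝒜 in
theorem exists_pos_mem_Hmon (h1 : ringKrullDim R = 1) (hpos : ∀ n : ℤ, n < 0 → 𝒜 n = ⊥)
    (h0 : 𝒜 0 = Submodule.span k {(1 : R)}) : ∃ h ∈ Hmon 𝒜, 0 < h := by
  classical
  by_contra hcon
  push_neg at hcon
  have hbot : ∀ n : ℤ, n ≠ 0 → 𝒜 n = ⊥ := by
    intro n hn
    rcases lt_or_gt_of_ne hn with h | h
    · exact hpos n h
    · by_contra hne
      have h2 : n.toNat ∈ Hmon 𝒜 := by
        rw [mem_Hmon, Int.toNat_of_nonneg h.le]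
        exact hne
      have := hcon _ h2
      omega
  have hsurj : Function.Surjective (algebraMap k R) := by
    intro r
    have hr : r ∈ 𝒜 0 := by
      rw [← DirectSum.sum_support_decompose 𝒜 r]
      refine Submodule.sum_mem _ fun n _ => ?_
      by_cases hn : n = 0
      · subst hn
        exact Submodule.coe_mem _
      · have h3 : ∀ z : R, z ∈ 𝒜 n → z = 0 := by
          intro z hz
          rw [hbot n hn] at hz
          exact (Submodule.mem_bot k).mp hz
        rw [h3 _ (Submodule.coe_mem _)]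
        exact Submodule.zero_mem _
    rw [h0] at hr
    obtain ⟨a, rfl⟩ := Submodule.mem_span_singleton.mp hr
    exact ⟨a, by rw [Algebra.algebraMap_eq_smul_one]⟩
  have e : k ≃+* R := RingEquiv.ofBijective (algebraMap k R) ⟨(algebraMap k R).injective, hsurj⟩
  have hdim := ringKrullDim_eq_of_ringEquiv e
  rw [ringKrullDim_eq_zero_of_field, h1] at hdim
  exact absurd hdim (by norm_num)

include 𝒜 in
theorem exists_monoidHom (h1 : ringKrullDim R = 1) (hpos : ∀ n : ℤ, n < 0 → 𝒜 n = ⊥)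
    (h0 : 𝒜 0 = Submodule.span k {(1 : R)}) :
    ∃ F : Multiplicative (Hmon 𝒜) →* R, ∀ h : Hmon 𝒜,
      F (Multiplicative.ofAdd h) ∈ 𝒜 ((h : ℕ) : ℤ) ∧ F (Multiplicative.ofAdd h) ≠ 0 := by
  classical
  obtain ⟨a, ha, b, hb, d, hd, hab, hdvd⟩ :=
    exists_diff (Hmon 𝒜) (exists_pos_mem_Hmon 𝒜 h1 hpos h0)
  obtain ⟨x, hx, hx0⟩ := Submodule.exists_mem_ne_zero_of_ne_bot ((mem_Hmon 𝒜).mp ha)
  obtain ⟨y, hy, hy0⟩ := Submodule.exists_mem_ne_zero_of_ne_bot ((mem_Hmon 𝒜).mp hb)
  have hex : ∀ h : Hmon 𝒜, ∃ z ∈ 𝒜 ((h : ℕ) : ℤ), z * y ^ ((h : ℕ) / d) = x ^ ((h : ℕ) / d) := by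
    intro h
    obtain ⟨e, he, he0⟩ := Submodule.exists_mem_ne_zero_of_ne_bot ((mem_Hmon 𝒜).mp h.2)
    set m := (h : ℕ) / d with hm
    have hmd : (h : ℕ) = m * d := (Nat.div_mul_cancel (hdvd _ h.2)).symm
    have hxm : x ^ m ∈ 𝒜 (m • (a : ℤ)) := SetLike.pow_mem_graded _ hx
    have hym : e * y ^ m ∈ 𝒜 (((h : ℕ) : ℤ) + m • (b : ℤ)) :=
      SetLike.GradedMul.mul_mem he (SetLike.pow_mem_graded _ hy)
    have hdeg : (((h : ℕ) : ℤ) + m • (b : ℤ)) = m • (a : ℤ) := by
      rw [hab, hmd]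
      push_cast
      simp only [nsmul_eq_mul]
      ring
    rw [hdeg] at hym
    obtain ⟨c, hc⟩ := exists_smul_eq 𝒜 h1 hpos h0 hxm hym
      (mul_ne_zero he0 (pow_ne_zero _ hy0))
    refine ⟨c • e, Submodule.smul_mem _ _ he, ?_⟩
    rw [hc, smul_mul_assoc]
  choose f hfmem hfspec using hex
  have hy0' : ∀ m : ℕ, y ^ m ≠ 0 := fun m => pow_ne_zero _ hy0
  have hf0 : ∀ h, f h ≠ 0 := by
    intro h hz
    have := hfspec h
    rw [hz, zero_mul] at this
    exact pow_ne_zero _ hx0 this.symm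
  refine ⟨{ toFun := fun h => f (Multiplicative.toAdd h)
            map_one' := ?_
            map_mul' := ?_ }, fun h => ⟨hfmem h, hf0 h⟩⟩
  · have := hfspec 0
    simpa using this
  · intro h h'
    have e1 := hfspec (Multiplicative.toAdd h)
    have e2 := hfspec (Multiplicative.toAdd h')
    have e3 := hfspec (Multiplicative.toAdd (h * h'))
    have hdiv : (((Multiplicative.toAdd (h * h') : Hmon 𝒜) : ℕ)) / d =
        ((Multiplicative.toAdd h : Hmon 𝒜) : ℕ) / d + ((Multiplicative.toAdd h' : Hmon 𝒜) : ℕ) / d := by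
      rw [toAdd_mul, AddSubmonoid.coe_add]
      exact Nat.add_div_of_dvd_right (hdvd _ (Multiplicative.toAdd h).2)
    rw [hdiv, pow_add, pow_add, ← e1, ← e2] at e3
    have hne : y ^ (((Multiplicative.toAdd h : Hmon 𝒜) : ℕ) / d) *
        y ^ (((Multiplicative.toAdd h' : Hmon 𝒜) : ℕ) / d) ≠ 0 := mul_ne_zero (hy0' _) (hy0' _)
    apply mul_right_cancel₀ hne
    rw [e3]
    ring

omit [IsAlgClosed k] [IsDomain R] [GradedAlgebra 𝒜] [Algebra.FiniteType k R] in
theorem eq_zero_of_mem_of_eq_bot {n : ℤ} (h : 𝒜 n = ⊥) {z : R} (hz : z ∈ 𝒜 n) : z = 0 := by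
  rw [h] at hz
  exact (Submodule.mem_bot k).mp hz

include 𝒜 in
theorem bijective_lift (h1 : ringKrullDim R = 1) (hpos : ∀ n : ℤ, n < 0 → 𝒜 n = ⊥)
    (h0 : 𝒜 0 = Submodule.span k {(1 : R)}) (F : Multiplicative (Hmon 𝒜) →* R)
    (hF : ∀ h : Hmon 𝒜, F (Multiplicative.ofAdd h) ∈ 𝒜 ((h : ℕ) : ℤ) ∧
      F (Multiplicative.ofAdd h) ≠ 0) :
    Function.Bijective (AddMonoidAlgebra.lift k R (Hmon 𝒜) F) := by
  classical
  constructor
  · rw [injective_iff_map_eq_zero]
    intro p hp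
    rw [AddMonoidAlgebra.lift_apply] at hp
    apply AddMonoidAlgebra.ext
    ext h₀
    have h2 := congrArg (GradedRing.proj 𝒜 ((h₀ : ℕ) : ℤ)) hp
    rw [Finsupp.sum, map_sum, map_zero, Finset.sum_eq_single h₀] at h2
    · rw [GradedRing.proj_apply, DirectSum.decompose_of_mem_same 𝒜
        (Submodule.smul_mem _ _ (hF h₀).1)] at h2
      rcases smul_eq_zero.mp h2 with h3 | h3
      · simpa using h3
      · exact absurd h3 (hF h₀).2
    · intro h _ hne
      rw [GradedRing.proj_apply, DirectSum.decompose_of_mem_ne 𝒜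
        (Submodule.smul_mem _ _ (hF h).1)]
      intro heq
      apply hne
      apply Subtype.ext
      exact_mod_cast heq
    · intro hnot
      rw [Finsupp.notMem_support_iff.mp hnot, zero_smul, map_zero]
  · intro r
    induction r using DirectSum.Decomposition.inductionOn 𝒜 with
    | zero => exact ⟨0, map_zero _⟩
    | homogeneous m =>
      rename_i n
      by_cases hm0 : (m : R) = 0
      · exact ⟨0, by rw [map_zero, hm0]⟩
      · have hn : 0 ≤ n := by
          by_contra hneg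
          push_neg at hneg
          exact hm0 (eq_zero_of_mem_of_eq_bot 𝒜 (hpos n hneg) m.2)
        have hmem : n.toNat ∈ Hmon 𝒜 := by
          rw [mem_Hmon, Int.toNat_of_nonneg hn]
          intro hbot
          exact hm0 (eq_zero_of_mem_of_eq_bot 𝒜 hbot m.2)
        have h4 := (hF ⟨n.toNat, hmem⟩)
        have h5 : (m : R) ∈ 𝒜 (((⟨n.toNat, hmem⟩ : Hmon 𝒜) : ℕ) : ℤ) := by
          simp only [Int.toNat_of_nonneg hn]
          exact m.2
        obtain ⟨c, hc⟩ := exists_smul_eq 𝒜 h1 hpos h0 h5 h4.1 h4.2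
        exact ⟨AddMonoidAlgebra.single ⟨n.toNat, hmem⟩ c, by
          rw [AddMonoidAlgebra.lift_single, hc]⟩
    | add a b ha hb =>
      obtain ⟨pa, rfl⟩ := ha
      obtain ⟨pb, rfl⟩ := hb
      exact ⟨pa + pb, map_add _ _ _⟩

include 𝒜 in
theorem nonempty_equiv (h1 : ringKrullDim R = 1) (hpos : ∀ n : ℤ, n < 0 → 𝒜 n = ⊥)
    (h0 : 𝒜 0 = Submodule.span k {(1 : R)}) :
    Nonempty (R ≃+* AddMonoidAlgebra k (Hmon 𝒜)) := by
  obtain ⟨F, hF⟩ := exists_monoidHom 𝒜 h1 hpos h0
  exact ⟨(RingEquiv.ofBijective (AddMonoidAlgebra.lift k R (Hmon 𝒜) F)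
    (bijective_lift 𝒜 h1 hpos h0 F hF)).symm⟩

include 𝒜 in
theorem Hmon_eq_top (h1 : ringKrullDim R = 1) (hpos : ∀ n : ℤ, n < 0 → 𝒜 n = ⊥)
    (h0 : 𝒜 0 = Submodule.span k {(1 : R)})
    (hgen : Ideal.span (⋃ n ∈ Set.Ioi (0 : ℤ), (𝒜 n : Set R)) =
      Ideal.span ((𝒜 1 : Submodule k R) : Set R)) : Hmon 𝒜 = ⊤ := by
  have hA1 : 𝒜 1 ≠ ⊥ := by
    intro hbot
    obtain ⟨h, hh, hpos'⟩ := exists_pos_mem_Hmon 𝒜 h1 hpos h0
    obtain ⟨x, hx, hx0⟩ := Submodule.exists_mem_ne_zero_of_ne_bot ((mem_Hmon 𝒜).mp hh)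
    have hxmem : x ∈ Ideal.span (⋃ n ∈ Set.Ioi (0 : ℤ), (𝒜 n : Set R)) := by
      apply Ideal.subset_span
      simp only [Set.mem_iUnion, Set.mem_Ioi, SetLike.mem_coe]
      exact ⟨(h : ℤ), by exact_mod_cast hpos', hx⟩
    rw [hgen, hbot] at hxmem
    have : Ideal.span (((⊥ : Submodule k R) : Set R)) = ⊥ := by
      rw [Ideal.span_eq_bot]
      intro z hz
      exact (Submodule.mem_bot k).mp hz
    rw [this] at hxmem
    exact hx0 ((Submodule.mem_bot R).mp hxmem)
  have h1mem : 1 ∈ Hmon 𝒜 := by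
    rw [mem_Hmon]
    simpa using hA1
  rw [eq_top_iff]
  intro n _
  have := (Hmon 𝒜).nsmul_mem h1mem n
  simpa using this

include 𝒜 in
theorem nonempty_equiv_polynomial (h1 : ringKrullDim R = 1) (hpos : ∀ n : ℤ, n < 0 → 𝒜 n = ⊥)
    (h0 : 𝒜 0 = Submodule.span k {(1 : R)})
    (hgen : Ideal.span (⋃ n ∈ Set.Ioi (0 : ℤ), (𝒜 n : Set R)) =
      Ideal.span ((𝒜 1 : Submodule k R) : Set R)) : Nonempty (R ≃+* Polynomial k) := by
  obtain ⟨e⟩ := nonempty_equiv 𝒜 h1 hpos h0
  have htop := Hmon_eq_top 𝒜 h1 hpos h0 hgen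
  let e1 : (Hmon 𝒜) ≃+ ℕ := (AddEquiv.addSubmonoidCongr htop).trans AddSubmonoid.topEquiv
  exact ⟨e.trans (((AddMonoidAlgebra.domCongr k k e1).toRingEquiv).trans
    (Polynomial.toFinsuppIso k).symm)⟩

end main

end Groth.Agent.H67.GradedDimOne
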