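import Mathlib.Combinatorics.SimpleGraph.Finite
import Mathlib.Combinatorics.SimpleGraph.Connectivity.Connected
import Mathlib.Algebra.Group.Pi.Lemmas
import Mathlib.Algebra.BigOperators.Group.Finset.Basic
import Mathlib.Algebra.BigOperators.Pi
import Mathlib.Algebra.BigOperators.Group.Finset.Sigma
import Mathlib.Tactic.Abel

set_option autoImplicit false

namespace Groth.Agent.H67.GraphLab

variable {V : Type*} [DecidableEq V] {A : Type*} [AddCommGroup A]

/-- The alternating labelling along a walk. -/
def lab {H : SimpleGraph V} : ∀ {u v : V}, H.Walk u v → A → Sym2 V → A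
  | _, _, .nil, _ => 0
  | u, _, .cons (v := w) _ p, α => Pi.single s(u, w) α - lab p α

@[simp] theorem lab_nil {H : SimpleGraph V} (u : V) (α : A) :
    lab (SimpleGraph.Walk.nil : H.Walk u u) α = 0 := rfl

@[simp] theorem lab_cons {H : SimpleGraph V} {u w v : V} (h : H.Adj u w) (p : H.Walk w v) (α : A) :
    lab (SimpleGraph.Walk.cons h p) α = Pi.single s(u, w) α - lab p α := rfl

theorem lab_add {H : SimpleGraph V} {u v : V} (p : H.Walk u v) (α β : A) :
    lab p (α + β) = lab p α + lab p β := by
  induction p with
  | nil => simp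
  | cons h p ih =>
    rw [lab_cons, lab_cons, lab_cons, ih, Pi.single_add]
    abel

theorem lab_zero {H : SimpleGraph V} {u v : V} (p : H.Walk u v) :
    lab p (0 : A) = 0 := by
  induction p with
  | nil => simp
  | cons h p ih => rw [lab_cons, ih, Pi.single_zero, sub_zero]

theorem lab_apply_of_notMem {H : SimpleGraph V} {u v : V} (p : H.Walk u v) (α : A) (e : Sym2 V)
    (he : e ∉ p.edges) : lab p α e = 0 := by
  induction p with
  | nil => simp
  | cons h p ih =>
    rw [SimpleGraph.Walk.edges_cons, List.mem_cons, not_or] at he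
    rw [lab_cons, Pi.sub_apply, ih he.2, sub_zero, Pi.single_apply, if_neg he.1]

theorem lab_apply_of_notMem_edgeSet {H : SimpleGraph V} {u v : V} (p : H.Walk u v) (α : A)
    (e : Sym2 V) (he : e ∉ H.edgeSet) : lab p α e = 0 :=
  lab_apply_of_notMem p α e (fun h => he (SimpleGraph.Walk.edges_subset_edgeSet p h))

omit [DecidableEq V] in
theorem neg_one_pow_length {H : SimpleGraph V} (c : V → Bool)
    (hbip : ∀ v w : V, H.Adj v w → c v ≠ c w) {u v : V} (p : H.Walk u v) :
    ((-1 : ℤ) ^ p.length) = if c u = c v then 1 else -1 := by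
  induction p with
  | nil => simp
  | @cons u w v h p ih =>
    rw [SimpleGraph.Walk.length_cons, pow_succ, ih]
    have := hbip u w h
    revert this
    cases c u <;> cases c w <;> cases c v <;> simp

variable [Fintype V]

theorem sum_single_incidence (G : SimpleGraph V) [DecidableRel G.Adj] {u w : V} (h : G.Adj u w)
    (α : A) (t : V) :
    ∑ e ∈ G.incidenceFinset t, (Pi.single s(u, w) α : Sym2 V → A) e =
      (if t = u then α else 0) + (if t = w then α else 0) := by
  have hne : u ≠ w := G.ne_of_adj h
  rw [Finset.sum_pi_single']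
  by_cases h1 : t = u
  · subst h1
    have : t ≠ w := hne
    rw [if_pos, if_pos rfl, if_neg this, add_zero]
    rw [SimpleGraph.mem_incidenceFinset, SimpleGraph.mk'_mem_incidenceSet_iff]
    exact ⟨h, Or.inl rfl⟩
  · by_cases h2 : t = w
    · subst h2
      rw [if_pos, if_neg h1, if_pos rfl, zero_add]
      rw [SimpleGraph.mem_incidenceFinset, SimpleGraph.mk'_mem_incidenceSet_iff]
      exact ⟨h, Or.inr rfl⟩
    · rw [if_neg, if_neg h1, if_neg h2, add_zero]
      rw [SimpleGraph.mem_incidenceFinset, SimpleGraph.mk'_mem_incidenceSet_iff]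
      rintro ⟨-, h3 | h3⟩
      · exact h1 h3
      · exact h2 h3

theorem sum_lab_incidence (G : SimpleGraph V) [DecidableRel G.Adj] {H : SimpleGraph V}
    (hle : H ≤ G) {u v : V} (p : H.Walk u v) (α : A) (t : V) :
    ∑ e ∈ G.incidenceFinset t, lab p α e =
      (if t = u then α else 0) - ((-1 : ℤ) ^ p.length) • (if t = v then α else 0) := by
  induction p with
  | nil => simp
  | @cons u w v h p ih =>
    rw [lab_cons]
    simp only [Pi.sub_apply, Finset.sum_sub_distrib]
    rw [ih, sum_single_incidence G (hle h), SimpleGraph.Walk.length_cons, pow_succ]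
    simp only [mul_neg, mul_one, neg_zsmul]
    abel

end Groth.Agent.H67.GraphLab
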