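import Groth.Agent.H67.GraphLab
import Mathlib.Combinatorics.SimpleGraph.Acyclic
import Mathlib.Algebra.BigOperators.GroupWithZero.Action
import Mathlib.Algebra.Module.BigOperators

set_option autoImplicit false

namespace Groth.Agent.H67.GraphLab

variable {V : Type*} [DecidableEq V] [Fintype V] {A : Type*} [AddCommGroup A]

theorem sum_smul_incidence (G : SimpleGraph V) [DecidableRel G.Adj] (g : V → ℤ)
    (y : Sym2 V → A) :
    ∑ v, g v • ∑ e ∈ G.incidenceFinset v, y e =
      ∑ e ∈ G.edgeFinset, (∑ v, if v ∈ e then g v else 0) • y e := by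
  simp only [Finset.smul_sum, SimpleGraph.incidenceFinset_eq_filter, Finset.sum_filter]
  rw [Finset.sum_comm]
  refine Finset.sum_congr rfl fun e _ => ?_
  rw [Finset.sum_smul]
  refine Finset.sum_congr rfl fun v _ => ?_
  split_ifs <;> simp

omit [DecidableEq V] in
theorem sum_ite_mem_mk [DecidableEq V] (g : V → ℤ) {a b : V} (hab : a ≠ b) :
    (∑ v, if v ∈ s(a, b) then g v else 0) = g a + g b := by
  have : ∀ v, (if v ∈ s(a, b) then g v else 0) =
      (if v = a then g v else 0) + (if v = b then g v else 0) := by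
    intro v
    by_cases h1 : v = a
    · subst h1
      have : v ≠ b := hab
      simp [this]
    · by_cases h2 : v = b
      · subst h2; simp [h1]
      · simp [h1, h2]
  simp only [this, Finset.sum_add_distrib, Finset.sum_ite_eq', Finset.mem_univ, if_true]

theorem eq_zero_of_acyclic (G : SimpleGraph V) [DecidableRel G.Adj] (c : V → Bool)
    (hbip : ∀ v w : V, G.Adj v w → c v ≠ c w) (T : SimpleGraph V) (hT : T.IsAcyclic)
    (hTG : T ≤ G) (y : Sym2 V → A) (hy : ∀ e, e ∉ T.edgeSet → y e = 0)
    (hb : ∀ v, ∑ e ∈ G.incidenceFinset v, y e = 0) : y = 0 := by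
  classical
  funext e₁
  by_cases he₁ : e₁ ∈ T.edgeSet
  swap
  · exact hy e₁ he₁
  revert he₁
  refine Sym2.ind (fun u w => ?_) e₁
  intro he₁
  have hadj : T.Adj u w := he₁
  have hbr : ¬ (T.deleteEdges {s(u, w)}).Reachable u w :=
    SimpleGraph.isBridge_iff.1 (SimpleGraph.isAcyclic_iff_forall_adj_isBridge.1 hT hadj)
  let g : V → ℤ := fun v =>
    if (T.deleteEdges {s(u, w)}).Reachable u v then (if c v then 1 else -1) else 0
  have h0 : ∑ v, g v • ∑ e ∈ G.incidenceFinset v, y e = 0 := by
    simp [hb]
  rw [sum_smul_incidence] at h0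
  have hmem : s(u, w) ∈ G.edgeFinset := by
    rw [SimpleGraph.mem_edgeFinset]; exact hTG hadj
  rw [Finset.sum_eq_single_of_mem s(u, w) hmem] at h0
  · rw [sum_ite_mem_mk g (T.ne_of_adj hadj)] at h0
    have hgu : g u = if c u then 1 else -1 := by
      simp only [g]; rw [if_pos (SimpleGraph.Reachable.refl u)]
    have hgw : g w = 0 := by
      simp only [g]; rw [if_neg hbr]
    rw [hgu, hgw, add_zero] at h0
    change y s(u, w) = 0
    cases hc : c u
    · rw [hc] at h0; simpa using h0
    · rw [hc] at h0; simpa using h0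
  · intro e _ hne
    revert hne
    refine Sym2.ind (fun a b => ?_) e
    intro hne
    by_cases hab : s(a, b) ∈ T.edgeSet
    swap
    · rw [hy _ hab, smul_zero]
    have hab' : T.Adj a b := hab
    have hadj' : (T.deleteEdges {s(u, w)}).Adj a b := by
      rw [SimpleGraph.deleteEdges_adj]
      exact ⟨hab', by simpa using hne⟩
    rw [sum_ite_mem_mk g (T.ne_of_adj hab')]
    have hreach : (T.deleteEdges {s(u, w)}).Reachable u a ↔
        (T.deleteEdges {s(u, w)}).Reachable u b :=
      ⟨fun h => h.trans hadj'.reachable, fun h => h.trans hadj'.symm.reachable⟩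
    have hc := hbip a b (hTG hab')
    have : g a + g b = 0 := by
      simp only [g]
      by_cases hr : (T.deleteEdges {s(u, w)}).Reachable u a
      · rw [if_pos hr, if_pos (hreach.1 hr)]
        revert hc
        cases c a <;> cases c b <;> simp
      · rw [if_neg hr, if_neg (fun h => hr (hreach.2 h))]; simp
    rw [this, zero_smul]

end Groth.Agent.H67.GraphLab
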