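import Mathlib.RingTheory.HopfAlgebra.Basic
import Mathlib.RingTheory.HopfAlgebra.Quotient
import Mathlib.RingTheory.HopfAlgebra.TensorProduct
import Mathlib.RingTheory.DedekindDomain.Basic
import Mathlib.RingTheory.Localization.FractionRing
import Mathlib.RingTheory.Localization.BaseChange
import Mathlib.RingTheory.Flat.Basic
import Mathlib.RingTheory.Flat.TorsionFree
import Mathlib.RingTheory.Flat.Localization
import Mathlib.RingTheory.Flat.Stability
import Mathlib.RingTheory.Ideal.Maps

set_option autoImplicit false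
set_option linter.unusedSectionVars false

universe u

namespace Groth.Agent.H67.HopfDed

open TensorProduct

section Basic

variable (R : Type u) [CommRing R] [IsDomain R] (K : Type u) [Field K] [Algebra R K]
  [IsFractionRing R K]

/-- Every element of `K ⊗ M` has a denominator. -/
theorem exists_smul_eq_one_tmul (M : Type u) [AddCommGroup M] [Module R M] (x : K ⊗[R] M) :
    ∃ (s : R) (m : M), s ≠ 0 ∧ s • x = (1 : K) ⊗ₜ[R] m := by
  obtain ⟨⟨m, s⟩, h⟩ := IsLocalizedModule.surj (nonZeroDivisors R) (TensorProduct.mk R K M 1) x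
  exact ⟨s.1, m, nonZeroDivisors.ne_zero s.2, h⟩

/-- A `K`-module has no `R`-torsion. -/
theorem eq_zero_of_smul_eq_zero {N : Type u} [AddCommGroup N] [Module R N] [Module K N]
    [IsScalarTower R K N] {s : R} (hs : s ≠ 0) {y : N} (h : s • y = 0) : y = 0 := by
  have h1 : algebraMap R K s ≠ 0 := by
    rwa [Ne, map_eq_zero_iff _ (IsFractionRing.injective R K)]
  rw [← algebraMap_smul K s y] at h
  exact (smul_eq_zero.1 h).resolve_left h1

end Basic

section Hopf

variable (R : Type u) [CommRing R] [IsDomain R] (K : Type u) [Field K] [Algebra R K]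
  [IsFractionRing R K] (A : Type u) [CommRing A] [HopfAlgebra R A]

/-- The inclusion `A → K ⊗ A`. -/
abbrev inc : A →ₐ[R] K ⊗[R] A := Algebra.TensorProduct.includeRight

/-- The map `a ⊗ b ↦ (1 ⊗ a) ⊗ (1 ⊗ b)`. -/
noncomputable def theta : A ⊗[R] A →ₗ[R] (K ⊗[R] A) ⊗[K] (K ⊗[R] A) :=
  TensorProduct.lift
    (((TensorProduct.mk K (K ⊗[R] A) (K ⊗[R] A)).restrictScalars₁₂ R R).compl₁₂
      (inc R K A).toLinearMap (inc R K A).toLinearMap)

@[simp] theorem theta_tmul (a b : A) :
    theta R K A (a ⊗ₜ[R] b) = ((1 : K) ⊗ₜ[R] a) ⊗ₜ[K] ((1 : K) ⊗ₜ[R] b) := rfl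

theorem comul_inc (a : A) :
    Coalgebra.comul (R := K) ((1 : K) ⊗ₜ[R] a) = theta R K A (Coalgebra.comul (R := R) a) := by
  rw [TensorProduct.comul_tmul, CommSemiring.comul_apply]
  generalize Coalgebra.comul (R := R) a = t
  induction t using TensorProduct.induction_on with
  | zero => simp
  | tmul x y => simp
  | add x y hx hy => rw [tmul_add, map_add, map_add, hx, hy]

theorem counit_inc (a : A) :
    Coalgebra.counit (R := K) ((1 : K) ⊗ₜ[R] a) = algebraMap R K (Coalgebra.counit (R := R) a) := by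
  simp [Algebra.algebraMap_eq_smul_one]

theorem antipode_inc (a : A) :
    HopfAlgebra.antipode K ((1 : K) ⊗ₜ[R] a) = (1 : K) ⊗ₜ[R] HopfAlgebra.antipode R a := by
  simp

variable {R K A}

section Square

variable (J' : Ideal A) (J : Ideal (K ⊗[R] A)) (hle : J' ≤ J.comap (inc R K A))

/-- The induced map on quotients. -/
noncomputable def qmap :
    (A ⧸ J'.restrictScalars R) →ₗ[R] ((K ⊗[R] A) ⧸ J.restrictScalars K) :=
  (J'.restrictScalars R).liftQ
    (((J.restrictScalars K).mkQ.restrictScalars R) ∘ₗ (inc R K A).toLinearMap)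
    (by
      intro a ha
      rw [LinearMap.mem_ker]
      change (J.restrictScalars K).mkQ (inc R K A a) = 0
      rw [Submodule.mkQ_apply, Submodule.Quotient.mk_eq_zero]
      exact hle ha)

@[simp] theorem qmap_mk (a : A) :
    qmap J' J hle (Submodule.Quotient.mk a) = Submodule.Quotient.mk ((1 : K) ⊗ₜ[R] a) := rfl

/-- The comparison map on tensor squares of quotients. -/
noncomputable def psi :
    (A ⧸ J'.restrictScalars R) ⊗[R] (A ⧸ J'.restrictScalars R) →ₗ[R]
      ((K ⊗[R] A) ⧸ J.restrictScalars K) ⊗[K] ((K ⊗[R] A) ⧸ J.restrictScalars K) :=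
  ((IsLocalization.moduleTensorEquiv (nonZeroDivisors R) K
      ((K ⊗[R] A) ⧸ J.restrictScalars K) ((K ⊗[R] A) ⧸ J.restrictScalars K)).symm.restrictScalars
        R).toLinearMap ∘ₗ TensorProduct.map (qmap J' J hle) (qmap J' J hle)

theorem psi_tmul (x y : A ⧸ J'.restrictScalars R) :
    psi J' J hle (x ⊗ₜ[R] y) = qmap J' J hle x ⊗ₜ[K] qmap J' J hle y := rfl

theorem square (t : A ⊗[R] A) :
    psi J' J hle (TensorProduct.map (J'.restrictScalars R).mkQ (J'.restrictScalars R).mkQ t) =
      TensorProduct.map (J.restrictScalars K).mkQ (J.restrictScalars K).mkQ (theta R K A t) := by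
  induction t using TensorProduct.induction_on with
  | zero => simp
  | tmul x y => rfl
  | add x y hx hy => rw [map_add, map_add, map_add, map_add, hx, hy]

end Square

theorem mem_of_smul_mem (J : Ideal (K ⊗[R] A)) {s : R} (hs : s ≠ 0) {y : K ⊗[R] A}
    (h : s • y ∈ J) : y ∈ J := by
  have h1 : algebraMap R K s ≠ 0 := by
    rwa [Ne, map_eq_zero_iff _ (IsFractionRing.injective R K)]
  have h2 : y = (algebraMap R K s)⁻¹ • (s • y) := by
    rw [← algebraMap_smul K s y, smul_smul, inv_mul_cancel₀ h1, one_smul]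
  rw [h2, Algebra.smul_def]
  exact J.mul_mem_left _ h

theorem exists_smul_eq_inc_of_mem_map (J' : Ideal A) {x : K ⊗[R] A}
    (hx : x ∈ J'.map (inc R K A)) :
    ∃ (s : R) (j : A), s ≠ 0 ∧ j ∈ J' ∧ s • x = (1 : K) ⊗ₜ[R] j := by
  rw [Ideal.map] at hx
  induction hx using Submodule.span_induction with
  | mem x h =>
    obtain ⟨j, hj, rfl⟩ := h
    exact ⟨1, j, one_ne_zero, hj, by simp⟩
  | zero => exact ⟨1, 0, one_ne_zero, J'.zero_mem, by simp⟩
  | add x y _ _ ihx ihy =>
    obtain ⟨s, j, hs, hj, h⟩ := ihx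
    obtain ⟨s', j', hs', hj', h'⟩ := ihy
    refine ⟨s * s', s' • j + s • j', mul_ne_zero hs hs', ?_, ?_⟩
    · refine J'.add_mem ?_ ?_
      · rw [Algebra.smul_def]; exact J'.mul_mem_left _ hj
      · rw [Algebra.smul_def]; exact J'.mul_mem_left _ hj'
    · rw [smul_add, mul_comm s s', mul_smul, h, mul_comm s' s, mul_smul, h', tmul_add, tmul_smul,
        tmul_smul]
  | smul y x _ ih =>
    obtain ⟨s, j, hs, hj, h⟩ := ih
    obtain ⟨s', b, hs', hb⟩ := exists_smul_eq_one_tmul R K A y
    refine ⟨s' * s, b * j, mul_ne_zero hs' hs, J'.mul_mem_left b hj, ?_⟩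
    rw [smul_eq_mul, ← smul_mul_smul_comm, hb, h, Algebra.TensorProduct.tmul_mul_tmul, mul_one]

theorem isHopfIdeal_map (J' : Ideal A) [hJ' : J'.IsHopfIdeal R] :
    (J'.map (inc R K A)).IsHopfIdeal K := by
  have hle : J' ≤ (J'.map (inc R K A)).comap (inc R K A) := Ideal.le_comap_map
  have hco : ((J'.map (inc R K A)).restrictScalars K).IsCoideal := by
    refine ⟨?_, ?_⟩
    · intro x hx
      obtain ⟨s, j, hs, hj, h⟩ := exists_smul_eq_inc_of_mem_map J' hx
      apply eq_zero_of_smul_eq_zero R K hs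
      rw [← LinearMap.map_smul_of_tower, h, counit_inc,
        Submodule.IsCoideal.counit_eq_zero (I := J'.restrictScalars R) hj, map_zero]
    · intro x hx
      obtain ⟨s, j, hs, hj, h⟩ := exists_smul_eq_inc_of_mem_map J' hx
      apply eq_zero_of_smul_eq_zero R K hs
      rw [← LinearMap.map_smul_of_tower, ← LinearMap.map_smul_of_tower, h, comul_inc,
        ← square J' _ hle,
        Submodule.IsCoideal.map_mkQ_comul_eq_zero (I := J'.restrictScalars R) hj, map_zero]
  refine ⟨?_⟩
  · intro x hx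
    obtain ⟨s, j, hs, hj, h⟩ := exists_smul_eq_inc_of_mem_map J' hx
    apply mem_of_smul_mem _ hs
    rw [← LinearMap.map_smul_of_tower, h, antipode_inc]
    exact Ideal.mem_map_of_mem _ (Ideal.IsHopfIdeal.antipode_mem (R := R) hj)

theorem psi_injective (J' : Ideal A) (J : Ideal (K ⊗[R] A)) (hle : J' ≤ J.comap (inc R K A))
    (hinj : Function.Injective (qmap J' J hle)) [Module.Flat R (A ⧸ J'.restrictScalars R)] :
    Function.Injective (psi J' J hle) := by
  have hRK : Module.Flat R K := IsLocalization.flat K (nonZeroDivisors R)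
  have hQ : Module.Flat R ((K ⊗[R] A) ⧸ J.restrictScalars K) :=
    Module.Flat.trans R K _
  unfold psi
  rw [LinearMap.coe_comp]
  refine Function.Injective.comp (LinearEquiv.injective _) ?_
  rw [← LinearMap.rTensor_comp_lTensor, LinearMap.coe_comp]
  exact Function.Injective.comp
    (Module.Flat.rTensor_preserves_injective_linearMap _ hinj)
    (Module.Flat.lTensor_preserves_injective_linearMap _ hinj)

section Surj

variable (J : Ideal (K ⊗[R] A))

theorem mem_comap_of_smul_mem {s : R} (hs : s ≠ 0) {a : A}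
    (h : s • a ∈ J.comap (inc R K A)) : a ∈ J.comap (inc R K A) := by
  rw [Ideal.mem_comap] at h ⊢
  rw [map_smul] at h
  exact mem_of_smul_mem J hs h

theorem isTorsionFree_quot :
    Module.IsTorsionFree R (A ⧸ (J.comap (inc R K A)).restrictScalars R) := by
  rw [Module.isTorsionFree_iff_smul_eq_zero]
  intro r q h
  rcases eq_or_ne r 0 with hr | hr
  · exact Or.inl hr
  · right
    obtain ⟨a, rfl⟩ := Submodule.Quotient.mk_surjective _ q
    rw [← Submodule.Quotient.mk_smul, Submodule.Quotient.mk_eq_zero] at h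
    rw [Submodule.Quotient.mk_eq_zero]
    exact mem_comap_of_smul_mem J hr h

theorem qmap_injective :
    Function.Injective (qmap (J.comap (inc R K A)) J le_rfl) := by
  rw [injective_iff_map_eq_zero]
  intro q hq
  obtain ⟨a, rfl⟩ := Submodule.Quotient.mk_surjective _ q
  rw [qmap_mk, Submodule.Quotient.mk_eq_zero] at hq
  rw [Submodule.Quotient.mk_eq_zero]
  exact hq

theorem map_comap_eq : (J.comap (inc R K A)).map (inc R K A) = J := by
  refine le_antisymm Ideal.map_comap_le (fun x hx => ?_)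
  obtain ⟨s, a, hs, h⟩ := exists_smul_eq_one_tmul R K A x
  have ha : a ∈ J.comap (inc R K A) := by
    rw [Ideal.mem_comap]
    change (1 : K) ⊗ₜ[R] a ∈ J
    rw [← h, Algebra.smul_def]
    exact J.mul_mem_left _ hx
  apply mem_of_smul_mem _ hs
  rw [h]
  exact Ideal.mem_map_of_mem _ ha

theorem isHopfIdeal_comap [IsDedekindDomain R] [hJ : J.IsHopfIdeal K] :
    (J.comap (inc R K A)).IsHopfIdeal R := by
  have htf := isTorsionFree_quot J
  have hflat : Module.Flat R (A ⧸ (J.comap (inc R K A)).restrictScalars R) := inferInstance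
  have hco : ((J.comap (inc R K A)).restrictScalars R).IsCoideal := by
    refine ⟨?_, ?_⟩
    · intro a ha
      have h1 : Coalgebra.counit (R := K) ((1 : K) ⊗ₜ[R] a) = 0 :=
        Submodule.IsCoideal.counit_eq_zero (I := J.restrictScalars K) ha
      rw [counit_inc] at h1
      exact (map_eq_zero_iff _ (IsFractionRing.injective R K)).1 h1
    · intro a ha
      apply psi_injective _ J le_rfl (qmap_injective J)
      rw [square, ← comul_inc, map_zero]
      exact Submodule.IsCoideal.map_mkQ_comul_eq_zero (I := J.restrictScalars K) ha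
  refine ⟨?_⟩
  intro a ha
  rw [Ideal.mem_comap]
  change (1 : K) ⊗ₜ[R] HopfAlgebra.antipode R a ∈ J
  rw [← antipode_inc]
  exact Ideal.IsHopfIdeal.antipode_mem (R := K) ha

end Surj

end Hopf

end Groth.Agent.H67.HopfDed
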