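import Groth.Agent.Lead.K0Dev
import Groth.Agent.H58.ConnDim

/-!
# Lengths of stalks at top-dimensional generic points, and the class of a coherent module
modulo modules of smaller support
-/

set_option autoImplicit false
set_option linter.style.haveILetI false
set_option linter.unusedSectionVars false
set_option linter.unusedVariables false
universe u
open CategoryTheory CategoryTheory.Limits AlgebraicGeometry Opposite TopologicalSpace ZeroObject

namespace Groth.Agent.H67.K0Len

variable {X : Scheme.{u}}

/-- additivity of the length of stalks in short exact sequences -/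
theorem length_stalk_shortExact (S : ShortComplex X.Modules) (hS : S.ShortExact) (y : X) :
    Module.length (X.presheaf.stalk y) (S.X₂.presheaf.stalk y) =
      Module.length (X.presheaf.stalk y) (S.X₁.presheaf.stalk y) +
        Module.length (X.presheaf.stalk y) (S.X₃.presheaf.stalk y) := by
  have h := Groth.Agent.H5.Stalk.stalkFunctor_map_shortExact y _ hS
  have hinj : Function.Injective ((Groth.Agent.H5.Stalk.stalkFunctor y).map S.f).hom :=
    (ModuleCat.mono_iff_injective _).mp h.mono_f
  have hsurj : Function.Surjective ((Groth.Agent.H5.Stalk.stalkFunctor y).map S.g).hom :=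
    (ModuleCat.epi_iff_surjective _).mp h.epi_g
  have hex : Function.Exact ((Groth.Agent.H5.Stalk.stalkFunctor y).map S.f).hom
      ((Groth.Agent.H5.Stalk.stalkFunctor y).map S.g).hom :=
    (ShortComplex.ShortExact.moduleCat_exact_iff_function_exact _).mp h.exact
  exact Module.length_eq_add_of_exact _ _ hinj hsurj hex

/-- the stalk length at a point outside the support is zero -/
theorem length_stalk_eq_zero_of_notMem {M : X.Modules} {y : X} (hy : y ∉ CohB1.support M) :
    Module.length (X.presheaf.stalk y) (M.presheaf.stalk y) = 0 := by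
  have : Subsingleton (M.presheaf.stalk y) := not_not.mp hy
  exact Module.length_eq_zero_iff.mpr this

section Dim

variable {T : Type u} [TopologicalSpace T]

/-- a point whose closure has the dimension `n` of an ambient closed set is the generic point of
every irreducible closed subset of it containing the point -/
theorem closure_eq_of_dim {n : ℕ} {A W : Set T} (hA : topologicalKrullDim ↥A ≤ n)
    (hW : IsIrreducible W) (hWc : IsClosed W) (hWA : W ⊆ A) {x : T} (hx : x ∈ W)
    (hdim : topologicalKrullDim ↥(closure ({x} : Set T)) = n) : closure ({x} : Set T) = W := by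
  have hsub : closure ({x} : Set T) ⊆ W := closure_minimal (Set.singleton_subset_iff.mpr hx) hWc
  by_contra hne
  have hss : closure ({x} : Set T) ⊂ W := lt_of_le_of_ne hsub hne
  have hWn : topologicalKrullDim ↥W ≤ n := (Groth.Agent.H58.ConnDim.dim_mono hWA).trans hA
  have hfin : topologicalKrullDim ↥W < ⊤ :=
    lt_of_le_of_lt hWn (WithBot.coe_lt_coe.mpr (ENat.natCast_lt_top n))
  have hlt := Groth.Agent.H58.ConnDim.dim_lt_of_ssubset isClosed_closure hW hss hfin
  rw [hdim] at hlt
  exact absurd (lt_of_lt_of_le hlt hWn) (lt_irrefl _)

/-- the points of `A` whose closure has dimension `n` -/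
def topPts (A : Set T) (n : ℕ) : Set T :=
  {x | x ∈ A ∧ topologicalKrullDim ↥(closure ({x} : Set T)) = n}

theorem finite_topPts [NoetherianSpace T] [T0Space T] {A : Set T} (hAc : IsClosed A) {n : ℕ}
    (hA : topologicalKrullDim ↥A ≤ n) : (topPts A n).Finite := by
  obtain ⟨S, hSf, hSc, hSi, hSU⟩ := NoetherianSpace.exists_finite_set_isClosed_irreducible hAc
  have hsub : topPts A n ⊆ ⋃ W ∈ S, {x | closure ({x} : Set T) = W} := by
    rintro x ⟨hxA, hdim⟩
    rw [hSU] at hxA
    obtain ⟨W, hWS, hxW⟩ := hxA
    have hWA : W ⊆ A := by rw [hSU]; exact Set.subset_sUnion_of_mem hWS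
    exact Set.mem_biUnion hWS (closure_eq_of_dim hA (hSi W hWS) (hSc W hWS) hWA hxW hdim)
  refine (Set.Finite.biUnion hSf (fun W _ => Set.Subsingleton.finite ?_)).subset hsub
  intro x hx y hy
  have h1 : closure ({x} : Set T) = closure ({y} : Set T) := hx.trans hy.symm
  exact (inseparable_iff_closure_eq.mpr h1).eq

end Dim

end Groth.Agent.H67.K0Len
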