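import Groth.Agent.H67.K0Len

/-!
# `[F] ≡ Σ length(F_x) [O_{Z(x)}]` modulo classes of modules with smaller support
-/

set_option autoImplicit false
set_option linter.style.haveILetI false
set_option linter.unusedSectionVars false
set_option linter.unusedVariables false
universe u
open CategoryTheory CategoryTheory.Limits AlgebraicGeometry Opposite TopologicalSpace ZeroObject

namespace Groth.Agent.H67.K0Len

variable (X : Scheme.{u})

/-- the class of coherent modules -/
abbrev PC : ObjectProperty X.Modules := fun M : X.Modules => Coh.IsCoh M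

variable {X}

/-- length of the stalk -/
noncomputable abbrev len (x : X) (M : X.Modules) : ℕ∞ :=
  Module.length (X.presheaf.stalk x) (M.presheaf.stalk x)

variable (X) in
/-- the subgroup generated by classes of coherent modules with support of dimension `< n` -/
noncomputable def Filt (n : ℕ) : AddSubgroup (KZero.K0sub (PC X)) :=
  AddSubgroup.closure {c : KZero.K0sub (PC X) |
    ∃ G : X.Modules, Coh.IsCoh G ∧ topologicalKrullDim ↥(CohB1.support G) < n ∧
      c = KZero.clSub (PC X) G}

/-- the defect -/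
noncomputable def D (s : Finset X) (M : X.Modules) : KZero.K0sub (PC X) :=
  KZero.clSub (PC X) M -
    ∑ x ∈ s, (len x M).toNat • KZero.clSub (PC X) (Cyc.closureStructureSheaf x)

theorem len_ne_top_iff (S : ShortComplex X.Modules) (hS : S.ShortExact) (x : X) :
    len x S.X₂ ≠ ⊤ ↔ len x S.X₁ ≠ ⊤ ∧ len x S.X₃ ≠ ⊤ := by
  unfold len
  rw [length_stalk_shortExact S hS x]
  exact WithTop.add_ne_top

theorem D_add (s : Finset X) (S : ShortComplex X.Modules) (hS : S.ShortExact)
    (c1 : Coh.IsCoh S.X₁) (c2 : Coh.IsCoh S.X₂) (c3 : Coh.IsCoh S.X₃)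
    (h1 : ∀ x ∈ s, len x S.X₁ ≠ ⊤) (h3 : ∀ x ∈ s, len x S.X₃ ≠ ⊤) :
    D s S.X₂ = D s S.X₁ + D s S.X₃ := by
  unfold D
  rw [Groth.Agent.H17.K0.clSub_shortExact (PC X) S hS c1 c2 c3]
  have hsum : ∑ x ∈ s, (len x S.X₂).toNat • KZero.clSub (PC X) (Cyc.closureStructureSheaf x) =
      ∑ x ∈ s, (len x S.X₁).toNat • KZero.clSub (PC X) (Cyc.closureStructureSheaf x) +
        ∑ x ∈ s, (len x S.X₃).toNat • KZero.clSub (PC X) (Cyc.closureStructureSheaf x) := by
    rw [← Finset.sum_add_distrib]
    refine Finset.sum_congr rfl (fun x hx => ?_)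
    rw [← add_smul]
    congr 1
    have : len x S.X₂ = len x S.X₁ + len x S.X₃ := length_stalk_shortExact S hS x
    rw [this]
    exact ENat.toNat_add (h1 x hx) (h3 x hx)
  rw [hsum]
  abel

end Groth.Agent.H67.K0Len
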