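import Groth.Agent.H67.K0Len2

/-!
# The main dévissage for `[F] ≡ Σ length(F_x) [O_{Z(x)}]`
-/

set_option autoImplicit false
set_option linter.style.haveILetI false
set_option linter.unusedSectionVars false
set_option linter.unusedVariables false
universe u
open CategoryTheory CategoryTheory.Limits AlgebraicGeometry Opposite TopologicalSpace ZeroObject

namespace Groth.Agent.H67.K0Len

variable {X : Scheme.{u}} [IsNoetherian X]

theorem clSub_zero (M : X.Modules) (hM : IsZero M) : KZero.clSub (PC X) M = 0 := by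
  have c0 : Coh.IsCoh M := Groth.Agent.S0026.isCoh_zero M hM
  have hS : (ShortComplex.mk (0 : M ⟶ M) (𝟙 M) zero_comp).ShortExact :=
    Groth.Agent.H67.Dev.shortExact_zero_id hM
  have := Groth.Agent.H17.K0.clSub_shortExact (PC X) _ hS c0 c0 c0
  exact (add_eq_right.mp this.symm)

theorem len_zero (M : X.Modules) (hM : IsZero M) (x : X) : len x M = 0 :=
  length_stalk_eq_zero_of_notMem (Groth.Agent.H67.Dev.notMem_support_of_isZero hM x)

theorem D_zero (s : Finset X) (M : X.Modules) (hM : IsZero M) : D s M = 0 := by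
  unfold D
  rw [clSub_zero M hM, zero_sub, neg_eq_zero]
  refine Finset.sum_eq_zero (fun x _ => ?_)
  rw [len_zero M hM x]
  simp

/-- the key property -/
def KP (n : ℕ) (s : Finset X) : ObjectProperty X.Modules := fun M =>
  Coh.IsCoh M ∧ (∀ x ∈ s, len x M ≠ ⊤) ∧ D s M ∈ Filt X n

instance (n : ℕ) (s : Finset X) : (KP n s).IsClosedUnderIsomorphisms := ⟨by
  intro M N e hM
  have hS := Groth.Agent.Lead.Gabriel.shortExact_iso_zero e
  have cM := hM.1
  have cN := Groth.Agent.S0026.isCoh_iso M N e cM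
  have c0 := Groth.Agent.S0026.isCoh_zero (0 : X.Modules) (isZero_zero _)
  have hfin0 : ∀ x ∈ s, len x (0 : X.Modules) ≠ ⊤ := fun x _ => by
    rw [len_zero _ (isZero_zero _) x]; simp
  have hfinN : ∀ x ∈ s, len x N ≠ ⊤ := fun x hx =>
    (len_ne_top_iff _ hS x).mpr ⟨hM.2.1 x hx, hfin0 x hx⟩
  refine ⟨cN, hfinN, ?_⟩
  have h1 := D_add s _ hS cM cN c0 hM.2.1 hfin0
  rw [D_zero s _ (isZero_zero _), add_zero] at h1
  change D s N = D s M at h1
  rw [h1]
  exact hM.2.2⟩

theorem main (n : ℕ) (A : Set X) (hAc : IsClosed A) (hA : topologicalKrullDim ↥A ≤ n)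
    (s : Finset X) (hs : ∀ x, x ∈ s ↔ x ∈ topPts A n)
    (F : X.Modules) (hF : Coh.IsCoh F) (hFA : CohB1.support F ⊆ A) :
    (∀ x ∈ s, len x F ≠ ⊤) ∧ D s F ∈ Filt X n := by
  classical
  refine (Groth.Agent.S2412.result X (KP n s) ?_ ?_ A hAc ?_ F hF hFA).2
  · intro M hM
    refine ⟨Groth.Agent.S0026.isCoh_zero M hM, fun x _ => ?_, ?_⟩
    · rw [len_zero M hM x]; simp
    · rw [D_zero s M hM]; exact (Filt X n).zero_mem
  · intro S hS c1 c2 c3
    refine ⟨fun h1 h2 => ?_, fun h1 h3 => ?_, fun h2 h3 => ?_⟩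
    · have hf3 : ∀ x ∈ s, len x S.X₃ ≠ ⊤ := fun x hx =>
        ((len_ne_top_iff S hS x).mp (h2.2.1 x hx)).2
      refine ⟨c3, hf3, ?_⟩
      have := D_add s S hS c1 c2 c3 h1.2.1 hf3
      have h' : D s S.X₃ = D s S.X₂ - D s S.X₁ := by rw [this]; abel
      rw [h']
      exact (Filt X n).sub_mem h2.2.2 h1.2.2
    · have hf2 : ∀ x ∈ s, len x S.X₂ ≠ ⊤ := fun x hx =>
        (len_ne_top_iff S hS x).mpr ⟨h1.2.1 x hx, h3.2.1 x hx⟩
      refine ⟨c2, hf2, ?_⟩
      rw [D_add s S hS c1 c2 c3 h1.2.1 h3.2.1]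
      exact (Filt X n).add_mem h1.2.2 h3.2.2
    · have hf1 : ∀ x ∈ s, len x S.X₁ ≠ ⊤ := fun x hx =>
        ((len_ne_top_iff S hS x).mp (h2.2.1 x hx)).1
      refine ⟨c1, hf1, ?_⟩
      have := D_add s S hS c1 c2 c3 hf1 h3.2.1
      have h' : D s S.X₁ = D s S.X₂ - D s S.X₃ := by rw [this]; abel
      rw [h']
      exact (Filt X n).sub_mem h2.2.2 h3.2.2
  · intro Z hZ hZirr hZA y hy
    subst hy
    let G : X.Modules := Cyc.closureStructureSheaf y
    have hGeq : G = Groth.Agent.Lead.K0Dev.pushO ⟨closure {y}, isClosed_closure⟩ := rfl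
    have hGcoh : Coh.IsCoh G := Groth.Agent.Lead.K0Dev.isCoh_pushO _
    have hGs : CohB1.support G = closure ({y} : Set X) := by
      rw [hGeq, Groth.Agent.Lead.K0Dev.support_pushO]; rfl
    have hleny : len y G = 1 :=
      Groth.Agent.Lead.K0Dev.length_pushO ⟨closure {y}, isClosed_closure⟩
        isIrreducible_singleton.closure y rfl
    have hlen0 : ∀ x ∈ s, x ≠ y → len x G = 0 := by
      intro x hx hxy
      apply length_stalk_eq_zero_of_notMem
      rw [hGs]
      intro hxc
      have hx' := (hs x).mp hx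
      have h1 := closure_eq_of_dim hA hZirr hZ hZA hxc hx'.2
      exact hxy (inseparable_iff_closure_eq.mpr h1).eq
    refine ⟨G, hGcoh, ⟨hGcoh, fun x hx => ?_, ?_⟩, hGs.le, ?_, hleny⟩
    · by_cases hxy : x = y
      · rw [hxy, hleny]; simp
      · rw [hlen0 x hx hxy]; simp
    · by_cases hys : y ∈ s
      · have hsum : ∑ x ∈ s, (len x G).toNat • KZero.clSub (PC X) (Cyc.closureStructureSheaf x) =
            KZero.clSub (PC X) G := by
          rw [Finset.sum_eq_single y (fun x hx hxy => by rw [hlen0 x hx hxy]; simp)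
            (fun h => absurd hys h), hleny]
          simp [G]
        unfold D
        rw [hsum, sub_self]
        exact (Filt X n).zero_mem
      · have hsum : ∑ x ∈ s, (len x G).toNat • KZero.clSub (PC X) (Cyc.closureStructureSheaf x) =
            0 := by
          refine Finset.sum_eq_zero (fun x hx => ?_)
          have hxy : x ≠ y := fun h => hys (h ▸ hx)
          rw [hlen0 x hx hxy]; simp
        unfold D
        rw [hsum, sub_zero]
        refine AddSubgroup.subset_closure ⟨G, hGcoh, ?_, rfl⟩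
        rw [hGs]
        have hle : topologicalKrullDim ↥(closure ({y} : Set X)) ≤ n :=
          (Groth.Agent.H58.ConnDim.dim_mono hZA).trans hA
        refine lt_of_le_of_ne hle (fun heq => hys ((hs y).mpr ⟨hZA (subset_closure rfl), heq⟩))
    · exact Groth.Agent.Lead.Gabriel.killedByIdeal_pushforward _ _

end Groth.Agent.H67.K0Len
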