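import Groth.Agent.H67.K0Len3

/-!
# The dévissage `[F] ≡ Σ_{x ∈ s} length(F_x) [O_{Z(x)}]` for a finite set `s` of maximal points,
modulo an arbitrary subgroup containing the classes of the modules whose support misses `s`
-/

set_option autoImplicit false
set_option linter.style.haveILetI false
set_option linter.unusedSectionVars false
set_option linter.unusedVariables false
universe u
open CategoryTheory CategoryTheory.Limits AlgebraicGeometry Opposite TopologicalSpace ZeroObject

namespace Groth.Agent.H67.K0Len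

variable {X : Scheme.{u}} [IsNoetherian X]

/-- the key property, for a general subgroup -/
def KP' (s : Finset X) (Fl : AddSubgroup (KZero.K0sub (PC X))) : ObjectProperty X.Modules :=
  fun M => Coh.IsCoh M ∧ (∀ x ∈ s, len x M ≠ ⊤) ∧ D s M ∈ Fl

instance (s : Finset X) (Fl : AddSubgroup (KZero.K0sub (PC X))) :
    (KP' s Fl).IsClosedUnderIsomorphisms := ⟨by
  intro M N e hM
  have hS := Groth.Agent.Lead.Gabriel.shortExact_iso_zero e
  have cM := hM.1
  have cN := Groth.Agent.S0026.isCoh_iso M N e cM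
  have c0 := Groth.Agent.S0026.isCoh_zero (0 : X.Modules) (isZero_zero _)
  have hfin0 : ∀ x ∈ s, len x (0 : X.Modules) ≠ ⊤ := fun x _ => by
    rw [len_zero _ (isZero_zero _) x]; simp
  have hfinN : ∀ x ∈ s, len x N ≠ ⊤ := fun x hx =>
    (len_ne_top_iff _ hS x).mpr ⟨hM.2.1 x hx, hfin0 x hx⟩
  refine ⟨cN, hfinN, ?_⟩
  have h1 := D_add s _ hS cM cN c0 hM.2.1 hfin0
  rw [D_zero s _ (isZero_zero _), add_zero] at h1
  change D s N = D s M at h1
  rw [h1]
  exact hM.2.2⟩

/-- the length at `x` of the structure sheaf of the closure of `y` -/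
theorem len_closureStructureSheaf_self (y : X) : len y (Cyc.closureStructureSheaf y) = 1 :=
  Groth.Agent.Lead.K0Dev.length_pushO ⟨closure {y}, isClosed_closure⟩
    isIrreducible_singleton.closure y rfl

theorem support_closureStructureSheaf (y : X) :
    CohB1.support (Cyc.closureStructureSheaf y) = closure ({y} : Set X) := by
  have hGeq : Cyc.closureStructureSheaf y =
      Groth.Agent.Lead.K0Dev.pushO ⟨closure {y}, isClosed_closure⟩ := rfl
  rw [hGeq, Groth.Agent.Lead.K0Dev.support_pushO]; rfl

theorem isCoh_closureStructureSheaf (y : X) : Coh.IsCoh (Cyc.closureStructureSheaf y) :=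
  Groth.Agent.Lead.K0Dev.isCoh_pushO _

theorem len_closureStructureSheaf_of_notMem {x y : X} (h : x ∉ closure ({y} : Set X)) :
    len x (Cyc.closureStructureSheaf y) = 0 := by
  apply length_stalk_eq_zero_of_notMem
  rw [support_closureStructureSheaf]
  exact h

/-- Dévissage for a finite set `s` of points without proper generalizations. -/
theorem main_gen (s : Finset X) (Fl : AddSubgroup (KZero.K0sub (PC X)))
    (hs : ∀ x ∈ s, ∀ y : X, x ∈ closure ({y} : Set X) → x = y)
    (hFl : ∀ G : X.Modules, Coh.IsCoh G → (∀ x ∈ s, x ∉ CohB1.support G) →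
      KZero.clSub (PC X) G ∈ Fl)
    (F : X.Modules) (hF : Coh.IsCoh F) :
    (∀ x ∈ s, len x F ≠ ⊤) ∧ D s F ∈ Fl := by
  classical
  refine (Groth.Agent.S2412.result X (KP' s Fl) ?_ ?_ Set.univ isClosed_univ ?_ F hF
    (Set.subset_univ _)).2
  · intro M hM
    refine ⟨Groth.Agent.S0026.isCoh_zero M hM, fun x _ => ?_, ?_⟩
    · rw [len_zero M hM x]; simp
    · rw [D_zero s M hM]; exact Fl.zero_mem
  · intro S hS c1 c2 c3
    refine ⟨fun h1 h2 => ?_, fun h1 h3 => ?_, fun h2 h3 => ?_⟩
    · have hf3 : ∀ x ∈ s, len x S.X₃ ≠ ⊤ := fun x hx =>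
        ((len_ne_top_iff S hS x).mp (h2.2.1 x hx)).2
      refine ⟨c3, hf3, ?_⟩
      have := D_add s S hS c1 c2 c3 h1.2.1 hf3
      have h' : D s S.X₃ = D s S.X₂ - D s S.X₁ := by rw [this]; abel
      rw [h']
      exact Fl.sub_mem h2.2.2 h1.2.2
    · have hf2 : ∀ x ∈ s, len x S.X₂ ≠ ⊤ := fun x hx =>
        (len_ne_top_iff S hS x).mpr ⟨h1.2.1 x hx, h3.2.1 x hx⟩
      refine ⟨c2, hf2, ?_⟩
      rw [D_add s S hS c1 c2 c3 h1.2.1 h3.2.1]
      exact Fl.add_mem h1.2.2 h3.2.2
    · have hf1 : ∀ x ∈ s, len x S.X₁ ≠ ⊤ := fun x hx =>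
        ((len_ne_top_iff S hS x).mp (h2.2.1 x hx)).1
      refine ⟨c1, hf1, ?_⟩
      have := D_add s S hS c1 c2 c3 hf1 h3.2.1
      have h' : D s S.X₁ = D s S.X₂ - D s S.X₃ := by rw [this]; abel
      rw [h']
      exact Fl.sub_mem h2.2.2 h3.2.2
  · intro Z hZ hZirr hZA y hy
    subst hy
    let G : X.Modules := Cyc.closureStructureSheaf y
    have hGcoh : Coh.IsCoh G := isCoh_closureStructureSheaf y
    have hGs : CohB1.support G = closure ({y} : Set X) := support_closureStructureSheaf y
    have hleny : len y G = 1 := len_closureStructureSheaf_self y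
    have hlen0 : ∀ x ∈ s, x ≠ y → len x G = 0 := by
      intro x hx hxy
      apply len_closureStructureSheaf_of_notMem
      intro hxc
      exact hxy (hs x hx y hxc)
    refine ⟨G, hGcoh, ⟨hGcoh, fun x hx => ?_, ?_⟩, hGs.le, ?_, hleny⟩
    · by_cases hxy : x = y
      · rw [hxy, hleny]; simp
      · rw [hlen0 x hx hxy]; simp
    · by_cases hys : y ∈ s
      · have hsum : ∑ x ∈ s, (len x G).toNat • KZero.clSub (PC X) (Cyc.closureStructureSheaf x) =
            KZero.clSub (PC X) G := by
          rw [Finset.sum_eq_single y (fun x hx hxy => by rw [hlen0 x hx hxy]; simp)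
            (fun h => absurd hys h), hleny]
          simp [G]
        unfold D
        rw [hsum, sub_self]
        exact Fl.zero_mem
      · have hsum : ∑ x ∈ s, (len x G).toNat • KZero.clSub (PC X) (Cyc.closureStructureSheaf x) =
            0 := by
          refine Finset.sum_eq_zero (fun x hx => ?_)
          have hxy : x ≠ y := fun h => hys (h ▸ hx)
          rw [hlen0 x hx hxy]; simp
        unfold D
        rw [hsum, sub_zero]
        refine hFl G hGcoh (fun x hx hxG => ?_)
        rw [hGs] at hxG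
        exact hys (hs x hx y hxG ▸ hx)
    · exact Groth.Agent.Lead.Gabriel.killedByIdeal_pushforward _ _

end Groth.Agent.H67.K0Len
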