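import Groth.Agent.H67.K0Len4
import Groth.Agent.H51.TopIrred
import Groth.Agent.H54.OneDimTop

/-!
# The rank homomorphism on `K'_0` of a Noetherian scheme: lengths of stalks at the points with
zero-dimensional local ring
-/

set_option autoImplicit false
set_option linter.style.haveILetI false
set_option linter.unusedSectionVars false
set_option linter.unusedVariables false
universe u
open CategoryTheory CategoryTheory.Limits AlgebraicGeometry Opposite TopologicalSpace ZeroObject

namespace Groth.Agent.H67.K0Rank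

open Groth.Agent.H67.K0Len

variable {X : Scheme.{u}}

/-- a point with zero-dimensional local ring has no proper generalization -/
theorem eq_of_specializes_of_dim_zero {x y : X} (hx : ringKrullDim (X.presheaf.stalk x) = 0)
    (h : y ⤳ x) : y = x := by
  have hy : y ∈ Set.range (X.fromSpecStalk x) := by rw [Scheme.range_fromSpecStalk]; exact h
  obtain ⟨q, rfl⟩ := hy
  haveI : Ring.KrullDimLE 0 (X.presheaf.stalk x) := by rw [Ring.krullDimLE_iff, hx]; rfl
  have hq : q = IsLocalRing.closedPoint (X.presheaf.stalk x) := by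
    apply PrimeSpectrum.ext
    exact IsLocalRing.eq_maximalIdeal q.isPrime.isMaximal'
  rw [hq]; exact Scheme.fromSpecStalk_closedPoint

theorem one_le_of_nonneg_of_ne_zero (d : WithBot ℕ∞) (h0 : 0 ≤ d) (hne : d ≠ 0) : 1 ≤ d := by
  induction d using WithBot.recBotCoe with
  | bot => simp at h0
  | coe n =>
    have hn : n ≠ 0 := fun h => hne (by rw [h]; rfl)
    exact_mod_cast ENat.one_le_iff_ne_zero.mpr hn

theorem one_le_dim_of_ne_zero (x : X) (hx : ringKrullDim (X.presheaf.stalk x) ≠ 0) :
    (1 : WithBot ℕ∞) ≤ ringKrullDim (X.presheaf.stalk x) :=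
  one_le_of_nonneg_of_ne_zero _ ringKrullDim_nonneg_of_nontrivial hx

variable (X) in
/-- the points with zero-dimensional local ring -/
abbrev T : Type u := {x : X // ringKrullDim (X.presheaf.stalk x) = 0}

variable [IsNoetherian X]

instance finite_T : Finite (T X) := by
  have hsub : {x : X | ringKrullDim (X.presheaf.stalk x) = 0} ⊆ genericPoints X := by
    intro x hx
    refine (Groth.Agent.H51.mem_genericPoints_iff x).mpr (fun y hy => ?_)
    rw [eq_of_specializes_of_dim_zero hx hy]
  exact (Groth.Agent.H54.OneDimTop.finite_genericPoints.subset hsub).to_subtype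

noncomputable instance fintype_T : Fintype (T X) := Fintype.ofFinite _

variable (X) in
/-- the finite set of points with zero-dimensional local ring -/
noncomputable def sT : Finset X :=
  (Finset.univ : Finset (T X)).map ⟨Subtype.val, Subtype.val_injective⟩

theorem mem_sT (x : X) : x ∈ sT X ↔ ringKrullDim (X.presheaf.stalk x) = 0 := by
  unfold sT
  simp only [Finset.mem_map, Finset.mem_univ, Function.Embedding.coeFn_mk, true_and]
  exact ⟨fun ⟨a, ha⟩ => ha ▸ a.2, fun h => ⟨⟨x, h⟩, rfl⟩⟩

theorem hs_sT : ∀ x ∈ sT X, ∀ y : X, x ∈ closure ({y} : Set X) → x = y := by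
  intro x hx y hxy
  exact (eq_of_specializes_of_dim_zero ((mem_sT x).mp hx) (specializes_iff_mem_closure.mpr hxy)).symm

variable (X) in
/-- the subgroup generated by the classes of the coherent modules whose support contains no point
with zero-dimensional local ring -/
noncomputable def Fl : AddSubgroup (KZero.K0sub (PC X)) :=
  AddSubgroup.closure {c : KZero.K0sub (PC X) | ∃ F : X.Modules, Coh.IsCoh F ∧
    (∀ x ∈ CohB1.support F, (1 : WithBot ℕ∞) ≤ ringKrullDim (X.presheaf.stalk x)) ∧
    c = KZero.clSub (PC X) F}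

theorem hFl : ∀ G : X.Modules, Coh.IsCoh G → (∀ x ∈ sT X, x ∉ CohB1.support G) →
    KZero.clSub (PC X) G ∈ Fl X := by
  intro G hG h
  refine AddSubgroup.subset_closure ⟨G, hG, fun x hx => ?_, rfl⟩
  apply one_le_dim_of_ne_zero
  intro h0
  exact h x ((mem_sT x).mpr h0) hx

theorem len_ne_top (F : X.Modules) (hF : Coh.IsCoh F) (a : T X) : len a.1 F ≠ ⊤ :=
  (main_gen (sT X) (Fl X) hs_sT hFl F hF).1 a.1 ((mem_sT a.1).mpr a.2)

theorem D_mem (F : X.Modules) (hF : Coh.IsCoh F) : D (sT X) F ∈ Fl X :=
  (main_gen (sT X) (Fl X) hs_sT hFl F hF).2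

variable (X) in
/-- the rank homomorphism -/
noncomputable def rk : KZero.K0sub (PC X) →+ (T X → ℤ) :=
  Groth.Agent.H17.K0.lift (PC X) (fun M => fun a : T X => ((len a.1 M.1).toNat : ℤ)) (by
    intro S h1 h2 h3 hS
    funext a
    have := length_stalk_shortExact S hS a.1
    change ((len a.1 S.X₂).toNat : ℤ) = ((len a.1 S.X₁).toNat : ℤ) + ((len a.1 S.X₃).toNat : ℤ)
    have h : len a.1 S.X₂ = len a.1 S.X₁ + len a.1 S.X₃ := this
    rw [h, ENat.toNat_add (len_ne_top S.X₁ h1 a) (len_ne_top S.X₃ h3 a)]
    push_cast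
    rfl)

theorem rk_clSub (F : X.Modules) (hF : Coh.IsCoh F) :
    rk X (KZero.clSub (PC X) F) = fun a : T X => ((len a.1 F).toNat : ℤ) :=
  Groth.Agent.H17.K0.lift_clSub (PC X) _ _ hF

/-- the class of the structure sheaf of the closure of a point -/
noncomputable abbrev cl (a : T X) : KZero.K0sub (PC X) :=
  KZero.clSub (PC X) (Cyc.closureStructureSheaf a.1)

/-- the section of the rank -/
noncomputable def θ (g : T X → ℤ) : KZero.K0sub (PC X) := ∑ a : T X, g a • cl a

theorem θ_add (g g' : T X → ℤ) : θ (g + g') = θ g + θ g' := by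
  unfold θ
  rw [← Finset.sum_add_distrib]
  exact Finset.sum_congr rfl (fun a _ => by rw [Pi.add_apply, add_smul])

theorem θ_neg (g : T X → ℤ) : θ (-g) = -θ g := by
  unfold θ
  rw [← Finset.sum_neg_distrib]
  exact Finset.sum_congr rfl (fun a _ => by rw [Pi.neg_apply, neg_smul])

theorem θ_zero : θ (0 : T X → ℤ) = 0 := by
  unfold θ
  exact Finset.sum_eq_zero (fun a _ => by rw [Pi.zero_apply, zero_smul])

open Classical in
theorem rk_cl (a : T X) : rk X (cl a) = fun b : T X => if b = a then 1 else 0 := by
  rw [cl, rk_clSub _ (isCoh_closureStructureSheaf a.1)]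
  funext b
  by_cases hba : b = a
  · rw [if_pos hba, hba, len_closureStructureSheaf_self]; rfl
  · rw [if_neg hba, len_closureStructureSheaf_of_notMem]
    · rfl
    · intro hmem
      apply hba
      exact Subtype.ext (hs_sT b.1 ((mem_sT b.1).mpr b.2) a.1 hmem)

theorem rk_θ (g : T X → ℤ) : rk X (θ g) = g := by
  classical
  unfold θ
  rw [map_sum]
  funext b
  rw [Finset.sum_apply]
  have : ∀ a : T X, (rk X (g a • cl a)) b = if b = a then g a else 0 := by
    intro a
    rw [map_zsmul, rk_cl, Pi.smul_apply]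
    by_cases hba : b = a
    · simp [hba]
    · simp [hba]
  rw [Finset.sum_congr rfl (fun a _ => this a)]
  simp

theorem sub_θ_rk_mem (c : KZero.K0sub (PC X)) : c - θ (rk X c) ∈ Fl X := by
  induction c using Groth.Agent.H17.K0.induction_on (PC X) with
  | h0 => rw [map_zero, θ_zero, sub_zero]; exact (Fl X).zero_mem
  | hcl F hF =>
    have : KZero.clSub (PC X) F - θ (rk X (KZero.clSub (PC X) F)) = D (sT X) F := by
      unfold D θ sT
      rw [Finset.sum_map, rk_clSub F hF]
      congr 1
    rw [this]
    exact D_mem F hF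
  | hneg x hx =>
    rw [map_neg, θ_neg]
    have : -x - -θ (rk X x) = -(x - θ (rk X x)) := by abel
    rw [this]
    exact (Fl X).neg_mem hx
  | hadd x y hx hy =>
    rw [map_add, θ_add]
    have : x + y - (θ (rk X x) + θ (rk X y)) = (x - θ (rk X x)) + (y - θ (rk X y)) := by abel
    rw [this]
    exact (Fl X).add_mem hx hy

theorem rk_surjective : Function.Surjective (rk X) := fun g => ⟨θ g, rk_θ g⟩

theorem rk_ker : (rk X).ker = Fl X := by
  apply le_antisymm
  · intro c hc
    rw [AddMonoidHom.mem_ker] at hc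
    have := sub_θ_rk_mem c
    rwa [hc, θ_zero, sub_zero] at this
  · unfold Fl
    rw [AddSubgroup.closure_le]
    rintro c ⟨F, hF, hsupp, rfl⟩
    rw [SetLike.mem_coe, AddMonoidHom.mem_ker, rk_clSub F hF]
    funext a
    have ha : a.1 ∉ CohB1.support F := by
      intro h
      have h1 := hsupp a.1 h
      rw [a.2] at h1
      exact absurd h1 (by decide)
    change ((len a.1 F).toNat : ℤ) = 0
    rw [show len a.1 F = 0 from length_stalk_eq_zero_of_notMem ha]
    rfl

end Groth.Agent.H67.K0Rank
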