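import Mathlib.FieldTheory.SeparablyGenerated
import Mathlib.LinearAlgebra.LinearIndependent.BaseChange
import Mathlib.RingTheory.MvPolynomial.Expand
import Mathlib.RingTheory.AlgebraicIndependent.Adjoin
import Mathlib.RingTheory.Localization.Integer
import Mathlib.FieldTheory.PurelyInseparable.PerfectClosure

set_option autoImplicit false

namespace Groth.Agent.H67.MacLane

open MvPolynomial

/-- Componentwise `p`-th powers preserve `k`-linear independence of finite families of
finite vectors with entries in `A`. -/
def PV (k A : Type*) [Field k] [CommRing A] [Algebra k A] (p : ℕ) : Prop :=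
  ∀ (m r : ℕ) (a : Fin m → Fin r → A), LinearIndependent k a →
    LinearIndependent k (fun i j => a i j ^ p)

theorem frob_li {k : Type*} [Field k] (p : ℕ) [ExpChar k p] {ι E : Type*} [Finite E]
    {w : ι → E → k} (h : LinearIndependent k w) :
    LinearIndependent k (fun i e => w i e ^ p) := by
  have hinj : Function.Injective (frobenius k p) := (frobenius k p).injective
  have hf : @FaithfulSMul k k (@Algebra.toSMul k k _ _ (frobenius k p).toAlgebra) :=
    (@faithfulSMul_iff_algebraMap_injective k k _ _ (frobenius k p).toAlgebra).mpr hinj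
  have := (@linearIndependent_algebraMap_comp_iff ι E _ k k _ _
    (frobenius k p).toAlgebra hf _ w).mpr h
  have e : (fun i e => w i e ^ p) =
      fun i => ⇑(@algebraMap k k _ _ (frobenius k p).toAlgebra) ∘ w i := by
    funext i e; rfl
  rw [e]; exact this

theorem coeff_smul_pow {k σ : Type*} [CommSemiring k] (p : ℕ) [ExpChar k p]
    (f : MvPolynomial σ k) (t : σ →₀ ℕ) :
    coeff (p • t) (f ^ p) = (coeff t f) ^ p := by
  rw [← map_frobenius_expand p, coeff_map, coeff_expand_smul p (expChar_ne_zero k p), frobenius_def]

theorem pv_mvPolynomial {k : Type*} [Field k] (p : ℕ) [ExpChar k p] (σ : Type*) :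
    PV k (MvPolynomial σ k) p := by
  classical
  intro m r g hg
  let T : Finset (σ →₀ ℕ) :=
    Finset.univ.biUnion fun i => Finset.univ.biUnion fun j => (g i j).support
  have hT : ∀ i j t, t ∉ T → coeff t (g i j) = 0 := by
    intro i j t ht
    by_contra hne
    exact ht (Finset.mem_biUnion.mpr ⟨i, Finset.mem_univ _,
      Finset.mem_biUnion.mpr ⟨j, Finset.mem_univ _, mem_support_iff.mpr hne⟩⟩)
  let w : Fin m → (Fin r × T) → k := fun i x => coeff x.2.1 (g i x.1)
  have hw : LinearIndependent k w := by
    rw [Fintype.linearIndependent_iff] at hg ⊢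
    intro c hc
    apply hg c
    funext j
    ext t
    by_cases ht : t ∈ T
    · have := congrFun hc (j, ⟨t, ht⟩)
      simpa [w, coeff_sum] using this
    · simp [coeff_sum, hT _ _ _ ht]
  have hw' := frob_li p hw
  rw [Fintype.linearIndependent_iff] at hw' ⊢
  intro c hc
  apply hw' c
  funext x
  obtain ⟨j, t, ht⟩ := x
  have := congrArg (coeff (p • t)) (congrFun hc j)
  simpa [w, coeff_sum, coeff_smul_pow] using this

theorem PV.of_injective {k A B : Type*} [Field k] [CommRing A] [CommRing B] [Algebra k A]
    [Algebra k B] {p : ℕ} (f : A →ₐ[k] B) (hf : Function.Injective f) (h : PV k B p) :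
    PV k A p := by
  intro m r a ha
  have h1 : LinearIndependent k ((f.toLinearMap.compLeft (Fin r)) ∘ a) :=
    ha.map' _ (LinearMap.ker_eq_bot.mpr (fun x y hxy => by
      funext j; exact hf (congrFun hxy j)))
  have h2 := h m r _ h1
  have h3 : (fun i j => ((f.toLinearMap.compLeft (Fin r)) ∘ a) i j ^ p) =
      (f.toLinearMap.compLeft (Fin r)) ∘ (fun i j => a i j ^ p) := by
    funext i j; simp
  rw [h3] at h2
  exact h2.of_comp

/-- Multiply each entry (after mapping to `F`) by a fixed constant. -/
noncomputable def scaleMap (k : Type*) {A F : Type*} [Field k] [CommRing A] [Field F]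
    [Algebra k A] [Algebra A F] [Algebra k F] [IsScalarTower k A F] (r : ℕ) (c : F) :
    (Fin r → A) →ₗ[k] (Fin r → F) :=
  ((LinearMap.mulLeft k c).comp (IsScalarTower.toAlgHom k A F).toLinearMap).compLeft (Fin r)

theorem scaleMap_apply (k : Type*) {A F : Type*} [Field k] [CommRing A] [Field F]
    [Algebra k A] [Algebra A F] [Algebra k F] [IsScalarTower k A F] (r : ℕ) (c : F)
    (h : Fin r → A) (j : Fin r) : scaleMap k r c h j = c * algebraMap A F (h j) := rfl

theorem scaleMap_ker (k : Type*) {A F : Type*} [Field k] [CommRing A] [Field F]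
    [Algebra k A] [Algebra A F] [Algebra k F] [IsScalarTower k A F]
    (hinj : Function.Injective (algebraMap A F)) (r : ℕ) (c : F) (hc : c ≠ 0) :
    LinearMap.ker (scaleMap k (A := A) r c) = ⊥ := by
  rw [LinearMap.ker_eq_bot]
  intro x y hxy
  funext j
  have := congrFun hxy j
  rw [scaleMap_apply, scaleMap_apply] at this
  exact hinj (mul_left_cancel₀ hc this)

theorem PV.fraction {k A F : Type*} [Field k] [CommRing A] [IsDomain A] [Field F]
    [Algebra k A] [Algebra A F] [Algebra k F] [IsScalarTower k A F] [IsFractionRing A F]
    {p : ℕ} (h : PV k A p) : PV k F p := by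
  intro m r a ha
  obtain ⟨b, hb⟩ := IsLocalization.exist_integer_multiples_of_finite (nonZeroDivisors A)
    (fun x : Fin m × Fin r => a x.1 x.2)
  choose g hg using hb
  have hinj : Function.Injective (algebraMap A F) := IsFractionRing.injective A F
  set β : F := algebraMap A F b with hβ
  have hβ0 : β ≠ 0 := by
    rw [hβ]
    exact (map_ne_zero_iff _ hinj).mpr (nonZeroDivisors.ne_zero b.2)
  have hga : ∀ i j, a i j = β⁻¹ * algebraMap A F (g (i, j)) := by
    intro i j
    have := hg (i, j)
    rw [Algebra.smul_def] at this
    rw [this, ← mul_assoc, inv_mul_cancel₀ hβ0, one_mul]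
  let g' : Fin m → Fin r → A := fun i j => g (i, j)
  have e1 : a = scaleMap k r β⁻¹ ∘ g' := by
    funext i j
    rw [Function.comp_apply, scaleMap_apply, hga]
  have hg' : LinearIndependent k g' := by
    rw [e1] at ha
    exact ha.of_comp
  have h2 := h m r g' hg'
  have h3 := h2.map' (scaleMap k r (β⁻¹ ^ p)) (scaleMap_ker k hinj r _ (pow_ne_zero _ (inv_ne_zero hβ0)))
  have e2 : (fun i j => a i j ^ p) = scaleMap k r (β⁻¹ ^ p) ∘ (fun i j => g' i j ^ p) := by
    funext i j
    rw [Function.comp_apply, scaleMap_apply, hga, mul_pow, map_pow]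
  rw [e2]
  exact h3

theorem tower {k F K : Type*} [Field k] [Field F] [Field K] [Algebra k F] [Algebra F K]
    [Algebra k K] [IsScalarTower k F K] [Algebra.IsSeparable F K] (p : ℕ) [ExpChar k p]
    (h : PV k F p) {ι : Type*} {v : ι → K} (hv : LinearIndependent k v) :
    LinearIndependent k (fun i => v i ^ p) := by
  classical
  haveI : ExpChar F p := expChar_of_injective_algebraMap (algebraMap k F).injective p
  haveI : ExpChar K p := expChar_of_injective_algebraMap (algebraMap F K).injective p
  rw [linearIndependent_iff_finset_linearIndependent] at hv ⊢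
  intro s
  let e : Fin s.card ≃ s := s.equivFin.symm
  have hv' : LinearIndependent k (fun i : Fin s.card => v (e i)) := (hv s).comp e e.injective
  suffices hsuff : LinearIndependent k (fun i : Fin s.card => v (e i) ^ p) by
    have := hsuff.comp e.symm e.symm.injective
    simpa [Function.comp_def] using this
  let W : Submodule F K := Submodule.span F (Set.range fun i : Fin s.card => v (e i))
  haveI : FiniteDimensional F W := FiniteDimensional.span_of_finite F (Set.finite_range _)
  let t : Module.Basis (Fin (Module.finrank F W)) F W := Module.finBasis F W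
  let a : Fin s.card → Fin (Module.finrank F W) → F :=
    fun i => t.repr ⟨v (e i), Submodule.subset_span ⟨i, rfl⟩⟩
  have hva : ∀ i, v (e i) = ∑ j, a i j • (t j : K) := by
    intro i
    have h1 := t.sum_repr ⟨v (e i), Submodule.subset_span ⟨i, rfl⟩⟩
    have h2 := congrArg (Subtype.val) h1
    simp only [Submodule.coe_sum, Submodule.coe_smul] at h2
    exact h2.symm
  let Φ : (Fin (Module.finrank F W) → F) →ₗ[F] K :=
    Fintype.linearCombination F (fun j => (t j : K))
  have ha : LinearIndependent k a := by
    have : (Φ.restrictScalars k) ∘ a = fun i : Fin s.card => v (e i) := by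
      funext i
      rw [Function.comp_apply, LinearMap.restrictScalars_apply, Fintype.linearCombination_apply,
        hva]
    rw [← this] at hv'
    exact hv'.of_comp
  have hap := h _ _ a ha
  have ht : LinearIndependent F (fun j => (t j : K) ^ p) := by
    have h1 : LinearIndependent F (fun j => (t j : K)) :=
      t.linearIndependent.map' W.subtype (Submodule.ker_subtype W)
    have h2 := h1.map_pow_expChar_pow_of_isSeparable p 1
    simpa using h2
  let Ψ : (Fin (Module.finrank F W) → F) →ₗ[F] K :=
    Fintype.linearCombination F (fun j => (t j : K) ^ p)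
  have hker : LinearMap.ker (Ψ.restrictScalars k) = ⊥ := by
    rw [LinearMap.ker_eq_bot']
    intro c hc
    rw [LinearMap.restrictScalars_apply, Fintype.linearCombination_apply] at hc
    funext j
    exact Fintype.linearIndependent_iff.mp ht c hc j
  have hfin := hap.map' (Ψ.restrictScalars k) hker
  have e2 : (Ψ.restrictScalars k) ∘ (fun i j => a i j ^ p) =
      fun i : Fin s.card => v (e i) ^ p := by
    funext i
    rw [Function.comp_apply, LinearMap.restrictScalars_apply, Fintype.linearCombination_apply,
      hva, sum_pow_char]
    refine Finset.sum_congr rfl fun j _ => ?_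
    rw [smul_pow]
  rw [← e2]
  exact hfin

/-- If `K/k` is separably generated then `p`-th powers preserve `k`-linear independence in `K`. -/
theorem li_pow_of_separablyGenerated {k K : Type*} [Field k] [Field K] [Algebra k K] (p : ℕ)
    [ExpChar k p] {ι : Type*} {x : ι → K} (hx : AlgebraicIndependent k x)
    [Algebra.IsSeparable (IntermediateField.adjoin k (Set.range x)) K]
    {κ : Type*} {v : κ → K} (hv : LinearIndependent k v) :
    LinearIndependent k (fun i => v i ^ p) := by
  have h1 : PV k (FractionRing (MvPolynomial ι k)) p := PV.fraction (pv_mvPolynomial p ι)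
  have h2 : PV k (IntermediateField.adjoin k (Set.range x)) p :=
    PV.of_injective hx.reprField hx.reprField.toRingHom.injective h1
  exact tower p h2 hv

end Groth.Agent.H67.MacLane
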