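import Groth.Agent.H67.MacLane
import Mathlib.FieldTheory.PrimitiveElement
import Mathlib.FieldTheory.IntermediateField.Adjoin.Algebra

set_option autoImplicit false
set_option linter.style.haveILetI false

universe u

namespace Groth.Agent.H67.MacLane

open IntermediateField

/-- A finitely generated extension with a (possibly infinite-looking) separating transcendence
basis has a finite separating transcendence basis, as a `Finset`. -/
theorem exists_finset_of_separablyGenerated {k K : Type*} [Field k] [Field K] [Algebra k K]
    [Algebra.EssFiniteType k K] {ι : Type*} {x : ι → K} (hx : AlgebraicIndependent k x)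
    [Algebra.IsSeparable (IntermediateField.adjoin k (Set.range x)) K] :
    ∃ s : Finset K, IsTranscendenceBasis k ((↑) : s → K) ∧
      Algebra.IsSeparable (IntermediateField.adjoin k (s : Set K)) K := by
  classical
  obtain hchar | ⟨p, hp, hpk⟩ := CharP.exists' k
  · exact exists_isTranscendenceBasis_and_isSeparable_of_perfectField k K
  · haveI : ExpChar k p := .prime hp.out
    refine exists_isTranscendenceBasis_and_isSeparable_of_linearIndepOn_pow_of_essFiniteType
      p hp.out fun s hs => ?_
    exact li_pow_of_separablyGenerated p hx hs

theorem primitive {k K : Type u} [Field k] [Field K] [Algebra k K]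
    (hfg : ∃ s : Finset K, IntermediateField.adjoin k (s : Set K) = ⊤)
    (hsep : ∃ (ι : Type u) (x : ι → K), IsTranscendenceBasis k x ∧
      Algebra.IsSeparable (IntermediateField.adjoin k (Set.range x)) K) :
    ∃ (r : ℕ) (x : Fin r → K) (y : K), IsTranscendenceBasis k x ∧
      IntermediateField.adjoin k (insert y (Set.range x)) = ⊤ ∧
      IsSeparable (IntermediateField.adjoin k (Set.range x)) y := by
  classical
  obtain ⟨ι, x0, hx0, hsep0⟩ := hsep
  haveI : Algebra.EssFiniteType k K := IntermediateField.fg_top_iff.mp hfg
  obtain ⟨s, hs1, hs2⟩ := exists_finset_of_separablyGenerated hx0.1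
  haveI : Algebra.EssFiniteType (IntermediateField.adjoin k (s : Set K)) K :=
    Algebra.EssFiniteType.of_comp k _ K
  haveI : Module.Finite (IntermediateField.adjoin k (s : Set K)) K :=
    Algebra.finite_of_essFiniteType_of_isAlgebraic
  obtain ⟨y, hy⟩ := Field.exists_primitive_element (IntermediateField.adjoin k (s : Set K)) K
  have hrange : Set.range (fun i : Fin s.card => ((s.equivFin.symm i : s) : K)) = (s : Set K) := by
    ext z
    constructor
    · rintro ⟨i, rfl⟩
      exact (s.equivFin.symm i).2
    · intro hz
      exact ⟨s.equivFin ⟨z, hz⟩, by simp⟩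
  refine ⟨s.card, fun i => ((s.equivFin.symm i : s) : K), y, ?_, ?_, ?_⟩
  · exact hs1.comp_equiv s.equivFin.symm
  · rw [hrange]
    have h1 := IntermediateField.adjoin_adjoin_left k (s : Set K) ({y} : Set K)
    rw [hy, IntermediateField.restrictScalars_top, Set.union_singleton] at h1
    exact h1.symm
  · rw [hrange]
    exact Algebra.IsSeparable.isSeparable _ y

end Groth.Agent.H67.MacLane
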