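import Mathlib.RingTheory.MvPolynomial.Ideal

set_option autoImplicit false

universe u

namespace Groth.Agent.H67.MonoDecomp

open MvPolynomial Finsupp

variable {σ : Type*} [DecidableEq σ]

theorem add_single_le_iff (p q : σ) (m : σ →₀ ℕ) :
    single p 1 + single q 1 ≤ m ↔ (p = q ∧ 2 ≤ m p) ∨ (p ≠ q ∧ 1 ≤ m p ∧ 1 ≤ m q) := by
  by_cases hpq : p = q
  · subst hpq
    rw [← single_add]
    simp [Finsupp.single_le_iff]
  · constructor
    · intro h
      right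
      refine ⟨hpq, ?_, ?_⟩
      · have := h p
        simpa [hpq, Finsupp.single_apply, Ne.symm hpq] using this
      · have := h q
        simpa [hpq, Finsupp.single_apply] using this
    · rintro (⟨h, _⟩ | ⟨_, hp, hq⟩)
      · exact absurd h hpq
      · intro i
        by_cases hip : i = p
        · subst hip
          simpa [Finsupp.single_apply, hpq, Ne.symm hpq] using hp
        · by_cases hiq : i = q
          · subst hiq
            simpa [Finsupp.single_apply, hpq, Ne.symm hpq] using hq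
          · simp [Finsupp.single_apply, Ne.symm hip, Ne.symm hiq]

theorem single_one_le_of_add_le_left {p q : σ} {m : σ →₀ ℕ} (h : single p 1 + single q 1 ≤ m) :
    1 ≤ m p := by
  rcases (add_single_le_iff p q m).mp h with ⟨_, h2⟩ | ⟨_, h1, _⟩
  · omega
  · exact h1

theorem single_one_le_of_add_le_right {p q : σ} {m : σ →₀ ℕ} (h : single p 1 + single q 1 ≤ m) :
    1 ≤ m q := by
  rcases (add_single_le_iff p q m).mp h with ⟨rfl, h2⟩ | ⟨_, _, h1⟩
  · omega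
  · exact h1

/-- The combinatorial core, on exponent vectors. -/
theorem core (n k0 e1 e2 : ℕ) (hn : 2 * k0 ≤ n + 1) (he : e1 ≤ e2) (he2 : e2 + 1 ≤ k0)
    (m : Fin (n + 1) →₀ ℕ) :
    ((∃ p q : Fin (n + 1), e1 ≤ p.val ∧ p.val ≤ e2 ∧ e1 ≤ q.val ∧ q.val ≤ e2 ∧
        single p 1 + single q 1 ≤ m) ∨
      (∃ p q mm : Fin (n + 1), e1 ≤ p.val ∧ p.val < q.val ∧ q.val ≤ e2 ∧
        mm.val + k0 = n + 1 + q.val ∧ single p 1 + single mm 1 ≤ m)) ↔
    ∀ j : Fin (n + 1), e1 ≤ j.val ∧ j.val ≤ e2 →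
      ((∃ i : Fin (n + 1), e1 ≤ i.val ∧ i.val ≤ e2 ∧ i ≠ j ∧ single i 1 ≤ m) ∨
        single j 2 ≤ m ∨
        (∃ q mm : Fin (n + 1), j.val < q.val ∧ q.val ≤ e2 ∧ mm.val + k0 = n + 1 + q.val ∧
          single mm 1 ≤ m)) := by
  constructor
  · rintro (⟨p, q, hp1, hp2, hq1, hq2, hle⟩ | ⟨p, q, mm, hp1, hpq, hq2, hmm, hle⟩) j ⟨hj1, hj2⟩
    · by_cases hpj : p = j
      · by_cases hqj : q = j
        · subst hpj; subst hqj
          right; left
          rw [← single_add] at hle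
          exact hle
        · left
          exact ⟨q, hq1, hq2, hqj, Finsupp.single_le_iff.mpr
            (single_one_le_of_add_le_right hle)⟩
      · left
        exact ⟨p, hp1, hp2, hpj, Finsupp.single_le_iff.mpr
            (single_one_le_of_add_le_left hle)⟩
    · by_cases hpj : p = j
      · subst hpj
        right; right
        exact ⟨q, mm, hpq, hq2, hmm, Finsupp.single_le_iff.mpr
            (single_one_le_of_add_le_right hle)⟩
      · left
        exact ⟨p, hp1, by omega, hpj, Finsupp.single_le_iff.mpr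
            (single_one_le_of_add_le_left hle)⟩
  · intro H
    by_cases hA : ∃ p q : Fin (n + 1), e1 ≤ p.val ∧ p.val ≤ e2 ∧ e1 ≤ q.val ∧ q.val ≤ e2 ∧
        single p 1 + single q 1 ≤ m
    · exact Or.inl hA
    · right
      push Not at hA
      by_cases hB : ∃ p : Fin (n + 1), e1 ≤ p.val ∧ p.val ≤ e2 ∧ 1 ≤ m p
      · obtain ⟨p, hp1, hp2, hmp⟩ := hB
        rcases H p ⟨hp1, hp2⟩ with ⟨i, hi1, hi2, hip, hle⟩ | hle | ⟨q, mm, hpq, hq2, hmm, hle⟩
        · exfalso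
          have hmi : 1 ≤ m i := by
            have := hle i; simpa using this
          exact hA p i hp1 hp2 hi1 hi2
            ((add_single_le_iff p i m).mpr (Or.inr ⟨Ne.symm hip, hmp, hmi⟩))
        · exfalso
          have : 2 ≤ m p := by
            have := hle p; simpa using this
          exact hA p p hp1 hp2 hp1 hp2 ((add_single_le_iff p p m).mpr (Or.inl ⟨rfl, this⟩))
        · have hmm1 : 1 ≤ m mm := by
            have := hle mm; simpa using this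
          have hne : p ≠ mm := by
            intro h
            have : p.val = mm.val := by rw [h]
            omega
          exact ⟨p, q, mm, hp1, hpq, hq2, hmm,
            (add_single_le_iff p mm m).mpr (Or.inr ⟨hne, hmp, hmm1⟩)⟩
      · exfalso
        push Not at hB
        · have he2n : e2 < n + 1 := by omega
          rcases H ⟨e2, he2n⟩ ⟨he, le_refl _⟩ with ⟨i, hi1, hi2, _, hle⟩ | hle | ⟨q, mm, hq, hq2, _, _⟩
          · have hmi : 1 ≤ m i := by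
              have := hle i; simpa using this
            exact absurd hmi (by have := hB i hi1 hi2; omega)
          · have : 2 ≤ m ⟨e2, he2n⟩ := by
              have := hle ⟨e2, he2n⟩; simpa using this
            have := hB ⟨e2, he2n⟩ he (le_refl _)
            omega
          · simp at hq
            omega


theorem X_mul_X_eq {k : Type*} [CommSemiring k] {σ : Type*} (p q : σ) :
    (X p * X q : MvPolynomial σ k) = monomial (single p 1 + single q 1) 1 := by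
  simp only [X, monomial_mul, one_mul]

theorem main (k : Type u) [Field k] (n k0 e1 e2 : ℕ) (hn : 2 * k0 ≤ n + 1) (he : e1 ≤ e2)
    (he2 : e2 + 1 ≤ k0) :
    Ideal.span ({f : MvPolynomial (Fin (n + 1)) k | ∃ p q : Fin (n + 1), e1 ≤ p.val ∧ p.val ≤ e2 ∧ e1 ≤ q.val ∧ q.val ≤ e2 ∧
        f = MvPolynomial.X p * MvPolynomial.X q} ∪
      {f : MvPolynomial (Fin (n + 1)) k | ∃ p q m : Fin (n + 1), e1 ≤ p.val ∧ p.val < q.val ∧ q.val ≤ e2 ∧
        m.val + k0 = n + 1 + q.val ∧ f = MvPolynomial.X p * MvPolynomial.X m}) =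
    ⨅ j : Fin (n + 1), ⨅ (_ : e1 ≤ j.val ∧ j.val ≤ e2),
      Ideal.span ({f : MvPolynomial (Fin (n + 1)) k | ∃ i : Fin (n + 1), e1 ≤ i.val ∧ i.val ≤ e2 ∧ i ≠ j ∧ f = MvPolynomial.X i} ∪
        {MvPolynomial.X j ^ 2} ∪
        {f : MvPolynomial (Fin (n + 1)) k | ∃ q m : Fin (n + 1), j.val < q.val ∧ q.val ≤ e2 ∧ m.val + k0 = n + 1 + q.val ∧
          f = MvPolynomial.X m}) := by
  classical
  -- rewrite the generating sets as images of sets of exponents
  have hI : ({f : MvPolynomial (Fin (n + 1)) k | ∃ p q : Fin (n + 1), e1 ≤ p.val ∧ p.val ≤ e2 ∧ e1 ≤ q.val ∧ q.val ≤ e2 ∧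
        f = MvPolynomial.X p * MvPolynomial.X q} ∪
      {f : MvPolynomial (Fin (n + 1)) k | ∃ p q m : Fin (n + 1), e1 ≤ p.val ∧ p.val < q.val ∧ q.val ≤ e2 ∧
        m.val + k0 = n + 1 + q.val ∧ f = MvPolynomial.X p * MvPolynomial.X m}) =
      (fun s => monomial s (1 : k)) '' ({s : Fin (n + 1) →₀ ℕ | ∃ p q : Fin (n + 1), e1 ≤ p.val ∧ p.val ≤ e2 ∧ e1 ≤ q.val ∧ q.val ≤ e2 ∧
        s = single p 1 + single q 1} ∪
      {s : Fin (n + 1) →₀ ℕ | ∃ p q m : Fin (n + 1), e1 ≤ p.val ∧ p.val < q.val ∧ q.val ≤ e2 ∧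
        m.val + k0 = n + 1 + q.val ∧ s = single p 1 + single m 1}) := by
    ext f
    simp only [Set.mem_union, Set.mem_setOf_eq, Set.mem_image]
    constructor
    · rintro (⟨p, q, h1, h2, h3, h4, rfl⟩ | ⟨p, q, m, h1, h2, h3, h4, rfl⟩)
      · exact ⟨_, Or.inl ⟨p, q, h1, h2, h3, h4, rfl⟩, (X_mul_X_eq p q).symm⟩
      · exact ⟨_, Or.inr ⟨p, q, m, h1, h2, h3, h4, rfl⟩, (X_mul_X_eq p m).symm⟩
    · rintro ⟨s, (⟨p, q, h1, h2, h3, h4, rfl⟩ | ⟨p, q, m, h1, h2, h3, h4, rfl⟩), rfl⟩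
      · exact Or.inl ⟨p, q, h1, h2, h3, h4, (X_mul_X_eq p q).symm⟩
      · exact Or.inr ⟨p, q, m, h1, h2, h3, h4, (X_mul_X_eq p m).symm⟩
  have hQ : ∀ j : Fin (n + 1),
      ({f : MvPolynomial (Fin (n + 1)) k | ∃ i : Fin (n + 1), e1 ≤ i.val ∧ i.val ≤ e2 ∧ i ≠ j ∧ f = MvPolynomial.X i} ∪
        {MvPolynomial.X j ^ 2} ∪
        {f : MvPolynomial (Fin (n + 1)) k | ∃ q m : Fin (n + 1), j.val < q.val ∧ q.val ≤ e2 ∧ m.val + k0 = n + 1 + q.val ∧
          f = MvPolynomial.X m}) =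
      (fun s => monomial s (1 : k)) '' ({s : Fin (n + 1) →₀ ℕ | ∃ i : Fin (n + 1), e1 ≤ i.val ∧ i.val ≤ e2 ∧ i ≠ j ∧ s = single i 1} ∪
        {single j 2} ∪
        {s : Fin (n + 1) →₀ ℕ | ∃ q m : Fin (n + 1), j.val < q.val ∧ q.val ≤ e2 ∧ m.val + k0 = n + 1 + q.val ∧
          s = single m 1}) := by
    intro j
    ext f
    simp only [Set.mem_union, Set.mem_setOf_eq, Set.mem_image, Set.mem_singleton_iff]
    constructor
    · rintro ((⟨i, h1, h2, h3, rfl⟩ | rfl) | ⟨q, m, h1, h2, h3, rfl⟩)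
      · exact ⟨_, Or.inl (Or.inl ⟨i, h1, h2, h3, rfl⟩), rfl⟩
      · exact ⟨_, Or.inl (Or.inr rfl), (X_pow_eq_monomial).symm⟩
      · exact ⟨_, Or.inr ⟨q, m, h1, h2, h3, rfl⟩, rfl⟩
    · rintro ⟨s, ((⟨i, h1, h2, h3, rfl⟩ | rfl) | ⟨q, m, h1, h2, h3, rfl⟩), rfl⟩
      · exact Or.inl (Or.inl ⟨i, h1, h2, h3, rfl⟩)
      · exact Or.inl (Or.inr (X_pow_eq_monomial).symm)
      · exact Or.inr ⟨q, m, h1, h2, h3, rfl⟩
  ext f
  rw [hI, mem_ideal_span_monomial_image]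
  simp only [Ideal.mem_iInf]
  simp_rw [hQ, mem_ideal_span_monomial_image]
  have key := core n k0 e1 e2 hn he he2
  constructor
  · intro h j hj xi hxi
    obtain ⟨si, hsi, hle⟩ := h xi hxi
    have hP : ((∃ p q : Fin (n + 1), e1 ≤ p.val ∧ p.val ≤ e2 ∧ e1 ≤ q.val ∧ q.val ≤ e2 ∧
        single p 1 + single q 1 ≤ xi) ∨
      (∃ p q mm : Fin (n + 1), e1 ≤ p.val ∧ p.val < q.val ∧ q.val ≤ e2 ∧
        mm.val + k0 = n + 1 + q.val ∧ single p 1 + single mm 1 ≤ xi)) := by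
      rcases hsi with ⟨p, q, h1, h2, h3, h4, rfl⟩ | ⟨p, q, mm, h1, h2, h3, h4, rfl⟩
      · exact Or.inl ⟨p, q, h1, h2, h3, h4, hle⟩
      · exact Or.inr ⟨p, q, mm, h1, h2, h3, h4, hle⟩
    rcases (key xi).mp hP j hj with ⟨i, h1, h2, h3, h4⟩ | h | ⟨q, mm, h1, h2, h3, h4⟩
    · exact ⟨_, Or.inl (Or.inl ⟨i, h1, h2, h3, rfl⟩), h4⟩
    · exact ⟨_, Or.inl (Or.inr rfl), h⟩
    · exact ⟨_, Or.inr ⟨q, mm, h1, h2, h3, rfl⟩, h4⟩
  · intro h xi hxi
    have hQ' : ∀ j : Fin (n + 1), e1 ≤ j.val ∧ j.val ≤ e2 →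
      ((∃ i : Fin (n + 1), e1 ≤ i.val ∧ i.val ≤ e2 ∧ i ≠ j ∧ single i 1 ≤ xi) ∨
        single j 2 ≤ xi ∨
        (∃ q mm : Fin (n + 1), j.val < q.val ∧ q.val ≤ e2 ∧ mm.val + k0 = n + 1 + q.val ∧
          single mm 1 ≤ xi)) := by
      intro j hj
      obtain ⟨si, hsi, hle⟩ := h j hj xi hxi
      rcases hsi with (⟨i, h1, h2, h3, rfl⟩ | hs) | ⟨q, mm, h1, h2, h3, rfl⟩
      · exact Or.inl ⟨i, h1, h2, h3, hle⟩
      · rw [Set.mem_singleton_iff] at hs
        subst hs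
        exact Or.inr (Or.inl hle)
      · exact Or.inr (Or.inr ⟨q, mm, h1, h2, h3, hle⟩)
    rcases (key xi).mpr hQ' with ⟨p, q, h1, h2, h3, h4, hle⟩ | ⟨p, q, mm, h1, h2, h3, h4, hle⟩
    · exact ⟨_, Or.inl ⟨p, q, h1, h2, h3, h4, rfl⟩, hle⟩
    · exact ⟨_, Or.inr ⟨p, q, mm, h1, h2, h3, h4, rfl⟩, hle⟩

end Groth.Agent.H67.MonoDecomp
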