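import Groth.Prelude.Def_W4c1hilbpnTgt
import Mathlib.RingTheory.IntegralClosure.IsIntegral.Basic
import Mathlib.RingTheory.IntegralClosure.Algebra.Basic
import Mathlib.Algebra.Polynomial.AlgebraMap

set_option autoImplicit false

universe u

namespace Groth.Agent.H67

open MvPolynomial W4c1hilbpn

variable {σ : Type*} {k : Type u} [Field k]

theorem exps_add (I : Ideal (MvPolynomial σ k)) {β : σ →₀ ℕ} (hβ : β ∈ exps I) (γ : σ →₀ ℕ) :
    β + γ ∈ exps I := by
  change monomial (β + γ) (1 : k) ∈ I
  have : monomial (β + γ) (1 : k) = monomial β 1 * monomial γ 1 := by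
    rw [monomial_mul, one_mul]
  rw [this]
  exact I.mul_mem_right _ hβ

/-- A monomial ideal of finite colength contains a power of every variable. -/
theorem exists_single_mem_exps (I : Ideal (MvPolynomial σ k)) (hI : IsMonomial I)
    [Module.Finite k (MvPolynomial σ k ⧸ I)] (v : σ) : ∃ N : ℕ, Finsupp.single v N ∈ exps I := by
  classical
  have hint : IsIntegral k (Ideal.Quotient.mk I (X v)) := Algebra.IsIntegral.isIntegral _
  obtain ⟨q, hq, hq0⟩ := hint
  have h1 : Polynomial.aeval (X v : MvPolynomial σ k) q ∈ I := by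
    rw [← Ideal.Quotient.eq_zero_iff_mem]
    have := Polynomial.aeval_algHom_apply (Ideal.Quotient.mkₐ k I) (X v : MvPolynomial σ k) q
    rw [Ideal.Quotient.mkₐ_eq_mk] at this
    rw [← this]
    simpa [Polynomial.aeval_def] using hq0
  refine ⟨q.natDegree, hI _ h1 _ ?_⟩
  rw [mem_support_iff]
  rw [Polynomial.aeval_eq_sum_range, coeff_sum]
  simp only [coeff_smul, smul_eq_mul, coeff_X_pow]
  rw [Finset.sum_eq_single q.natDegree]
  · rw [if_pos rfl, mul_one]
    have : q.coeff q.natDegree = 1 := hq
    rw [this]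
    exact one_ne_zero
  · intro n _ hn
    rw [if_neg, mul_zero]
    intro h
    apply hn
    have := DFunLike.congr_fun h v
    simpa using this
  · intro h
    exact absurd (Finset.mem_range.2 (Nat.lt_succ_self _)) h

theorem fin3_ext {f g : Fin 3 →₀ ℕ} (h0 : f 0 = g 0) (h1 : f 1 = g 1) (h2 : f 2 = g 2) : f = g := by
  ext t
  fin_cases t
  · exact h0
  · exact h1
  · exact h2

@[simp] theorem e3_apply_zero (a b c : ℕ) : e3 a b c 0 = a := rfl
@[simp] theorem e3_apply_one (a b c : ℕ) : e3 a b c 1 = b := rfl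
@[simp] theorem e3_apply_two (a b c : ℕ) : e3 a b c 2 = c := rfl

end Groth.Agent.H67
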