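import Groth.Agent.H67.MonoIdeal
import Mathlib.Algebra.MvPolynomial.Rename

set_option autoImplicit false

universe u

namespace Groth.Agent.H67

open MvPolynomial W4c1hilbpn

variable {k : Type u} [Field k]

theorem mapDomain_succ_eq (β : Fin 2 →₀ ℕ) :
    Finsupp.mapDomain (Fin.succ : Fin 2 → Fin 3) β = e3 0 (β 0) (β 1) := by
  have hinj : Function.Injective (Fin.succ : Fin 2 → Fin 3) := Fin.succ_injective 2
  apply fin3_ext
  · rw [e3_apply_zero]
    apply Finsupp.mapDomain_of_notMem_range
    rintro ⟨j, hj⟩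
    exact Fin.succ_ne_zero j hj
  · rw [e3_apply_one]
    exact Finsupp.mapDomain_apply hinj β (0 : Fin 2)
  · rw [e3_apply_two]
    exact Finsupp.mapDomain_apply hinj β (1 : Fin 2)

theorem single_add_mapDomain_succ (a : ℕ) (β : Fin 2 →₀ ℕ) :
    Finsupp.single (0 : Fin 3) a + Finsupp.mapDomain (Fin.succ : Fin 2 → Fin 3) β =
      e3 a (β 0) (β 1) := by
  rw [mapDomain_succ_eq]
  apply fin3_ext <;> simp

theorem mem_sliceX (I : Ideal (MvPolynomial (Fin 3) k)) (a : ℕ) (q : MvPolynomial (Fin 2) k) :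
    q ∈ sliceX I a ↔ X 0 ^ a * rename Fin.succ q ∈ I := by
  unfold sliceX
  rw [Ideal.mem_comap, Submodule.mem_colon_singleton, smul_eq_mul, mul_comm]
  rfl

theorem mem_sliceX_iff (I : Ideal (MvPolynomial (Fin 3) k)) (hI : IsMonomial I) (a : ℕ)
    (q : MvPolynomial (Fin 2) k) :
    q ∈ sliceX I a ↔ ∀ m ∈ q.support, e3 a (m 0) (m 1) ∈ exps I := by
  classical
  have hinj : Function.Injective (Fin.succ : Fin 2 → Fin 3) := Fin.succ_injective 2
  rw [mem_sliceX]
  constructor
  · intro hP m hm
    rw [← single_add_mapDomain_succ]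
    apply hI _ hP
    rw [mem_support_iff, X_pow_eq_monomial, coeff_monomial_mul, one_mul,
      coeff_rename_mapDomain _ hinj]
    exact mem_support_iff.1 hm
  · intro h
    conv => rw [q.as_sum]
    rw [map_sum, Finset.mul_sum]
    refine I.sum_mem (fun m hm => ?_)
    rw [rename_monomial, X_pow_eq_monomial, monomial_mul, one_mul, single_add_mapDomain_succ]
    have : monomial (e3 a (m 0) (m 1)) (coeff m q) =
        C (coeff m q) * monomial (e3 a (m 0) (m 1)) (1 : k) := by
      rw [C_mul_monomial, mul_one]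
    rw [this]
    exact I.mul_mem_left _ (h m hm)

theorem monomial_mem_sliceX_iff (I : Ideal (MvPolynomial (Fin 3) k)) (hI : IsMonomial I) (a : ℕ)
    (β : Fin 2 →₀ ℕ) : β ∈ exps (sliceX I a) ↔ e3 a (β 0) (β 1) ∈ exps I := by
  classical
  change monomial β (1 : k) ∈ sliceX I a ↔ _
  rw [mem_sliceX_iff I hI]
  constructor
  · intro h
    apply h β
    rw [mem_support_iff, coeff_monomial, if_pos rfl]
    exact one_ne_zero
  · intro h m hm
    have : m = β := by
      by_contra hne
      rw [mem_support_iff, coeff_monomial, if_neg (Ne.symm hne)] at hm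
      exact hm rfl
    rw [this]
    exact h

end Groth.Agent.H67
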