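import Mathlib.CategoryTheory.Comma.Over.Pullback
import Mathlib.CategoryTheory.Adjunction.Basic

set_option autoImplicit false

universe v u

namespace Groth.Agent.H67

open CategoryTheory CategoryTheory.Limits

variable {C : Type u} [Category.{v} C] [HasPullbacks C]

/-- Restriction of morphisms along a base change is bijective iff precomposition with the
projection from the base change is bijective. -/
theorem nmp_iff {S₀ S : C} (j : S₀ ⟶ S) (Z N : Over S) :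
    Function.Bijective (fun g : Z ⟶ N => (Over.pullback j).map g) ↔
      Function.Bijective (fun g : Z ⟶ N => (Over.mapPullbackAdj j).counit.app Z ≫ g) := by
  have h : (fun g : Z ⟶ N => (Over.mapPullbackAdj j).counit.app Z ≫ g) =
      ((Over.mapPullbackAdj j).homEquiv ((Over.pullback j).obj Z) N).symm ∘
        (fun g : Z ⟶ N => (Over.pullback j).map g) := by
    funext g
    simp only [Function.comp_apply, Adjunction.homEquiv_counit]
    exact ((Over.mapPullbackAdj j).counit.naturality g).symm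
  rw [h]
  exact (Equiv.comp_bijective _ _).symm

/-- Concrete form: every morphism over `S` from the base change `Z ×_S S₀` to `N` extends uniquely
to `Z`. -/
theorem nmp_iff' {S₀ S : C} (j : S₀ ⟶ S) (Z N : Over S) :
    Function.Bijective (fun g : Z ⟶ N => (Over.pullback j).map g) ↔
      ∀ γ : pullback Z.hom j ⟶ N.left, γ ≫ N.hom = pullback.snd Z.hom j ≫ j →
        ∃! g : Z.left ⟶ N.left, g ≫ N.hom = Z.hom ∧ pullback.fst Z.hom j ≫ g = γ := by
  rw [nmp_iff, Function.bijective_iff_existsUnique]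
  constructor
  · intro h γ hγ
    obtain ⟨g, hg, huniq⟩ := h (Over.homMk γ (by simpa using hγ))
    refine ⟨g.left, ⟨Over.w g, ?_⟩, ?_⟩
    · have := congrArg CommaMorphism.left hg
      simpa using this
    · intro g' ⟨h1, h2⟩
      have := huniq (Over.homMk g' h1) (by ext; simpa using h2)
      rw [← this]
      rfl
  · intro h γ
    obtain ⟨g, ⟨hg1, hg2⟩, huniq⟩ := h γ.left (by simpa using Over.w γ)
    refine ⟨Over.homMk g hg1, ?_, ?_⟩
    · ext; simpa using hg2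
    · intro g' hg'
      ext
      apply huniq
      refine ⟨Over.w g', ?_⟩
      have := congrArg CommaMorphism.left hg'
      simpa using this

/-- The concrete form of the mapping property, for morphisms to the base. -/
def NMPraw {S₀ S : C} (j : S₀ ⟶ S) {Zl Nl : C} (zh : Zl ⟶ S) (nh : Nl ⟶ S) : Prop :=
  ∀ γ : pullback zh j ⟶ Nl, γ ≫ nh = pullback.snd zh j ≫ j →
    ∃! g : Zl ⟶ Nl, g ≫ nh = zh ∧ pullback.fst zh j ≫ g = γ

theorem nmp_iff_raw {S₀ S : C} (j : S₀ ⟶ S) (Z N : Over S) :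
    Function.Bijective (fun g : Z ⟶ N => (Over.pullback j).map g) ↔ NMPraw j Z.hom N.hom :=
  nmp_iff' j Z N

section TwoStep

variable {S S₁ S₀ S₀' : C} (j₀ : S₀ ⟶ S) (j₁ : S₁ ⟶ S) (j₀' : S₀' ⟶ S₁) (i₀₁ : S₀ ⟶ S₁)
  (e : S₀' ⟶ S₀) (e' : S₀ ⟶ S₀')
  (h1 : i₀₁ ≫ j₁ = j₀) (h2 : e ≫ j₀ = j₀' ≫ j₁) (h3 : e' ≫ j₀' = i₀₁) (h4 : e' ≫ e = 𝟙 _)
  (h5 : e ≫ i₀₁ = j₀')
  {Zl Nl : C} (zh : Zl ⟶ S) (nh : Nl ⟶ S)

/-- Comparison map between the two descriptions of the restriction to `S₀`. -/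
noncomputable def nmpθ (h2 : e ≫ j₀ = j₀' ≫ j₁) : pullback (pullback.snd zh j₁) j₀' ⟶ pullback zh j₀ :=
  pullback.lift (pullback.fst _ _ ≫ pullback.fst _ _) (pullback.snd _ _ ≫ e) (by
    rw [Category.assoc, pullback.condition, ← Category.assoc, pullback.condition, Category.assoc,
      Category.assoc, h2])

/-- The restriction to `S₀` maps to the restriction to `S₁`. -/
noncomputable def nmpa (h1 : i₀₁ ≫ j₁ = j₀) : pullback zh j₀ ⟶ pullback zh j₁ :=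
  pullback.lift (pullback.fst _ _) (pullback.snd _ _ ≫ i₀₁) (by
    rw [pullback.condition, Category.assoc, h1])

/-- Section of `nmpθ`. -/
noncomputable def nmpκ (h1 : i₀₁ ≫ j₁ = j₀) (h3 : e' ≫ j₀' = i₀₁) :
    pullback zh j₀ ⟶ pullback (pullback.snd zh j₁) j₀' :=
  pullback.lift (nmpa j₀ j₁ i₀₁ zh h1) (pullback.snd _ _ ≫ e') (by
    rw [nmpa, pullback.lift_snd, Category.assoc, h3])

theorem nmpθ_fst : nmpθ j₀ j₁ j₀' e zh h2 ≫ pullback.fst zh j₀ =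
    pullback.fst _ _ ≫ pullback.fst _ _ := pullback.lift_fst _ _ _

theorem nmpθ_snd : nmpθ j₀ j₁ j₀' e zh h2 ≫ pullback.snd zh j₀ = pullback.snd _ _ ≫ e :=
  pullback.lift_snd _ _ _

theorem nmpa_fst : nmpa j₀ j₁ i₀₁ zh h1 ≫ pullback.fst zh j₁ = pullback.fst zh j₀ :=
  pullback.lift_fst _ _ _

theorem nmpa_snd : nmpa j₀ j₁ i₀₁ zh h1 ≫ pullback.snd zh j₁ = pullback.snd zh j₀ ≫ i₀₁ :=
  pullback.lift_snd _ _ _

include h4 in
theorem nmpκ_θ : nmpκ j₀ j₁ j₀' i₀₁ e' zh h1 h3 ≫ nmpθ j₀ j₁ j₀' e zh h2 = 𝟙 _ := by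
  apply pullback.hom_ext
  · rw [Category.assoc, nmpθ_fst, nmpκ, pullback.lift_fst_assoc, nmpa_fst, Category.id_comp]
  · rw [Category.assoc, nmpθ_snd, nmpκ, pullback.lift_snd_assoc, Category.assoc, h4,
      Category.comp_id, Category.id_comp]

include h5 in
theorem nmpθ_a : nmpθ j₀ j₁ j₀' e zh h2 ≫ nmpa j₀ j₁ i₀₁ zh h1 = pullback.fst _ _ := by
  apply pullback.hom_ext
  · rw [Category.assoc, nmpa_fst, nmpθ_fst]
  · rw [Category.assoc, nmpa_snd, ← Category.assoc, nmpθ_snd, Category.assoc, h5,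
      pullback.condition]

/-- The lift of a morphism over `S` from the restriction to `S₁`, to the restriction of the
target. -/
noncomputable def nmpLift (g : Zl ⟶ Nl) (hg : g ≫ nh = zh) : pullback zh j₁ ⟶ pullback nh j₁ :=
  pullback.lift (pullback.fst zh j₁ ≫ g) (pullback.snd zh j₁) (by
    rw [Category.assoc, hg, pullback.condition])

theorem nmpLift_fst (g : Zl ⟶ Nl) (hg : g ≫ nh = zh) :
    nmpLift j₁ zh nh g hg ≫ pullback.fst nh j₁ = pullback.fst zh j₁ ≫ g :=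
  pullback.lift_fst _ _ _

theorem nmpLift_snd (g : Zl ⟶ Nl) (hg : g ≫ nh = zh) :
    nmpLift j₁ zh nh g hg ≫ pullback.snd nh j₁ = pullback.snd zh j₁ :=
  pullback.lift_snd _ _ _

include h2 in
/-- Two morphisms over `S` which agree on the restriction to `S₀` agree on the restriction to `S₁`,
if `N|S₁` has the uniqueness half of the mapping property for `S₀' ⊆ S₁`. -/
theorem nmp_agree_S₁ (hN10 : NMPraw j₀' (pullback.snd zh j₁) (pullback.snd nh j₁))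
    (g g' : Zl ⟶ Nl) (hg : g ≫ nh = zh) (hg' : g' ≫ nh = zh)
    (h : pullback.fst zh j₀ ≫ g = pullback.fst zh j₀ ≫ g') :
    pullback.fst zh j₁ ≫ g = pullback.fst zh j₁ ≫ g' := by
  obtain ⟨G₀, -, hG₀⟩ := hN10 (pullback.fst _ _ ≫ nmpLift j₁ zh nh g hg)
    (by rw [Category.assoc, nmpLift_snd, pullback.condition])
  have e1 := hG₀ (nmpLift j₁ zh nh g hg) ⟨nmpLift_snd _ _ _ _ _, rfl⟩
  have e2 := hG₀ (nmpLift j₁ zh nh g' hg') ⟨nmpLift_snd _ _ _ _ _, by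
    apply pullback.hom_ext
    · rw [Category.assoc, Category.assoc, nmpLift_fst, nmpLift_fst, ← Category.assoc,
        ← Category.assoc, ← nmpθ_fst j₀ j₁ j₀' e h2 zh, Category.assoc, Category.assoc, h]
    · rw [Category.assoc, Category.assoc, nmpLift_snd, nmpLift_snd]⟩
  have := congrArg (fun m => m ≫ pullback.fst nh j₁) (e1.trans e2.symm)
  simpa only [nmpLift_fst] using this

include h1 h2 h3 h4 in
/-- Transitivity of the mapping property for `S₀ ⊆ S₁ ⊆ S`. -/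
theorem NMPraw_trans (hN1 : NMPraw j₁ zh nh)
    (hN10 : NMPraw j₀' (pullback.snd zh j₁) (pullback.snd nh j₁)) :
    NMPraw j₀ zh nh := by
  intro γ₀ hγ₀
  have c1 : (nmpθ j₀ j₁ j₀' e zh h2 ≫ γ₀) ≫ nh =
      (pullback.snd (pullback.snd zh j₁) j₀' ≫ j₀') ≫ j₁ := by
    rw [Category.assoc, hγ₀, ← Category.assoc, nmpθ_snd, Category.assoc, h2, Category.assoc]
  obtain ⟨g₁', ⟨hg₁'1, hg₁'2⟩, -⟩ := hN10
    (pullback.lift (nmpθ j₀ j₁ j₀' e zh h2 ≫ γ₀) (pullback.snd _ _ ≫ j₀') c1)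
    (pullback.lift_snd _ _ _)
  obtain ⟨g, ⟨hg1, hg2⟩, -⟩ := hN1 (g₁' ≫ pullback.fst nh j₁) (by
    rw [Category.assoc, pullback.condition, ← Category.assoc, hg₁'1])
  have hgγ : pullback.fst zh j₀ ≫ g = γ₀ := by
    calc pullback.fst zh j₀ ≫ g
        = (nmpκ j₀ j₁ j₀' i₀₁ e' zh h1 h3 ≫ nmpθ j₀ j₁ j₀' e zh h2) ≫ pullback.fst zh j₀ ≫ g := by
          rw [nmpκ_θ j₀ j₁ j₀' i₀₁ e e' h1 h2 h3 h4 zh, Category.id_comp]
      _ = nmpκ j₀ j₁ j₀' i₀₁ e' zh h1 h3 ≫ pullback.fst _ _ ≫ (pullback.fst zh j₁ ≫ g) := by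
          rw [Category.assoc, ← Category.assoc (nmpθ j₀ j₁ j₀' e zh h2), nmpθ_fst, Category.assoc]
      _ = nmpκ j₀ j₁ j₀' i₀₁ e' zh h1 h3 ≫ (pullback.fst _ _ ≫ g₁') ≫ pullback.fst nh j₁ := by
          rw [hg2, Category.assoc]
      _ = nmpκ j₀ j₁ j₀' i₀₁ e' zh h1 h3 ≫ nmpθ j₀ j₁ j₀' e zh h2 ≫ γ₀ := by
          rw [hg₁'2, pullback.lift_fst]
      _ = γ₀ := by rw [← Category.assoc, nmpκ_θ j₀ j₁ j₀' i₀₁ e e' h1 h2 h3 h4 zh, Category.id_comp]
  refine ⟨g, ⟨hg1, hgγ⟩, ?_⟩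
  intro gt ⟨hgt1, hgt2⟩
  have key := nmp_agree_S₁ j₀ j₁ j₀' e h2 zh nh hN10 gt g hgt1 hg1 (by rw [hgt2, hgγ])
  obtain ⟨g₀, -, hg₀⟩ := hN1 (pullback.fst zh j₁ ≫ g) (by
    rw [Category.assoc, hg1, pullback.condition])
  rw [hg₀ gt ⟨hgt1, key⟩, hg₀ g ⟨hg1, rfl⟩]

include h1 h2 h5 in
/-- The mapping property for `S₁ ⊆ S` from those for `S₀ ⊆ S` and `S₀' ⊆ S₁`. -/
theorem NMPraw_larger (hN0 : NMPraw j₀ zh nh)
    (hN10 : NMPraw j₀' (pullback.snd zh j₁) (pullback.snd nh j₁)) :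
    NMPraw j₁ zh nh := by
  intro γ₁ hγ₁
  obtain ⟨g, ⟨hg1, hg2⟩, hu⟩ := hN0 (nmpa j₀ j₁ i₀₁ zh h1 ≫ γ₁) (by
    rw [Category.assoc, hγ₁, ← Category.assoc, nmpa_snd, Category.assoc, h1])
  have hgγ : pullback.fst zh j₁ ≫ g = γ₁ := by
    obtain ⟨G₀, -, hG₀⟩ := hN10 (pullback.fst _ _ ≫ nmpLift j₁ zh nh g hg1)
      (by rw [Category.assoc, nmpLift_snd, pullback.condition])
    have e1 := hG₀ (nmpLift j₁ zh nh g hg1) ⟨nmpLift_snd _ _ _ _ _, rfl⟩
    have e2 := hG₀ (pullback.lift γ₁ (pullback.snd zh j₁) hγ₁) ⟨pullback.lift_snd _ _ _, by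
      apply pullback.hom_ext
      · rw [Category.assoc, Category.assoc, nmpLift_fst, pullback.lift_fst,
          ← nmpθ_a j₀ j₁ j₀' i₀₁ e h1 h2 h5 zh, Category.assoc, Category.assoc, ← hg2,
          ← Category.assoc (nmpa j₀ j₁ i₀₁ zh h1), nmpa_fst]
      · rw [Category.assoc, Category.assoc, nmpLift_snd, pullback.lift_snd]⟩
    have := congrArg (fun m => m ≫ pullback.fst nh j₁) (e1.trans e2.symm)
    simpa only [nmpLift_fst, pullback.lift_fst] using this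
  refine ⟨g, ⟨hg1, hgγ⟩, ?_⟩
  intro gt ⟨hgt1, hgt2⟩
  apply hu
  refine ⟨hgt1, ?_⟩
  rw [← nmpa_fst j₀ j₁ i₀₁ h1 zh, Category.assoc, hgt2]

end TwoStep

end Groth.Agent.H67
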