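import Groth.Agent.H67.Neron
import Mathlib.CategoryTheory.Limits.Shapes.Pullback.IsPullback.Basic

set_option autoImplicit false

universe v u

namespace Groth.Agent.H67

open CategoryTheory CategoryTheory.Limits

variable {C : Type u} [Category.{v} C] [HasPullbacks C]

section Comp

variable {T T₀ S S₀ N : C} (j : T₀ ⟶ T) (f : S ⟶ T) (j' : S₀ ⟶ S) (f₀ : S₀ ⟶ T₀) (g : N ⟶ S)

/-- Composition of mapping properties: if `S → T` has the mapping property for `T₀ ⊆ T` w.r.t. test
objects with property `P`, `N → S` has it for `S₀ = S ×_T T₀ ⊆ S`, and `P` can be cancelled along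
`f`, then `N → T` has the mapping property for `T₀ ⊆ T`. -/
theorem NMPraw_comp (P : MorphismProperty C) (sq : IsPullback f₀ j' j f)
    (hcancel : ∀ {Zl : C} (s : Zl ⟶ S), P (s ≫ f) → P s)
    (hS : ∀ {Zl : C} (zh : Zl ⟶ T), P zh → NMPraw j zh f)
    (hN : ∀ {Zl : C} (zs : Zl ⟶ S), P zs → NMPraw j' zs g)
    {Zl : C} (zh : Zl ⟶ T) (hz : P zh) : NMPraw j zh (g ≫ f) := by
  intro γ hγ
  obtain ⟨s, ⟨hs1, hs2⟩, hsu⟩ := hS zh hz (γ ≫ g) (by rw [Category.assoc, hγ])
  have hPs : P s := hcancel s (by rw [hs1]; exact hz)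
  -- comparison maps
  have cθ : pullback.fst s j' ≫ zh = (pullback.snd s j' ≫ f₀) ≫ j := by
    rw [← hs1, ← Category.assoc, pullback.condition, Category.assoc, Category.assoc, sq.w]
  let θ : pullback s j' ⟶ pullback zh j := pullback.lift (pullback.fst s j') (pullback.snd s j' ≫ f₀) cθ
  have hθ1 : θ ≫ pullback.fst zh j = pullback.fst s j' := pullback.lift_fst _ _ _
  have hθ2 : θ ≫ pullback.snd zh j = pullback.snd s j' ≫ f₀ := pullback.lift_snd _ _ _
  have cκ : pullback.snd zh j ≫ j = (pullback.fst zh j ≫ s) ≫ f := by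
    rw [Category.assoc, hs1, pullback.condition]
  let l : pullback zh j ⟶ S₀ := sq.lift (pullback.snd zh j) (pullback.fst zh j ≫ s) cκ
  have hl1 : l ≫ f₀ = pullback.snd zh j := sq.lift_fst _ _ _
  have hl2 : l ≫ j' = pullback.fst zh j ≫ s := sq.lift_snd _ _ _
  let κ : pullback zh j ⟶ pullback s j' := pullback.lift (pullback.fst zh j) l hl2.symm
  have hκ1 : κ ≫ pullback.fst s j' = pullback.fst zh j := pullback.lift_fst _ _ _
  have hκ2 : κ ≫ pullback.snd s j' = l := pullback.lift_snd _ _ _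
  have hκθ : κ ≫ θ = 𝟙 _ := by
    apply pullback.hom_ext
    · rw [Category.assoc, hθ1, hκ1, Category.id_comp]
    · rw [Category.assoc, hθ2, ← Category.assoc, hκ2, hl1, Category.id_comp]
  obtain ⟨h, ⟨hh1, hh2⟩, hhu⟩ := hN s hPs (θ ≫ γ) (by
    rw [Category.assoc, ← hs2, ← Category.assoc, hθ1, pullback.condition])
  refine ⟨h, ⟨by rw [← Category.assoc, hh1, hs1], ?_⟩, ?_⟩
  · rw [← hκ1, Category.assoc, hh2, ← Category.assoc, hκθ, Category.id_comp]
  · intro h' ⟨hh'1, hh'2⟩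
    have e1 : h' ≫ g = s := hsu (h' ≫ g) ⟨by rw [Category.assoc, hh'1], by
      rw [← Category.assoc, hh'2]⟩
    apply hhu
    refine ⟨e1, ?_⟩
    rw [← hθ1, Category.assoc, hh'2]

end Comp

end Groth.Agent.H67
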