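import Mathlib
import Groth.Prelude.Def_CInt
import Groth.Agent.H7.LocalStd
import Groth.Agent.H19.SchDense

/-!
# A smooth morphism which is étale over a dense open is étale

The rank of the (finite projective) module of differentials of a smooth algebra is locally
constant, so it vanishes as soon as it vanishes on a dense set of primes.
-/

set_option autoImplicit false
set_option linter.style.haveILetI false

universe u

namespace Groth.Agent.H67.NeronEtale

open CategoryTheory CategoryTheory.Limits AlgebraicGeometry TopologicalSpace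

/-- Ring-level statement: a smooth algebra which is unramified after inverting suitable elements
around a dense set of primes is unramified. -/
theorem formallyUnramified_of_dense {A B : Type u} [CommRing A] [CommRing B] [Algebra A B]
    [Algebra.Smooth A B] (D : Set (PrimeSpectrum B)) (hD : Dense D)
    (h : ∀ p ∈ D, ∃ (g : B) (_ : g ∉ p.asIdeal) (T : Type u) (_ : CommRing T) (_ : Algebra B T)
      (_ : Algebra A T) (_ : IsScalarTower A B T) (_ : IsLocalization.Away g T),
      Algebra.FormallyUnramified A T) :
    Algebra.FormallyUnramified A B := by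
  haveI : Module.Finite B Ω[B⁄A] := inferInstance
  haveI : Module.Projective B Ω[B⁄A] := inferInstance
  haveI : Module.FinitePresentation B Ω[B⁄A] := Module.finitePresentation_of_projective B _
  have hzero : ∀ p ∈ D, Module.rankAtStalk (R := B) Ω[B⁄A] p = 0 := by
    intro p hp
    obtain ⟨g, hg, T, _, _, _, _, _, hT⟩ := h p hp
    rw [Module.rankAtStalk_eq_zero_iff_notMem_support, Module.notMem_support_iff']
    intro ω
    haveI : IsLocalizedModule (Submonoid.powers g) (KaehlerDifferential.map A A B T) :=
      KaehlerDifferential.isLocalizedModule_map (R := A) (S := B) (T := T) (Submonoid.powers g)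
    haveI : Subsingleton Ω[T⁄A] := hT.subsingleton_kaehlerDifferential
    have h0 : KaehlerDifferential.map A A B T ω = 0 := Subsingleton.elim _ _
    obtain ⟨c, hc⟩ := (IsLocalizedModule.eq_zero_iff (Submonoid.powers g)
      (KaehlerDifferential.map A A B T)).mp h0
    obtain ⟨n, hn⟩ := c.2
    refine ⟨g ^ n, ?_, ?_⟩
    · intro hmem
      exact hg (p.2.mem_of_pow_mem n hmem)
    · have hn' : g ^ n = (c : B) := hn
      rw [hn']; exact hc
  have hlc := Module.isLocallyConstant_rankAtStalk (R := B) (M := Ω[B⁄A])
  have hclosed : IsClosed {p : PrimeSpectrum B | Module.rankAtStalk (R := B) Ω[B⁄A] p = 0} :=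
    (hlc.isClosed_fiber 0)
  have hall : ∀ p : PrimeSpectrum B, Module.rankAtStalk (R := B) Ω[B⁄A] p = 0 := by
    intro p
    have hsub : D ⊆ {p : PrimeSpectrum B | Module.rankAtStalk (R := B) Ω[B⁄A] p = 0} := hzero
    have := hclosed.closure_subset_iff.mpr hsub
    exact this (hD p)
  have hsub : Subsingleton Ω[B⁄A] := by
    rw [← Module.rankAtStalk_eq_zero_iff_subsingleton (R := B)]
    funext p
    exact hall p
  exact ⟨hsub⟩

set_option maxHeartbeats 800000 in
/-- A smooth morphism which is unramified on a dense open of the source is unramified. -/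
theorem formallyUnramified_of_dense_open {N S : Scheme.{u}} (f : N ⟶ S) [Smooth f] (W : N.Opens)
    (hW : Dense (W : Set N)) [FormallyUnramified (W.ι ≫ f)] : FormallyUnramified f := by
  constructor
  intro U hU V hV e
  have hsm : (f.appLE U V e).hom.Smooth := Smooth.smooth_appLE f hU hV e
  letI algAB : Algebra Γ(S, U) Γ(N, V) := (f.appLE U V e).hom.toAlgebra
  haveI hsmA : Algebra.Smooth Γ(S, U) Γ(N, V) := hsm
  suffices hmain : Algebra.FormallyUnramified Γ(S, U) Γ(N, V) from hmain
  refine formallyUnramified_of_dense (hV.fromSpec ⁻¹' (W : Set N))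
    (hW.preimage hV.fromSpec.isOpenEmbedding.isOpenMap) ?_
  intro p hp
  have hxV : hV.fromSpec p ∈ V := by
    have : hV.fromSpec p ∈ hV.fromSpec.opensRange := ⟨p, rfl⟩
    rwa [hV.opensRange_fromSpec] at this
  obtain ⟨g, hgW, hxg⟩ := hV.exists_basicOpen_le (V := W) ⟨hV.fromSpec p, hp⟩ hxV
  have hgp : g ∉ p.asIdeal := by
    have h3 : p ∈ hV.fromSpec ⁻¹ᵁ N.basicOpen g := hxg
    rw [hV.fromSpec_preimage_basicOpen g] at h3
    exact h3
  have hle : N.basicOpen g ≤ V := N.basicOpen_le g
  haveI hloc : IsLocalization.Away g Γ(N, N.basicOpen g) := hV.isLocalization_basicOpen g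
  letI algAT : Algebra Γ(S, U) Γ(N, N.basicOpen g) :=
    (f.appLE U (N.basicOpen g) (hle.trans e)).hom.toAlgebra
  haveI : IsScalarTower Γ(S, U) Γ(N, V) Γ(N, N.basicOpen g) := by
    apply IsScalarTower.of_algebraMap_eq'
    show (f.appLE U (N.basicOpen g) (hle.trans e)).hom =
      (N.presheaf.map (homOfLE hle).op).hom.comp (f.appLE U V e).hom
    rw [← CommRingCat.hom_comp, Scheme.Hom.appLE_map]
  refine ⟨g, hgp, Γ(N, N.basicOpen g), inferInstance, inferInstance, algAT, inferInstance, hloc, ?_⟩
  haveI hun : FormallyUnramified ((N.basicOpen g).ι ≫ f) := by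
    rw [← N.homOfLE_ι hgW, Category.assoc]
    exact MorphismProperty.comp_mem @FormallyUnramified _ _ inferInstance inferInstance
  have : IsAffine (N.basicOpen g).toScheme := hV.basicOpen g
  have hQ := HasRingHomProperty.appLE @FormallyUnramified ((N.basicOpen g).ι ≫ f) hun ⟨U, hU⟩
    ⟨⊤, isAffineOpen_top _⟩
    (by rw [Scheme.Hom.comp_preimage]; intro y _; exact (hle.trans e) y.2)
  rw [Groth.Agent.H7.ι_comp_appLE_top f (N.basicOpen g) U (hle.trans e), CommRingCat.hom_comp,
    RingHom.FormallyUnramified.respectsIso.cancel_right_isIso] at hQ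
  exact hQ

/-- A smooth morphism which is étale on a dense open of the source is étale. -/
theorem etale_of_dense_open {N S : Scheme.{u}} (f : N ⟶ S) [Smooth f] (W : N.Opens)
    (hW : Dense (W : Set N)) [Etale (W.ι ≫ f)] : Etale f := by
  haveI : FormallyUnramified f := formallyUnramified_of_dense_open f W hW
  exact Etale.of_formallyUnramified_of_flat f

/-- A quasi-compact schematically dense open is dense. -/
theorem dense_of_isSchematicallyDense {X : Scheme.{u}} (U : X.Opens) [QuasiCompact U.ι]
    (h : CInt.IsSchematicallyDense U) : Dense (U : Set X) := by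
  haveI := Groth.Agent.H19.dominant_of_isSchematicallyDense U h
  have hd : IsDominant U.ι := inferInstance
  have := hd.denseRange
  rw [DenseRange, Scheme.Opens.range_ι] at this
  exact this

end Groth.Agent.H67.NeronEtale
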