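import Groth.Agent.H67.Neron
import Mathlib.AlgebraicGeometry.Morphisms.Smooth
import Mathlib.AlgebraicGeometry.Morphisms.Etale
import Mathlib.AlgebraicGeometry.Pullbacks

set_option autoImplicit false

universe u

namespace Groth.Agent.H67

open CategoryTheory CategoryTheory.Limits AlgebraicGeometry

variable {S : Scheme.{u}} (S₀ S₁ : S.Opens)

/-- The data relating `S₀ ⊆ S₁ ⊆ S` and `S₁.ι ⁻¹ᵁ S₀ ⊆ S₁`. -/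
theorem exists_open_data (h01 : S₀ ≤ S₁) :
    ∃ (i₀₁ : (S₀ : Scheme.{u}) ⟶ (S₁ : Scheme.{u}))
      (e : ((S₁.ι ⁻¹ᵁ S₀ : (S₁ : Scheme.{u}).Opens) : Scheme.{u}) ⟶ (S₀ : Scheme.{u}))
      (e' : (S₀ : Scheme.{u}) ⟶ ((S₁.ι ⁻¹ᵁ S₀ : (S₁ : Scheme.{u}).Opens) : Scheme.{u})),
      i₀₁ ≫ S₁.ι = S₀.ι ∧ e ≫ S₀.ι = (S₁.ι ⁻¹ᵁ S₀).ι ≫ S₁.ι ∧ e' ≫ (S₁.ι ⁻¹ᵁ S₀).ι = i₀₁ ∧
        e' ≫ e = 𝟙 _ ∧ e ≫ i₀₁ = (S₁.ι ⁻¹ᵁ S₀).ι := by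
  have r1 : Set.range ((S₁.ι ⁻¹ᵁ S₀).ι ≫ S₁.ι).base ⊆ Set.range S₀.ι.base := by
    rintro _ ⟨y, rfl⟩
    rw [Scheme.Opens.range_ι]
    exact y.2
  have r2 : Set.range (S.homOfLE h01).base ⊆ Set.range (S₁.ι ⁻¹ᵁ S₀).ι.base := by
    rintro _ ⟨x, rfl⟩
    rw [Scheme.Opens.range_ι]
    change S₁.ι.base ((S.homOfLE h01).base x) ∈ S₀
    have : S₁.ι.base ((S.homOfLE h01).base x) = S₀.ι.base x := by
      rw [← Scheme.Hom.comp_apply, Scheme.homOfLE_ι]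
    rw [this]
    exact x.2
  refine ⟨S.homOfLE h01, IsOpenImmersion.lift S₀.ι ((S₁.ι ⁻¹ᵁ S₀).ι ≫ S₁.ι) r1,
    IsOpenImmersion.lift (S₁.ι ⁻¹ᵁ S₀).ι (S.homOfLE h01) r2, Scheme.homOfLE_ι _ _,
    IsOpenImmersion.lift_fac _ _ _, IsOpenImmersion.lift_fac _ _ _, ?_, ?_⟩
  · rw [← cancel_mono S₀.ι, Category.assoc, IsOpenImmersion.lift_fac,
      ← Category.assoc, IsOpenImmersion.lift_fac, Scheme.homOfLE_ι, Category.id_comp]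
  · rw [← cancel_mono S₁.ι, Category.assoc, Scheme.homOfLE_ι, IsOpenImmersion.lift_fac]

end Groth.Agent.H67
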