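import Mathlib
import Groth.Prelude.Def_CInt
import Groth.Agent.H67.NeronEtale

/-!
# A separated étale morphism which is a monomorphism over a dense open is an open immersion
-/

set_option autoImplicit false
set_option linter.style.haveILetI false

universe u

namespace Groth.Agent.H67.NeronOpenImm

open CategoryTheory CategoryTheory.Limits AlgebraicGeometry TopologicalSpace

/-- An unramified separated morphism `φ` of finite type which is a monomorphism over an open `V`
of the target, such that the preimage of `V` in `M ×_N M` is dense, is a monomorphism. -/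
theorem mono_of_dense {M N : Scheme.{u}} (φ : M ⟶ N) [FormallyUnramified φ]
    [LocallyOfFiniteType φ] [IsSeparated φ] (V : N.Opens)
    (hV : Dense (((pullback.fst φ φ ≫ φ) ⁻¹ᵁ V : (pullback φ φ).Opens) : Set ↥(pullback φ φ)))
    (hmono : ∀ (T : Scheme.{u}) (a b : T ⟶ M), a ≫ φ = b ≫ φ → (∀ t : T, φ (a t) ∈ V) → a = b) :
    Mono φ := by
  rw [← pullback.isIso_diagonal_iff, isIso_iff_isOpenImmersion_and_surjective]
  refine ⟨inferInstance, ⟨fun r => ?_⟩⟩
  by_contra hr
  have hRopen : IsOpen (Set.range (pullback.diagonal φ))ᶜ :=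
    (pullback.diagonal φ).isClosedEmbedding.isClosed_range.isOpen_compl
  obtain ⟨r', hr'R, hr'V⟩ := hV.inter_open_nonempty _ hRopen ⟨r, hr⟩
  apply hr'R
  let P₀ : (pullback φ φ).Opens := (pullback.fst φ φ ≫ φ) ⁻¹ᵁ V
  have hab : (P₀.ι ≫ pullback.fst φ φ) ≫ φ = (P₀.ι ≫ pullback.snd φ φ) ≫ φ := by
    rw [Category.assoc, Category.assoc, pullback.condition]
  have hpts : ∀ t : P₀, φ ((P₀.ι ≫ pullback.fst φ φ) t) ∈ V := by
    intro t
    exact t.2
  have heq := hmono _ _ _ hab hpts
  have hι : P₀.ι = (P₀.ι ≫ pullback.fst φ φ) ≫ pullback.diagonal φ := by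
    apply pullback.hom_ext
    · rw [Category.assoc, pullback.diagonal_fst, Category.comp_id]
    · rw [Category.assoc, pullback.diagonal_snd, Category.comp_id, heq]
  have h1 : P₀.ι ⟨r', hr'V⟩ = r' := rfl
  rw [← h1, hι]
  exact ⟨(P₀.ι ≫ pullback.fst φ φ) ⟨r', hr'V⟩, rfl⟩

/-- The preimage of a schematically dense open of a locally Noetherian scheme under a flat
morphism is dense. -/
theorem dense_preimage {Y S : Scheme.{u}} [IsLocallyNoetherian S] (g : Y ⟶ S) [Flat g]
    (S₀ : S.Opens) (hS₀ : CInt.IsSchematicallyDense S₀) : Dense ((g ⁻¹ᵁ S₀ : Y.Opens) : Set Y) := by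
  have h1 := Groth.Agent.H19.isSchematicallyDense_preimage_of_flat g S₀ hS₀
  haveI : QuasiCompact (g ⁻¹ᵁ S₀).ι :=
    MorphismProperty.of_isPullback (P := @QuasiCompact) (isPullback_morphismRestrict g S₀)
      inferInstance
  exact Groth.Agent.H67.NeronEtale.dense_of_isSchematicallyDense _ h1

/-- Scheme-level main statement: an `S`-morphism from a separated étale `S`-scheme to a smooth
`S`-scheme which is étale over a schematically dense open `S₀`, and which is a monomorphism over
`S₀`, is an open immersion. -/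
theorem main {S : Scheme.{u}} [IsLocallyNoetherian S] (S₀ : S.Opens)
    (hS₀ : CInt.IsSchematicallyDense S₀) {M N : Scheme.{u}} (mh : M ⟶ S) (nh : N ⟶ S) [Smooth nh]
    [Etale mh] [IsSeparated mh] [Etale (pullback.snd nh S₀.ι)] (φ : M ⟶ N) (hφ : φ ≫ nh = mh)
    (hmono : ∀ (T : Scheme.{u}) (a b : T ⟶ M), a ≫ φ = b ≫ φ → (∀ t : T, mh (a t) ∈ S₀) → a = b) :
    IsOpenImmersion φ := by
  -- `N` is étale over `S`
  have hdense : Dense ((nh ⁻¹ᵁ S₀ : N.Opens) : Set N) := dense_preimage nh S₀ hS₀
  haveI : Etale (nh ∣_ S₀) := by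
    rw [← (isPullback_morphismRestrict nh S₀).flip.isoPullback_hom_snd]
    infer_instance
  haveI : Etale ((nh ⁻¹ᵁ S₀).ι ≫ nh) := by
    rw [← morphismRestrict_ι]
    infer_instance
  haveI : Etale nh := Groth.Agent.H67.NeronEtale.etale_of_dense_open nh (nh ⁻¹ᵁ S₀) hdense
  haveI : Etale (φ ≫ nh) := by rw [hφ]; infer_instance
  haveI : IsSeparated (φ ≫ nh) := by rw [hφ]; infer_instance
  haveI : Etale φ := Etale.of_comp φ nh
  haveI : IsSeparated φ := IsSeparated.of_comp φ nh
  haveI : Mono φ := by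
    refine mono_of_dense φ (nh ⁻¹ᵁ S₀) ?_ ?_
    · have := dense_preimage ((pullback.fst φ φ ≫ φ) ≫ nh) S₀ hS₀
      rwa [Scheme.Hom.comp_preimage] at this
    · intro T a b hab hpts
      refine hmono T a b hab (fun t => ?_)
      have := hpts t
      rw [← hφ]
      exact this
  exact IsOpenImmersion.of_flat_of_mono φ

end Groth.Agent.H67.NeronOpenImm
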