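import Mathlib
import Groth.Prelude.Def_Fitting

/-!
# Gluing a norm of degree `d` from norms on a basis of opens (helper67)

`LocalNorm π d B` : multiplicative maps `Γ(X, π⁻¹ B i) →* Γ(Y, B i)` on a family of opens `B i` of
`Y`, compatible with restriction among the `B i`, with `N(π♯ g) = g ^ d` and preserving vanishing at
points.  If the `B i` form a basis, these glue to a `Nrm.NormOfDegree π d` (`normOfDegree`).
-/

set_option autoImplicit false
universe u
open CategoryTheory AlgebraicGeometry TopologicalSpace Opposite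

namespace Groth.Agent.H67.NormGlue

variable {X Y : Scheme.{u}}

/-- restriction of functions on `Y` -/
noncomputable abbrev rY (Y : Scheme.{u}) {U V : Y.Opens} (h : V ≤ U) : Γ(Y, U) →+* Γ(Y, V) :=
  (Y.presheaf.map (homOfLE h).op).hom

/-- restriction of functions on `X` between preimages of opens of `Y` -/
noncomputable abbrev rX (π : X ⟶ Y) {U V : Y.Opens} (h : V ≤ U) :
    Γ(X, π ⁻¹ᵁ U) →+* Γ(X, π ⁻¹ᵁ V) :=
  (X.presheaf.map ((Opens.map π.base).map (homOfLE h)).op).hom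

theorem rY_rY {U V W : Y.Opens} (h : V ≤ U) (h' : W ≤ V) (a : Γ(Y, U)) :
    rY Y h' (rY Y h a) = rY Y (h'.trans h) a := by
  simp only [rY, ← CommRingCat.comp_apply, ← Functor.map_comp]
  rfl

theorem rX_rX (π : X ⟶ Y) {U V W : Y.Opens} (h : V ≤ U) (h' : W ≤ V) (a : Γ(X, π ⁻¹ᵁ U)) :
    rX π h' (rX π h a) = rX π (h'.trans h) a := by
  simp only [rX, ← CommRingCat.comp_apply, ← Functor.map_comp]
  rfl

theorem app_rY (π : X ⟶ Y) {U V : Y.Opens} (h : V ≤ U) (g : Γ(Y, U)) :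
    π.app V (rY Y h g) = rX π h (π.app U g) := by
  have := π.naturality (homOfLE h).op
  exact congrArg (fun φ => φ.hom g) this

/-- local norms on a family of opens -/
structure LocalNorm (π : X ⟶ Y) (d : ℕ) {ι : Type u} (B : ι → Y.Opens) where
  /-- the norm maps -/
  norm : ∀ i, Γ(X, π ⁻¹ᵁ B i) →* Γ(Y, B i)
  norm_res : ∀ {i j : ι} (h : B j ≤ B i) (s : Γ(X, π ⁻¹ᵁ B i)),
    rY Y h (norm i s) = norm j (rX π h s)
  norm_app : ∀ i (g : Γ(Y, B i)), norm i (π.app (B i) g) = g ^ d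
  norm_mem : ∀ i (s : Γ(X, π ⁻¹ᵁ B i)) (x : X) (hx : π.base x ∈ B i),
    X.presheaf.germ (π ⁻¹ᵁ B i) x hx s ∈ IsLocalRing.maximalIdeal (X.presheaf.stalk x) →
      Y.presheaf.germ (B i) (π.base x) hx (norm i s) ∈
        IsLocalRing.maximalIdeal (Y.presheaf.stalk (π.base x))

variable {π : X ⟶ Y} {d : ℕ} {ι : Type u} {B : ι → Y.Opens}

theorem exists_basis_mem (hB : Opens.IsBasis (Set.range B)) {U : Y.Opens} {x : Y} (hx : x ∈ U) :
    ∃ i, x ∈ B i ∧ B i ≤ U := by
  obtain ⟨_, ⟨i, rfl⟩, hxi, hiU⟩ := Opens.isBasis_iff_nbhd.mp hB hx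
  exact ⟨i, hxi, hiU⟩

theorem eq_of_basis (hB : Opens.IsBasis (Set.range B)) {U : Y.Opens} (a b : Γ(Y, U))
    (h : ∀ i (hi : B i ≤ U), rY Y hi a = rY Y hi b) : a = b := by
  refine TopCat.Sheaf.eq_of_locally_eq' Y.sheaf (fun j : {i // B i ≤ U} => B j.1) U
    (fun j => homOfLE j.2) ?_ a b (fun j => h j.1 j.2)
  intro x hx
  obtain ⟨i, hxi, hiU⟩ := exists_basis_mem hB hx
  exact Opens.mem_iSup.mpr ⟨⟨i, hiU⟩, hxi⟩

theorem exists_glue (hB : Opens.IsBasis (Set.range B)) (N : LocalNorm π d B) (U : Y.Opens)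
    (s : Γ(X, π ⁻¹ᵁ U)) :
    ∃ t : Γ(Y, U), ∀ i (hi : B i ≤ U), rY Y hi t = N.norm i (rX π hi s) := by
  have hcover : U ≤ ⨆ j : {i // B i ≤ U}, B j.1 := by
    intro x hx
    obtain ⟨i, hxi, hiU⟩ := exists_basis_mem hB hx
    exact Opens.mem_iSup.mpr ⟨⟨i, hiU⟩, hxi⟩
  obtain ⟨t, ht, -⟩ := TopCat.Sheaf.existsUnique_gluing' Y.sheaf (fun j : {i // B i ≤ U} => B j.1) U
    (fun j => homOfLE j.2) hcover (fun j => N.norm j.1 (rX π j.2 s)) (by
      intro j k
      refine eq_of_basis hB _ _ (fun i hi => ?_)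
      have hij : B i ≤ B j.1 := hi.trans inf_le_left
      have hik : B i ≤ B k.1 := hi.trans inf_le_right
      have e1 : rY Y hi (rY Y (inf_le_left : B j.1 ⊓ B k.1 ≤ B j.1) (N.norm j.1 (rX π j.2 s))) =
          N.norm i (rX π (hij.trans j.2) s) := by
        rw [rY_rY, N.norm_res hij, rX_rX]
      have e2 : rY Y hi (rY Y (inf_le_right : B j.1 ⊓ B k.1 ≤ B k.1) (N.norm k.1 (rX π k.2 s))) =
          N.norm i (rX π (hik.trans k.2) s) := by
        rw [rY_rY, N.norm_res hik, rX_rX]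
      exact e1.trans e2.symm)
  exact ⟨t, fun i hi => ht ⟨i, hi⟩⟩

/-- the glued norm -/
noncomputable def glueNorm (hB : Opens.IsBasis (Set.range B)) (N : LocalNorm π d B) (U : Y.Opens)
    (s : Γ(X, π ⁻¹ᵁ U)) : Γ(Y, U) :=
  (exists_glue hB N U s).choose

theorem glueNorm_spec (hB : Opens.IsBasis (Set.range B)) (N : LocalNorm π d B) (U : Y.Opens)
    (s : Γ(X, π ⁻¹ᵁ U)) (i : ι) (hi : B i ≤ U) :
    rY Y hi (glueNorm hB N U s) = N.norm i (rX π hi s) :=
  (exists_glue hB N U s).choose_spec i hi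

theorem eq_glueNorm (hB : Opens.IsBasis (Set.range B)) (N : LocalNorm π d B) (U : Y.Opens)
    (s : Γ(X, π ⁻¹ᵁ U)) (t : Γ(Y, U))
    (ht : ∀ i (hi : B i ≤ U), rY Y hi t = N.norm i (rX π hi s)) : t = glueNorm hB N U s :=
  eq_of_basis hB _ _ (fun i hi => (ht i hi).trans (glueNorm_spec hB N U s i hi).symm)

/-- local norms on a basis glue to a norm of degree `d` -/
noncomputable def normOfDegree (hB : Opens.IsBasis (Set.range B)) (N : LocalNorm π d B)
    (hd : 1 ≤ d) : Nrm.NormOfDegree π d where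
  one_le := hd
  norm U :=
    { toFun := glueNorm hB N U
      map_one' := by
        symm
        refine eq_glueNorm hB N U 1 1 (fun i hi => ?_)
        rw [map_one, map_one, map_one]
      map_mul' := by
        intro s s'
        symm
        refine eq_glueNorm hB N U (s * s') _ (fun i hi => ?_)
        rw [map_mul, map_mul, map_mul, glueNorm_spec, glueNorm_spec] }
  norm_res := by
    intro U V i s
    have hVU : V ≤ U := leOfHom i
    have hi : i = homOfLE hVU := Subsingleton.elim _ _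
    subst hi
    show rY Y hVU (glueNorm hB N U s) = glueNorm hB N V (rX π hVU s)
    refine eq_glueNorm hB N V _ _ (fun j hj => ?_)
    rw [rY_rY, glueNorm_spec, rX_rX]
  norm_app := by
    intro U g
    show glueNorm hB N U (π.app U g) = g ^ d
    symm
    refine eq_glueNorm hB N U _ _ (fun i hi => ?_)
    rw [map_pow, ← app_rY, N.norm_app]
  norm_mem := by
    intro U s x hx hs
    show Y.presheaf.germ U (π.base x) hx (glueNorm hB N U s) ∈ _
    obtain ⟨i, hxi, hiU⟩ := exists_basis_mem hB hx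
    have h1 : X.presheaf.germ (π ⁻¹ᵁ B i) x hxi (rX π hiU s) =
        X.presheaf.germ (π ⁻¹ᵁ U) x hx s :=
      TopCat.Presheaf.germ_res_apply X.presheaf ((Opens.map π.base).map (homOfLE hiU)) x hxi s
    have h2 := N.norm_mem i (rX π hiU s) x hxi (h1 ▸ hs)
    rw [← glueNorm_spec hB N U s i hiU] at h2
    have h3 : Y.presheaf.germ (B i) (π.base x) hxi (rY Y hiU (glueNorm hB N U s)) =
        Y.presheaf.germ U (π.base x) hx (glueNorm hB N U s) :=
      TopCat.Presheaf.germ_res_apply Y.presheaf (homOfLE hiU) (π.base x) hxi _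
    exact h3 ▸ h2

end Groth.Agent.H67.NormGlue
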