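import Mathlib

/-!
# The norm of a finite extension of domains with integrally closed base (helper67)

`A ⊆ B` domains, `B` integral over `A`, `A` integrally closed with fraction field `K`, `L ⊇ B` a
field finite over `K`.  Then `Norm_{L/K}` maps `B` into `A`; the resulting element `nrm s` satisfies
`s ∣ algebraMap A B (nrm s)` (no normality assumption on `B`).
-/

set_option autoImplicit false

namespace Groth.Agent.H67.NormNormalAlg

open Polynomial IntermediateField

/-- the standing hypotheses -/
structure AKLB (A B K L : Type*) [CommRing A] [CommRing B] [Field K] [Field L] [Algebra A B]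
    [Algebra A K] [Algebra B L] [Algebra K L] [Algebra A L] : Prop where
  tower1 : IsScalarTower A K L
  tower2 : IsScalarTower A B L
  frac : IsFractionRing A K
  ic : IsIntegrallyClosed A
  domA : IsDomain A
  domB : IsDomain B
  int : Algebra.IsIntegral A B
  injB : Function.Injective (algebraMap B L)
  fin : FiniteDimensional K L

variable {A B K L : Type*} [CommRing A] [CommRing B] [Field K] [Field L] [Algebra A B]
  [Algebra A K] [Algebra B L] [Algebra K L] [Algebra A L]

theorem AKLB.exists_norm (h : AKLB A B K L) (s : B) :
    ∃ a : A, algebraMap A K a = Algebra.norm K (algebraMap B L s) := by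
  haveI := h.tower1
  haveI := h.tower2
  haveI := h.frac
  haveI := h.ic
  haveI := h.int
  have h1 : IsIntegral A (algebraMap B L s) :=
    (Algebra.IsIntegral.isIntegral (R := A) s).map (IsScalarTower.toAlgHom A B L)
  exact IsIntegrallyClosed.isIntegral_iff.mp (Algebra.isIntegral_norm K h1)

/-- the norm of an element of `B`, as an element of `A` -/
noncomputable def AKLB.nrm (h : AKLB A B K L) (s : B) : A := (h.exists_norm s).choose

theorem AKLB.algebraMap_nrm (h : AKLB A B K L) (s : B) :
    algebraMap A K (h.nrm s) = Algebra.norm K (algebraMap B L s) :=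
  (h.exists_norm s).choose_spec

theorem AKLB.injA (h : AKLB A B K L) : Function.Injective (algebraMap A K) := by
  haveI := h.frac
  haveI := h.domA
  exact IsFractionRing.injective A K

theorem AKLB.nrm_one (h : AKLB A B K L) : h.nrm 1 = 1 := by
  apply h.injA
  rw [h.algebraMap_nrm, map_one, map_one, map_one]

theorem AKLB.nrm_mul (h : AKLB A B K L) (s t : B) : h.nrm (s * t) = h.nrm s * h.nrm t := by
  apply h.injA
  rw [map_mul, h.algebraMap_nrm, h.algebraMap_nrm, h.algebraMap_nrm, map_mul, map_mul]

theorem AKLB.nrm_algebraMap (h : AKLB A B K L) (a : A) :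
    h.nrm (algebraMap A B a) = a ^ Module.finrank K L := by
  haveI := h.tower1
  haveI := h.tower2
  apply h.injA
  rw [h.algebraMap_nrm, map_pow, ← IsScalarTower.algebraMap_apply A B L,
    IsScalarTower.algebraMap_apply A K L, Algebra.norm_algebraMap]

theorem AKLB.finrank_pos (h : AKLB A B K L) : 0 < Module.finrank K L := by
  haveI := h.fin
  exact Module.finrank_pos

/-- `s` divides its norm, in `B` -/
theorem AKLB.dvd_algebraMap_nrm (h : AKLB A B K L) (s : B) : s ∣ algebraMap A B (h.nrm s) := by
  haveI := h.tower1
  haveI := h.tower2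
  haveI := h.frac
  haveI := h.ic
  haveI := h.int
  haveI := h.domA
  haveI := h.domB
  haveI := h.fin
  have hs : IsIntegral A s := Algebra.IsIntegral.isIntegral (R := A) s
  set σ := algebraMap B L s with hσ
  have hσi : IsIntegral K σ := (hs.map (IsScalarTower.toAlgHom A B L)).tower_top
  -- the constant coefficient of the minimal polynomial is a multiple of `s`
  have h1 : s ∣ algebraMap A B ((minpoly A s).coeff 0) := by
    have h2 := minpoly.aeval A s
    have h3 := Polynomial.divX_mul_X_add (minpoly A s)
    rw [← h3] at h2
    simp only [map_add, map_mul, aeval_X, aeval_C] at h2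
    refine ⟨-(aeval s (minpoly A s).divX), ?_⟩
    linear_combination h2
  -- the norm is a power of the constant coefficient, up to sign
  have h4 : h.nrm s = ((-1) ^ (adjoin.powerBasis hσi).dim * (minpoly A s).coeff 0) ^
      Module.finrank K⟮σ⟯ L := by
    apply h.injA
    rw [h.algebraMap_nrm, Algebra.norm_eq_norm_adjoin K σ]
    have h5 : Algebra.norm K (AdjoinSimple.gen K σ) =
        (-1) ^ (adjoin.powerBasis hσi).dim * (minpoly K σ).coeff 0 := by
      have := Algebra.PowerBasis.norm_gen_eq_coeff_zero_minpoly (adjoin.powerBasis hσi)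
      rwa [adjoin.powerBasis_gen, minpoly_gen] at this
    rw [h5, minpoly.isIntegrallyClosed_eq_field_fractions K L hs, coeff_map]
    simp
  have hm : 0 < Module.finrank K⟮σ⟯ L := Module.finrank_pos
  obtain ⟨m, hm'⟩ := Nat.exists_eq_succ_of_ne_zero hm.ne'
  rw [h4, hm', pow_succ, map_mul, map_mul]
  exact Dvd.dvd.mul_left (Dvd.dvd.mul_left h1 _) _

end Groth.Agent.H67.NormNormalAlg
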