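import Groth.Agent.H67.NormGlue
import Groth.Agent.H67.NormNormalAlg
import Groth.Agent.H67.NormFinLocFree
import Groth.Prelude.Def_Pi1

/-!
# The norm for a finite surjective morphism of integral schemes with normal target (helper67)
-/

set_option autoImplicit false
set_option linter.style.haveILetI false
universe u
open CategoryTheory AlgebraicGeometry TopologicalSpace Opposite

namespace Groth.Agent.H67.NormNormal

open Groth.Agent.H67.NormGlue Groth.Agent.H67.NormNormalAlg Groth.Agent.H67.NormNil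
open Groth.Agent.H67.NormFLF

attribute [local instance] algApp

variable {X Y : Scheme.{u}} (π : X ⟶ Y) [IsIntegral X] [IsIntegral Y]

theorem map_genericPoint [Surjective π] : π.base (genericPoint X) = genericPoint Y := by
  have h1 : IsGenericPoint (genericPoint X) (⊤ : Set X) := genericPoint_spec X
  have h2 := h1.image π.continuous
  have h3 : closure (π.base '' (⊤ : Set X)) = (⊤ : Set Y) := by
    rw [Set.top_eq_univ, Set.image_univ, π.surjective.range_eq, closure_univ, Set.top_eq_univ]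
  rw [h3] at h2
  exact h2.eq (genericPoint_spec Y)

/-- the map on function fields -/
noncomputable def ffMap [Surjective π] : Y.functionField →+* X.functionField :=
  ((π.stalkMap (genericPoint X)).hom).comp
    (Y.presheaf.stalkSpecializes (specializes_of_eq (map_genericPoint π))).hom

theorem ffMap_germ [Surjective π] (W : Y.Opens) (hW : genericPoint Y ∈ W)
    (hW' : π.base (genericPoint X) ∈ W) (a : Γ(Y, W)) :
    ffMap π (Y.presheaf.germ W (genericPoint Y) hW a) =
      X.presheaf.germ (π ⁻¹ᵁ W) (genericPoint X) hW' (π.app W a) := by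
  have h1 := TopCat.Presheaf.germ_stalkSpecializes_apply Y.presheaf hW
    (specializes_of_eq (map_genericPoint π)) a
  show (π.stalkMap (genericPoint X)).hom
    ((Y.presheaf.stalkSpecializes (specializes_of_eq (map_genericPoint π))).hom
      (Y.presheaf.germ W (genericPoint Y) hW a)) = _
  erw [h1]
  exact Scheme.Hom.germ_stalkMap_apply π W (genericPoint X) hW' a

/-- the index type: nonempty affine opens of `Y` -/
abbrev Idx (Y : Scheme.{u}) [IsIntegral Y] : Type u :=
  {W : Y.Opens // IsAffineOpen W ∧ genericPoint Y ∈ W}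

theorem isBasis_idx : Opens.IsBasis (Set.range (fun W : Idx Y => W.1)) := by
  rw [Opens.isBasis_iff_nbhd]
  intro U y hy
  obtain ⟨_, ⟨W, hW, rfl⟩, hyW, hWU⟩ :=
    Y.isBasis_affineOpens.exists_subset_of_mem_open hy U.2
  refine ⟨W, ⟨⟨W, hW, ?_⟩, rfl⟩, hyW, hWU⟩
  exact ((genericPoint_spec Y).mem_open_set_iff W.isOpen).mpr ⟨y, trivial, hyW⟩

section

variable [Surjective π] (W : Idx Y)

theorem mem_preimage : genericPoint X ∈ π ⁻¹ᵁ W.1 := by
  show π.base (genericPoint X) ∈ W.1
  rw [map_genericPoint]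
  exact W.2.2

instance instNonemptyW : Nonempty (W.1 : Y.Opens) := ⟨⟨genericPoint Y, W.2.2⟩⟩

instance instNonemptyPre : Nonempty (π ⁻¹ᵁ W.1 : X.Opens) :=
  ⟨⟨genericPoint X, mem_preimage π W⟩⟩

/-- `Γ(Y, W) → K(Y)` -/
noncomputable abbrev gY : Γ(Y, W.1) →+* Y.functionField :=
  (Y.presheaf.germ W.1 (genericPoint Y) W.2.2).hom

/-- `Γ(X, π⁻¹ W) → K(X)` -/
noncomputable abbrev gX : Γ(X, π ⁻¹ᵁ W.1) →+* X.functionField :=
  (X.presheaf.germ (π ⁻¹ᵁ W.1) (genericPoint X) (mem_preimage π W)).hom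

theorem gY_injective : Function.Injective (gY W) :=
  germ_injective_of_isIntegral Y (genericPoint Y) W.2.2

theorem gX_injective : Function.Injective (gX π W) :=
  germ_injective_of_isIntegral X (genericPoint X) (mem_preimage π W)

theorem ffMap_gY (a : Γ(Y, W.1)) : ffMap π (gY W a) = gX π W (π.app W.1 a) :=
  ffMap_germ π W.1 W.2.2 (mem_preimage π W) a

omit [IsIntegral X] [Surjective π] in
theorem isIntegrallyClosed_sections (hY : Pi1.IsNormalScheme Y) :
    IsIntegrallyClosed Γ(Y, W.1) := by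
  refine IsIntegrallyClosed.of_localization_maximal (fun p _ hp => ?_)
  let y : PrimeSpectrum Γ(Y, W.1) := ⟨p, hp.isPrime⟩
  have hy : W.2.1.fromSpec y ∈ (W.1 : Y.Opens) := by
    have : W.2.1.fromSpec y ∈ Set.range W.2.1.fromSpec := ⟨y, rfl⟩
    rw [W.2.1.range_fromSpec] at this
    exact this
  letI := TopCat.Presheaf.algebra_section_stalk Y.presheaf ⟨W.2.1.fromSpec y, hy⟩
  haveI hloc : IsLocalization.AtPrime (Y.presheaf.stalk (W.2.1.fromSpec y)) p :=
    W.2.1.isLocalization_stalk' y hy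
  let e : Y.presheaf.stalk (W.2.1.fromSpec y) ≃+* Localization.AtPrime p :=
    (IsLocalization.algEquiv p.primeCompl (Y.presheaf.stalk (W.2.1.fromSpec y))
      (Localization.AtPrime p)).toRingEquiv
  obtain ⟨h1, h2⟩ := hY (W.2.1.fromSpec y)
  exact IsIntegrallyClosed.of_equiv e

theorem aklb [IsFinite π] (hY : Pi1.IsNormalScheme Y) :
    letI := (gY W).toAlgebra
    letI := (gX π W).toAlgebra
    letI := (ffMap π).toAlgebra
    letI := ((gX π W).comp (algebraMap Γ(Y, W.1) Γ(X, π ⁻¹ᵁ W.1))).toAlgebra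
    AKLB Γ(Y, W.1) Γ(X, π ⁻¹ᵁ W.1) Y.functionField X.functionField := by
  letI := (gY W).toAlgebra
  letI := (gX π W).toAlgebra
  letI := (ffMap π).toAlgebra
  letI := ((gX π W).comp (algebraMap Γ(Y, W.1) Γ(X, π ⁻¹ᵁ W.1))).toAlgebra
  haveI t1 : IsScalarTower Γ(Y, W.1) Y.functionField X.functionField :=
    IsScalarTower.of_algebraMap_eq (fun a => (ffMap_gY π W a).symm)
  haveI t2 : IsScalarTower Γ(Y, W.1) Γ(X, π ⁻¹ᵁ W.1) X.functionField :=
    IsScalarTower.of_algebraMap_eq (fun a => rfl)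
  haveI fr : IsFractionRing Γ(Y, W.1) Y.functionField :=
    functionField_isFractionRing_of_isAffineOpen Y W.1 W.2.1
  haveI frB : IsFractionRing Γ(X, π ⁻¹ᵁ W.1) X.functionField :=
    functionField_isFractionRing_of_isAffineOpen X (π ⁻¹ᵁ W.1) (W.2.1.preimage π)
  haveI hfin : Module.Finite Γ(Y, W.1) Γ(X, π ⁻¹ᵁ W.1) := π.finite_app W.1 W.2.1
  haveI hint : Algebra.IsIntegral Γ(Y, W.1) Γ(X, π ⁻¹ᵁ W.1) := inferInstance
  have hinj : Function.Injective (algebraMap Γ(Y, W.1) Γ(X, π ⁻¹ᵁ W.1)) := by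
    intro a b hab
    apply gY_injective W
    apply (ffMap π).injective
    rw [ffMap_gY, ffMap_gY]
    exact congrArg (gX π W) hab
  haveI : FaithfulSMul Γ(Y, W.1) Γ(X, π ⁻¹ᵁ W.1) :=
    (faithfulSMul_iff_algebraMap_injective _ _).mpr hinj
  haveI hfd : FiniteDimensional Y.functionField X.functionField :=
    Module.Finite.of_isLocalization Γ(Y, W.1) Γ(X, π ⁻¹ᵁ W.1) (nonZeroDivisors Γ(Y, W.1))
  exact
    { tower1 := t1
      tower2 := t2
      frac := fr
      ic := isIntegrallyClosed_sections W hY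
      domA := inferInstance
      domB := inferInstance
      int := hint
      injB := gX_injective π W
      fin := hfd }

variable [IsFinite π] (hY : Pi1.IsNormalScheme Y)

/-- the degree: `[K(X) : K(Y)]` -/
noncomputable def deg : ℕ :=
  letI := (ffMap π).toAlgebra
  Module.finrank Y.functionField X.functionField

/-- the local norm on a nonempty affine open -/
noncomputable def locNrm (s : Γ(X, π ⁻¹ᵁ W.1)) : Γ(Y, W.1) :=
  letI := (gY W).toAlgebra
  letI := (gX π W).toAlgebra
  letI := (ffMap π).toAlgebra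
  letI := ((gX π W).comp (algebraMap Γ(Y, W.1) Γ(X, π ⁻¹ᵁ W.1))).toAlgebra
  (aklb π W hY).nrm s

theorem gY_locNrm (s : Γ(X, π ⁻¹ᵁ W.1)) :
    gY W (locNrm π W hY s) =
      (letI := (ffMap π).toAlgebra; Algebra.norm Y.functionField (gX π W s)) := by
  letI := (gY W).toAlgebra
  letI := (gX π W).toAlgebra
  letI := (ffMap π).toAlgebra
  letI := ((gX π W).comp (algebraMap Γ(Y, W.1) Γ(X, π ⁻¹ᵁ W.1))).toAlgebra
  exact (aklb π W hY).algebraMap_nrm s

theorem locNrm_one : locNrm π W hY 1 = 1 := by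
  letI := (gY W).toAlgebra
  letI := (gX π W).toAlgebra
  letI := (ffMap π).toAlgebra
  letI := ((gX π W).comp (algebraMap Γ(Y, W.1) Γ(X, π ⁻¹ᵁ W.1))).toAlgebra
  exact (aklb π W hY).nrm_one

theorem locNrm_mul (s t : Γ(X, π ⁻¹ᵁ W.1)) :
    locNrm π W hY (s * t) = locNrm π W hY s * locNrm π W hY t := by
  letI := (gY W).toAlgebra
  letI := (gX π W).toAlgebra
  letI := (ffMap π).toAlgebra
  letI := ((gX π W).comp (algebraMap Γ(Y, W.1) Γ(X, π ⁻¹ᵁ W.1))).toAlgebra
  exact (aklb π W hY).nrm_mul s t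

theorem locNrm_app (a : Γ(Y, W.1)) : locNrm π W hY (π.app W.1 a) = a ^ deg π := by
  letI := (gY W).toAlgebra
  letI := (gX π W).toAlgebra
  letI := (ffMap π).toAlgebra
  letI := ((gX π W).comp (algebraMap Γ(Y, W.1) Γ(X, π ⁻¹ᵁ W.1))).toAlgebra
  exact (aklb π W hY).nrm_algebraMap a

include W hY in
theorem one_le_deg : 1 ≤ deg π := by
  letI := (gY W).toAlgebra
  letI := (gX π W).toAlgebra
  letI := (ffMap π).toAlgebra
  letI := ((gX π W).comp (algebraMap Γ(Y, W.1) Γ(X, π ⁻¹ᵁ W.1))).toAlgebra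
  exact (aklb π W hY).finrank_pos

theorem dvd_app_locNrm (s : Γ(X, π ⁻¹ᵁ W.1)) : s ∣ π.app W.1 (locNrm π W hY s) := by
  letI := (gY W).toAlgebra
  letI := (gX π W).toAlgebra
  letI := (ffMap π).toAlgebra
  letI := ((gX π W).comp (algebraMap Γ(Y, W.1) Γ(X, π ⁻¹ᵁ W.1))).toAlgebra
  exact (aklb π W hY).dvd_algebraMap_nrm s

theorem locNrm_res {W W' : Idx Y} (h : W'.1 ≤ W.1) (s : Γ(X, π ⁻¹ᵁ W.1)) :
    rY Y h (locNrm π W hY s) = locNrm π W' hY (rX π h s) := by
  apply gY_injective W'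
  rw [gY_locNrm]
  have h1 : gY W' (rY Y h (locNrm π W hY s)) = gY W (locNrm π W hY s) :=
    TopCat.Presheaf.germ_res_apply Y.presheaf (homOfLE h) (genericPoint Y) W'.2.2 _
  have h2 : gX π W' (rX π h s) = gX π W s :=
    TopCat.Presheaf.germ_res_apply X.presheaf ((Opens.map π.base).map (homOfLE h))
      (genericPoint X) (mem_preimage π W') s
  rw [h1, h2, gY_locNrm]

theorem locNrm_mem (s : Γ(X, π ⁻¹ᵁ W.1)) (x : X) (hx : π.base x ∈ W.1)
    (hs : X.presheaf.germ (π ⁻¹ᵁ W.1) x hx s ∈ IsLocalRing.maximalIdeal (X.presheaf.stalk x)) :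
    Y.presheaf.germ W.1 (π.base x) hx (locNrm π W hY s) ∈
      IsLocalRing.maximalIdeal (Y.presheaf.stalk (π.base x)) := by
  rw [mem_maximalIdeal_germ_iff] at hs ⊢
  obtain ⟨y, hy⟩ := dvd_app_locNrm π W hY s
  intro hcon
  apply hs
  have h1 : x ∈ π ⁻¹ᵁ Y.basicOpen (locNrm π W hY s) := hcon
  rw [Scheme.preimage_basicOpen, hy, Scheme.basicOpen_mul] at h1
  exact h1.1

/-- the local norms -/
noncomputable def localNorm : LocalNorm π (deg π) (fun W : Idx Y => W.1) where
  norm W :=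
    { toFun := locNrm π W hY
      map_one' := locNrm_one π W hY
      map_mul' := locNrm_mul π W hY }
  norm_res := fun h s => locNrm_res π hY h s
  norm_app := fun W a => locNrm_app π W hY a
  norm_mem := fun W s x hx hs => locNrm_mem π W hY s x hx hs

end

/-- a finite surjective morphism of integral schemes with normal target carries a norm -/
theorem exists_hasNorm [IsFinite π] [Surjective π] (hY : Pi1.IsNormalScheme Y) :
    ∃ d : ℕ, Nrm.HasNorm π d := by
  obtain ⟨W, -, -⟩ := exists_basis_mem (isBasis_idx (Y := Y))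
    (show genericPoint Y ∈ (⊤ : Y.Opens) from trivial)
  exact ⟨deg π, ⟨normOfDegree isBasis_idx (localNorm π hY) (one_le_deg π W hY)⟩⟩

end Groth.Agent.H67.NormNormal
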