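import Mathlib
import Groth.Prelude.Def_Fitting

/-!
# Norms of degree `d` and quasi-affineness (helper67)

If `π : X ⟶ Y` is finite with a norm of degree `d ≥ 1` and `X` is quasi-affine, then `Y` is
quasi-affine.  Direct proof (no Chevalley): `π` is surjective because of the norm; for `y ∈ Y` and
an affine open `V ∋ y` prime avoidance gives `f ∈ Γ(X, ⊤)` with `π⁻¹(y) ⊆ X_f ⊆ π⁻¹ V`; then
`g = N(f)` satisfies `y ∈ Y_g ⊆ V`, so `Y_g` is affine.
-/

universe u

open CategoryTheory AlgebraicGeometry TopologicalSpace Opposite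

namespace Groth.Agent.H67.NormQA

variable {X Y : Scheme.{u}} (π : X ⟶ Y)

/-- A closed morphism carrying a norm of degree `d ≥ 1` is surjective. -/
theorem surjective_of_norm [IsFinite π] {d : ℕ} (N : Nrm.NormOfDegree π d) :
    Function.Surjective π := by
  intro y
  by_contra hy
  have hcl : IsClosed (Set.range π) := π.isClosedMap.isClosed_range
  let W : Y.Opens := ⟨(Set.range π)ᶜ, hcl.isOpen_compl⟩
  have hyW : y ∈ W := fun ⟨x, hx⟩ => hy ⟨x, hx⟩
  have hpre : π ⁻¹ᵁ W = ⊥ := by
    ext x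
    simp only [Opens.coe_bot, Set.mem_empty_iff_false, iff_false]
    intro hx
    exact hx ⟨x, rfl⟩
  have hsub : Subsingleton Γ(X, π ⁻¹ᵁ W) := by rw [hpre]; infer_instance
  have h1 : (1 : Γ(Y, W)) = 0 := by
    calc (1 : Γ(Y, W)) = N.norm W 1 := (map_one _).symm
      _ = N.norm W (π.app W 0) := by congr 1; exact Subsingleton.elim _ _
      _ = 0 ^ d := N.norm_app W 0
      _ = 0 := zero_pow (by have := N.one_le; omega)
  have hW : W = ⊥ := by
    rw [← Y.basicOpen_zero W, ← h1, Y.basicOpen_one]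
  rw [hW] at hyW
  exact hyW

/-- The prime ideal of global sections vanishing at `x`. -/
noncomputable def vanishingPrime (x : X) : Ideal Γ(X, ⊤) :=
  Ideal.comap (X.presheaf.germ ⊤ x trivial).hom (IsLocalRing.maximalIdeal (X.presheaf.stalk x))

instance (x : X) : (vanishingPrime x).IsPrime := by
  unfold vanishingPrime
  infer_instance

theorem not_mem_vanishingPrime_iff (x : X) (f : Γ(X, ⊤)) :
    f ∉ vanishingPrime x ↔ x ∈ X.basicOpen f := by
  rw [Scheme.mem_basicOpen_top]
  simp [vanishingPrime]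

/-- In a quasi-affine scheme, a finite set of points contained in an open `U` is contained in some
`X_f ⊆ U` (prime avoidance). -/
theorem exists_basicOpen_le_of_finite [X.IsQuasiAffine] (U : X.Opens) (F : Set X) (hF : F.Finite)
    (hFU : F ⊆ U) : ∃ f : Γ(X, ⊤), X.basicOpen f ≤ U ∧ F ⊆ X.basicOpen f := by
  classical
  rcases F.eq_empty_or_nonempty with rfl | ⟨a, ha⟩
  · exact ⟨0, by simp, by simp⟩
  have H : ∀ x : X, x ∈ U → ∃ r : Γ(X, ⊤), x ∈ X.basicOpen r ∧ X.basicOpen r ≤ U := by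
    intro x hx
    obtain ⟨_, ⟨_, ⟨r, hr, rfl⟩, rfl⟩, hxr, hrU⟩ :=
      (Scheme.IsQuasiAffine.isBasis_basicOpen X).exists_subset_of_mem_open hx U.2
    exact ⟨r, hxr, hrU⟩
  choose! r hr1 hr2 using H
  let I : Ideal Γ(X, ⊤) := Ideal.span (r '' F)
  have hI : ∀ f ∈ I, X.basicOpen f ≤ U := by
    intro f hf z hz
    by_contra hzU
    have hle : I ≤ vanishingPrime z := by
      refine Ideal.span_le.mpr ?_
      rintro _ ⟨x, hx, rfl⟩
      by_contra hh
      exact hzU (hr2 x (hFU hx) ((not_mem_vanishingPrime_iff z _).mp hh))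
    exact ((not_mem_vanishingPrime_iff z f).mpr hz) (hle hf)
  by_contra hcon
  push Not at hcon
  have hsub : (I : Set Γ(X, ⊤)) ⊆ ⋃ x ∈ (hF.toFinset : Set X), (vanishingPrime x : Set _) := by
    intro f hf
    obtain ⟨x, hxF, hx⟩ := Set.not_subset.mp (hcon f (hI f hf))
    simp only [Set.mem_iUnion]
    refine ⟨x, by simpa using hxF, ?_⟩
    by_contra hh
    exact hx ((not_mem_vanishingPrime_iff x f).mp hh)
  obtain ⟨x, hxF, hx⟩ := (Ideal.subset_union_prime (s := hF.toFinset) (f := vanishingPrime) a a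
    (fun i _ _ _ => inferInstance)).mp hsub
  have hxF' : x ∈ F := by simpa using hxF
  have : r x ∈ vanishingPrime x := hx (Ideal.subset_span ⟨x, hxF', rfl⟩)
  exact ((not_mem_vanishingPrime_iff x (r x)).mpr (hr1 x (hFU hxF'))) this

/-- If `π : X ⟶ Y` is finite with a norm of degree `d ≥ 1` and `X` is quasi-affine, then `Y` is
quasi-affine. -/
theorem isQuasiAffine_of_norm [IsFinite π] {d : ℕ} (N : Nrm.NormOfDegree π d) [X.IsQuasiAffine] :
    Y.IsQuasiAffine := by
  have hsurj := surjective_of_norm π N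
  have : CompactSpace Y :=
    ⟨by rw [← Set.range_eq_univ.mpr hsurj]; exact isCompact_range π.continuous⟩
  refine Scheme.IsQuasiAffine.of_forall_exists_mem_basicOpen Y fun y => ?_
  obtain ⟨_, ⟨V, hV, rfl⟩, hyV, -⟩ :=
    Y.isBasis_affineOpens.exists_subset_of_mem_open (Set.mem_univ y) isOpen_univ
  obtain ⟨f, hfV, hFf⟩ := exists_basicOpen_le_of_finite (π ⁻¹ᵁ V) (π ⁻¹' {y})
    (π.finite_preimage_singleton y) (by
      intro x hx
      have hx' : π x = y := hx
      show π x ∈ V
      rw [hx']; exact hyV)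
  obtain ⟨g, hg⟩ : ∃ g : Γ(Y, ⊤), g = N.norm ⊤ f := ⟨_, rfl⟩
  have hgV : Y.basicOpen g ≤ V := by
    intro y' hy'
    obtain ⟨x', rfl⟩ := hsurj y'
    have hx' : x' ∈ X.basicOpen f := by
      rw [Scheme.mem_basicOpen_top]
      by_contra hnu
      have h1 := N.norm_mem ⊤ f x' trivial ((IsLocalRing.mem_maximalIdeal _).mpr hnu)
      rw [Scheme.mem_basicOpen_top, hg] at hy'
      exact (IsLocalRing.mem_maximalIdeal _).mp h1 hy'
    exact hfV hx'
  have hyg : y ∈ Y.basicOpen g := by
    have hcl : IsClosed (π '' ((X.basicOpen f : Set X)ᶜ)) :=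
      π.isClosedMap _ (X.basicOpen f).2.isClosed_compl
    let W : Y.Opens := ⟨(π '' ((X.basicOpen f : Set X)ᶜ))ᶜ, hcl.isOpen_compl⟩
    have hyW : y ∈ W := by
      rintro ⟨x, hx, hxy⟩
      exact hx (hFf hxy)
    have hWf : π ⁻¹ᵁ W ≤ X.basicOpen f := by
      intro x hx
      by_contra hxf
      exact hx ⟨x, hxf, rfl⟩
    let i : W ⟶ (⊤ : Y.Opens) := homOfLE le_top
    have hu : IsUnit (X.presheaf.map ((Opens.map π.base).map i).op f) := by
      refine X.toRingedSpace.isUnit_of_isUnit_germ _ _ fun x hx => ?_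
      have h2 := (Scheme.mem_basicOpen_top X f x).mp (hWf hx)
      have h3 : X.presheaf.germ (π ⁻¹ᵁ W) x hx (X.presheaf.map ((Opens.map π.base).map i).op f)
          = X.presheaf.germ ⊤ x trivial f :=
        TopCat.Presheaf.germ_res_apply X.presheaf ((Opens.map π.base).map i) x hx f
      exact h3 ▸ h2
    have hu' : IsUnit (Y.presheaf.map i.op g) := by
      rw [hg, N.norm_res i f]
      exact hu.map (N.norm W)
    have h4 := Y.basicOpen_of_isUnit hu'
    rw [Scheme.basicOpen_res] at h4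
    have : W ≤ Y.basicOpen g := by
      rw [← h4]; exact inf_le_right
    exact this hyW
  refine ⟨g, ?_, hyg⟩
  have h5 := hV.basicOpen (Y.presheaf.map (homOfLE (le_top : V ≤ ⊤)).op g)
  rw [Scheme.basicOpen_res] at h5
  rwa [inf_eq_right.mpr hgV] at h5

end Groth.Agent.H67.NormQA
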