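import Groth.Agent.H67.NormNormal
import Groth.Agent.H67.NormQuasiAffine
import Groth.Agent.H22.RedImm

/-!
# Finite surjective onto a normal integral scheme descends quasi-affineness (helper67)
-/

set_option autoImplicit false
set_option linter.style.haveILetI false
universe u
open CategoryTheory AlgebraicGeometry TopologicalSpace Opposite

namespace Groth.Agent.H67.NormalQA

variable {X Y : Scheme.{u}}

/-- a finite surjective morphism to an integral scheme restricts to a finite surjective morphism
from an integral closed subscheme of the source -/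
theorem exists_integral_closed_surjective (π : X ⟶ Y) [IsFinite π] [Surjective π]
    [IsIntegral Y] :
    ∃ (X' : Scheme.{u}) (ι : X' ⟶ X), IsClosedImmersion ι ∧ IsIntegral X' ∧
      Function.Surjective (ι ≫ π).base := by
  obtain ⟨x, hx⟩ := π.surjective (genericPoint Y)
  let C : Closeds X := ⟨irreducibleComponent x, isClosed_irreducibleComponent⟩
  let I := Scheme.IdealSheafData.vanishingIdeal C
  have hrange : Set.range I.subschemeι = irreducibleComponent x := by
    rw [Scheme.IdealSheafData.range_subschemeι, Scheme.IdealSheafData.coe_support_vanishingIdeal]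
    rfl
  haveI : IsReduced I.subscheme := Groth.Agent.H22.isReduced_subscheme_vanishingIdeal C
  have hirr : IsIrreducible (Set.univ : Set I.subscheme) := by
    have e := I.subschemeι.isClosedEmbedding.isEmbedding.toHomeomorph
    haveI : IrreducibleSpace (Set.range I.subschemeι) :=
      Subtype.irreducibleSpace (hrange ▸ isIrreducible_irreducibleComponent)
    have h1 : IsIrreducible (Set.univ : Set (Set.range I.subschemeι)) :=
      (irreducibleSpace_def _).mp inferInstance
    have h2 := h1.image e.symm e.symm.continuous.continuousOn
    rwa [Set.image_univ, e.symm.surjective.range_eq] at h2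
  haveI : IrreducibleSpace I.subscheme := (irreducibleSpace_def _).mpr hirr
  refine ⟨I.subscheme, I.subschemeι, inferInstance,
    isIntegral_of_irreducibleSpace_of_isReduced _, ?_⟩
  have hcl : IsClosed (π.base '' (irreducibleComponent x)) :=
    π.isClosedMap _ isClosed_irreducibleComponent
  have hmem : genericPoint Y ∈ π.base '' (irreducibleComponent x) :=
    ⟨x, mem_irreducibleComponent, hx⟩
  have huniv : π.base '' (irreducibleComponent x) = Set.univ := by
    refine Set.eq_univ_of_univ_subset ?_
    have h3 : closure ({genericPoint Y} : Set Y) = Set.univ := (genericPoint_spec Y).def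
    rw [← h3]
    exact hcl.closure_subset_iff.mpr (Set.singleton_subset_iff.mpr hmem)
  intro y
  have hy : y ∈ π.base '' (irreducibleComponent x) := by rw [huniv]; trivial
  obtain ⟨z, hz, rfl⟩ := hy
  rw [← hrange] at hz
  obtain ⟨w, rfl⟩ := hz
  exact ⟨w, rfl⟩

/-- finite surjective onto a normal integral scheme descends quasi-affineness -/
theorem isQuasiAffine_of_normal (π : X ⟶ Y) [IsFinite π] [Surjective π] [IsIntegral Y]
    (hY : Pi1.IsNormalScheme Y) [X.IsQuasiAffine] : Y.IsQuasiAffine := by
  obtain ⟨X', ι, hι, hint, hsurj⟩ := exists_integral_closed_surjective π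
  haveI := hι
  haveI := hint
  haveI : CompactSpace X' := ι.isClosedEmbedding.compactSpace
  haveI : X'.IsQuasiAffine := Scheme.IsQuasiAffine.of_isImmersion ι
  haveI : Surjective (ι ≫ π) := ⟨hsurj⟩
  obtain ⟨d, ⟨N⟩⟩ := Groth.Agent.H67.NormNormal.exists_hasNorm (ι ≫ π) hY
  exact Groth.Agent.H67.NormQA.isQuasiAffine_of_norm (ι ≫ π) N

end Groth.Agent.H67.NormalQA
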