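import Groth.Agent.H67.PDeg4
import Mathlib.RingTheory.LaurentSeries
import Mathlib.FieldTheory.Finite.Basic
import Mathlib.FieldTheory.Perfect

set_option autoImplicit false
set_option linter.style.haveILetI false

universe u

namespace Groth.Agent.H67.PDeg

open Cardinal

theorem s19094 (p : ℕ) [Fact p.Prime]
    (k : Type u) [Field k] [Finite k] [CharP k p]
    (K : Type u) [Field K] [Algebra (LaurentSeries k) K] [CharP K p]
    (hfg : (⊤ : IntermediateField (LaurentSeries k) K).FG)
    (d : ℕ) (hd : Algebra.trdeg (LaurentSeries k) K = d) :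
    Module.finrank (↥(frobenius K p).fieldRange) K = p ^ (d + 1) := by
  haveI : CharP (LaurentSeries k) p :=
    (RingHom.charP_iff_charP (algebraMap (LaurentSeries k) K) p).mpr inferInstance
  haveI : ExpChar (PowerSeries k) p :=
    expChar_of_injective_algebraMap (algebraMap k (PowerSeries k)).injective p
  haveI : Algebra.EssFiniteType (LaurentSeries k) K := IntermediateField.fg_top_iff.mp hfg
  -- a `p`-basis of `k((t))`
  have h0 := isQBasis_of_perfect (k := k) p 1
  have h1 := IsQBasis.powerSeries p 1 h0
  have h2 := IsQBasis.fraction (K := LaurentSeries k) p 1 h1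
  have h3 := h2.reindex (finProdFinEquiv (m := 1) (n := p ^ 1)).symm
  -- a transcendence basis of size `d`
  obtain ⟨ι, x, hx⟩ := exists_isTranscendenceBasis' (LaurentSeries k) K
  have hcard : #ι = (d : Cardinal) := by rw [hx.cardinalMk_eq_trdeg, hd]
  obtain ⟨eι⟩ := Cardinal.mk_eq_nat_iff.mp hcard
  have hs : IsTranscendenceBasis (LaurentSeries k) (x ∘ eι.symm) := hx.comp_equiv eι.symm
  have hmain := finrank_fieldRange_of_isTranscendenceBasis (F := LaurentSeries k) (K := K) p 1 h3 hs
  rw [iterateFrobenius_one] at hmain
  rw [hmain]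
  ring

end Groth.Agent.H67.PDeg
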