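import Mathlib.Topology.Algebra.Category.ProfiniteGrp.Completion

set_option autoImplicit false
universe u

namespace Groth.Agent.H67

open CategoryTheory ProfiniteGrp ProfiniteGrp.ProfiniteCompletion

variable (G : GrpCat.{u})

/-- The projection from the profinite completion to a finite quotient. -/
def pcProj (N : FiniteIndexNormalSubgroup G) : completion G →* G ⧸ N.toSubgroup where
  toFun x := x.1 N
  map_one' := rfl
  map_mul' _ _ := rfl

variable {G}

theorem pcProj_etaFn (N : FiniteIndexNormalSubgroup G) (g : G) :
    pcProj G N (etaFn G g) = QuotientGroup.mk g := rfl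

theorem pc_ext {x y : completion G} (h : ∀ N, pcProj G N x = pcProj G N y) : x = y :=
  Subtype.ext (funext h)

theorem pc_compat (x : completion G) {N M : FiniteIndexNormalSubgroup G} (h : N ≤ M) :
    QuotientGroup.map N.toSubgroup M.toSubgroup (MonoidHom.id _) h (pcProj G N x) = pcProj G M x :=
  x.2 (homOfLE h)

theorem isOpen_pcProj_preimage (N : FiniteIndexNormalSubgroup G) (s : Set (G ⧸ N.toSubgroup)) :
    IsOpen (pcProj G N ⁻¹' s) := by
  have hc : Continuous ((limitCone (diagram G)).π.app N).hom :=
    ((limitCone (diagram G)).π.app N).hom.continuous_toFun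
  have hd : DiscreteTopology ((diagram G).obj N) := ⟨rfl⟩
  have hs : @IsOpen ((diagram G).obj N) _ s := isOpen_discrete _
  exact hs.preimage hc

set_option backward.isDefEq.respectTransparency false in
theorem pc_nhds (x : completion G) (U : Set (completion G)) (hU : IsOpen U) (hx : x ∈ U) :
    ∃ N : FiniteIndexNormalSubgroup G, ∀ z : completion G, pcProj G N z = pcProj G N x → z ∈ U := by
  obtain ⟨s, hsO, hsv⟩ := hU
  rw [← hsv, Set.mem_preimage] at hx
  rcases (isOpen_pi_iff.mp hsO) _ hx with ⟨J, fJ, hJ1, hJ2⟩
  let M : Subgroup G := iInf fun (j : J) => j.val.toSubgroup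
  have hM : M.Normal := Subgroup.normal_iInf_normal fun j => inferInstance
  have hMFinite : M.FiniteIndex := by
    apply Subgroup.finiteIndex_iInf
    infer_instance
  let m : FiniteIndexNormalSubgroup G := { toSubgroup := M }
  refine ⟨m, fun z hz => ?_⟩
  rw [← hsv]
  apply hJ2
  intro a a_in_J
  have hle : m ≤ a := iInf_le (fun (j : J) => (j.val.toSubgroup)) ⟨a, a_in_J⟩
  have h1 := pc_compat z hle
  have h2 := pc_compat x hle
  have : z.1 a = x.1 a := by
    change pcProj G a z = pcProj G a x
    rw [← h1, ← h2, hz]
  change z.1 a ∈ fJ a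
  rw [this]
  exact (hJ1 a a_in_J).right

theorem pc_approx (x : completion G) (U : Set (completion G)) (hU : IsOpen U) (hx : x ∈ U)
    (N : FiniteIndexNormalSubgroup G) :
    ∃ g : G, etaFn G g ∈ U ∧ pcProj G N (etaFn G g) = pcProj G N x := by
  have hU' : IsOpen (U ∩ pcProj G N ⁻¹' {pcProj G N x}) := hU.inter (isOpen_pcProj_preimage N _)
  obtain ⟨M, hM⟩ := pc_nhds x _ hU' ⟨hx, rfl⟩
  obtain ⟨g, hg⟩ := QuotientGroup.mk_surjective (pcProj G M x)
  have := hM (etaFn G g) hg
  exact ⟨g, this.1, this.2⟩

theorem map_etaFn {G G' : GrpCat.{u}} (f : G ⟶ G') (g : G) :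
    (profiniteCompletion.map f).hom (etaFn G g) = etaFn G' (f.hom g) := by
  have h := lift_eta (f ≫ eta G')
  exact ConcreteCategory.congr_hom h g

theorem pc_map_proj {G G' : GrpCat.{u}} (f : G ⟶ G') (N' : FiniteIndexNormalSubgroup G')
    (x : completion G) :
    pcProj G' N' ((profiniteCompletion.map f).hom x) =
      QuotientGroup.map (N'.comap f.hom).toSubgroup N'.toSubgroup f.hom (fun _ h => h)
        (pcProj G (N'.comap f.hom) x) := by
  have hc : Continuous (profiniteCompletion.map f).hom := (profiniteCompletion.map f).hom.continuous_toFun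
  have hU : IsOpen ((profiniteCompletion.map f).hom ⁻¹'
      (pcProj G' N' ⁻¹' {pcProj G' N' ((profiniteCompletion.map f).hom x)})) :=
    (isOpen_pcProj_preimage N' _).preimage hc
  obtain ⟨g, hg1, hg2⟩ := pc_approx x _ hU rfl (N'.comap f.hom)
  have hg1' : pcProj G' N' ((profiniteCompletion.map f).hom (etaFn G g)) =
      pcProj G' N' ((profiniteCompletion.map f).hom x) := hg1
  rw [← hg1', ← hg2, map_etaFn, pcProj_etaFn, pcProj_etaFn]
  rfl

theorem pc_map_eq_one_iff {G G' : GrpCat.{u}} (f : G ⟶ G') (x : completion G) :
    (profiniteCompletion.map f).hom x = 1 ↔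
      ∀ N' : FiniteIndexNormalSubgroup G',
        QuotientGroup.map (N'.comap f.hom).toSubgroup N'.toSubgroup f.hom (fun _ h => h)
          (pcProj G (N'.comap f.hom) x) = 1 := by
  constructor
  · intro h N'
    rw [← pc_map_proj f N' x]
    exact (congrArg (pcProj G' N') h).trans (map_one _)
  · intro h
    apply pc_ext (G := G')
    intro N'
    exact (pc_map_proj f N' x).trans ((h N').trans (map_one _).symm)

theorem pc_surjective_of_surjective {G G' : GrpCat.{u}} (f : G ⟶ G')
    (hf : Function.Surjective f.hom) :
    Function.Surjective (profiniteCompletion.map f).hom := by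
  have hc : Continuous (profiniteCompletion.map f).hom :=
    (profiniteCompletion.map f).hom.continuous_toFun
  have hclosed : IsClosed (Set.range (profiniteCompletion.map f).hom) :=
    (isCompact_range hc).isClosed
  have hsub : Set.range (etaFn G') ⊆ Set.range (profiniteCompletion.map f).hom := by
    rintro _ ⟨b, rfl⟩
    obtain ⟨a, rfl⟩ := hf b
    exact ⟨etaFn G a, map_etaFn f a⟩
  intro y
  have hy : y ∈ closure (Set.range (etaFn G')) := by
    rw [(denseRange G').closure_range]; trivial
  exact closure_minimal hsub hclosed hy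

/-- An element of the completion lies in the (closed) range of the map induced by `f` as soon as
every finite level of it is hit by an element of the source group. -/
theorem pc_mem_range_of_approx {G G' : GrpCat.{u}} (f : G ⟶ G') (x : completion G')
    (h : ∀ N' : FiniteIndexNormalSubgroup G', ∃ g : G,
      pcProj G' N' (etaFn G' (f.hom g)) = pcProj G' N' x) :
    x ∈ Set.range (profiniteCompletion.map f).hom := by
  have hc : Continuous (profiniteCompletion.map f).hom :=
    (profiniteCompletion.map f).hom.continuous_toFun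
  have hclosed : IsClosed (Set.range (profiniteCompletion.map f).hom) :=
    (isCompact_range hc).isClosed
  by_contra hcon
  obtain ⟨N, hN⟩ := pc_nhds x _ hclosed.isOpen_compl hcon
  obtain ⟨g, hg⟩ := h N
  exact hN _ hg ⟨etaFn G g, map_etaFn f g⟩

end Groth.Agent.H67
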