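import Groth.Agent.H71.QCoh.StalkPullback
import Mathlib.AlgebraicGeometry.FunctionField

/-!
# Generic rank of the pullback of a quasi-coherent module along a dominant morphism
-/

set_option autoImplicit false
set_option linter.style.haveILetI false
universe u
open CategoryTheory CategoryTheory.Limits AlgebraicGeometry TopologicalSpace Opposite TensorProduct

namespace Groth.Agent.H67.PullbackRank

variable {X Y : Scheme.{u}}

lemma map_genericPoint [IrreducibleSpace X] [IrreducibleSpace Y] (f : X ⟶ Y) [IsDominant f] :
    f (genericPoint X) = genericPoint Y := by
  apply ((genericPoint_spec Y).eq _).symm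
  have h := (genericPoint_spec X).image f.continuous
  rw [Set.image_univ, f.denseRange.closure_range] at h
  exact h

lemma rank_stalk_congr (G : Y.Modules) {y y' : Y} (h : y = y') :
    Module.rank (Y.presheaf.stalk y) (G.presheaf.stalk y) =
      Module.rank (Y.presheaf.stalk y') (G.presheaf.stalk y') := by
  subst h; rfl

theorem rank_pullback [IsIntegral X] [IsIntegral Y] (f : X ⟶ Y) [IsDominant f] (G : Y.Modules)
    [G.IsQuasicoherent] :
    Module.rank (X.presheaf.stalk (genericPoint X))
      (((Scheme.Modules.pullback f).obj G).presheaf.stalk (genericPoint X)) =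
    Module.rank (Y.presheaf.stalk (genericPoint Y)) (G.presheaf.stalk (genericPoint Y)) := by
  letI := (f.stalkMap (genericPoint X)).hom.toAlgebra
  obtain ⟨e⟩ := Groth.Agent.H71.QCoh.exists_stalkPullbackEquiv f G (genericPoint X)
  rw [← e.rank_eq, ← rank_stalk_congr G (map_genericPoint f)]
  have hfield : IsField (Y.presheaf.stalk (f (genericPoint X))) := by
    rw [map_genericPoint f]
    exact Field.toIsField Y.functionField
  letI : Field (Y.presheaf.stalk (f (genericPoint X))) := hfield.toField
  letI : Field (X.presheaf.stalk (genericPoint X)) := inferInstanceAs (Field X.functionField)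
  have := Module.rank_baseChange (R := X.presheaf.stalk (genericPoint X))
    (S := Y.presheaf.stalk (f (genericPoint X))) (M' := G.presheaf.stalk (f (genericPoint X)))
  rw [Cardinal.lift_id] at this
  exact this

end Groth.Agent.H67.PullbackRank
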