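import Groth.Agent.H67.RankTwo

set_option autoImplicit false

/-!
# The canonical involution of a free algebra of rank two (helper67)
-/

namespace Groth.Agent.H67.RankTwo

/-- the canonical involution `x ↦ tr x - x` of a free algebra of rank two is multiplicative
(when `2` is invertible) -/
theorem invol_mul {R B : Type*} [CommRing R] [CommRing B] [Algebra R B]
    (b : Module.Basis (Fin 2) R B) (u : R) (hu : 2 * u = 1) (x y : B) :
    algebraMap R B (Algebra.trace R B (x * y)) - x * y =
      (algebraMap R B (Algebra.trace R B x) - x) * (algebraMap R B (Algebra.trace R B y) - y) := by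
  have h1 := sq_eq b x
  have h2 := sq_eq b y
  have h3 := sq_eq b (x + y)
  rw [Algebra.smul_def] at h1 h2 h3
  rw [map_add, map_add] at h3
  set tx := Algebra.trace R B x with htx
  set ty := Algebra.trace R B y with hty
  set P : R := Algebra.norm R (x + y) - Algebra.norm R x - Algebra.norm R y with hP
  have E1 : 2 * (x * y) = algebraMap R B tx * y + algebraMap R B ty * x - algebraMap R B P := by
    rw [hP, map_sub, map_sub]
    linear_combination h3 - h1 - h2
  have E2 : Algebra.trace R B (x * y) = tx * ty - P := by
    have h4 := congrArg (Algebra.trace R B) E1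
    rw [map_sub, map_add, ← Algebra.smul_def, ← Algebra.smul_def, map_smul, map_smul,
      Algebra.trace_algebraMap_of_basis b, Fintype.card_fin, smul_eq_mul, smul_eq_mul,
      nsmul_eq_mul] at h4
    have h5 : Algebra.trace R B (2 * (x * y)) = 2 * Algebra.trace R B (x * y) := by
      have : (2 : B) * (x * y) = (2 : R) • (x * y) := by
        rw [Algebra.smul_def, map_ofNat]
      rw [this, map_smul, smul_eq_mul]
    rw [h5] at h4
    calc Algebra.trace R B (x * y) = (2 * u) * Algebra.trace R B (x * y) := by rw [hu, one_mul]
      _ = u * (2 * Algebra.trace R B (x * y)) := by ring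
      _ = u * (tx * ty + ty * tx - ((2 : ℕ) : R) * P) := by rw [h4]
      _ = (2 * u) * (tx * ty - P) := by push_cast; ring
      _ = tx * ty - P := by rw [hu, one_mul]
  rw [E2, map_sub, map_mul]
  linear_combination (-1 : B) * E1

/-- the trace of `1` in a free algebra of rank two -/
theorem trace_one_eq_two {R B : Type*} [CommRing R] [CommRing B] [Algebra R B]
    (b : Module.Basis (Fin 2) R B) : Algebra.trace R B 1 = 2 := by
  have := Algebra.trace_algebraMap_of_basis b (1 : R)
  rw [map_one, Fintype.card_fin, nsmul_eq_mul, mul_one] at this
  rw [this]; norm_num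

end Groth.Agent.H67.RankTwo
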