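import Mathlib.Algebra.Module.PID
import Mathlib.Algebra.Polynomial.Module.AEval
import Mathlib.Algebra.Polynomial.Module.FiniteDimensional
import Mathlib.LinearAlgebra.Matrix.NonsingularInverse
import Mathlib.LinearAlgebra.Matrix.ToLin
import Mathlib.LinearAlgebra.Matrix.Charpoly.Basic
import Mathlib.LinearAlgebra.Matrix.Charpoly.Coeff
import Mathlib.RingTheory.Ideal.Quotient.Operations
import Mathlib.RingTheory.EuclideanDomain
import Mathlib.RingTheory.LocalProperties.Basic
import Mathlib.RingTheory.LocalRing.ResidueField.Basic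
import Mathlib.LinearAlgebra.Dimension.Constructions
import Mathlib.LinearAlgebra.Dimension.Free
import Mathlib.Algebra.Algebra.Subalgebra.Centralizer

/-!
# Regular matrices: cyclic vectors and commutativity of the centralizer
-/

set_option autoImplicit false

namespace Groth.Agent.H67.RegCent

open Polynomial Matrix Module Function

universe u

section field

variable {K : Type u} [Field K] {n : ℕ}

/-- A nonzero linear map `R/(a) → R/(b)` when `a, b` are not coprime, `b ≠ 0` (over `K[X]`). -/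
theorem exists_nonzero_hom (a b : K[X]) (hb : b ≠ 0) (hnc : ¬ IsCoprime a b) :
    ∃ ν : (K[X] ⧸ Ideal.span {a}) →ₗ[K[X]] (K[X] ⧸ Ideal.span {b}),
      ν (Ideal.Quotient.mk _ 1) ≠ 0 := by
  classical
  have hc : ¬ IsUnit (EuclideanDomain.gcd a b) := fun h => hnc (EuclideanDomain.gcd_isUnit_iff.mp h)
  obtain ⟨a', ha'⟩ := EuclideanDomain.gcd_dvd_left a b
  obtain ⟨b', hb'⟩ := EuclideanDomain.gcd_dvd_right a b
  set c := EuclideanDomain.gcd a b with hcdef
  have hmap : (Ideal.span {a} : Ideal K[X]) ≤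
      Submodule.comap (LinearMap.mulLeft K[X] b') (Ideal.span {b} : Ideal K[X]) := by
    intro t ht
    obtain ⟨s, rfl⟩ := Ideal.mem_span_singleton'.mp ht
    rw [Submodule.mem_comap, LinearMap.mulLeft_apply]
    apply Ideal.mem_span_singleton'.mpr
    refine ⟨s * a', ?_⟩
    conv_rhs => rw [ha']
    conv_lhs => rw [hb']
    ring
  refine ⟨Submodule.mapQ _ _ (LinearMap.mulLeft K[X] b') hmap, ?_⟩
  change Ideal.Quotient.mk (Ideal.span {b}) (b' * 1) ≠ 0
  rw [mul_one, Ne, Ideal.Quotient.eq_zero_iff_mem, Ideal.mem_span_singleton]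
  rintro ⟨s, hs⟩
  have hb'0 : b' ≠ 0 := by
    rintro rfl
    rw [mul_zero] at hb'
    exact hb hb'
  apply hc
  have h1 : b' * (1 - c * s) = 0 := by
    have : b' = c * b' * s := by
      conv_lhs => rw [hs, hb']
    linear_combination this
  have h2 : 1 - c * s = 0 := (mul_eq_zero.mp h1).resolve_left hb'0
  exact isUnit_iff_exists_inv.mpr ⟨s, by linear_combination -h2⟩

/-- Non-coprime case: `n + 1` independent endomorphisms commuting with `X`. -/
theorem exists_injective_of_not_coprime {ι : Type u} [Fintype ι] [DecidableEq ι]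
    (I : ι → Ideal K[X]) (i j : ι) (hij : i ≠ j)
    (ν : (K[X] ⧸ I i) →ₗ[K[X]] (K[X] ⧸ I j)) (hν : ν (Ideal.Quotient.mk _ 1) ≠ 0) :
    ∃ Θ : (∀ i, K[X] ⧸ I i) × K →ₗ[K] Module.End K (∀ i, K[X] ⧸ I i),
      Function.Injective Θ ∧
      ∀ (z : (∀ i, K[X] ⧸ I i) × K) (u : ∀ i, K[X] ⧸ I i),
        Θ z ((X : K[X]) • u) = (X : K[X]) • Θ z u := by
  let 𝒩 : (∀ i, K[X] ⧸ I i) →ₗ[K[X]] (∀ i, K[X] ⧸ I i) :=
    (LinearMap.single K[X] (fun i => K[X] ⧸ I i) j) ∘ₗ ν ∘ₗ (LinearMap.proj i)
  let 𝒩ₖ : (∀ i, K[X] ⧸ I i) →ₗ[K] (∀ i, K[X] ⧸ I i) := 𝒩.restrictScalars K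
  let Θ : (∀ i, K[X] ⧸ I i) × K →ₗ[K] Module.End K (∀ i, K[X] ⧸ I i) :=
    LinearMap.coprod (LinearMap.mul K (∀ i, K[X] ⧸ I i)) (LinearMap.toSpanSingleton K _ 𝒩ₖ)
  have hΘ : ∀ (z : (∀ i, K[X] ⧸ I i) × K) (u : ∀ i, K[X] ⧸ I i),
      Θ z u = z.1 * u + z.2 • 𝒩 u := by
    intro z u
    simp [Θ, 𝒩ₖ]
  have h𝒩 : ∀ u : (∀ i, K[X] ⧸ I i), 𝒩 u = Pi.single j (ν (u i)) := fun u => rfl
  refine ⟨Θ, ?_, ?_⟩
  · rw [injective_iff_map_eq_zero]
    rintro ⟨m, c⟩ hz
    have h1 := congrFun (congrArg DFunLike.coe hz) (Pi.single i 1)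
    rw [hΘ, h𝒩] at h1
    have h2 := congrFun h1 j
    simp only [Pi.add_apply, Pi.mul_apply, Pi.single_eq_of_ne hij.symm, mul_zero, zero_add,
      Pi.smul_apply, Pi.single_eq_same, LinearMap.zero_apply, Pi.zero_apply] at h2
    have hc : c = 0 := (smul_eq_zero.mp h2).resolve_right hν
    subst hc
    have h4 := congrFun (congrArg DFunLike.coe hz) 1
    rw [hΘ] at h4
    simp only [mul_one, LinearMap.zero_apply] at h4
    have h5 : m = 0 := by
      have h6 : (0 : K) • 𝒩 1 = 0 := by
        funext l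
        rw [Pi.smul_apply, zero_smul]
        rfl
      rw [h6, add_zero] at h4
      exact h4
    rw [h5]
    rfl
  · intro z u
    rw [hΘ, hΘ, map_smul, mul_smul_comm, smul_add, smul_comm z.2]

/-- Field case: if the commutant of `M` has dimension `n`, then `M` has a cyclic vector. -/
theorem exists_cyclic_of_finrank_centralizer (M : Matrix (Fin n) (Fin n) K)
    (h : Module.finrank K (Subalgebra.centralizer K ({M} : Set (Matrix (Fin n) (Fin n) K))) = n) :
    ∃ v : Fin n → K, ∀ w : Fin n → K, ∃ q : K[X], w = (aeval M q) *ᵥ v := by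
  classical
  let W := Fin n → K
  let f : W →ₗ[K] W := Matrix.toLinAlgEquiv' M
  have hf : ∀ w : W, f w = M *ᵥ w := fun w => Matrix.toLinAlgEquiv'_apply M w
  have haeval : ∀ (q : K[X]) (w : W), aeval f q w = (aeval M q) *ᵥ w := by
    intro q w
    have h1 : aeval f q = Matrix.toLinAlgEquiv' (aeval M q) := by
      change aeval ((Matrix.toLinAlgEquiv' : Matrix (Fin n) (Fin n) K ≃ₐ[K] _) M) q = _
      exact Polynomial.aeval_algHom_apply
        (Matrix.toLinAlgEquiv' : Matrix (Fin n) (Fin n) K ≃ₐ[K] _).toAlgHom M q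
    rw [h1, Matrix.toLinAlgEquiv'_apply]
  have htors : Module.IsTorsion K[X] (Module.AEval' f) :=
    Module.AEval.isTorsion_of_finiteDimensional K W f
  obtain ⟨ι, _, p, hp, e, ⟨eq⟩⟩ := Module.equiv_directSum_of_isTorsion htors
  let I : ι → Ideal K[X] := fun i => Ideal.span {p i ^ e i}
  let e' : Module.AEval' f ≃ₗ[K[X]] (∀ i, K[X] ⧸ I i) :=
    eq.trans (DirectSum.linearEquivFunOnFintype K[X] ι (fun i => K[X] ⧸ I i))
  let ε : W ≃ₗ[K] (∀ i, K[X] ⧸ I i) := (Module.AEval'.of f).trans (e'.restrictScalars K)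
  have hεaeval : ∀ (q : K[X]) (w : W), ε (aeval f q w) = q • ε w := by
    intro q w
    change e' (Module.AEval'.of f (aeval f q w)) = q • e' (Module.AEval'.of f w)
    rw [← map_smul]
    rfl
  by_cases hcop : Pairwise (IsCoprime on I)
  · refine ⟨ε.symm 1, fun w => ?_⟩
    obtain ⟨r, hr⟩ := Ideal.pi_quotient_surjective hcop (ε w)
    refine ⟨r, ?_⟩
    rw [← haeval]
    apply ε.injective
    rw [hεaeval, LinearEquiv.apply_symm_apply]
    funext i
    rw [← hr i, Pi.smul_apply, Pi.one_apply]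
    have : (r • (1 : K[X] ⧸ I i)) = Ideal.Quotient.mk (I i) (r • 1) := rfl
    rw [this, smul_eq_mul, mul_one]
  · exfalso
    have : ∃ i j, i ≠ j ∧ ¬ IsCoprime (I i) (I j) := by
      by_contra hne
      push_neg at hne
      exact hcop (fun i j hij => hne i j hij)
    obtain ⟨i, j, hij, hnc⟩ := this
    have hnc' : ¬ IsCoprime (p i ^ e i) (p j ^ e j) := fun hh =>
      hnc ((Ideal.isCoprime_span_singleton_iff _ _).mpr hh)
    have hb : p j ^ e j ≠ 0 := pow_ne_zero _ (hp j).ne_zero
    obtain ⟨ν, hν⟩ := exists_nonzero_hom (p i ^ e i) (p j ^ e j) hb hnc'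
    obtain ⟨Θ, hΘinj, hΘX⟩ := exists_injective_of_not_coprime I i j hij ν hν
    have hεf : ∀ w : W, ε (f w) = (X : K[X]) • ε w := by
      intro w
      have := hεaeval X w
      rwa [aeval_X] at this
    have hεsymm : ∀ u : (∀ i, K[X] ⧸ I i), ε.symm ((X : K[X]) • u) = f (ε.symm u) := by
      intro u
      apply ε.injective
      rw [hεf, LinearEquiv.apply_symm_apply, LinearEquiv.apply_symm_apply]
    let Ξ : (∀ i, K[X] ⧸ I i) × K →ₗ[K] Matrix (Fin n) (Fin n) K :=
      (LinearMap.toMatrix' : (W →ₗ[K] W) ≃ₗ[K] Matrix (Fin n) (Fin n) K).toLinearMap ∘ₗ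
        (ε.symm.conj).toLinearMap ∘ₗ Θ
    have hΞinj : Function.Injective Ξ := by
      intro z z' hzz
      apply hΘinj
      apply (ε.symm.conj).injective
      exact (LinearMap.toMatrix' : (W →ₗ[K] W) ≃ₗ[K] Matrix (Fin n) (Fin n) K).injective hzz
    have hΞmem : ∀ z, Ξ z ∈ Subalgebra.toSubmodule
        (Subalgebra.centralizer K ({M} : Set (Matrix (Fin n) (Fin n) K))) := by
      intro z
      rw [Subalgebra.mem_toSubmodule, Subalgebra.mem_centralizer_iff]
      intro g hg
      rw [Set.mem_singleton_iff] at hg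
      rw [hg]
      have hcomm : (ε.symm.conj (Θ z)) ∘ₗ f = f ∘ₗ (ε.symm.conj (Θ z)) := by
        refine LinearMap.ext fun w => ?_
        simp only [LinearMap.comp_apply, LinearEquiv.conj_apply, LinearEquiv.coe_coe,
          LinearEquiv.symm_symm]
        rw [hεf, hΘX, hεsymm]
      have h1 : M = LinearMap.toMatrix' f := by
        change M = LinearMap.toMatrix' (Matrix.toLinAlgEquiv' M : W →ₗ[K] W)
        exact (LinearMap.toMatrix'_toLin' M).symm
      change M * LinearMap.toMatrix' (ε.symm.conj (Θ z)) =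
        LinearMap.toMatrix' (ε.symm.conj (Θ z)) * M
      rw [h1, ← LinearMap.toMatrix'_comp, ← LinearMap.toMatrix'_comp, hcomm]
    let Ξ' := LinearMap.codRestrict _ Ξ hΞmem
    have hΞ'inj : Function.Injective Ξ' := fun z z' hzz =>
      hΞinj (congrArg Subtype.val hzz)
    haveI : Module.Finite K (∀ i, K[X] ⧸ I i) := Module.Finite.equiv ε
    have h1 := LinearMap.finrank_le_finrank_of_injective hΞ'inj
    have h2 : Module.finrank K ((∀ i, K[X] ⧸ I i) × K) = n + 1 := by
      rw [Module.finrank_prod, ← LinearEquiv.finrank_eq ε, Module.finrank_fin_fun,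
        Module.finrank_self]
    have h3 : Module.finrank K (Subalgebra.toSubmodule
        (Subalgebra.centralizer K ({M} : Set (Matrix (Fin n) (Fin n) K)))) = n := h
    omega

end field

section general

variable {S : Type u} [CommRing S] {n : ℕ}

/-- the matrix with columns `v, G v, ..., G^(n-1) v` -/
def Pmat (G : Matrix (Fin n) (Fin n) S) (v : Fin n → S) : Matrix (Fin n) (Fin n) S :=
  Matrix.of fun a (i : Fin n) => ((G ^ (i : ℕ)) *ᵥ v) a

/-- the polynomial `∑ c_i G^i` -/
def polyMat (G : Matrix (Fin n) (Fin n) S) (c : Fin n → S) : Matrix (Fin n) (Fin n) S :=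
  ∑ i : Fin n, c i • G ^ (i : ℕ)

theorem sum_mulVec {ι : Type*} (s : Finset ι) (Mf : ι → Matrix (Fin n) (Fin n) S)
    (v : Fin n → S) : (∑ i ∈ s, Mf i) *ᵥ v = ∑ i ∈ s, (Mf i) *ᵥ v := by
  classical
  induction s using Finset.induction_on with
  | empty => simp
  | insert a s ha ih => rw [Finset.sum_insert ha, Finset.sum_insert ha, Matrix.add_mulVec, ih]

theorem polyMat_mulVec (G : Matrix (Fin n) (Fin n) S) (c v : Fin n → S) :
    (polyMat G c) *ᵥ v = (Pmat G v) *ᵥ c := by
  rw [polyMat, sum_mulVec]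
  funext a
  rw [Finset.sum_apply]
  simp only [Matrix.mulVec, dotProduct, Pmat, Matrix.of_apply]
  refine Finset.sum_congr rfl fun i _ => ?_
  have : ((c i • G ^ (i : ℕ)) *ᵥ v) a = c i * ((G ^ (i : ℕ)) *ᵥ v) a := by
    rw [Matrix.smul_mulVec, Pi.smul_apply, smul_eq_mul]
  rw [mul_comm]
  exact this

theorem mul_Pmat_apply (x G : Matrix (Fin n) (Fin n) S) (v : Fin n → S) (a i : Fin n) :
    (x * Pmat G v) a i = (x *ᵥ ((G ^ (i : ℕ)) *ᵥ v)) a := rfl

theorem polyMat_commute_pow (G : Matrix (Fin n) (Fin n) S) (c : Fin n → S) (k : ℕ) :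
    Commute (polyMat G c) (G ^ k) :=
  Commute.sum_left _ _ _ fun i _ => (Commute.pow_pow_self G _ _).smul_left _

theorem polyMat_commute (G : Matrix (Fin n) (Fin n) S) (c d : Fin n → S) :
    Commute (polyMat G c) (polyMat G d) :=
  Commute.sum_right _ _ _ fun i _ => (polyMat_commute_pow G c _).smul_right _

/-- if `v, Gv, ..., G^(n-1)v` is a basis then everything commuting with `G` is a polynomial in `G` -/
theorem eq_polyMat_of_commute (G : Matrix (Fin n) (Fin n) S) (v : Fin n → S)
    (hP : IsUnit (Pmat G v).det) (x : Matrix (Fin n) (Fin n) S) (hx : x * G = G * x) :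
    ∃ c : Fin n → S, x = polyMat G c := by
  classical
  let P := Pmat G v
  let c : Fin n → S := P⁻¹ *ᵥ (x *ᵥ v)
  refine ⟨c, ?_⟩
  have hQv : (polyMat G c) *ᵥ v = x *ᵥ v := by
    rw [polyMat_mulVec, Matrix.mulVec_mulVec, Matrix.mul_nonsing_inv _ hP, Matrix.one_mulVec]
  have hxk : ∀ k : ℕ, Commute x (G ^ k) := fun k => (show Commute x G from hx).pow_right k
  have hmul : x * P = polyMat G c * P := by
    ext a i
    rw [mul_Pmat_apply, mul_Pmat_apply, Matrix.mulVec_mulVec, Matrix.mulVec_mulVec,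
      (hxk i).eq, (polyMat_commute_pow G c i).eq, ← Matrix.mulVec_mulVec, ← Matrix.mulVec_mulVec,
      hQv]
  calc x = x * P * P⁻¹ := by rw [Matrix.mul_assoc, Matrix.mul_nonsing_inv _ hP, Matrix.mul_one]
    _ = polyMat G c * P * P⁻¹ := by rw [hmul]
    _ = polyMat G c := by rw [Matrix.mul_assoc, Matrix.mul_nonsing_inv _ hP, Matrix.mul_one]

theorem Pmat_map {S' : Type u} [CommRing S'] (φ : S →+* S') (G : Matrix (Fin n) (Fin n) S)
    (v : Fin n → S) : (Pmat G v).map φ = Pmat (G.map φ) (φ ∘ v) := by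
  ext a i
  simp only [Pmat, Matrix.map_apply, Matrix.of_apply]
  rw [RingHom.map_mulVec, Matrix.map_pow]

end general

section cyclic

variable {K : Type u} [Field K] {n : ℕ}

/-- a cyclic vector gives an invertible `Pmat` -/
theorem isUnit_Pmat_of_cyclic (hn : 0 < n) (M : Matrix (Fin n) (Fin n) K) (v : Fin n → K)
    (hv : ∀ w : Fin n → K, ∃ q : K[X], w = (aeval M q) *ᵥ v) : IsUnit (Pmat M v).det := by
  classical
  rw [← Matrix.isUnit_iff_isUnit_det, ← Matrix.mulVec_surjective_iff_isUnit]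
  intro w
  obtain ⟨q, rfl⟩ := hv w
  have hmonic : M.charpoly.Monic := Matrix.charpoly_monic M
  have hdeg : M.charpoly.natDegree = n := by
    rw [Matrix.charpoly_natDegree_eq_dim, Fintype.card_fin]
  have hne1 : M.charpoly ≠ 1 := by
    intro h1
    rw [h1, natDegree_one] at hdeg
    omega
  set r := q %ₘ M.charpoly with hr
  have hrdeg : r.natDegree < n := by
    have := natDegree_modByMonic_lt q hmonic hne1
    rwa [hdeg] at this
  have hqr : aeval M q = aeval M r := by
    conv_lhs => rw [← modByMonic_add_div q M.charpoly]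
    rw [map_add, map_mul, Matrix.aeval_self_charpoly, zero_mul, add_zero]
  let c : Fin n → K := fun i => r.coeff i
  refine ⟨c, ?_⟩
  rw [← polyMat_mulVec, hqr]
  congr 1
  conv_rhs => rw [as_sum_range_C_mul_X_pow' r hrdeg]
  rw [map_sum, polyMat, ← Fin.sum_univ_eq_sum_range (fun i => aeval M (C (r.coeff i) * X ^ i))]
  refine Finset.sum_congr rfl fun i _ => ?_
  rw [map_mul, aeval_C, map_pow, aeval_X, Algebra.algebraMap_eq_smul_one, smul_mul_assoc, one_mul]

end cyclic

section localring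

variable {B : Type u} [CommRing B] [IsLocalRing B] {n : ℕ}

open IsLocalRing

theorem commute_local (G : Matrix (Fin n) (Fin n) B)
    (hreg : Module.finrank (ResidueField B) (Subalgebra.centralizer (ResidueField B)
      ({G.map (residue B)} : Set (Matrix (Fin n) (Fin n) (ResidueField B)))) = n)
    (x y : Matrix (Fin n) (Fin n) B) (hx : x * G = G * x) (hy : y * G = G * y) :
    x * y = y * x := by
  classical
  rcases Nat.eq_zero_or_pos n with hn | hn
  · subst hn
    exact Subsingleton.elim _ _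
  obtain ⟨vb, hvb⟩ := exists_cyclic_of_finrank_centralizer (G.map (residue B)) hreg
  have hPb := isUnit_Pmat_of_cyclic hn (G.map (residue B)) vb hvb
  obtain ⟨v, hv⟩ : ∃ v : Fin n → B, (residue B) ∘ v = vb :=
    ⟨fun i => (residue_surjective (vb i)).choose,
      funext fun i => (residue_surjective (vb i)).choose_spec⟩
  have hP : IsUnit (Pmat G v).det := by
    rw [← residue_ne_zero_iff_isUnit]
    have h1 : residue B (Pmat G v).det = (Pmat (G.map (residue B)) vb).det := by
      rw [RingHom.map_det, ← hv, ← Pmat_map]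
      rfl
    rw [h1]
    exact hPb.ne_zero
  obtain ⟨c, rfl⟩ := eq_polyMat_of_commute G v hP x hx
  obtain ⟨d, rfl⟩ := eq_polyMat_of_commute G v hP y hy
  exact (polyMat_commute G c d).eq

end localring

section global

theorem main (A : Type u) [CommRing A] (n : ℕ)
    (g : Matrix (Fin n) (Fin n) A)
    (hreg : ∀ (K : Type u) [Field K] (φ : A →+* K),
      Module.finrank K (Subalgebra.centralizer K ({g.map φ} : Set (Matrix (Fin n) (Fin n) K))) = n)
    (B : Type u) [CommRing B] [Algebra A B] (x y : Matrix (Fin n) (Fin n) B)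
    (hxg : x * g.map (algebraMap A B) = g.map (algebraMap A B) * x)
    (hyg : y * g.map (algebraMap A B) = g.map (algebraMap A B) * y) :
    x * y = y * x := by
  rw [← sub_eq_zero]
  ext a b
  rw [Matrix.zero_apply]
  apply eq_zero_of_localization
  intro 𝔪 h𝔪
  let ψ : B →+* Localization.AtPrime 𝔪 := algebraMap B (Localization.AtPrime 𝔪)
  let G' : Matrix (Fin n) (Fin n) (Localization.AtPrime 𝔪) := (g.map (algebraMap A B)).map ψ
  have hG' : G' = g.map (ψ.comp (algebraMap A B)) := by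
    ext i j
    rfl
  have hx' : x.map ψ * G' = G' * x.map ψ := by
    rw [← Matrix.map_mul, ← Matrix.map_mul, hxg]
  have hy' : y.map ψ * G' = G' * y.map ψ := by
    rw [← Matrix.map_mul, ← Matrix.map_mul, hyg]
  have hreg' := hreg (IsLocalRing.ResidueField (Localization.AtPrime 𝔪))
    ((IsLocalRing.residue _).comp (ψ.comp (algebraMap A B)))
  have hG'' : G'.map (IsLocalRing.residue (Localization.AtPrime 𝔪)) =
      g.map ((IsLocalRing.residue _).comp (ψ.comp (algebraMap A B))) := by
    ext i j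
    rfl
  rw [← hG''] at hreg'
  have hcomm := commute_local G' hreg' (x.map ψ) (y.map ψ) hx' hy'
  have h1 : ψ.mapMatrix (x * y - y * x) = 0 := by
    rw [map_sub, map_mul, map_mul]
    exact sub_eq_zero.mpr hcomm
  have h2 := congrFun (congrFun h1 a) b
  exact h2

end global

end Groth.Agent.H67.RegCent
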