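import Groth.Agent.H67.RegCent
import Mathlib

/-!
# Flatness of the commutant scheme of a fiberwise regular matrix
-/

namespace Groth.Agent.H67.RegCent2

open Matrix Groth.Agent.H67.RegCent

universe u

section general

variable {S : Type u} [CommRing S] {n : ℕ}

theorem eq_polyMat_explicit (G : Matrix (Fin n) (Fin n) S) (v : Fin n → S)
    (hP : IsUnit (Pmat G v).det) (x : Matrix (Fin n) (Fin n) S) (hx : x * G = G * x) :
    x = polyMat G ((Pmat G v)⁻¹ *ᵥ (x *ᵥ v)) := by
  classical
  set P := Pmat G v with hPdef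
  set c : Fin n → S := P⁻¹ *ᵥ (x *ᵥ v) with hc
  have hQv : (polyMat G c) *ᵥ v = x *ᵥ v := by
    rw [polyMat_mulVec, hc, Matrix.mulVec_mulVec, Matrix.mul_nonsing_inv _ hP, Matrix.one_mulVec]
  have hxk : ∀ k : ℕ, Commute x (G ^ k) := fun k => (show Commute x G from hx).pow_right k
  have hmul : x * P = polyMat G c * P := by
    ext a i
    rw [hPdef, mul_Pmat_apply, mul_Pmat_apply, Matrix.mulVec_mulVec, Matrix.mulVec_mulVec,
      (hxk i).eq, (polyMat_commute_pow G c i).eq, ← Matrix.mulVec_mulVec, ← Matrix.mulVec_mulVec,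
      hQv]
  calc x = x * P * P⁻¹ := by rw [Matrix.mul_assoc, Matrix.mul_nonsing_inv _ hP, Matrix.mul_one]
    _ = polyMat G c * P * P⁻¹ := by rw [hmul]
    _ = polyMat G c := by rw [Matrix.mul_assoc, Matrix.mul_nonsing_inv _ hP, Matrix.mul_one]

theorem polyMat_map {S' : Type*} [CommRing S'] (φ : S →+* S') (G : Matrix (Fin n) (Fin n) S)
    (c : Fin n → S) : (polyMat G c).map φ = polyMat (G.map φ) (φ ∘ c) := by
  ext a b
  simp only [polyMat, Matrix.map_apply, Matrix.sum_apply, map_sum, Matrix.smul_apply, smul_eq_mul,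
    map_mul, Function.comp_apply]
  refine Finset.sum_congr rfl fun i _ => ?_
  rw [← Matrix.map_pow]
  rfl

end general

section flat

open MvPolynomial

variable (A : Type u) [CommRing A] (n : ℕ) (g : Matrix (Fin n) (Fin n) A)

/-- the ideal of the commutant of `g` -/
noncomputable abbrev commIdeal : Ideal (MvPolynomial (Fin n × Fin n) A) :=
  Ideal.span (Set.range fun ij : Fin n × Fin n =>
        (Matrix.mvPolynomialX (Fin n) (Fin n) A * g.map MvPolynomial.C -
          g.map MvPolynomial.C * Matrix.mvPolynomialX (Fin n) (Fin n) A :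
            Matrix (Fin n) (Fin n) (MvPolynomial (Fin n × Fin n) A)) ij.1 ij.2)

/-- the coordinate ring of the commutant of `g` -/
abbrev Q : Type u := MvPolynomial (Fin n × Fin n) A ⧸ commIdeal A n g

variable {A n}

/-- the generic commuting matrix commutes with `g` in any `Q`-algebra -/
theorem generic_commute {B : Type u} [CommRing B] [Algebra A B] [Algebra (Q A n g) B]
    [IsScalarTower A (Q A n g) B] :
    let ρ : MvPolynomial (Fin n × Fin n) A →+* B :=
      (algebraMap (Q A n g) B).comp (Ideal.Quotient.mk (commIdeal A n g))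
    (Matrix.mvPolynomialX (Fin n) (Fin n) A).map ρ * g.map (algebraMap A B) =
      g.map (algebraMap A B) * (Matrix.mvPolynomialX (Fin n) (Fin n) A).map ρ := by
  intro ρ
  have hg : g.map (algebraMap A B) = (g.map MvPolynomial.C).map ρ := by
    ext i j
    simp only [Matrix.map_apply, ρ, RingHom.comp_apply]
    rw [IsScalarTower.algebraMap_apply A (Q A n g) B]
    rfl
  have key : ρ.mapMatrix (Matrix.mvPolynomialX (Fin n) (Fin n) A * g.map MvPolynomial.C -
          g.map MvPolynomial.C * Matrix.mvPolynomialX (Fin n) (Fin n) A) = 0 := by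
    ext i j
    rw [RingHom.mapMatrix_apply, Matrix.map_apply, Matrix.zero_apply]
    have hmem : (Matrix.mvPolynomialX (Fin n) (Fin n) A * g.map MvPolynomial.C -
            g.map MvPolynomial.C * Matrix.mvPolynomialX (Fin n) (Fin n) A :
              Matrix (Fin n) (Fin n) (MvPolynomial (Fin n × Fin n) A)) i j ∈ commIdeal A n g :=
      Ideal.subset_span ⟨(i, j), rfl⟩
    simp only [ρ, RingHom.comp_apply]
    rw [Ideal.Quotient.eq_zero_iff_mem.mpr hmem, map_zero]
  rw [map_sub, map_mul, map_mul, sub_eq_zero] at key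
  rw [hg]
  exact key

set_option maxHeartbeats 1000000 in
/-- the key local statement: away from `det (v, gv, ..., g^(n-1) v)` the commutant is a retract of
an affine space -/
theorem flat_away_aux (v : Fin n → A) (f : A) (hf : f = (Pmat g v).det) :
    Module.Flat A (Localization.Away (algebraMap A (Q A n g) f)) := by
  classical
  haveI : Module.Flat A (MvPolynomial (Fin n) (Localization.Away f)) :=
    Module.Flat.trans A (Localization.Away f) (MvPolynomial (Fin n) (Localization.Away f))
  -- the map to the affine space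
  let gF : Matrix (Fin n) (Fin n) (MvPolynomial (Fin n) (Localization.Away f)) :=
    g.map (algebraMap A (MvPolynomial (Fin n) (Localization.Away f)))
  let cF : Fin n → MvPolynomial (Fin n) (Localization.Away f) := fun i => MvPolynomial.X i
  let φ₀ : MvPolynomial (Fin n × Fin n) A →ₐ[A] MvPolynomial (Fin n) (Localization.Away f) :=
    MvPolynomial.aeval (fun ij => polyMat gF cF ij.1 ij.2)
  have hφX : φ₀.toRingHom.mapMatrix (Matrix.mvPolynomialX (Fin n) (Fin n) A) = polyMat gF cF := by
    refine Matrix.ext fun i j => ?_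
    change φ₀ (MvPolynomial.X (i, j)) = _
    exact MvPolynomial.aeval_X _ _
  have hφg : φ₀.toRingHom.mapMatrix (g.map MvPolynomial.C) = gF := by
    refine Matrix.ext fun i j => ?_
    change φ₀ (MvPolynomial.C (g i j)) = _
    exact MvPolynomial.aeval_C _ _
  have hφ₀ : ∀ a ∈ commIdeal A n g, φ₀ a = 0 := by
    intro a ha
    have hle : commIdeal A n g ≤ RingHom.ker φ₀.toRingHom := by
      refine Ideal.span_le.mpr ?_
      rintro _ ⟨ij, rfl⟩
      rw [SetLike.mem_coe, RingHom.mem_ker]
      have h1 : φ₀.toRingHom.mapMatrix (Matrix.mvPolynomialX (Fin n) (Fin n) A * g.map MvPolynomial.C -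
          g.map MvPolynomial.C * Matrix.mvPolynomialX (Fin n) (Fin n) A) = 0 := by
        rw [map_sub, map_mul, map_mul, hφX, hφg, sub_eq_zero]
        have hc1 := (polyMat_commute_pow gF cF 1).eq
        rwa [pow_one] at hc1
      exact congrFun (congrFun h1 ij.1) ij.2
    exact hle ha
  let φ₁ : Q A n g →ₐ[A] MvPolynomial (Fin n) (Localization.Away f) :=
    Ideal.Quotient.liftₐ _ φ₀ hφ₀
  have hunit : IsUnit (φ₁ (algebraMap A (Q A n g) f)) := by
    rw [AlgHom.commutes]
    have h1 : algebraMap A (MvPolynomial (Fin n) (Localization.Away f)) f =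
        MvPolynomial.C (algebraMap A (Localization.Away f) f) := rfl
    rw [h1]
    exact (IsLocalization.Away.algebraMap_isUnit f).map MvPolynomial.C
  let φ₂ : Localization.Away (algebraMap A (Q A n g) f) →ₐ[A]
      MvPolynomial (Fin n) (Localization.Away f) :=
    IsLocalization.Away.liftAlgHom (algebraMap A (Q A n g) f) hunit
  -- the reverse map
  have hunit' : IsUnit (algebraMap A (Localization.Away (algebraMap A (Q A n g) f)) f) := by
    rw [IsScalarTower.algebraMap_apply A (Q A n g) (Localization.Away (algebraMap A (Q A n g) f))]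
    exact IsLocalization.Away.algebraMap_isUnit _
  letI alg' : Algebra (Localization.Away f) (Localization.Away (algebraMap A (Q A n g) f)) :=
    (IsLocalization.Away.lift f hunit').toAlgebra
  haveI : IsScalarTower A (Localization.Away f) (Localization.Away (algebraMap A (Q A n g) f)) :=
    IsScalarTower.of_algebraMap_eq (fun a => (IsLocalization.Away.lift_eq f hunit' a).symm)
  let ρ : MvPolynomial (Fin n × Fin n) A →+* Localization.Away (algebraMap A (Q A n g) f) :=
    (algebraMap (Q A n g) (Localization.Away (algebraMap A (Q A n g) f))).comp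
      (Ideal.Quotient.mk (commIdeal A n g))
  let XQ : Matrix (Fin n) (Fin n) (Localization.Away (algebraMap A (Q A n g) f)) :=
    (Matrix.mvPolynomialX (Fin n) (Fin n) A).map ρ
  let gQ : Matrix (Fin n) (Fin n) (Localization.Away (algebraMap A (Q A n g) f)) :=
    g.map (algebraMap A (Localization.Away (algebraMap A (Q A n g) f)))
  let vQ : Fin n → Localization.Away (algebraMap A (Q A n g) f) :=
    (algebraMap A (Localization.Away (algebraMap A (Q A n g) f))) ∘ v
  let c : Fin n → Localization.Away (algebraMap A (Q A n g) f) :=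
    (Pmat gQ vQ)⁻¹ *ᵥ (XQ *ᵥ vQ)
  have hcomm : XQ * gQ = gQ * XQ := generic_commute g
  have hPQ : IsUnit (Pmat gQ vQ).det := by
    have h1 : (Pmat gQ vQ).det = algebraMap A (Localization.Away (algebraMap A (Q A n g) f)) f := by
      have h2 := congrArg (algebraMap A (Localization.Away (algebraMap A (Q A n g) f))) hf
      rw [RingHom.map_det, RingHom.mapMatrix_apply, Pmat_map] at h2
      exact h2.symm
    rw [h1]
    exact hunit'
  have hXQ : XQ = polyMat gQ c := eq_polyMat_explicit gQ vQ hPQ XQ hcomm
  let ψ : MvPolynomial (Fin n) (Localization.Away f) →ₐ[Localization.Away f]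
      Localization.Away (algebraMap A (Q A n g) f) := MvPolynomial.aeval c
  have hψg : ψ.toRingHom.mapMatrix gF = gQ := by
    refine Matrix.ext fun i j => ?_
    exact (ψ.restrictScalars A).commutes (g i j)
  have hψc : ψ.toRingHom ∘ cF = c := by
    funext i
    exact MvPolynomial.aeval_X _ _
  have h2 : ψ.toRingHom.mapMatrix (polyMat gF cF) = XQ := by
    rw [RingHom.mapMatrix_apply, polyMat_map, hXQ, hψc]
    congr 1
  have hcomp : (ψ.toRingHom.comp φ₂.toRingHom) =
      RingHom.id (Localization.Away (algebraMap A (Q A n g) f)) := by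
    refine IsLocalization.ringHom_ext (Submonoid.powers (algebraMap A (Q A n g) f)) ?_
    refine Ideal.Quotient.ringHom_ext ?_
    refine MvPolynomial.ringHom_ext ?_ ?_
    · intro a
      change ψ (φ₂ (algebraMap (Q A n g) _ (algebraMap A (Q A n g) a))) =
        algebraMap (Q A n g) _ (algebraMap A (Q A n g) a)
      rw [← IsScalarTower.algebraMap_apply A (Q A n g), AlgHom.commutes]
      exact (ψ.restrictScalars A).commutes a
    · intro ij
      change ψ (φ₂ (algebraMap (Q A n g) _ (Ideal.Quotient.mk _ (MvPolynomial.X ij)))) =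
        algebraMap (Q A n g) _ (Ideal.Quotient.mk _ (MvPolynomial.X ij))
      have h1 : φ₂ (algebraMap (Q A n g) _ (Ideal.Quotient.mk _ (MvPolynomial.X ij))) =
          polyMat gF cF ij.1 ij.2 := by
        rw [IsLocalization.Away.liftAlgHom_apply, IsLocalization.Away.lift_eq]
        change φ₀ (MvPolynomial.X ij) = _
        exact MvPolynomial.aeval_X _ _
      rw [h1]
      exact congrFun (congrFun h2 ij.1) ij.2
  refine Module.Flat.of_retract φ₂.toLinearMap (ψ.restrictScalars A).toLinearMap ?_
  ext x
  exact RingHom.congr_fun hcomp x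

theorem flat_away (v : Fin n → A) :
    Module.Flat A (Localization.Away (algebraMap A (Q A n g) (Pmat g v).det)) :=
  flat_away_aux g v _ rfl

theorem span_det_eq_top
    (hreg : ∀ (K : Type u) [Field K] (φ : A →+* K),
      Module.finrank K (Subalgebra.centralizer K ({g.map φ} : Set (Matrix (Fin n) (Fin n) K))) = n) :
    Ideal.span (Set.range fun v : Fin n → A => (Pmat g v).det) = ⊤ := by
  classical
  by_contra hne
  obtain ⟨m, hm, hle⟩ := Ideal.exists_le_maximal _ hne
  letI : Field (A ⧸ m) := Ideal.Quotient.field m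
  have h := hreg (A ⧸ m) (Ideal.Quotient.mk m)
  rcases Nat.eq_zero_or_pos n with hn | hn
  · subst hn
    have h1 : (1 : A) ∈ m :=
      hle (Ideal.subset_span ⟨fun _ => 0, by simp [Matrix.det_isEmpty]⟩)
    exact hm.ne_top ((Ideal.eq_top_iff_one _).mpr h1)
  obtain ⟨vb, hvb⟩ := exists_cyclic_of_finrank_centralizer (g.map (Ideal.Quotient.mk m)) h
  have hPb := isUnit_Pmat_of_cyclic hn _ vb hvb
  obtain ⟨v, hv⟩ : ∃ v : Fin n → A, (Ideal.Quotient.mk m) ∘ v = vb :=
    ⟨fun i => (Ideal.Quotient.mk_surjective (vb i)).choose,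
      funext fun i => (Ideal.Quotient.mk_surjective (vb i)).choose_spec⟩
  have hmem : (Pmat g v).det ∈ m := hle (Ideal.subset_span ⟨v, rfl⟩)
  have h1 : Ideal.Quotient.mk m (Pmat g v).det =
      (Pmat (g.map (Ideal.Quotient.mk m)) vb).det := by
    rw [RingHom.map_det, RingHom.mapMatrix_apply, Pmat_map, hv]
  rw [Ideal.Quotient.eq_zero_iff_mem.mpr hmem] at h1
  exact hPb.ne_zero h1.symm

/-- the commutant scheme of a fiberwise regular matrix is flat -/
theorem flat_Q
    (hreg : ∀ (K : Type u) [Field K] (φ : A →+* K),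
      Module.finrank K (Subalgebra.centralizer K ({g.map φ} : Set (Matrix (Fin n) (Fin n) K))) = n) :
    Module.Flat A (Q A n g) := by
  refine Module.flat_of_isLocalized_span A (Q A n g) (Set.range fun v : Fin n → A => (Pmat g v).det)
    (span_det_eq_top g hreg)
    (fun r => Localization.Away (algebraMap A (Q A n g) r.1))
    (fun r => (IsScalarTower.toAlgHom A (Q A n g)
      (Localization.Away (algebraMap A (Q A n g) r.1))).toLinearMap) ?_
  rintro ⟨_, v, rfl⟩
  exact flat_away g v

end flat

end Groth.Agent.H67.RegCent2
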