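import Mathlib.RingTheory.LocalRing.Module
import Mathlib.RingTheory.Localization.Free
import Mathlib.RingTheory.Spectrum.Prime.FreeLocus
import Mathlib.RingTheory.LocalProperties.Projective
import Mathlib.RingTheory.Ideal.Operations
import Mathlib.RingTheory.Localization.Finiteness
import Mathlib.RingTheory.Localization.BaseChange

/-!
# A finite projective module of constant rank is free near finitely many primes
-/

set_option autoImplicit false
open TensorProduct

namespace Groth.Agent.H67.SemilocalFree

variable {A : Type*} [CommRing A] {ι : Type*} (p : ι → Ideal A)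

/-- the multiplicative set of elements avoiding all the ideals `p i` -/
def avoidMonoid [∀ i, (p i).IsPrime] : Submonoid A := ⨅ i, (p i).primeCompl

variable [∀ i, (p i).IsPrime]

lemma mem_avoidMonoid {a : A} : a ∈ avoidMonoid p ↔ ∀ i, a ∉ p i := by
  simp [avoidMonoid, Submonoid.mem_iInf, Ideal.mem_primeCompl_iff]

lemma disjoint_avoidMonoid (i : ι) : Disjoint (avoidMonoid p : Set A) (p i : Set A) := by
  rw [Set.disjoint_left]
  intro a ha
  exact (mem_avoidMonoid p).1 ha i

variable [Finite ι]

lemma exists_le_of_disjoint (q : Ideal A) [q.IsPrime]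
    (h : Disjoint (avoidMonoid p : Set A) (q : Set A)) : ∃ i, q ≤ p i := by
  classical
  cases nonempty_fintype ι
  rcases isEmpty_or_nonempty ι with hι | ⟨⟨i₀⟩⟩
  · exfalso
    have h0 : (0 : A) ∈ avoidMonoid p := (mem_avoidMonoid p).2 (fun i => (hι.false i).elim)
    exact Set.disjoint_left.1 h h0 q.zero_mem
  · have hsub : (q : Set A) ⊆ ⋃ i ∈ ((Finset.univ : Finset ι) : Set ι), (p i : Set A) := by
      intro a ha
      by_contra hcon
      have : a ∈ avoidMonoid p := by
        rw [mem_avoidMonoid]
        intro i hi
        exact hcon (Set.mem_biUnion (Finset.mem_coe.2 (Finset.mem_univ i)) hi)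
      exact Set.disjoint_left.1 h this ha
    obtain ⟨i, -, hi⟩ := (Ideal.subset_union_prime (s := Finset.univ) (f := p) i₀ i₀
      (fun i _ _ _ => inferInstance)).1 hsub
    exact ⟨i, hi⟩

section Maximal

variable (R : Type*) [CommRing R] [Algebra A R] [IsLocalization (avoidMonoid p) R]

/-- every maximal ideal of the localization at `avoidMonoid p` is the extension of some `p i` -/
lemma exists_eq_map_of_isMaximal (Q : Ideal R) [hQ : Q.IsMaximal] :
    ∃ i, Q = (p i).map (algebraMap A R) := by
  have hQp : Q.IsPrime := hQ.isPrime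
  obtain ⟨hq, hdis⟩ := (IsLocalization.isPrime_iff_isPrime_disjoint (avoidMonoid p) R Q).1 hQp
  haveI := hq
  obtain ⟨i, hi⟩ := exists_le_of_disjoint p (Q.under A) hdis
  refine ⟨i, ?_⟩
  have h1 : Q ≤ (p i).map (algebraMap A R) := by
    rw [← IsLocalization.map_under (avoidMonoid p) R Q]
    exact Ideal.map_mono hi
  have h2 : (p i).map (algebraMap A R) ≠ ⊤ :=
    (IsLocalization.map_algebraMap_ne_top_iff_disjoint (avoidMonoid p) R (p i)).2
      (disjoint_avoidMonoid p i)
  exact hQ.eq_of_le h2 h1

include p in
lemma finite_maximalSpectrum : Finite (MaximalSpectrum R) := by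
  choose f hf using fun Q : MaximalSpectrum R =>
    @exists_eq_map_of_isMaximal A _ ι p _ _ R _ _ _ Q.asIdeal Q.isMaximal
  apply Finite.of_injective f
  intro Q Q' h
  ext1
  rw [hf Q, hf Q', h]

lemma under_eq_of_isMaximal (Q : Ideal R) [hQ : Q.IsMaximal] :
    ∃ i, Q.under A = p i := by
  obtain ⟨i, hi⟩ := exists_eq_map_of_isMaximal p R Q
  refine ⟨i, ?_⟩
  rw [hi]
  exact IsLocalization.under_map_of_isPrime_disjoint (avoidMonoid p) R inferInstance
    (disjoint_avoidMonoid p i)

end Maximal

section Rank

lemma finrank_quotient_tensor {R : Type*} [CommRing R] (N : Type*) [AddCommGroup N] [Module R N]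
    [Module.Finite R N] [Module.Flat R N] (P : Ideal R) [hP : P.IsMaximal] :
    Module.finrank (R ⧸ P) ((R ⧸ P) ⊗[R] N) = Module.rankAtStalk N ⟨P, hP.isPrime⟩ := by
  letI := Ideal.Quotient.field P
  rw [Module.rankAtStalk_eq]
  let e := AlgebraTensorModule.cancelBaseChange R (R ⧸ P) P.ResidueField P.ResidueField N
  have h := Module.finrank_baseChange (R := P.ResidueField) (S := R ⧸ P)
    (M' := (R ⧸ P) ⊗[R] N)
  rw [← e.finrank_eq, h]

end Rank

section Main

/-- A finite projective module whose rank at each of finitely many primes `p i` is `r` becomes free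
of rank `r` after inverting a single element outside all the `p i`. -/
theorem exists_basis_away (M : Type*) [AddCommGroup M] [Module A M] [Module.Finite A M]
    [Module.Projective A M] (r : ℕ)
    (hr : ∀ i, Module.rankAtStalk M ⟨p i, inferInstance⟩ = r) :
    ∃ f : A, (∀ i, f ∉ p i) ∧
      Nonempty (Module.Basis (Fin r) (Localization (.powers f)) (LocalizedModule.Away f M)) := by
  let S := avoidMonoid p
  let R := Localization S
  let N := LocalizedModule S M
  haveI : Finite (MaximalSpectrum R) := finite_maximalSpectrum p R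
  haveI : Module.Finite R N := inferInstance
  haveI : Module.Projective R N := inferInstance
  haveI : Module.Flat R N := inferInstance
  have rk : ∀ P : MaximalSpectrum R, Module.finrank (R ⧸ P.1) ((R ⧸ P.1) ⊗[R] N) = r := by
    intro P
    haveI := P.isMaximal
    rw [finrank_quotient_tensor N P.1,
      Module.rankAtStalk_isBaseChange (LocalizedModule.isBaseChange S M)]
    obtain ⟨i, hi⟩ := under_eq_of_isMaximal p R P.1
    have h1 : PrimeSpectrum.comap (algebraMap A R) ⟨P.1, P.isMaximal.isPrime⟩ =
        ⟨p i, inferInstance⟩ := PrimeSpectrum.ext hi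
    rw [h1, hr i]
  obtain ⟨b⟩ := Module.nonempty_basis_of_flat_of_finrank_eq R N r rk
  haveI : Module.FinitePresentation A M := Module.finitePresentation_of_projective A M
  obtain ⟨f, hf, b', -⟩ := Module.FinitePresentation.exists_basis_localizedModule_powers S
    (LocalizedModule.mkLinearMap S M) R b
  exact ⟨f, (mem_avoidMonoid p).1 hf, ⟨b'⟩⟩

end Main

end Groth.Agent.H67.SemilocalFree
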