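import Mathlib.Topology.Sheaves.SheafCondition.UniqueGluing
import Mathlib.Topology.Sheaves.Abelian
import Mathlib.Algebra.Category.Grp.Limits

/-!
# Extending sections of a sheaf across a closed subset: a local-to-global principle
-/

set_option autoImplicit false
universe u
open CategoryTheory CategoryTheory.Limits TopologicalSpace Opposite TopCat

namespace Groth.Agent.H67.SheafExtend

variable {X : TopCat.{u}}

lemma map_map (F : TopCat.Presheaf Ab.{u} X) {A B C : Opens X} (f : A ⟶ B) (g : B ⟶ C)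
    (s : ToType (F.obj (op C))) :
    F.map f.op (F.map g.op s) = F.map (f ≫ g).op s := by
  rw [op_comp, F.map_comp, ConcreteCategory.comp_apply]

lemma map_congr (F : TopCat.Presheaf Ab.{u} X) {A B : Opens X} (f g : A ⟶ B)
    (s : ToType (F.obj (op B))) : F.map f.op s = F.map g.op s := by
  rw [Subsingleton.elim f g]

/-- Local-to-global: if restriction `F(W) → F(W ⊓ U)` is bijective for all `W` in a downward
closed family of opens covering `X`, then it is bijective for all opens `W`. -/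
theorem bijective_of_local (F : TopCat.Sheaf Ab.{u} X) (U : Opens X) (𝔅 : Set (Opens X))
    (hdown : ∀ W ∈ 𝔅, ∀ W' : Opens X, W' ≤ W → W' ∈ 𝔅)
    (hcov : ∀ x : X, ∃ W ∈ 𝔅, x ∈ W)
    (hB : ∀ W ∈ 𝔅, Function.Bijective (F.1.map (homOfLE (inf_le_left : W ⊓ U ≤ W)).op))
    (W : Opens X) : Function.Bijective (F.1.map (homOfLE (inf_le_left : W ⊓ U ≤ W)).op) := by
  choose Wx hWx hxW using hcov
  let Uc : X → Opens X := fun x => W ⊓ Wx x
  have hUc : ∀ x, Uc x ∈ 𝔅 := fun x => hdown _ (hWx x) _ inf_le_right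
  have hcover : W ≤ iSup Uc := by
    intro x hx
    exact Opens.mem_iSup.2 ⟨x, ⟨hx, hxW x⟩⟩
  have hcoverU : W ⊓ U ≤ iSup (fun x => Uc x ⊓ U) := by
    intro x hx
    exact Opens.mem_iSup.2 ⟨x, ⟨⟨hx.1, hxW x⟩, hx.2⟩⟩
  constructor
  · intro s t hst
    apply F.eq_of_locally_eq' Uc W (fun x => homOfLE inf_le_left) hcover s t
    intro x
    apply (hB _ (hUc x)).1
    rw [map_map, map_map]
    have e1 : ∀ r, F.1.map ((homOfLE (inf_le_left : Uc x ⊓ U ≤ Uc x)) ≫
        (homOfLE (inf_le_left : Uc x ≤ W))).op r =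
        F.1.map (homOfLE (inf_le_inf_right U inf_le_left) : Uc x ⊓ U ⟶ W ⊓ U).op
          (F.1.map (homOfLE (inf_le_left : W ⊓ U ≤ W)).op r) := by
      intro r
      rw [map_map]
      exact map_congr _ _ _ _
    rw [e1, e1, hst]
  · intro t
    have hs : ∀ x, ∃ sx : ToType (F.1.obj (op (Uc x))),
        F.1.map (homOfLE (inf_le_left : Uc x ⊓ U ≤ Uc x)).op sx =
          F.1.map (homOfLE (inf_le_inf_right U inf_le_left) : Uc x ⊓ U ⟶ W ⊓ U).op t :=
      fun x => (hB _ (hUc x)).2 _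
    choose sx hsx using hs
    have hcompat : TopCat.Presheaf.IsCompatible F.1 Uc sx := by
      intro x y
      have hxy : Uc x ⊓ Uc y ∈ 𝔅 := hdown _ (hUc x) _ inf_le_left
      apply (hB _ hxy).1
      rw [map_map, map_map]
      have e1 : F.1.map ((homOfLE (inf_le_left : (Uc x ⊓ Uc y) ⊓ U ≤ Uc x ⊓ Uc y)) ≫
          Opens.infLELeft (Uc x) (Uc y)).op (sx x) =
          F.1.map (homOfLE (inf_le_inf_right U inf_le_left) :
            (Uc x ⊓ Uc y) ⊓ U ⟶ Uc x ⊓ U).op
            (F.1.map (homOfLE (inf_le_left : Uc x ⊓ U ≤ Uc x)).op (sx x)) := by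
        rw [map_map]
        exact map_congr _ _ _ _
      have e2 : F.1.map ((homOfLE (inf_le_left : (Uc x ⊓ Uc y) ⊓ U ≤ Uc x ⊓ Uc y)) ≫
          Opens.infLERight (Uc x) (Uc y)).op (sx y) =
          F.1.map (homOfLE (inf_le_inf_right U inf_le_right) :
            (Uc x ⊓ Uc y) ⊓ U ⟶ Uc y ⊓ U).op
            (F.1.map (homOfLE (inf_le_left : Uc y ⊓ U ≤ Uc y)).op (sx y)) := by
        rw [map_map]
        exact map_congr _ _ _ _
      rw [e1, e2, hsx, hsx, map_map, map_map]
      exact map_congr _ _ _ _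
    obtain ⟨s, hs, -⟩ := F.existsUnique_gluing' Uc W (fun x => homOfLE inf_le_left) hcover sx
      hcompat
    refine ⟨s, ?_⟩
    apply F.eq_of_locally_eq' (fun x => Uc x ⊓ U) (W ⊓ U)
      (fun x => homOfLE (inf_le_inf_right U inf_le_left)) hcoverU
    intro x
    rw [← hsx x, ← hs x, map_map, map_map]
    exact map_congr _ _ _ _

end Groth.Agent.H67.SheafExtend
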