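import Groth.Agent.H5.Stalk.Basic
import Groth.Prelude.Def_TorSh
import Groth.Prelude.Def_RefHull
import Mathlib.AlgebraicGeometry.FunctionField
import Mathlib.Algebra.Module.Torsion.Free

/-!
# The sheaf Hom into a torsion-free module on an integral scheme is torsion-free
-/

set_option autoImplicit false
universe u
open CategoryTheory CategoryTheory.Limits AlgebraicGeometry TopologicalSpace Opposite

namespace Groth.Agent.H67.TorsionFreeHom

open Groth.Agent.H5.Stalk

variable {X : Scheme.{u}}

theorem torsionFree_homSh [IsIntegral X] (F G : X.Modules) (hGt : TorSh.IsTorsionFree G) :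
    TorSh.IsTorsionFree (RefHull.homSh F G) := by
  intro x
  rw [Module.isTorsionFree_iff_smul_eq_zero]
  intro r θ h
  by_contra hcon
  push Not at hcon
  obtain ⟨hr, hθ⟩ := hcon
  obtain ⟨U, hx, a, g, rfl, rfl⟩ := exists_germ_eq₂ (RefHull.homSh F G) x r θ
  rw [← germ_smul] at h
  have h' : (RefHull.homSh F G).presheaf.germ U x hx (a • g) =
      (RefHull.homSh F G).presheaf.germ U x hx 0 := by
    rw [h]; exact (map_zero _).symm
  obtain ⟨W, hxW, i₁, i₂, hW⟩ := TopCat.Presheaf.germ_eq _ x hx hx _ _ h'
  apply hθ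
  have ha0 : a ≠ 0 := fun h0 => hr (by rw [h0]; exact map_zero _)
  have key : (RefHull.homSh F G).presheaf.map i₁.op g = 0 := by
    apply Subtype.ext
    funext y
    have h1 : ((RefHull.homSh F G).presheaf.map i₁.op (a • g)).1 y =
        ((RefHull.homSh F G).presheaf.map i₂.op 0).1 y := by rw [hW]
    have h2 : ((RefHull.homSh F G).presheaf.map i₁.op (a • g)).1 y =
        X.presheaf.germ U y.1 (i₁.le y.2) a • g.1 ⟨y.1, i₁.le y.2⟩ := rfl
    have h3 : ((RefHull.homSh F G).presheaf.map i₂.op 0).1 y = 0 := rfl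
    rw [h2, h3] at h1
    have hay : X.presheaf.germ U y.1 (i₁.le y.2) a ≠ 0 := by
      intro h0
      apply ha0
      apply germ_injective_of_isIntegral X y.1 (i₁.le y.2)
      rw [h0]; exact (map_zero _).symm
    change g.1 ⟨y.1, i₁.le y.2⟩ = 0
    apply LinearMap.ext
    intro v
    have h4 := LinearMap.congr_fun h1 v
    rw [LinearMap.smul_apply, LinearMap.zero_apply] at h4
    have := hGt y.1
    rcases smul_eq_zero.1 h4 with h6 | h6
    · exact absurd h6 hay
    · exact h6
  have := TopCat.Presheaf.germ_res_apply (RefHull.homSh F G).presheaf i₁ x hxW g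
  rw [← this, key]
  exact map_zero _

end Groth.Agent.H67.TorsionFreeHom
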