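import Groth.Agent.H8.QCohStalk
import Groth.Prelude.Def_CohB1
import Mathlib.AlgebraicGeometry.FunctionField

/-!
# Torsion quasi-coherent modules on an integral scheme
-/

set_option autoImplicit false
set_option linter.style.haveILetI false
universe u
open CategoryTheory CategoryTheory.Limits AlgebraicGeometry TopologicalSpace Opposite

namespace Groth.Agent.H67.TorsionSheaf

open Groth.Agent.H8

variable {X : Scheme.{u}}

lemma genericPoint_mem [IsIntegral X] {V : X.Opens} {x : X} (hx : x ∈ V) : genericPoint X ∈ V :=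
  ((genericPoint_spec X).mem_open_set_iff V.isOpen).mpr ⟨x, Set.mem_univ x, hx⟩

/-- For a quasi-coherent module, a section over an affine open has zero germ at `x` iff it is
killed by a function invertible at `x`. -/
lemma germ_eq_zero_iff (F : X.Modules) [F.IsQuasicoherent] {V : X.Opens} (hV : IsAffineOpen V)
    {x : X} (hx : x ∈ V) (m : Γ(F, V)) :
    F.presheaf.germ V x hx m = 0 ↔ ∃ t : Γ(X, V), x ∈ X.basicOpen t ∧ t • m = 0 := by
  letI := stalkModule F hx
  haveI := isLocalizedModule_germₗ F hV hx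
  have h := IsLocalizedModule.eq_zero_iff (hV.primeIdealOf ⟨x, hx⟩).asIdeal.primeCompl
    (germₗ F hx) (m := m)
  rw [germₗ_apply] at h
  rw [h]
  constructor
  · rintro ⟨⟨t, ht⟩, h0⟩
    exact ⟨t, (notMem_primeIdealOf_iff hV hx t).1 ht, h0⟩
  · rintro ⟨t, ht, h0⟩
    exact ⟨⟨t, (notMem_primeIdealOf_iff hV hx t).2 ht⟩, h0⟩

/-- Every element of the stalk at `x ∈ V` (affine) is a fraction `m / t`. -/
lemma exists_smul_eq_germ (F : X.Modules) [F.IsQuasicoherent] {V : X.Opens} (hV : IsAffineOpen V)
    {x : X} (hx : x ∈ V) (s : F.presheaf.stalk x) :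
    ∃ (t : Γ(X, V)) (m : Γ(F, V)), x ∈ X.basicOpen t ∧
      X.presheaf.germ V x hx t • s = F.presheaf.germ V x hx m := by
  letI := stalkModule F hx
  haveI := isLocalizedModule_germₗ F hV hx
  obtain ⟨⟨m, ⟨t, ht⟩⟩, h⟩ := IsLocalizedModule.surj (hV.primeIdealOf ⟨x, hx⟩).asIdeal.primeCompl
    (germₗ F hx) s
  exact ⟨t, m, (notMem_primeIdealOf_iff hV hx t).1 ht, h⟩

lemma subsingleton_stalk_genericPoint_of_subsingleton_stalk [IsIntegral X] (F : X.Modules)
    [F.IsQuasicoherent] (x : X) (h : Subsingleton (F.presheaf.stalk x)) :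
    Subsingleton (F.presheaf.stalk (genericPoint X)) := by
  obtain ⟨_, ⟨V, hV : IsAffineOpen V, rfl⟩, hxV, -⟩ :=
    X.isBasis_affineOpens.exists_subset_of_mem_open (Set.mem_univ x) isOpen_univ
  have hξ : genericPoint X ∈ V := genericPoint_mem hxV
  refine ⟨fun a b => ?_⟩
  suffices H : ∀ c : F.presheaf.stalk (genericPoint X), c = 0 by rw [H a, H b]
  intro c
  obtain ⟨t, m, ht, hm⟩ := exists_smul_eq_germ F hV hξ c
  have h0 : F.presheaf.germ V x hxV m = 0 := Subsingleton.elim _ _
  obtain ⟨u, hu, hum⟩ := (germ_eq_zero_iff F hV hxV m).1 h0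
  have hm0 : F.presheaf.germ V (genericPoint X) hξ m = 0 :=
    (germ_eq_zero_iff F hV hξ m).2 ⟨u, genericPoint_mem hu, hum⟩
  rw [hm0] at hm
  have hunit : IsUnit (X.presheaf.germ V (genericPoint X) hξ t) :=
    (X.mem_basicOpen t (genericPoint X) hξ).1 ht
  obtain ⟨w, hw⟩ := hunit
  have := congrArg (fun z => (↑w⁻¹ : X.presheaf.stalk (genericPoint X)) • z) hm
  simp only [smul_zero] at this
  rw [← hw, smul_smul, Units.inv_mul, one_smul] at this
  exact this

theorem tfae [IsIntegral X] (F : X.Modules) [F.IsQuasicoherent] :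
    List.TFAE [∀ (x : X) (s : F.presheaf.stalk x), ∃ a : X.presheaf.stalk x, a ≠ 0 ∧ a • s = 0,
      Subsingleton (F.presheaf.stalk (genericPoint X)),
      CohB1.support F ≠ Set.univ] := by
  tfae_have 1 → 2 := by
    intro h
    refine ⟨fun a b => ?_⟩
    suffices H : ∀ c : F.presheaf.stalk (genericPoint X), c = 0 by rw [H a, H b]
    intro c
    obtain ⟨a, ha, hac⟩ := h (genericPoint X) c
    letI : Field (X.presheaf.stalk (genericPoint X)) := inferInstanceAs (Field X.functionField)
    have hunit : IsUnit a := isUnit_iff_ne_zero.2 ha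
    obtain ⟨w, rfl⟩ := hunit
    have := congrArg (fun z => (↑w⁻¹ : X.presheaf.stalk (genericPoint X)) • z) hac
    simp only [smul_zero] at this
    rw [smul_smul, Units.inv_mul, one_smul] at this
    exact this
  tfae_have 2 → 3 := by
    intro h hsupp
    have : genericPoint X ∈ CohB1.support F := hsupp ▸ Set.mem_univ _
    exact this h
  tfae_have 3 → 2 := by
    intro h
    obtain ⟨x, hx⟩ := (Set.ne_univ_iff_exists_notMem _).1 h
    have hx' : Subsingleton (F.presheaf.stalk x) := by
      by_contra hc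
      exact hx hc
    exact subsingleton_stalk_genericPoint_of_subsingleton_stalk F x hx'
  tfae_have 2 → 1 := by
    intro h x s
    obtain ⟨_, ⟨V, hV : IsAffineOpen V, rfl⟩, hxV, -⟩ :=
      X.isBasis_affineOpens.exists_subset_of_mem_open (Set.mem_univ x) isOpen_univ
    have hξ : genericPoint X ∈ V := genericPoint_mem hxV
    obtain ⟨t, m, ht, hm⟩ := exists_smul_eq_germ F hV hxV s
    have h0 : F.presheaf.germ V (genericPoint X) hξ m = 0 := Subsingleton.elim _ _
    obtain ⟨u, hu, hum⟩ := (germ_eq_zero_iff F hV hξ m).1 h0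
    have hune : u ≠ 0 := by
      rintro rfl
      rw [Scheme.basicOpen_zero] at hu
      exact hu
    have hux : X.presheaf.germ V x hxV u ≠ 0 := by
      intro h1
      apply hune
      apply germ_injective_of_isIntegral X x hxV
      rw [h1]; exact (map_zero _).symm
    have htx : X.presheaf.germ V x hxV t ≠ 0 := by
      have hunit : IsUnit (X.presheaf.germ V x hxV t) := (X.mem_basicOpen t x hxV).1 ht
      exact hunit.ne_zero
    refine ⟨X.presheaf.germ V x hxV u * X.presheaf.germ V x hxV t, mul_ne_zero hux htx, ?_⟩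
    rw [mul_smul, hm, ← germ_smul, hum]
    exact map_zero _
  tfae_finish

end Groth.Agent.H67.TorsionSheaf
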