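import Mathlib
import Groth.Prelude.Def_FinCov
import Groth.Agent.H67.NormFreeAlg
import Groth.Agent.H67.NormGlue
import Groth.Agent.H44.AffineFree

/-!
# The trace of a finite locally free quasi-coherent algebra (helper67)

For `A : RelSpec.QCAlg X` finite locally free as an `O_X`-module, the affine opens `U` with `A(U)`
finite free over `Γ(X, U)` ("good" opens) form a basis, the traces `Algebra.trace Γ(X,U) A(U)`
commute with restriction among good opens, and they glue to a unique `τ : A ⟶ O_X`.
-/

set_option autoImplicit false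
set_option linter.style.haveILetI false
universe u
open CategoryTheory AlgebraicGeometry TopologicalSpace Opposite

namespace Groth.Agent.H67.TraceGlue

open Groth.Agent.H67.NormGlue Groth.Agent.H67.NormFreeAlg

variable {X : Scheme.{u}} (A : RelSpec.QCAlg X)

/-- `A(U)` as an algebra over `Γ(X, U)` -/
@[reducible] noncomputable def algSec (U : X.Opens) : Algebra Γ(X, U) (A.presheaf.obj (op U)) :=
  (A.str.app (op U)).hom.toAlgebra

attribute [local instance] algSec

/-- an affine open of `X` over which `A` is finite free -/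
def Good (U : X.Opens) : Prop :=
  IsAffineOpen U ∧ Module.Free Γ(X, U) (A.presheaf.obj (op U)) ∧
    Module.Finite Γ(X, U) (A.presheaf.obj (op U))

/-- restriction of sections of `A` -/
noncomputable abbrev rA {U V : X.Opens} (h : V ≤ U) :
    A.presheaf.obj (op U) →+* A.presheaf.obj (op V) :=
  (A.presheaf.map (homOfLE h).op).hom

theorem rA_rA {U V W : X.Opens} (h : V ≤ U) (h' : W ≤ V) (a : A.presheaf.obj (op U)) :
    rA A h' (rA A h a) = rA A (h'.trans h) a := by
  simp only [rA, ← CommRingCat.comp_apply, ← Functor.map_comp]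
  rfl

theorem str_rY {U V : X.Opens} (h : V ≤ U) (g : Γ(X, U)) :
    (A.str.app (op V)).hom (rY X h g) = rA A h ((A.str.app (op U)).hom g) := by
  have := A.str.naturality (homOfLE h).op
  exact congrArg (fun φ => φ.hom g) this

theorem eq_of_locally {V : X.Opens} (a b : Γ(X, V))
    (h : ∀ x ∈ V, ∃ (W : X.Opens) (hW : W ≤ V), x ∈ W ∧ rY X hW a = rY X hW b) : a = b := by
  choose W hW hxW hab using h
  refine TopCat.Sheaf.eq_of_locally_eq' X.sheaf (fun x : V => W x.1 x.2) V
    (fun x => homOfLE (hW x.1 x.2)) ?_ a b (fun x => hab x.1 x.2)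
  intro x hx
  exact Opens.mem_iSup.mpr ⟨⟨x, hx⟩, hxW x hx⟩

variable {A}

theorem good_basicOpen {W W'' : X.Opens} (hW : Good A W) (g : Γ(X, W))
    (e : W'' = X.basicOpen g) (h : W'' ≤ W) :
    Good A W'' ∧ ∀ s : A.presheaf.obj (op W),
      rY X h (Algebra.trace Γ(X, W) (A.presheaf.obj (op W)) s) =
        Algebra.trace Γ(X, W'') (A.presheaf.obj (op W'')) (rA A h s) := by
  subst e
  obtain ⟨hWa, hfree, hfin⟩ := hW
  letI : Algebra Γ(X, W) Γ(X, X.basicOpen g) := (rY X h).toAlgebra
  letI : Algebra (A.presheaf.obj (op W)) (A.presheaf.obj (op (X.basicOpen g))) :=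
    (rA A h).toAlgebra
  letI : Algebra Γ(X, W) (A.presheaf.obj (op (X.basicOpen g))) :=
    ((rA A h).comp (algebraMap Γ(X, W) (A.presheaf.obj (op W)))).toAlgebra
  haveI : IsScalarTower Γ(X, W) (A.presheaf.obj (op W)) (A.presheaf.obj (op (X.basicOpen g))) :=
    IsScalarTower.of_algebraMap_eq (fun x => rfl)
  haveI : IsScalarTower Γ(X, W) Γ(X, X.basicOpen g) (A.presheaf.obj (op (X.basicOpen g))) :=
    IsScalarTower.of_algebraMap_eq (fun x => (str_rY A h x).symm)
  haveI : IsLocalization.Away g Γ(X, X.basicOpen g) := hWa.isLocalization_basicOpen g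
  haveI : IsLocalization.Away (algebraMap Γ(X, W) (A.presheaf.obj (op W)) g)
      (A.presheaf.obj (op (X.basicOpen g))) := A.isQC W hWa g
  haveI := isLocalization_algebraMapSubmonoid (A := Γ(X, W)) (B := A.presheaf.obj (op W))
    (B' := A.presheaf.obj (op (X.basicOpen g))) g
  refine ⟨⟨hWa.basicOpen g, free_away (A := Γ(X, W)) (B := A.presheaf.obj (op W))
      (A' := Γ(X, X.basicOpen g)) (B' := A.presheaf.obj (op (X.basicOpen g))) g,
    finite_away (A := Γ(X, W)) (B := A.presheaf.obj (op W)) (A' := Γ(X, X.basicOpen g))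
      (B' := A.presheaf.obj (op (X.basicOpen g))) g⟩, fun s => ?_⟩
  exact (Algebra.trace_localization Γ(X, W) (Submonoid.powers g) s).symm

theorem trace_res_good {W W' : X.Opens} (hW : Good A W) (hW' : Good A W')
    (h : W' ≤ W) (s : A.presheaf.obj (op W)) :
    rY X h (Algebra.trace Γ(X, W) (A.presheaf.obj (op W)) s) =
      Algebra.trace Γ(X, W') (A.presheaf.obj (op W')) (rA A h s) := by
  refine eq_of_locally _ _ (fun x hx => ?_)
  obtain ⟨f, g, hfg, hxf⟩ := exists_basicOpen_le_affine_inter hW.1 hW'.1 x ⟨h hx, hx⟩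
  have h1 : X.basicOpen f ≤ W := X.basicOpen_le f
  have h2 : X.basicOpen f ≤ W' := hfg ▸ X.basicOpen_le g
  obtain ⟨-, c1⟩ := good_basicOpen hW f rfl h1
  obtain ⟨-, c2⟩ := good_basicOpen hW' g hfg h2
  refine ⟨X.basicOpen f, h2, hxf, ?_⟩
  rw [rY_rY, c1, c2, rA_rA]

theorem isBasis_good (hA : FlatMod.IsFinLocFree A.toModule) :
    Opens.IsBasis (Set.range (fun W : {W : X.Opens // Good A W} => W.1)) := by
  rw [Opens.isBasis_iff_nbhd]
  intro U x hx
  obtain ⟨U₀, n, hxU₀, ⟨e⟩⟩ := hA x
  obtain ⟨_, ⟨W, hW, rfl⟩, hxW, hWU⟩ :=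
    X.isBasis_affineOpens.exists_subset_of_mem_open (show x ∈ U₀ ⊓ U from ⟨hxU₀, hx⟩) (U₀ ⊓ U).2
  obtain ⟨b⟩ := Groth.Agent.H44.nonempty_basis_of_iso_freeMod A.toModule hW
    (fun y hy => (hWU hy).1) e
  refine ⟨W, ⟨⟨W, hW, ?_, ?_⟩, rfl⟩, hxW, fun y hy => (hWU hy).2⟩
  · exact Module.Free.of_basis b
  · exact Module.Finite.of_basis b

variable (A)

/-- `O_X` as a sheaf of abelian groups -/
noncomputable def OAb (X : Scheme.{u}) : TopCat.Sheaf AddCommGrpCat.{u} X.toTopCat :=
  ⟨(Coh.structureModule X).val.presheaf, (Coh.structureModule X).isSheaf⟩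

/-- the index family of good opens -/
abbrev GoodIdx := {W : X.Opens // Good A W}

/-- the family of good opens -/
abbrev goodB : GoodIdx A → X.Opens := fun W => W.1

/-- local traces as a natural transformation on the good opens -/
noncomputable def localTrace :
    (inducedFunctor (goodB A)).op ⋙ A.toModule.val.presheaf ⟶
      (inducedFunctor (goodB A)).op ⋙ (OAb X).1 where
  app i := AddCommGrpCat.ofHom
    (Algebra.trace Γ(X, i.unop.1) (A.presheaf.obj (op i.unop.1))).toAddMonoidHom
  naturality i j f := by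
    ext a
    exact (trace_res_good i.unop.2 j.unop.2 (leOfHom f.unop.hom) a).symm

variable {A}

/-- the glued trace on the underlying presheaves of abelian groups -/
noncomputable def tracePre (hA : FlatMod.IsFinLocFree A.toModule) :
    A.toModule.val.presheaf ⟶ (OAb X).1 :=
  TopCat.Sheaf.restrictHomEquivHom A.toModule.val.presheaf (OAb X) (isBasis_good hA)
    (localTrace A)

/-- the glued trace as a function on sections -/
noncomputable def trFun (hA : FlatMod.IsFinLocFree A.toModule) (U : X.Opens)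
    (a : A.presheaf.obj (op U)) : Γ(X, U) :=
  ((tracePre hA).app (op U)).hom a

theorem trFun_add (hA : FlatMod.IsFinLocFree A.toModule) (U : X.Opens)
    (a b : A.presheaf.obj (op U)) : trFun hA U (a + b) = trFun hA U a + trFun hA U b :=
  map_add ((tracePre hA).app (op U)).hom a b

theorem trFun_good (hA : FlatMod.IsFinLocFree A.toModule) {W : X.Opens} (hW : Good A W)
    (a : A.presheaf.obj (op W)) :
    trFun hA W a = Algebra.trace Γ(X, W) (A.presheaf.obj (op W)) a := by
  have := TopCat.Sheaf.extend_hom_app A.toModule.val.presheaf (OAb X) (isBasis_good hA)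
    (localTrace A) ⟨W, hW⟩
  exact congrArg (fun φ => φ.hom a) this

theorem trFun_res (hA : FlatMod.IsFinLocFree A.toModule) {U V : X.Opens} (h : V ≤ U)
    (a : A.presheaf.obj (op U)) :
    trFun hA V (rA A h a) = rY X h (trFun hA U a) := by
  have := (tracePre hA).naturality (homOfLE h).op
  exact congrArg (fun φ => φ.hom a) this

theorem trFun_smul (hA : FlatMod.IsFinLocFree A.toModule) (U : X.Opens) (r : Γ(X, U))
    (a : A.presheaf.obj (op U)) :
    trFun hA U ((A.str.app (op U)).hom r * a) = r * trFun hA U a := by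
  refine eq_of_basis (isBasis_good hA) _ _ (fun W hW => ?_)
  rw [← trFun_res, map_mul, map_mul, ← trFun_res, ← str_rY, trFun_good hA W.2,
    trFun_good hA W.2]
  have := (Algebra.trace Γ(X, W.1) (A.presheaf.obj (op W.1))).map_smul (rY X hW r) (rA A hW a)
  rw [Algebra.smul_def, smul_eq_mul] at this
  exact this

/-- the trace of a finite locally free quasi-coherent algebra -/
noncomputable def trace (hA : FlatMod.IsFinLocFree A.toModule) :
    A.toModule ⟶ Coh.structureModule X :=
  ⟨PresheafOfModules.homMk (tracePre hA) (fun U r m => trFun_smul hA U.unop r m)⟩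

theorem trace_app (hA : FlatMod.IsFinLocFree A.toModule) (U : X.Opens)
    (a : A.presheaf.obj (op U)) : ((trace hA).val.app (op U)).hom a = trFun hA U a := rfl

theorem isTrace_trace (hA : FlatMod.IsFinLocFree A.toModule) : FinCov.IsTrace A (trace hA) := by
  intro U hU hfree hfin a
  exact trFun_good hA ⟨hU, hfree, hfin⟩ a

theorem eq_of_isTrace (hA : FlatMod.IsFinLocFree A.toModule)
    {τ τ' : A.toModule ⟶ Coh.structureModule X} (h : FinCov.IsTrace A τ)
    (h' : FinCov.IsTrace A τ') : τ = τ' := by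
  apply SheafOfModules.hom_ext
  apply (PresheafOfModules.toPresheaf _).map_injective
  apply TopCat.Sheaf.hom_ext _ (OAb X) (isBasis_good hA)
  intro W
  ext a
  exact (h W.1 W.2.1 W.2.2.1 W.2.2.2 a).trans (h' W.1 W.2.1 W.2.2.1 W.2.2.2 a).symm

theorem existsUnique_isTrace (hA : FlatMod.IsFinLocFree A.toModule) :
    ∃! τ : A.toModule ⟶ Coh.structureModule X, FinCov.IsTrace A τ :=
  ⟨trace hA, isTrace_trace hA, fun _ h => eq_of_isTrace hA h (isTrace_trace hA)⟩

end Groth.Agent.H67.TraceGlue
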