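import Groth.Agent.H18.TwistAmple2
import Groth.Agent.H18.STL.AmpleBasis

/-!
# Local versions of helper18's twist lemmas

`O(n)` on `Proj 𝒜` need not be invertible globally; these are the pointwise versions of
`genLocus_sectionHom_secN` and the local basis `a / b` of `O(e)` on an open where `a`, `b`
do not vanish.
-/

set_option autoImplicit false
set_option linter.style.haveILetI false
universe u
open CategoryTheory CategoryTheory.Limits AlgebraicGeometry TopologicalSpace Opposite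

namespace Groth.Agent.H67.TwistLocal

open Groth.Agent.H18 Groth.Agent.H18.PUP Groth.Agent.H18.STL

variable {R A : Type u} [CommRing R] [CommRing A] [Algebra R A]
variable (𝒜 : ℕ → Submodule R A) [GradedAlgebra 𝒜]

/-- a nowhere vanishing fraction `a / b` of degree `e` on `W` is a basis of `O(e)` over `W` -/
theorem isBasisOn_fracTw {i j : ℕ} {a b : A} (ha : a ∈ 𝒜 i) (hb : b ∈ 𝒜 j) {e : ℤ}
    (he : (i : ℤ) = j + e) (W : (Proj 𝒜).Opens)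
    (hWa : ∀ x : ProjectiveSpectrum 𝒜, x ∈ W → a ∉ x.asHomogeneousIdeal)
    (hWb : ∀ x : ProjectiveSpectrum 𝒜, x ∈ W → b ∉ x.asHomogeneousIdeal) :
    IsBasisOn (Twist.twist 𝒜 e) W (fracTw 𝒜 ha hb he W hWb) := by
  intro V hV
  simp only [fracTw_res]
  exact ⟨smul_fracTw_injective 𝒜 ha hb he V (fun x hx => hWa x (hV hx)) (fun x hx => hWb x (hV hx)),
    smul_fracTw_surjective 𝒜 ha hb he V (fun x hx => hWa x (hV hx)) (fun x hx => hWb x (hV hx))⟩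

/-- pointwise version of `le_basicOpen_of_isIso_restrict_secN` -/
theorem mem_basicOpen_of_isIso_restrict_secN {n : ℕ} {f : A} (hf : f ∈ 𝒜 n)
    (U : (Proj 𝒜).Opens)
    (h : IsIso ((Scheme.Modules.restrictFunctor U.ι).map
      (sectionHom (Twist.twist 𝒜 (n : ℤ)) (secN 𝒜 hf))))
    (y : Proj 𝒜) (hy : y ∈ U)
    (hk : ∃ (i j : ℕ) (a b : A), a ∈ 𝒜 i ∧ b ∈ 𝒜 j ∧ (i : ℤ) = j + (n : ℤ) ∧
      a ∉ y.asHomogeneousIdeal ∧ b ∉ y.asHomogeneousIdeal) :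
    y ∈ Proj.basicOpen 𝒜 f := by
  obtain ⟨i, j, a, b, ha, hb, he', hay, hby⟩ := hk
  let V' : (U : Scheme.{u}).Opens := U.ι ⁻¹ᵁ (Proj.basicOpen 𝒜 a ⊓ Proj.basicOpen 𝒜 b)
  have hyW : y ∈ U.ι ''ᵁ V' := ⟨⟨y, hy⟩, ⟨hay, hby⟩, rfl⟩
  have hWa : ∀ x : ProjectiveSpectrum 𝒜, x ∈ U.ι ''ᵁ V' → a ∉ x.asHomogeneousIdeal := by
    rintro _ ⟨z, hz, rfl⟩
    exact hz.1
  have hWb : ∀ x : ProjectiveSpectrum 𝒜, x ∈ U.ι ''ᵁ V' → b ∉ x.asHomogeneousIdeal := by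
    rintro _ ⟨z, hz, rfl⟩
    exact hz.2
  have he : ((n : ℕ) : ℤ) = ((0 : ℕ) : ℤ) + (n : ℤ) := by simp
  have h1 : ∀ x : ProjectiveSpectrum 𝒜, x ∈ U.ι ''ᵁ V' → (1 : A) ∉ x.asHomogeneousIdeal :=
    fun x _ => GrMod.one_nin x
  have hb' : Function.Bijective (fun r : Γ(Proj 𝒜, U.ι ''ᵁ V') =>
      (sectionHom (Twist.twist 𝒜 (n : ℤ)) (secN 𝒜 hf)).app (U.ι ''ᵁ V') r) := by
    have hiso' := (Scheme.Modules.Hom.isIso_iff_isIso_app
      (φ := (Scheme.Modules.restrictFunctor U.ι).map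
        (sectionHom (Twist.twist 𝒜 (n : ℤ)) (secN 𝒜 hf)))).mp h V'
    exact ConcreteCategory.bijective_of_isIso
      (((Scheme.Modules.restrictFunctor U.ι).map
        (sectionHom (Twist.twist 𝒜 (n : ℤ)) (secN 𝒜 hf))).app V')
  obtain ⟨r, hr⟩ := hb'.2 (fracTw 𝒜 ha hb he' (U.ι ''ᵁ V') hWb)
  have hr' : r • fracTw 𝒜 hf (SetLike.GradedOne.one_mem : (1 : A) ∈ 𝒜 0) he (U.ι ''ᵁ V') h1 =
      fracTw 𝒜 ha hb he' (U.ι ''ᵁ V') hWb :=
    (sectionHom_app (Twist.twist 𝒜 (n : ℤ)) (secN 𝒜 hf) _ r).symm.trans hr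
  have hval := congrArg (fun s : Γ(Twist.twist 𝒜 (n : ℤ), U.ι ''ᵁ V') =>
    (((s : Twist.sectN (𝒜 := 𝒜) (n : ℤ) (op (U.ι ''ᵁ V'))).1 ⟨y, hyW⟩ : Twist.twistAt 𝒜 (n : ℤ) y) :
      Twist.Loc 𝒜 y)) hr'
  simp only [twist_smul_val, fracTw_val] at hval
  have hunit : IsUnit (Localization.mk a (⟨b, hby⟩ : y.asHomogeneousIdeal.toIdeal.primeCompl) :
      Twist.Loc 𝒜 y) := by
    rw [Localization.mk_eq_mk']
    exact (IsLocalization.AtPrime.isUnit_mk'_iff (Localization.AtPrime y.asHomogeneousIdeal.toIdeal)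
      y.asHomogeneousIdeal.toIdeal a _).mpr hay
  have h1eq : (⟨1, h1 y hyW⟩ : y.asHomogeneousIdeal.toIdeal.primeCompl) = 1 := rfl
  rw [h1eq] at hval
  rw [← hval] at hunit
  have hunit2 := isUnit_of_mul_isUnit_right hunit
  rw [Localization.mk_one_eq_algebraMap] at hunit2
  exact (IsLocalization.AtPrime.isUnit_to_map_iff (Localization.AtPrime y.asHomogeneousIdeal.toIdeal)
    y.asHomogeneousIdeal.toIdeal f).mp hunit2

/-- pointwise version of `genLocus_sectionHom_secN` -/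
theorem mem_genLocus_sectionHom_secN_iff {n : ℕ} {f : A} (hf : f ∈ 𝒜 n) (y : Proj 𝒜)
    (hk : ∃ (i j : ℕ) (a b : A), a ∈ 𝒜 i ∧ b ∈ 𝒜 j ∧ (i : ℤ) = j + (n : ℤ) ∧
      a ∉ y.asHomogeneousIdeal ∧ b ∉ y.asHomogeneousIdeal) :
    y ∈ CohB1.genLocus (Twist.twist 𝒜 (n : ℤ)) (sectionHom (Twist.twist 𝒜 (n : ℤ)) (secN 𝒜 hf)) ↔
      y ∈ Proj.basicOpen 𝒜 f := by
  constructor
  · intro hy
    unfold CohB1.genLocus at hy
    obtain ⟨U, hU, hyU⟩ := Opens.mem_sSup.1 hy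
    exact mem_basicOpen_of_isIso_restrict_secN 𝒜 hf U hU y hyU hk
  · intro hy
    have hle : Proj.basicOpen 𝒜 f ≤ CohB1.genLocus (Twist.twist 𝒜 (n : ℤ))
        (sectionHom (Twist.twist 𝒜 (n : ℤ)) (secN 𝒜 hf)) :=
      le_sSup (isIso_restrict_sectionHom_secN 𝒜 hf)
    exact hle hy

end Groth.Agent.H67.TwistLocal
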