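import Groth.Agent.H67.AmpleFinite
import Groth.Agent.H18.STL.AmpleTensor

/-!
# Sections of `E ⊗ L^{⊗N}` generating at finitely many points

`L` ample, `E` invertible, finitely many points: for a suitable `n` and all `k ≥ 1` there is a global
section of `E ⊗ L^{⊗kn}` generating at all the points.
-/

set_option autoImplicit false
set_option linter.style.haveILetI false
universe u
open CategoryTheory AlgebraicGeometry TopologicalSpace Opposite

namespace Groth.Agent.H67.TwistPoints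

open Groth.Agent.H18 Groth.Agent.H18.PUP Groth.Agent.H18.STL Groth.Agent.H67.AmpleFinite

variable {X : Scheme.{u}}

/-- near a point `z`, there are sections of `E ⊗ L^{⊗N}` generating at `z` with locus of generation
inside a given neighbourhood, for all `N` in an arithmetic progression from some point on -/
theorem exists_section_at_point [QuasiSeparatedSpace X] {L E : X.Modules} (hA : CohB1.IsAmple L)
    (hE : PicF.IsInvertible E) (z : X) (U : X.Opens) (hzU : z ∈ U) :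
    ∃ k n : ℕ, ∀ N m : ℕ, n ≤ m → N = (k + 1) * (m + 1) →
      ∃ t : Coh.structureModule X ⟶ CohB1.tensorMod E (CohB1.tensorPow L N),
        z ∈ CohB1.genLocus _ t ∧ CohB1.genLocus _ t ≤ U := by
  have hL : PicF.IsInvertible L := hA.1
  haveI : CompactSpace X := hA.2.1
  obtain ⟨U₀, e₀, hzU₀, he₀⟩ := exists_basis_of_isInvertible hE z
  obtain ⟨k, b, hzb, hbW, -⟩ := exists_genLocus_nhd_of_isAmple hA (U ⊓ U₀) z ⟨hzU, hzU₀⟩
  have hbU : CohB1.genLocus _ b ≤ U := hbW.trans inf_le_left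
  have hbU₀ : CohB1.genLocus _ b ≤ U₀ := hbW.trans inf_le_right
  have hL' : PicF.IsInvertible (CohB1.tensorPow L (k + 1)) := isInvertible_tensorPow hL _
  haveI := isQuasicoherent_of_isInvertible hE
  obtain ⟨e, he_def⟩ : ∃ e : Γ(E, CohB1.genLocus _ b), e = mres E hbU₀ e₀ := ⟨_, rfl⟩
  have he : IsBasisOn E (CohB1.genLocus _ b) e := he_def ▸ he₀.mono hbU₀
  obtain ⟨n₁, hn₁, t', ht'⟩ := exists_extension hL' b E e
  have hval : SecTwist.val (sectionHom _ t') (CohB1.genLocus _ b) =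
      SecTwist.twist b n₁ E (CohB1.genLocus _ b)
        ((1 : Γ(X, CohB1.genLocus _ b)) • e) := by
    rw [val_sectionHom, one_smul]
    exact ht'
  have h1 := genLocus_inf_of_twist' hL' b n₁ E e he 1 (sectionHom _ t') hval
  have h1' : CohB1.genLocus _ b ≤ CohB1.genLocus _ (sectionHom
      (CohB1.tensorMod E (CohB1.tensorPow (CohB1.tensorPow L (k + 1)) n₁)) t') := by
    have h3 : X.basicOpen (1 : Γ(X, CohB1.genLocus _ b)) = CohB1.genLocus _ b :=
      X.basicOpen_of_isUnit isUnit_one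
    rw [h3] at h1
    exact inf_eq_right.1 h1
  have hM₁ : PicF.IsInvertible (CohB1.tensorMod E
      (CohB1.tensorPow (CohB1.tensorPow L (k + 1)) n₁)) :=
    isInvertible_tensorMod hE (isInvertible_tensorPow hL' n₁)
  obtain ⟨𝔘, ε, ε', hε, hε'⟩ := exists_common_cover hE hL
  have hcE := hasCocycle_cocycleOf 𝔘 hε
  have hc := hasCocycle_cocycleOf 𝔘 hε'
  set cE := cocycleOf 𝔘 hε with hcE_def
  set c := cocycleOf 𝔘 hε' with hc_def
  refine ⟨k, n₁, fun N m hm hN => ?_⟩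
  obtain ⟨j, hj⟩ : ∃ j, m + 1 = n₁ + (j + 1) := ⟨m - n₁, by omega⟩
  have g2 := genLocus_powHom hL' b (Nat.succ_pos j)
  have g3 : CohB1.genLocus _ (SecTwist.tmulHom (sectionHom _ t') (SecTwist.powHom b (j + 1))) =
      CohB1.genLocus _ b := by
    rw [Groth.Agent.S15745.result X _ _ hM₁ (isInvertible_tensorPow hL' _), g2]
    exact inf_eq_right.2 h1'
  have w₁ := (hcE.tmul ((hc.lpow (k + 1)).lpow n₁)).tmul ((hc.lpow (k + 1)).lpow (j + 1))
  have w₂ := hcE.tmul (hc.lpow N)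
  have hcoc : cE * (c ^ (k + 1)) ^ n₁ * (c ^ (k + 1)) ^ (j + 1) = cE * c ^ N := by
    rw [mul_assoc, ← pow_add, ← pow_mul, hN, hj]
  rw [hcoc] at w₁
  obtain ⟨t, -, ht⟩ := w₁.exists_transfer w₂ _
  refine ⟨t, ?_, ?_⟩
  · rw [ht, g3]; exact hzb
  · rw [ht, g3]; exact hbU

/-- `L` ample, `E` invertible, `Z` a finite set of points: for a suitable `n` and all `k ≥ 1` there
is a global section of `E ⊗ L^{⊗kn}` generating at all the points of `Z` -/
theorem exists_section_generating_at [QuasiSeparatedSpace X] {L E : X.Modules}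
    (hA : CohB1.IsAmple L) (hE : PicF.IsInvertible E) (Z : Set X) (hZ : Z.Finite) :
    ∃ n : ℕ, ∀ k : ℕ, 1 ≤ k →
      ∃ s : Coh.structureModule X ⟶ CohB1.tensorMod E (CohB1.tensorPow L (k * n)),
        Z ⊆ CohB1.genLocus (CohB1.tensorMod E (CohB1.tensorPow L (k * n))) s := by
  classical
  have hL : PicF.IsInvertible L := hA.1
  obtain ⟨Z₀, hZ₀Z, hspec, hanti⟩ := exists_antichain Z hZ
  have hZ₀fin : Z₀.Finite := hZ.subset hZ₀Z
  haveI : Fintype Z₀ := hZ₀fin.fintype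
  -- the sections attached to the points of `Z₀`
  have hpt : ∀ z : Z₀, ∃ k n : ℕ, ∀ N m : ℕ, n ≤ m → N = (k + 1) * (m + 1) →
      ∃ t : Coh.structureModule X ⟶ CohB1.tensorMod E (CohB1.tensorPow L N),
        z.1 ∈ CohB1.genLocus _ t ∧ ∀ z' : Z₀, z' ≠ z → z'.1 ∉ CohB1.genLocus _ t := by
    intro z
    let C : Set X := ⋃ z' ∈ (Finset.univ.erase z : Finset Z₀), closure ({z'.1} : Set X)
    have hC : IsClosed C :=
      Set.Finite.isClosed_biUnion (Finset.finite_toSet _) (fun _ _ => isClosed_closure)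
    let U' : X.Opens := ⟨Cᶜ, hC.isOpen_compl⟩
    have hzU' : z.1 ∈ U' := by
      show z.1 ∉ C
      intro hzC
      simp only [C, Set.mem_iUnion] at hzC
      obtain ⟨z', hz', hzz'⟩ := hzC
      have : z'.1 ⤳ z.1 := specializes_iff_mem_closure.2 hzz'
      have heq := hanti z'.1 z'.2 z.1 z.2 this
      exact (Finset.ne_of_mem_erase hz') (Subtype.ext heq)
    obtain ⟨k, n, h⟩ := exists_section_at_point hA hE z.1 U' hzU'
    refine ⟨k, n, fun N m hm hN => ?_⟩
    obtain ⟨t, hzt, htU'⟩ := h N m hm hN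
    refine ⟨t, hzt, fun z' hz' hcon => ?_⟩
    have h2 : z'.1 ∈ Cᶜ := htU' hcon
    apply h2
    simp only [C, Set.mem_iUnion]
    exact ⟨z', Finset.mem_erase.2 ⟨hz', Finset.mem_univ _⟩, subset_closure rfl⟩
  choose κ ν hκν using hpt
  -- the common exponent
  refine ⟨(∏ z : Z₀, (κ z + 1)) * (Finset.univ.sup ν + 1), fun k hk => ?_⟩
  obtain ⟨N, hN⟩ : ∃ N, N = k * ((∏ z : Z₀, (κ z + 1)) * (Finset.univ.sup ν + 1)) := ⟨_, rfl⟩
  rw [← hN]
  have hfac : ∀ z : Z₀, ∃ m : ℕ, ν z ≤ m ∧ N = (κ z + 1) * (m + 1) := by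
    intro z
    obtain ⟨p', hp'⟩ : ∃ p', ∏ z' ∈ Finset.univ.erase z, (κ z' + 1) = p' + 1 :=
      Nat.exists_eq_succ_of_ne_zero (Finset.prod_ne_zero_iff.2 (fun z _ => Nat.succ_ne_zero _))
    have hprod : ∏ z : Z₀, (κ z + 1) = (κ z + 1) * (p' + 1) := by
      rw [← hp', Finset.mul_prod_erase Finset.univ (fun z => κ z + 1) (Finset.mem_univ z)]
    obtain ⟨k', rfl⟩ : ∃ k', k = k' + 1 := ⟨k - 1, by omega⟩
    have hνz : ν z ≤ Finset.univ.sup ν := Finset.le_sup (Finset.mem_univ z)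
    refine ⟨(k' + 1) * (p' + 1) * (Finset.univ.sup ν + 1) - 1, ?_, ?_⟩
    · have h1 : Finset.univ.sup ν + 1 ≤ (k' + 1) * (p' + 1) * (Finset.univ.sup ν + 1) :=
        Nat.le_mul_of_pos_left _ (Nat.mul_pos (Nat.succ_pos _) (Nat.succ_pos _))
      omega
    · have hpos : 0 < (k' + 1) * (p' + 1) * (Finset.univ.sup ν + 1) :=
        Nat.mul_pos (Nat.mul_pos (Nat.succ_pos _) (Nat.succ_pos _)) (Nat.succ_pos _)
      rw [Nat.sub_add_cancel hpos, hN, hprod]
      ring
  choose μ hμ hNμ using hfac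
  have hsec : ∀ z : Z₀, ∃ t : Coh.structureModule X ⟶ CohB1.tensorMod E (CohB1.tensorPow L N),
      z.1 ∈ CohB1.genLocus _ t ∧ ∀ z' : Z₀, z' ≠ z → z'.1 ∉ CohB1.genLocus _ t :=
    fun z => hκν z N (μ z) (hμ z) (hNμ z)
  choose a hza hother using hsec
  have hM : PicF.IsInvertible (CohB1.tensorMod E (CohB1.tensorPow L N)) :=
    isInvertible_tensorMod hE (isInvertible_tensorPow hL _)
  refine ⟨∑ z : Z₀, a z, fun z hz => ?_⟩
  obtain ⟨z₀, hz₀, hzz₀⟩ := hspec z hz
  have hmem : z₀ ∈ CohB1.genLocus _ (∑ z : Z₀, a z) := by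
    refine mem_genLocus_sum hM Finset.univ a z₀ ⟨z₀, hz₀⟩ (Finset.mem_univ _) ?_ ?_
    · exact hza ⟨z₀, hz₀⟩
    · intro i _ hi
      exact hother i ⟨z₀, hz₀⟩ hi.symm
  exact hzz₀.mem_open (CohB1.genLocus _ (∑ z : Z₀, a z)).2 hmem

end Groth.Agent.H67.TwistPoints
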