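import Groth.Agent.H67.HenselFinite
import Mathlib.RingTheory.HopfAlgebra.Basic
import Mathlib.RingTheory.HopfAlgebra.Quotient
import Mathlib.RingTheory.Flat.Basic
import Mathlib.RingTheory.Idempotents
import Mathlib.RingTheory.Jacobson.Ideal
import Mathlib.RingTheory.Ideal.GoingUp
import Mathlib.RingTheory.TensorProduct.Finite
import Mathlib.RingTheory.TensorProduct.Maps
import Mathlib.LinearAlgebra.Quotient.Basic

/-!
# The unit component of a finite flat group scheme over a henselian local ring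
-/

set_option autoImplicit false

namespace Groth.Agent.H67.UnitComp

open TensorProduct IsLocalRing Coalgebra

universe u v

/-- an idempotent of a local ring is `0` or `1` -/
theorem idem_local {S : Type*} [CommRing S] [IsLocalRing S] {x : S} (hx : IsIdempotentElem x) :
    x = 0 ∨ x = 1 := by
  have h : x * (1 - x) = 0 := by rw [mul_sub, mul_one, hx.eq, sub_self]
  rcases IsLocalRing.isUnit_or_isUnit_one_sub_self x with hu | hu
  · right
    have := hu.mul_right_eq_zero.mp h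
    exact (sub_eq_zero.mp this).symm
  · left
    exact hu.mul_left_eq_zero.mp h

/-- an idempotent in the Jacobson radical is zero -/
theorem idem_jacobson {S : Type*} [CommRing S] {g : S} (hg : IsIdempotentElem g)
    (hj : g ∈ Ideal.jacobson (⊥ : Ideal S)) : g = 0 := by
  have hu := (Ideal.mem_jacobson_bot.mp hj) (-1)
  have h : g * (g * -1 + 1) = 0 := by
    have := hg.eq
    linear_combination (-1 : S) * this
  exact hu.mul_left_eq_zero.mp h

section

variable {R : Type u} [CommRing R] {A : Type v} [CommRing A] [HopfAlgebra R A]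

/-- the ideal `(1 - e)` -/
abbrev J (e : A) : Ideal A := Ideal.span ({1 - e} : Set A)

theorem mk_e (e : A) : Ideal.Quotient.mk (J e) e = 1 := by
  rw [← map_one (Ideal.Quotient.mk (J e)), Ideal.Quotient.eq]
  have : e - 1 = -(1 - e) := by ring
  rw [this]
  exact (J e).neg_mem (Ideal.subset_span rfl)

theorem counit_mem (e : A) (hε : Bialgebra.counitAlgHom R A e = 1) :
    ∀ a ∈ J e, Bialgebra.counitAlgHom R A a = 0 := by
  intro a ha
  obtain ⟨c, rfl⟩ := Ideal.mem_span_singleton'.mp ha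
  rw [map_mul, map_sub, map_one, hε, sub_self, mul_zero]

/-- the counit on the quotient -/
noncomputable def epsBar (e : A) (hε : Bialgebra.counitAlgHom R A e = 1) : A ⧸ J e →ₐ[R] R :=
  Ideal.Quotient.liftₐ (J e) (Bialgebra.counitAlgHom R A) (counit_mem e hε)

theorem epsBar_mk (e : A) (hε : Bialgebra.counitAlgHom R A e = 1) (a : A) :
    epsBar e hε (Ideal.Quotient.mk (J e) a) = Bialgebra.counitAlgHom R A a := rfl

theorem ker_epsBar_le [Nontrivial R] (e : A) (hε : Bialgebra.counitAlgHom R A e = 1)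
    [IsLocalRing (A ⧸ J e)] :
    RingHom.ker (epsBar e hε) ≤ maximalIdeal (A ⧸ J e) := by
  apply le_maximalIdeal
  rw [Ne, Ideal.eq_top_iff_one, RingHom.mem_ker, map_one]
  exact one_ne_zero

theorem sub_algebraMap_mem [Nontrivial R] (e : A) (hε : Bialgebra.counitAlgHom R A e = 1)
    [IsLocalRing (A ⧸ J e)] (a : A ⧸ J e) :
    a - algebraMap R (A ⧸ J e) (epsBar e hε a) ∈ maximalIdeal (A ⧸ J e) := by
  apply ker_epsBar_le e hε
  rw [RingHom.mem_ker, map_sub, AlgHom.commutes]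
  simp

/-- the residue field of the unit component is that of `R` -/
theorem residue_surjective' [Nontrivial R] (e : A) (hε : Bialgebra.counitAlgHom R A e = 1)
    [IsLocalRing (A ⧸ J e)] :
    Function.Surjective (⇑(residue (A ⧸ J e)) ∘ ⇑(algebraMap R (A ⧸ J e))) := by
  intro y
  obtain ⟨a, rfl⟩ := residue_surjective y
  refine ⟨epsBar e hε a, ?_⟩
  rw [Function.comp_apply, eq_comm, ← sub_eq_zero, ← map_sub, residue_eq_zero_iff]
  exact sub_algebraMap_mem e hε a

/-- flatness of the unit component -/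
theorem flat_quot [Module.Flat R A] (e : A) (he : IsIdempotentElem e) :
    Module.Flat R (A ⧸ J e) := by
  have hker : J e ≤ LinearMap.ker (LinearMap.mulLeft A e) := by
    intro a ha
    obtain ⟨c, rfl⟩ := Ideal.mem_span_singleton'.mp ha
    rw [LinearMap.mem_ker, LinearMap.mulLeft_apply]
    have := he.eq
    linear_combination (-c) * this
  let i : A ⧸ J e →ₗ[R] A := ((J e).liftQ (LinearMap.mulLeft A e) hker).restrictScalars R
  let r : A →ₗ[R] A ⧸ J e := (Ideal.Quotient.mkₐ R (J e)).toLinearMap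
  refine Module.Flat.of_retract i r ?_
  ext x
  obtain ⟨a, rfl⟩ := Ideal.Quotient.mk_surjective x
  change Ideal.Quotient.mk (J e) (e * a) = _
  rw [map_mul, mk_e, one_mul]
  rfl

theorem finite_quot [Module.Finite R A] (e : A) : Module.Finite R (A ⧸ J e) :=
  Module.Finite.of_surjective (Ideal.Quotient.mkₐ R (J e)).toLinearMap
    (Ideal.Quotient.mkₐ_surjective R (J e))

theorem antipode_mem [Nontrivial R] (e : A) (he : IsIdempotentElem e)
    (hε : Bialgebra.counitAlgHom R A e = 1) [IsLocalRing (A ⧸ J e)] :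
    ∀ x ∈ J e, HopfAlgebra.antipode R x ∈ J e := by
  let S := HopfAlgebra.antipodeAlgHom R A
  have hS : ∀ a, S a = HopfAlgebra.antipode R a := fun a => rfl
  have hidem : IsIdempotentElem (Ideal.Quotient.mk (J e) (S e)) :=
    (he.map S).map (Ideal.Quotient.mk (J e))
  have h1 : Ideal.Quotient.mk (J e) (S e) = 1 := by
    rcases idem_local hidem with h | h
    · exfalso
      have h2 := congrArg (epsBar e hε) h
      rw [epsBar_mk, map_zero, hS, Bialgebra.counitAlgHom_apply, HopfAlgebra.counit_antipode,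
        ← Bialgebra.counitAlgHom_apply, hε] at h2
      exact one_ne_zero h2
    · exact h
  have h2 : 1 - S e ∈ J e := by
    rw [← Ideal.Quotient.eq_zero_iff_mem, map_sub, map_one, h1, sub_self]
  intro x hx
  obtain ⟨c, rfl⟩ := Ideal.mem_span_singleton'.mp hx
  rw [← hS, map_mul, map_sub, map_one]
  exact (J e).mul_mem_left _ h2

end

section comul

variable {R : Type u} [CommRing R] {A : Type v} [CommRing A] [HopfAlgebra R A]

/-- `A →  A⁰ ⊗ A⁰` -/
noncomputable def Psi (e : A) : A →ₐ[R] (A ⧸ J e) ⊗[R] (A ⧸ J e) :=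
  (Algebra.TensorProduct.map (Ideal.Quotient.mkₐ R (J e)) (Ideal.Quotient.mkₐ R (J e))).comp
    (Bialgebra.comulAlgHom R A)

/-- the counit of `A⁰ ⊗ A⁰` -/
noncomputable def chi (e : A) (hε : Bialgebra.counitAlgHom R A e = 1) :
    (A ⧸ J e) ⊗[R] (A ⧸ J e) →ₐ[R] R :=
  Algebra.TensorProduct.productMap (epsBar e hε) (epsBar e hε)

theorem chi_tmul (e : A) (hε : Bialgebra.counitAlgHom R A e = 1) (a b : A ⧸ J e) :
    chi e hε (a ⊗ₜ b) = epsBar e hε a * epsBar e hε b := rfl

theorem Psi_apply (e : A) (a : A) :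
    Psi (R := R) e a = TensorProduct.map (Ideal.Quotient.mkₐ R (J e)).toLinearMap
      (Ideal.Quotient.mkₐ R (J e)).toLinearMap (comul a) := rfl

theorem chi_Psi (e : A) (hε : Bialgebra.counitAlgHom R A e = 1) (a : A) :
    chi e hε (Psi e a) = Bialgebra.counitAlgHom R A a := by
  let 𝓡 := ℛ R a
  rw [Psi_apply, ← 𝓡.eq, map_sum, map_sum]
  have h1 : ∀ i ∈ 𝓡.index, chi e hε (TensorProduct.map (Ideal.Quotient.mkₐ R (J e)).toLinearMap
      (Ideal.Quotient.mkₐ R (J e)).toLinearMap (𝓡.left i ⊗ₜ[R] 𝓡.right i)) =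
      Bialgebra.counitAlgHom R A (counit (R := R) (𝓡.left i) • 𝓡.right i) := by
    intro i _
    rw [TensorProduct.map_tmul, chi_tmul, map_smul, smul_eq_mul]
    rfl
  rw [Finset.sum_congr rfl h1, ← map_sum, sum_counit_smul]

variable [Module.Finite R A]

/-- left factor elements of the maximal ideal lie in every maximal ideal of `A⁰ ⊗ A⁰` -/
theorem left_mem (e : A) [IsLocalRing (A ⧸ J e)]
    (𝔫 : Ideal ((A ⧸ J e) ⊗[R] (A ⧸ J e))) [𝔫.IsMaximal] (a : A ⧸ J e)
    (ha : a ∈ maximalIdeal (A ⧸ J e)) : a ⊗ₜ[R] (1 : A ⧸ J e) ∈ 𝔫 := by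
  haveI : Module.Finite R (A ⧸ J e) := finite_quot e
  haveI : (𝔫.comap (algebraMap (A ⧸ J e) ((A ⧸ J e) ⊗[R] (A ⧸ J e)))).IsMaximal :=
    Ideal.isMaximal_comap_of_isIntegral_of_isMaximal 𝔫
  have h1 := eq_maximalIdeal (R := A ⧸ J e)
    (I := 𝔫.comap (algebraMap (A ⧸ J e) ((A ⧸ J e) ⊗[R] (A ⧸ J e)))) inferInstance
  rw [← h1, Ideal.mem_comap, Algebra.TensorProduct.algebraMap_apply] at ha
  simpa using ha

theorem right_mem (e : A) [IsLocalRing (A ⧸ J e)]
    (𝔫 : Ideal ((A ⧸ J e) ⊗[R] (A ⧸ J e))) [𝔫.IsMaximal] (a : A ⧸ J e)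
    (ha : a ∈ maximalIdeal (A ⧸ J e)) : (1 : A ⧸ J e) ⊗ₜ[R] a ∈ 𝔫 := by
  let c := Algebra.TensorProduct.comm R (A ⧸ J e) (A ⧸ J e)
  haveI : (𝔫.comap c.toRingEquiv.toRingHom).IsMaximal :=
    Ideal.comap_isMaximal_of_surjective _ c.surjective
  have := left_mem e (𝔫.comap c.toRingEquiv.toRingHom) a ha
  rw [Ideal.mem_comap] at this
  simpa [c] using this

/-- modulo any maximal ideal, `z ≡ χ(z)` -/
theorem sub_chi_mem [Nontrivial R] (e : A) (hε : Bialgebra.counitAlgHom R A e = 1)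
    [IsLocalRing (A ⧸ J e)]
    (𝔫 : Ideal ((A ⧸ J e) ⊗[R] (A ⧸ J e))) [𝔫.IsMaximal] (z : (A ⧸ J e) ⊗[R] (A ⧸ J e)) :
    z - algebraMap R ((A ⧸ J e) ⊗[R] (A ⧸ J e)) (chi e hε z) ∈ 𝔫 := by
  have hL : ∀ a : A ⧸ J e, a ⊗ₜ[R] (1 : A ⧸ J e) -
      algebraMap R ((A ⧸ J e) ⊗[R] (A ⧸ J e)) (epsBar e hε a) ∈ 𝔫 := by
    intro a
    have h1 := left_mem e 𝔫 _ (sub_algebraMap_mem e hε a)
    rw [sub_tmul] at h1
    rwa [Algebra.TensorProduct.algebraMap_apply]
  have hR : ∀ b : A ⧸ J e, (1 : A ⧸ J e) ⊗ₜ[R] b -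
      algebraMap R ((A ⧸ J e) ⊗[R] (A ⧸ J e)) (epsBar e hε b) ∈ 𝔫 := by
    intro b
    have h1 := right_mem e 𝔫 _ (sub_algebraMap_mem e hε b)
    rw [tmul_sub] at h1
    have h2 : (1 : A ⧸ J e) ⊗ₜ[R] (algebraMap R (A ⧸ J e) (epsBar e hε b)) =
        algebraMap R ((A ⧸ J e) ⊗[R] (A ⧸ J e)) (epsBar e hε b) := by
      rw [Algebra.algebraMap_eq_smul_one, tmul_smul, ← Algebra.TensorProduct.one_def,
        ← Algebra.algebraMap_eq_smul_one]
    rwa [h2] at h1
  induction z using TensorProduct.induction_on with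
  | zero => simp
  | tmul a b =>
    have h1 : a ⊗ₜ[R] b - algebraMap R ((A ⧸ J e) ⊗[R] (A ⧸ J e)) (chi e hε (a ⊗ₜ b)) =
        (a ⊗ₜ[R] (1 : A ⧸ J e) - algebraMap R _ (epsBar e hε a)) * ((1 : A ⧸ J e) ⊗ₜ[R] b) +
        algebraMap R _ (epsBar e hε a) *
          ((1 : A ⧸ J e) ⊗ₜ[R] b - algebraMap R _ (epsBar e hε b)) := by
      rw [chi_tmul, map_mul, sub_mul, mul_sub, Algebra.TensorProduct.tmul_mul_tmul, mul_one,
        one_mul]
      ring
    rw [h1]
    exact 𝔫.add_mem (𝔫.mul_mem_right _ (hL a)) (𝔫.mul_mem_left _ (hR b))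
  | add x y hx hy =>
    have h1 : x + y - algebraMap R ((A ⧸ J e) ⊗[R] (A ⧸ J e)) (chi e hε (x + y)) =
        (x - algebraMap R _ (chi e hε x)) + (y - algebraMap R _ (chi e hε y)) := by
      rw [map_add, map_add]
      ring
    rw [h1]
    exact 𝔫.add_mem hx hy

theorem Psi_e [Nontrivial R] (e : A) (he : IsIdempotentElem e)
    (hε : Bialgebra.counitAlgHom R A e = 1) [IsLocalRing (A ⧸ J e)] :
    Psi (R := R) e e = 1 := by
  have hidem : IsIdempotentElem (1 - Psi (R := R) e e) := (he.map (Psi (R := R) e)).one_sub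
  have hchi : chi e hε (1 - Psi (R := R) e e) = 0 := by
    rw [map_sub, map_one, chi_Psi, hε, sub_self]
  have hj : 1 - Psi (R := R) e e ∈ Ideal.jacobson (⊥ : Ideal ((A ⧸ J e) ⊗[R] (A ⧸ J e))) := by
    rw [Ideal.jacobson, Ideal.mem_sInf]
    rintro 𝔫 ⟨-, h𝔫⟩
    haveI := h𝔫
    have := sub_chi_mem e hε 𝔫 (1 - Psi (R := R) e e)
    rwa [hchi, map_zero, sub_zero] at this
  have := idem_jacobson hidem hj
  exact (sub_eq_zero.mp this).symm

theorem Psi_mem [Nontrivial R] (e : A) (he : IsIdempotentElem e)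
    (hε : Bialgebra.counitAlgHom R A e = 1) [IsLocalRing (A ⧸ J e)] :
    ∀ x ∈ J e, Psi (R := R) e x = 0 := by
  intro x hx
  obtain ⟨c, rfl⟩ := Ideal.mem_span_singleton'.mp hx
  rw [map_mul, map_sub, map_one, Psi_e e he hε, sub_self, mul_zero]

theorem isHopfIdeal [Nontrivial R] (e : A) (he : IsIdempotentElem e)
    (hε : Bialgebra.counitAlgHom R A e = 1) [IsLocalRing (A ⧸ J e)] :
    (J e).IsHopfIdeal R := by
  refine { counit_eq_zero := ?_, map_mkQ_comul_eq_zero := ?_, antipode_mem := ?_ }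
  · intro x hx
    exact counit_mem e hε x hx
  · intro x hx
    let P : Submodule R A := (J e).restrictScalars R
    let θ : (A ⧸ P) ≃ₗ[R] (A ⧸ J e) := Submodule.Quotient.restrictScalarsEquiv R (J e)
    have hθ : θ.toLinearMap ∘ₗ P.mkQ = (Ideal.Quotient.mkₐ R (J e)).toLinearMap := by
      ext a
      rfl
    have h1 : (TensorProduct.congr θ θ) (TensorProduct.map P.mkQ P.mkQ (comul x)) = 0 := by
      have h2 := Psi_mem e he hε x hx
      rw [Psi_apply, ← hθ, TensorProduct.map_comp] at h2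
      exact h2
    exact (TensorProduct.congr θ θ).map_eq_zero_iff.mp h1
  · intro x hx
    exact antipode_mem e he hε x hx

end comul

end Groth.Agent.H67.UnitComp
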