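import Groth.Agent.H67.NormQuasiAffine
import Groth.Agent.H67.NormGlue
import Groth.Agent.H67.NormFinLocFree

/-!
# Weak norms (no degree) and quasi-affineness (helper67)

A `WeakNorm π` is a family of multiplicative maps `Γ(X, π⁻¹ U) →* Γ(Y, U)` compatible with
restriction and preserving vanishing at points (a norm of degree `d` without the `N(π♯ g) = g ^ d`
axiom).  For finite surjective `π` this is enough to descend quasi-affineness.  Finite locally free
morphisms (of varying rank) carry a weak norm.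
-/

set_option autoImplicit false
set_option linter.style.haveILetI false
universe u
open CategoryTheory AlgebraicGeometry TopologicalSpace Opposite

namespace Groth.Agent.H67.WeakNorm

open Groth.Agent.H67.NormQA Groth.Agent.H67.NormGlue Groth.Agent.H67.NormFLF

variable {X Y : Scheme.{u}}

/-- a norm without a degree -/
structure WeakNorm (π : X ⟶ Y) where
  /-- the norm maps -/
  norm : ∀ U : Y.Opens, Γ(X, π ⁻¹ᵁ U) →* Γ(Y, U)
  norm_res : ∀ {U V : Y.Opens} (i : V ⟶ U) (s : Γ(X, π ⁻¹ᵁ U)),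
    Y.presheaf.map i.op (norm U s) = norm V (X.presheaf.map ((Opens.map π.base).map i).op s)
  norm_mem : ∀ (U : Y.Opens) (s : Γ(X, π ⁻¹ᵁ U)) (x : X) (hx : π.base x ∈ U),
    X.presheaf.germ (π ⁻¹ᵁ U) x hx s ∈ IsLocalRing.maximalIdeal (X.presheaf.stalk x) →
      Y.presheaf.germ U (π.base x) hx (norm U s) ∈
        IsLocalRing.maximalIdeal (Y.presheaf.stalk (π.base x))

/-- a norm of degree `d` is a weak norm -/
def ofNormOfDegree {π : X ⟶ Y} {d : ℕ} (N : Nrm.NormOfDegree π d) : WeakNorm π where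
  norm := N.norm
  norm_res := N.norm_res
  norm_mem := N.norm_mem

/-- If `π : X ⟶ Y` is finite surjective with a weak norm and `X` is quasi-affine, then `Y` is
quasi-affine. -/
theorem isQuasiAffine_of_weakNorm (π : X ⟶ Y) [IsFinite π] (hsurj : Function.Surjective π.base)
    (N : WeakNorm π) [X.IsQuasiAffine] : Y.IsQuasiAffine := by
  have : CompactSpace Y :=
    ⟨by rw [← Set.range_eq_univ.mpr hsurj]; exact isCompact_range π.continuous⟩
  refine Scheme.IsQuasiAffine.of_forall_exists_mem_basicOpen Y fun y => ?_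
  obtain ⟨_, ⟨V, hV, rfl⟩, hyV, -⟩ :=
    Y.isBasis_affineOpens.exists_subset_of_mem_open (Set.mem_univ y) isOpen_univ
  obtain ⟨f, hfV, hFf⟩ := exists_basicOpen_le_of_finite (π ⁻¹ᵁ V) (π ⁻¹' {y})
    (π.finite_preimage_singleton y) (by
      intro x hx
      have hx' : π x = y := hx
      show π x ∈ V
      rw [hx']; exact hyV)
  obtain ⟨g, hg⟩ : ∃ g : Γ(Y, ⊤), g = N.norm ⊤ f := ⟨_, rfl⟩
  have hgV : Y.basicOpen g ≤ V := by
    intro y' hy'
    obtain ⟨x', rfl⟩ := hsurj y'
    have hx' : x' ∈ X.basicOpen f := by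
      rw [Scheme.mem_basicOpen_top]
      by_contra hnu
      have h1 := N.norm_mem ⊤ f x' trivial ((IsLocalRing.mem_maximalIdeal _).mpr hnu)
      rw [Scheme.mem_basicOpen_top, hg] at hy'
      exact (IsLocalRing.mem_maximalIdeal _).mp h1 hy'
    exact hfV hx'
  have hyg : y ∈ Y.basicOpen g := by
    have hcl : IsClosed (π '' ((X.basicOpen f : Set X)ᶜ)) :=
      π.isClosedMap _ (X.basicOpen f).2.isClosed_compl
    let W : Y.Opens := ⟨(π '' ((X.basicOpen f : Set X)ᶜ))ᶜ, hcl.isOpen_compl⟩
    have hyW : y ∈ W := by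
      rintro ⟨x, hx, hxy⟩
      exact hx (hFf hxy)
    have hWf : π ⁻¹ᵁ W ≤ X.basicOpen f := by
      intro x hx
      by_contra hxf
      exact hx ⟨x, hxf, rfl⟩
    let i : W ⟶ (⊤ : Y.Opens) := homOfLE le_top
    have hu : IsUnit (X.presheaf.map ((Opens.map π.base).map i).op f) := by
      refine X.toRingedSpace.isUnit_of_isUnit_germ _ _ fun x hx => ?_
      have h2 := (Scheme.mem_basicOpen_top X f x).mp (hWf hx)
      have h3 : X.presheaf.germ (π ⁻¹ᵁ W) x hx (X.presheaf.map ((Opens.map π.base).map i).op f)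
          = X.presheaf.germ ⊤ x trivial f :=
        TopCat.Presheaf.germ_res_apply X.presheaf ((Opens.map π.base).map i) x hx f
      exact h3 ▸ h2
    have hu' : IsUnit (Y.presheaf.map i.op g) := by
      rw [hg, N.norm_res i f]
      exact hu.map (N.norm W)
    have h4 := Y.basicOpen_of_isUnit hu'
    rw [Scheme.basicOpen_res] at h4
    have : W ≤ Y.basicOpen g := by
      rw [← h4]; exact inf_le_right
    exact this hyW
  refine ⟨g, ?_, hyg⟩
  have h5 := hV.basicOpen (Y.presheaf.map (homOfLE (le_top : V ≤ ⊤)).op g)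
  rw [Scheme.basicOpen_res] at h5
  rwa [inf_eq_right.mpr hgV] at h5

/-- local weak norms on a family of opens -/
structure LocalWeakNorm (π : X ⟶ Y) {ι : Type u} (B : ι → Y.Opens) where
  /-- the norm maps -/
  norm : ∀ i, Γ(X, π ⁻¹ᵁ B i) →* Γ(Y, B i)
  norm_res : ∀ {i j : ι} (h : B j ≤ B i) (s : Γ(X, π ⁻¹ᵁ B i)),
    rY Y h (norm i s) = norm j (rX π h s)
  norm_mem : ∀ i (s : Γ(X, π ⁻¹ᵁ B i)) (x : X) (hx : π.base x ∈ B i),
    X.presheaf.germ (π ⁻¹ᵁ B i) x hx s ∈ IsLocalRing.maximalIdeal (X.presheaf.stalk x) →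
      Y.presheaf.germ (B i) (π.base x) hx (norm i s) ∈
        IsLocalRing.maximalIdeal (Y.presheaf.stalk (π.base x))

variable {π : X ⟶ Y} {ι : Type u} {B : ι → Y.Opens}

theorem exists_glue (hB : Opens.IsBasis (Set.range B)) (N : LocalWeakNorm π B) (U : Y.Opens)
    (s : Γ(X, π ⁻¹ᵁ U)) :
    ∃ t : Γ(Y, U), ∀ i (hi : B i ≤ U), rY Y hi t = N.norm i (rX π hi s) := by
  have hcover : U ≤ ⨆ j : {i // B i ≤ U}, B j.1 := by
    intro x hx
    obtain ⟨i, hxi, hiU⟩ := exists_basis_mem hB hx
    exact Opens.mem_iSup.mpr ⟨⟨i, hiU⟩, hxi⟩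
  obtain ⟨t, ht, -⟩ := TopCat.Sheaf.existsUnique_gluing' Y.sheaf (fun j : {i // B i ≤ U} => B j.1) U
    (fun j => homOfLE j.2) hcover (fun j => N.norm j.1 (rX π j.2 s)) (by
      intro j k
      refine eq_of_basis hB _ _ (fun i hi => ?_)
      have hij : B i ≤ B j.1 := hi.trans inf_le_left
      have hik : B i ≤ B k.1 := hi.trans inf_le_right
      have e1 : rY Y hi (rY Y (inf_le_left : B j.1 ⊓ B k.1 ≤ B j.1) (N.norm j.1 (rX π j.2 s))) =
          N.norm i (rX π (hij.trans j.2) s) := by
        rw [rY_rY, N.norm_res hij, rX_rX]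
      have e2 : rY Y hi (rY Y (inf_le_right : B j.1 ⊓ B k.1 ≤ B k.1) (N.norm k.1 (rX π k.2 s))) =
          N.norm i (rX π (hik.trans k.2) s) := by
        rw [rY_rY, N.norm_res hik, rX_rX]
      exact e1.trans e2.symm)
  exact ⟨t, fun i hi => ht ⟨i, hi⟩⟩

/-- the glued norm -/
noncomputable def glueNorm (hB : Opens.IsBasis (Set.range B)) (N : LocalWeakNorm π B) (U : Y.Opens)
    (s : Γ(X, π ⁻¹ᵁ U)) : Γ(Y, U) :=
  (exists_glue hB N U s).choose

theorem glueNorm_spec (hB : Opens.IsBasis (Set.range B)) (N : LocalWeakNorm π B) (U : Y.Opens)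
    (s : Γ(X, π ⁻¹ᵁ U)) (i : ι) (hi : B i ≤ U) :
    rY Y hi (glueNorm hB N U s) = N.norm i (rX π hi s) :=
  (exists_glue hB N U s).choose_spec i hi

theorem eq_glueNorm (hB : Opens.IsBasis (Set.range B)) (N : LocalWeakNorm π B) (U : Y.Opens)
    (s : Γ(X, π ⁻¹ᵁ U)) (t : Γ(Y, U))
    (ht : ∀ i (hi : B i ≤ U), rY Y hi t = N.norm i (rX π hi s)) : t = glueNorm hB N U s :=
  eq_of_basis hB _ _ (fun i hi => (ht i hi).trans (glueNorm_spec hB N U s i hi).symm)

/-- local weak norms on a basis glue to a weak norm -/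
noncomputable def weakNorm (hB : Opens.IsBasis (Set.range B)) (N : LocalWeakNorm π B) :
    WeakNorm π where
  norm U :=
    { toFun := glueNorm hB N U
      map_one' := by
        symm
        refine eq_glueNorm hB N U 1 1 (fun i hi => ?_)
        rw [map_one, map_one, map_one]
      map_mul' := by
        intro s s'
        symm
        refine eq_glueNorm hB N U (s * s') _ (fun i hi => ?_)
        rw [map_mul, map_mul, map_mul, glueNorm_spec, glueNorm_spec] }
  norm_res := by
    intro U V i s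
    have hVU : V ≤ U := leOfHom i
    have hi : i = homOfLE hVU := Subsingleton.elim _ _
    subst hi
    show rY Y hVU (glueNorm hB N U s) = glueNorm hB N V (rX π hVU s)
    refine eq_glueNorm hB N V _ _ (fun j hj => ?_)
    rw [rY_rY, glueNorm_spec, rX_rX]
  norm_mem := by
    intro U s x hx hs
    show Y.presheaf.germ U (π.base x) hx (glueNorm hB N U s) ∈ _
    obtain ⟨i, hxi, hiU⟩ := exists_basis_mem hB hx
    have h1 : X.presheaf.germ (π ⁻¹ᵁ B i) x hxi (rX π hiU s) =
        X.presheaf.germ (π ⁻¹ᵁ U) x hx s :=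
      TopCat.Presheaf.germ_res_apply X.presheaf ((Opens.map π.base).map (homOfLE hiU)) x hxi s
    have h2 := N.norm_mem i (rX π hiU s) x hxi (h1 ▸ hs)
    rw [← glueNorm_spec hB N U s i hiU] at h2
    have h3 : Y.presheaf.germ (B i) (π.base x) hxi (rY Y hiU (glueNorm hB N U s)) =
        Y.presheaf.germ U (π.base x) hx (glueNorm hB N U s) :=
      TopCat.Presheaf.germ_res_apply Y.presheaf (homOfLE hiU) (π.base x) hxi _
    exact h3 ▸ h2

attribute [local instance] algApp

/-- the local weak norms of a finite locally free morphism -/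
noncomputable def localWeakNormFLF (hπ : Mor2.IsFinLocFree π) :
    LocalWeakNorm π (fun W : {W : Y.Opens // Good π W} => W.1) :=
  haveI : IsFinite π := hπ.1
  { norm := fun W => Algebra.norm Γ(Y, W.1)
    norm_res := fun {W W'} h s => norm_res_good W.2 W'.2 h s
    norm_mem := fun W s x hx hs => norm_mem_good W.2 s x hx hs }

/-- a finite locally free morphism carries a weak norm -/
noncomputable def weakNormFLF (hπ : Mor2.IsFinLocFree π) : WeakNorm π :=
  weakNorm (isBasis_good hπ) (localWeakNormFLF hπ)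

/-- finite locally free surjective morphisms descend quasi-affineness -/
theorem isQuasiAffine_of_isFinLocFree (π : X ⟶ Y) (hπ : Mor2.IsFinLocFree π)
    (hsurj : Function.Surjective π.base) [X.IsQuasiAffine] : Y.IsQuasiAffine :=
  haveI : IsFinite π := hπ.1
  isQuasiAffine_of_weakNorm π hsurj (weakNormFLF hπ)

end Groth.Agent.H67.WeakNorm
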