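import Groth.Agent.H67.DevLocalIso

/-!
# Towards Stacks 01YO: morphisms `O_X ⟶ M` from global sections
-/

set_option autoImplicit false
set_option linter.style.haveILetI false
set_option linter.unusedSectionVars false
set_option linter.unusedVariables false
universe u
open CategoryTheory Limits AlgebraicGeometry TopologicalSpace Opposite
open Groth.Agent.H18 (mres mres_mres mres_self mres_smul)
open Groth.Agent.H12.AffHomCrit (sproj sum_sproj_ι)
open Groth.Agent.H67.Dev

namespace Groth.Agent.H67.YO

variable {X : Scheme.{u}}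

/-- the morphism `O_X ⟶ M` defined by a global section of `M` -/
noncomputable def secHomTop (M : X.Modules) (σ : Γ(M, ⊤)) : Coh.structureModule X ⟶ M :=
  let σ' : M.sections := PresheafOfModules.sectionsMk
    (fun V => (mres M (le_top : V.unop ≤ ⊤) σ : Γ(M, V.unop))) (by
      intro V V' g
      have hVV' : V'.unop ≤ V.unop := leOfHom g.unop
      have h1 : ∀ y : Γ(M, V.unop), M.val.map g y = mres M hVV' y := fun _ => rfl
      rw [h1]
      exact mres_mres M _ _ σ)
  (SheafOfModules.unitHomEquiv (R := X.ringCatSheaf) M).symm σ'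

theorem secHomTop_app (M : X.Modules) (σ : Γ(M, ⊤)) (V : X.Opens)
    (r : Γ(Coh.structureModule X, V)) :
    (secHomTop M σ).app V r = (secO V r : Γ(X, V)) • mres M (le_top : V ≤ ⊤) σ := by
  have hφ1 : (secHomTop M σ).val.app (op V) (1 : Γ(X, V)) = mres M (le_top : V ≤ ⊤) σ := by
    have := SheafOfModules.unitHomEquiv_apply_coe (R := X.ringCatSheaf) M (secHomTop M σ) (op V)
    unfold secHomTop at this
    rw [Equiv.apply_symm_apply] at this
    exact this.symm
  have h1 : (secHomTop M σ).app V ((secO V r) • ((secO V).symm (1 : Γ(X, V)))) =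
      (secO V r) • (secHomTop M σ).app V ((secO V).symm (1 : Γ(X, V))) :=
    Scheme.Modules.Hom.app_smul (secHomTop M σ) (secO V r) _
  have h2 : (secO V r) • ((secO V).symm (1 : Γ(X, V))) = r := by
    apply (secO V).injective
    rw [secO_smul, AddEquiv.apply_symm_apply, mul_one]
  rw [h2] at h1
  rw [h1]
  have h3 : (secHomTop M σ).app V ((secO V).symm (1 : Γ(X, V))) = mres M (le_top : V ≤ ⊤) σ := hφ1
  rw [h3]

end Groth.Agent.H67.YO
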