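import Groth.Agent.H67.YO1
import Groth.Agent.H67.DevTwo
import Groth.Agent.H8.QcqsPush
import Groth.Agent.H12.QCohAbelian

/-!
# Towards Stacks 01YO: the construction
-/

set_option autoImplicit false
set_option linter.style.haveILetI false
set_option linter.unusedSectionVars false
set_option linter.unusedVariables false
universe u
open CategoryTheory Limits AlgebraicGeometry TopologicalSpace Opposite
open Groth.Agent.H18 (mres mres_mres mres_self mres_smul)
open Groth.Agent.H12.AffHomCrit (sproj sum_sproj_ι)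
open Groth.Agent.H67.Dev

namespace Groth.Agent.H67.YO

variable {X Y : Scheme.{u}} (f : X ⟶ Y) (W : Y.Opens)

/-- `j_* O_{U'}` for `U' = f⁻¹ W` -/
noncomputable abbrev Q : X.Modules := pushO (f ⁻¹ᵁ W).ι

lemma top_le : ((f ⁻¹ᵁ W).ι ⁻¹ᵁ ⊤ : (f ⁻¹ᵁ W).toScheme.Opens) ≤ (f ⁻¹ᵁ W).ι ⁻¹ᵁ (f ⁻¹ᵁ W) :=
  fun y _ => y.2

/-- the global section of `Q` defined by a function on `U'` -/
noncomputable def qsec (x : Γ(X, f ⁻¹ᵁ W)) : Γ(Q f W, ⊤) :=
  (secE (f ⁻¹ᵁ W).ι ⊤).symm
    ((f ⁻¹ᵁ W).toScheme.presheaf.map (homOfLE (top_le f W)).op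
      (((f ⁻¹ᵁ W).ι.app (f ⁻¹ᵁ W)).hom x))

lemma secE_mres_qsec (x : Γ(X, f ⁻¹ᵁ W)) {V : X.Opens} (hV : V ≤ f ⁻¹ᵁ W) :
    secE (f ⁻¹ᵁ W).ι V (mres (Q f W) (le_top : V ≤ ⊤) (qsec f W x)) =
      ((f ⁻¹ᵁ W).ι.app V).hom (X.presheaf.map (homOfLE hV).op x) := by
  have h1 : mres (Q f W) (le_top : V ≤ ⊤) (qsec f W x) =
      (Q f W).presheaf.map (homOfLE (le_top : V ≤ ⊤)).op (qsec f W x) := rfl
  rw [h1, secE_map]
  unfold qsec
  rw [AddEquiv.apply_symm_apply]
  have hnat := (f ⁻¹ᵁ W).ι.naturality (homOfLE hV).op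
  have h2 := ConcreteCategory.congr_hom hnat x
  simp only [CommRingCat.comp_apply] at h2
  rw [h2]
  rw [← CommRingCat.comp_apply, ← Functor.map_comp]
  rfl

variable {r : ℕ} (e : Fin r → Γ(pushO f, W))

/-- the `k`-th map `O_X ⟶ Q` -/
noncomputable def βk (k : Fin r) : Coh.structureModule X ⟶ Q f W :=
  secHomTop (Q f W) (qsec f W (secE f W (e k)))

/-- `O_X^r ⟶ Q` -/
noncomputable def β : (∐ fun _ : Fin r => Coh.structureModule X) ⟶ Q f W :=
  Sigma.desc (βk f W e)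

/-- the coherent module `M` -/
noncomputable abbrev M : X.Modules := Abelian.image (β f W e)

noncomputable abbrev π : (∐ fun _ : Fin r => Coh.structureModule X) ⟶ M f W e :=
  Abelian.factorThruImage (β f W e)

noncomputable abbrev ιM : M f W e ⟶ Q f W := Abelian.image.ι (β f W e)

/-- sections of a pushforward -/
noncomputable def secP (N : X.Modules) (V : Y.Opens) :
    Γ((Scheme.Modules.pushforward f).obj N, V) ≃+ Γ(N, f ⁻¹ᵁ V) := AddEquiv.refl _

lemma π_ιM : π f W e ≫ ιM f W e = β f W e := Abelian.image.fac _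

/-- the `k`-th map `O_Y ⟶ f_* M` -/
noncomputable def ak (k : Fin r) : Coh.structureModule Y ⟶ (Scheme.Modules.pushforward f).obj (M f W e) :=
  toPushO f ≫ (Scheme.Modules.pushforward f).map
    (Sigma.ι (fun _ : Fin r => Coh.structureModule X) k ≫ π f W e)

/-- `O_Y^r ⟶ f_* M` -/
noncomputable def α' : (∐ fun _ : Fin r => Coh.structureModule Y) ⟶
    (Scheme.Modules.pushforward f).obj (M f W e) :=
  Sigma.desc (ak f W e)

/-- the key computation on sections over `W` -/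
theorem ιM_α'_app (b : Fin r → Γ(Coh.structureModule Y, W)) :
    (ιM f W e).app (f ⁻¹ᵁ W) (secP f (M f W e) W
      ((α' f W e).app W (∑ k, (Sigma.ι (fun _ : Fin r => Coh.structureModule Y) k).app W (b k)))) =
    ∑ k, ((f.app W).hom (secO W (b k)) : Γ(X, f ⁻¹ᵁ W)) •
      mres (Q f W) (le_top : f ⁻¹ᵁ W ≤ ⊤) (qsec f W (secE f W (e k))) := by
  rw [map_sum, map_sum, map_sum]
  refine Finset.sum_congr rfl (fun k _ => ?_)
  have h1 : (α' f W e).app W ((Sigma.ι (fun _ : Fin r => Coh.structureModule Y) k).app W (b k)) =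
      (ak f W e k).app W (b k) := by
    rw [← comp_app_apply]
    unfold α'
    rw [Sigma.ι_desc]
  rw [h1]
  have h2 : (ιM f W e).app (f ⁻¹ᵁ W) (secP f (M f W e) W ((ak f W e k).app W (b k))) =
      (βk f W e k).app (f ⁻¹ᵁ W) ((toPushO f).app W (b k)) := by
    have h3 : βk f W e k = Sigma.ι (fun _ : Fin r => Coh.structureModule X) k ≫ π f W e ≫ ιM f W e := by
      rw [π_ιM]; unfold β; rw [Sigma.ι_desc]
    rw [h3]
    rfl
  rw [h2]
  unfold βk
  rw [secHomTop_app]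
  rfl

end Groth.Agent.H67.YO
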