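import Groth.Agent.H67.YO2

/-!
# Towards Stacks 01YO: bijectivity on sections over `W`
-/

set_option autoImplicit false
set_option linter.style.haveILetI false
set_option linter.unusedSectionVars false
set_option linter.unusedVariables false
universe u
open CategoryTheory Limits AlgebraicGeometry TopologicalSpace Opposite
open Groth.Agent.H18 (mres mres_mres mres_self mres_smul)
open Groth.Agent.H12.AffHomCrit (sproj sum_sproj_ι)
open Groth.Agent.H67.Dev

namespace Groth.Agent.H67.YO

variable {X Y : Scheme.{u}} (f : X ⟶ Y) (W : Y.Opens) {r : ℕ} (e : Fin r → Γ(pushO f, W))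

lemma ι_app_bijective : Function.Bijective ((f ⁻¹ᵁ W).ι.app (f ⁻¹ᵁ W)).hom := by
  haveI : IsIso ((f ⁻¹ᵁ W).ι.app (f ⁻¹ᵁ W)) :=
    Scheme.Hom.isIso_app (f ⁻¹ᵁ W).ι (f ⁻¹ᵁ W) (by rw [Scheme.Opens.opensRange_ι])
  exact ConcreteCategory.bijective_of_isIso _

/-- the key formula (★) -/
theorem star (b : Fin r → Γ(Coh.structureModule Y, W)) :
    secE (f ⁻¹ᵁ W).ι (f ⁻¹ᵁ W) ((ιM f W e).app (f ⁻¹ᵁ W) (secP f (M f W e) W
      ((α' f W e).app W (∑ k, (Sigma.ι (fun _ : Fin r => Coh.structureModule Y) k).app W (b k))))) =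
    ((f ⁻¹ᵁ W).ι.app (f ⁻¹ᵁ W)).hom (secE f W (∑ k, (secO W (b k) : Γ(Y, W)) • e k)) := by
  rw [ιM_α'_app, map_sum, map_sum, map_sum]
  refine Finset.sum_congr rfl (fun k _ => ?_)
  rw [secE_smul, secE_mres_qsec f W _ (le_refl _), secE_smul, map_mul]
  congr 1
  have : X.presheaf.map (homOfLE (le_refl (f ⁻¹ᵁ W))).op = 𝟙 _ := by
    rw [← X.presheaf.map_id]; rfl
  rw [this]
  rfl

/-- every section of `O_Y^r` over `W` is a combination of the basis sections -/
lemma section_eq (t : Γ((∐ fun _ : Fin r => Coh.structureModule Y), W)) :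
    t = ∑ k, (Sigma.ι (fun _ : Fin r => Coh.structureModule Y) k).app W
      ((sproj (fun _ : Fin r => Coh.structureModule Y) k).app W t) :=
  sigma_section_eq _ W t

variable (hg : GoodOn (𝟙 Y) (pushO f) W e)

include hg in
theorem α'_app_injective : Function.Injective ((α' f W e).app W) := by
  rw [injective_iff_map_eq_zero]
  intro t ht
  rw [section_eq W t] at ht ⊢
  have h1 := star f W e (fun k => (sproj (fun _ : Fin r => Coh.structureModule Y) k).app W t)
  rw [ht] at h1
  have h0 : secE (f ⁻¹ᵁ W).ι (f ⁻¹ᵁ W) ((ιM f W e).app (f ⁻¹ᵁ W) (secP f (M f W e) W 0)) = 0 := by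
    rw [map_zero, map_zero, map_zero]
  rw [h0] at h1
  have h2 : secE f W (∑ k, (secO W ((sproj (fun _ : Fin r => Coh.structureModule Y) k).app W t) :
      Γ(Y, W)) • e k) = 0 := by
    apply (ι_app_bijective f W).1
    rw [map_zero]
    exact h1.symm
  have h3 : (∑ k, (secO W ((sproj (fun _ : Fin r => Coh.structureModule Y) k).app W t) :
      Γ(Y, W)) • e k) = 0 := by
    apply (secE f W).injective
    rw [h2, map_zero]
  have h4 := hg.indep _ h3
  refine Finset.sum_eq_zero (fun k _ => ?_)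
  have h5 : secO W ((sproj (fun _ : Fin r => Coh.structureModule Y) k).app W t) = 0 := by
    have := h4 k
    rw [mem_kerI_iff] at this
    exact this
  have h6 : (sproj (fun _ : Fin r => Coh.structureModule Y) k).app W t = 0 := by
    apply (secO W).injective
    rw [h5, map_zero]
  rw [h6, map_zero]

include hg in
theorem α'_app_surjective : Function.Surjective ((α' f W e).app W) := by
  intro m
  obtain ⟨x, hx⟩ := (ι_app_bijective f W).2
    (secE (f ⁻¹ᵁ W).ι (f ⁻¹ᵁ W) ((ιM f W e).app (f ⁻¹ᵁ W) (secP f (M f W e) W m)))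
  obtain ⟨c, hc⟩ := hg.span ((secE f W).symm x)
  refine ⟨∑ k, (Sigma.ι (fun _ : Fin r => Coh.structureModule Y) k).app W ((secO W).symm (c k)), ?_⟩
  have h1 := star f W e (fun k => (secO W).symm (c k))
  simp only [AddEquiv.apply_symm_apply] at h1
  rw [← hc, AddEquiv.apply_symm_apply, hx] at h1
  have h2 := (secE (f ⁻¹ᵁ W).ι (f ⁻¹ᵁ W)).injective h1
  have h3 := Groth.Agent.H12.QCohAbelian.app_injective_of_mono (ιM f W e) (f ⁻¹ᵁ W) h2
  exact (secP f (M f W e) W).injective h3

end Groth.Agent.H67.YO
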