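import Groth.Agent.H67.YO3
import Groth.Agent.H33.LocCoh.Conservative
import Groth.Agent.Lead.Coh.SigmaSplit

/-!
# Stacks 01YO: `O_Y^r ⟶ f_* M` generically an isomorphism
-/

set_option autoImplicit false
set_option linter.style.haveILetI false
set_option linter.unusedSectionVars false
set_option linter.unusedVariables false
universe u
open CategoryTheory Limits AlgebraicGeometry TopologicalSpace Opposite
open Groth.Agent.H18 (mres mres_mres mres_self mres_smul)
open Groth.Agent.H12.AffHomCrit (sproj sum_sproj_ι)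
open Groth.Agent.H67.Dev

namespace Groth.Agent.H67.YO

variable {X Y : Scheme.{u}} (f : X ⟶ Y) (W : Y.Opens) {r : ℕ} (e : Fin r → Γ(pushO f, W))

lemma app_bijective_of_eq {A B : Y.Modules} (φ : A ⟶ B) {V V' : Y.Opens} (h : V = V')
    (hb : Function.Bijective (φ.app V)) : Function.Bijective (φ.app V') := by
  subst h; exact hb

section Coh

variable [IsNoetherian X]

instance isQuasicoherent_Q : (Q f W).IsQuasicoherent :=
  Groth.Agent.H8.isQuasicoherent_pushforward_of_qcqs (f ⁻¹ᵁ W).ι _

instance isQuasicoherent_M : (M f W e).IsQuasicoherent :=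
  Groth.Agent.H12.QCohAbelian.isQuasicoherent_image (β f W e)

theorem isCoh_M : Coh.IsCoh (M f W e) := by
  refine ⟨inferInstance, ?_⟩
  have hft : SheafOfModules.IsFiniteType (R := X.ringCatSheaf)
      (∐ fun _ : Fin r => Coh.structureModule X) :=
    Groth.Agent.Lead.SigmaSplit.isFiniteType_sigma _ (fun _ => isFiniteType_structureModule)
  have hqc : (∐ fun _ : Fin r => Coh.structureModule X).IsQuasicoherent :=
    Groth.Agent.H12.AffHomCrit.isQuasicoherent_sigma _
  exact @Groth.Agent.H71.QCoh.isFiniteType_of_epi _ _ _ hqc _ hft (π f W e) _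

end Coh

section LocalIso

variable [IsNoetherian X] [IsAffineHom f] (hW : IsAffineOpen W)
  (hg : GoodOn (𝟙 Y) (pushO f) W e)

include hW hg in
theorem isIso_restrict_α' : IsIso ((Rw W).map (α' f W e)) := by
  haveI : IsAffine (W : Scheme.{u}) := hW
  have hV₀ : W = W.ι ''ᵁ (⊤ : (W : Scheme.{u}).Opens) := (Scheme.Opens.ι_image_top W).symm
  haveI : (∐ fun _ : Fin r => Coh.structureModule Y).IsQuasicoherent :=
    Groth.Agent.H12.AffHomCrit.isQuasicoherent_sigma _
  haveI : ((Scheme.Modules.pushforward f).obj (M f W e)).IsQuasicoherent :=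
    Groth.Agent.H8.isQuasicoherent_pushforward_of_isAffineHom f (M f W e)
  haveI : ((Rw W).obj (∐ fun _ : Fin r => Coh.structureModule Y)).IsQuasicoherent :=
    Scheme.Modules.isQuasicoherent_restrictFunctor W.ι _
  haveI : ((Rw W).obj ((Scheme.Modules.pushforward f).obj (M f W e))).IsQuasicoherent :=
    Scheme.Modules.isQuasicoherent_restrictFunctor W.ι _
  have hb : Function.Bijective ((α' f W e).app (W.ι ''ᵁ (⊤ : (W : Scheme.{u}).Opens))) :=
    app_bijective_of_eq (α' f W e) hV₀ ⟨α'_app_injective f W e hg, α'_app_surjective f W e hg⟩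
  haveI : Mono ((Rw W).map (α' f W e)) := by
    refine Groth.Agent.H71.QCoh.mono_of_app_injective_cover _
      (fun _ : Unit => (⊤ : (W : Scheme.{u}).Opens)) (fun _ => ⟨(), trivial⟩)
      (fun _ => isAffineOpen_top _) (fun _ => ?_)
    exact hb.1
  haveI : Epi ((Rw W).map (α' f W e)) := by
    refine Groth.Agent.H71.QCoh.epi_of_app_surjective_cover _
      (fun _ : Unit => (⊤ : (W : Scheme.{u}).Opens)) (fun _ => ⟨(), trivial⟩)
      (fun _ => isAffineOpen_top _) (fun _ => ?_)
    exact hb.2
  exact isIso_of_mono_of_epi _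

end LocalIso

end Groth.Agent.H67.YO
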