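import Groth.Agent.Lead.Coh.ZeroDimSupp2
import Groth.Agent.H18.SectionHom
import Groth.Prelude.Def_Curv2

/-!
# Finite type modules with zero-dimensional support are globally generated (helper67)

On a locally Noetherian scheme a finite type module whose support consists of closed points is
flasque (lead's `isFlasque_of_discrete_support`), so every local section extends to a global one;
hence the canonical map from the free module on the global sections is an epimorphism.
-/

set_option autoImplicit false
universe u
open CategoryTheory CategoryTheory.Limits AlgebraicGeometry TopologicalSpace Opposite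

namespace Groth.Agent.H67.ZeroDimGG

open Groth.Agent.H18

variable {X : Scheme.{u}}

/-- every local section of a finite type module supported at closed points extends globally -/
theorem exists_global_extension [IsLocallyNoetherian X] (M : X.Modules) (hM : CohB1.IsFT M)
    (h0 : ∀ x ∈ CohB1.support M, IsClosed ({x} : Set X)) (V : X.Opens) (t : Γ(M, V)) :
    ∃ σ : Γ(M, (⊤ : X.Opens)), mres M (le_top : V ≤ ⊤) σ = t := by
  have hZ : IsClosed (CohB1.support M) := Groth.Agent.S0020.result X M hM
  have hfl := Groth.Agent.Lead.Coh.isFlasque_of_discrete_support (X := X.carrier) (Coh.toAb M)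
    (CohB1.support M)
    (fun _ h => Groth.Agent.Lead.Coh.isClosed_subset_of_closedPoints hZ h0 h)
    (fun O hO s => Groth.Agent.Lead.Coh.section_eq_zero_of_disjoint_support M O hO s)
  have hepi := hfl.epi (homOfLE (le_top : V ≤ ⊤)).op
  rw [AddCommGrpCat.epi_iff_surjective] at hepi
  exact hepi t

/-- a finite type module supported at closed points is globally generated -/
theorem isGloballyGenerated_of_support_closedPoints [IsLocallyNoetherian X] (M : X.Modules)
    (hM : CohB1.IsFT M) (h0 : ∀ x ∈ CohB1.support M, IsClosed ({x} : Set X)) :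
    Curv2.IsGloballyGenerated M := by
  let q : Γ(M, (⊤ : X.Opens)) → (Coh.structureModule X ⟶ M) := fun σ => sectionHom M σ
  let p : (SheafOfModules.free (Γ(M, (⊤ : X.Opens))) : X.Modules) ⟶ M :=
    Sigma.desc (f := fun _ : Γ(M, (⊤ : X.Opens)) => Coh.structureModule X) q
  have hp : ∀ σ, SheafOfModules.ιFree σ ≫ p = q σ := fun σ =>
    Sigma.ι_desc (f := fun _ : Γ(M, (⊤ : X.Opens)) => Coh.structureModule X) q σ
  refine ⟨_, p, epi_of_locally_mem_range p ?_⟩
  intro V t x hxV
  obtain ⟨σ, hσ⟩ := exists_global_extension M hM h0 V t
  let e : Coh.structureModule X ⟶ (SheafOfModules.free (Γ(M, (⊤ : X.Opens))) : X.Modules) :=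
    SheafOfModules.ιFree σ
  have he : e ≫ p = sectionHom M σ := hp σ
  refine ⟨V, le_rfl, hxV, e.app V (1 : Γ(X, V)), ?_⟩
  have e1 : Scheme.Modules.Hom.app p V (e.app V (1 : Γ(X, V))) =
      (e ≫ p).app V (1 : Γ(X, V)) := rfl
  rw [e1, he, sectionHom_app_one, hσ]
  have e2 : mres M (le_rfl : V ≤ V) = 𝟙 _ := by
    simp only [mres]
    exact M.presheaf.map_id _
  rw [e2]
  rfl

/-- a finite type module whose support has dimension `≤ 0` is globally generated -/
theorem isGloballyGenerated_of_support_krullDim_nonpos [IsLocallyNoetherian X] (M : X.Modules)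
    (hM : CohB1.IsFT M) (h0 : topologicalKrullDim (CohB1.support M) ≤ 0) :
    Curv2.IsGloballyGenerated M := by
  have hZ : IsClosed (CohB1.support M) := Groth.Agent.S0020.result X M hM
  refine isGloballyGenerated_of_support_closedPoints M hM (fun x hx => ?_)
  have h1 : IsClosed ({(⟨x, hx⟩ : CohB1.support M)} : Set (CohB1.support M)) :=
    Groth.Agent.Lead.Coh.isClosed_singleton_of_krullDim_nonpos h0 _
  have h2 := hZ.isClosedEmbedding_subtypeVal.isClosedMap _ h1
  rwa [Set.image_singleton] at h2

end Groth.Agent.H67.ZeroDimGG
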